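import Mathlib.RepresentationTheory.Character
import Mathlib.Analysis.Complex.Basic
import Cfsg.Prelude.Def_Characters

set_option autoImplicit false

/-!
Induction layer for `Cfsg.indFun` at the level of functions (no representations):
`extendByZero`, `indFun`, `classInner` algebra, class functions, Frobenius reciprocity.
-/

namespace Cfsg.Agent.Lib.Helper25

open Cfsg
open scoped ComplexConjugate

variable {G : Type*} [Group G]

/-! ### extendByZero -/

theorem extendByZero_of_mem (H : Subgroup G) (θ : H → ℂ) {g : G} (hg : g ∈ H) :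
    extendByZero H θ g = θ ⟨g, hg⟩ := by
  unfold extendByZero
  exact Subtype.val_injective.extend_apply θ 0 ⟨g, hg⟩

theorem extendByZero_coe (H : Subgroup G) (θ : H → ℂ) (h : H) :
    extendByZero H θ (h : G) = θ h := by
  unfold extendByZero
  exact Subtype.val_injective.extend_apply θ 0 h

theorem extendByZero_of_not_mem (H : Subgroup G) (θ : H → ℂ) {g : G} (hg : g ∉ H) :
    extendByZero H θ g = 0 := by
  unfold extendByZero
  rw [Function.extend_apply']
  · rfl
  · rintro ⟨a, rfl⟩
    exact hg a.2

theorem extendByZero_add (H : Subgroup G) (θ φ : H → ℂ) :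
    extendByZero H (θ + φ) = extendByZero H θ + extendByZero H φ := by
  funext g
  by_cases hg : g ∈ H
  · simp [extendByZero_of_mem H _ hg]
  · simp [extendByZero_of_not_mem H _ hg]

theorem extendByZero_sub (H : Subgroup G) (θ φ : H → ℂ) :
    extendByZero H (θ - φ) = extendByZero H θ - extendByZero H φ := by
  funext g
  by_cases hg : g ∈ H
  · simp [extendByZero_of_mem H _ hg]
  · simp [extendByZero_of_not_mem H _ hg]

theorem extendByZero_neg (H : Subgroup G) (θ : H → ℂ) :
    extendByZero H (-θ) = -extendByZero H θ := by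
  funext g
  by_cases hg : g ∈ H
  · simp [extendByZero_of_mem H _ hg]
  · simp [extendByZero_of_not_mem H _ hg]

theorem extendByZero_smul (H : Subgroup G) (c : ℂ) (θ : H → ℂ) :
    extendByZero H (c • θ) = c • extendByZero H θ := by
  funext g
  by_cases hg : g ∈ H
  · simp [extendByZero_of_mem H _ hg]
  · simp [extendByZero_of_not_mem H _ hg]

theorem extendByZero_zero (H : Subgroup G) :
    extendByZero H (0 : H → ℂ) = 0 := by
  funext g
  by_cases hg : g ∈ H
  · simp [extendByZero_of_mem H _ hg]
  · simp [extendByZero_of_not_mem H _ hg]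

/-- Sum over the group of an extension by zero is the sum over the subgroup. -/
theorem sum_extendByZero_mul [Fintype G] (H : Subgroup G) [Fintype H] (θ : H → ℂ) (f : G → ℂ) :
    ∑ g : G, extendByZero H θ g * f g = ∑ h : H, θ h * f h := by
  classical
  have h1 : ∑ g : G, extendByZero H θ g * f g =
      ∑ g ∈ Finset.univ.filter (fun g : G => g ∈ H), extendByZero H θ g * f g := by
    symm
    apply Finset.sum_subset (Finset.filter_subset _ _)
    intro g _ hg
    have : g ∉ H := by simpa using hg
    rw [extendByZero_of_not_mem H θ this, zero_mul]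
  rw [h1]
  rw [Finset.sum_subtype (Finset.univ.filter (fun g : G => g ∈ H)) (p := fun g => g ∈ H)
    (by intro x; simp)]
  apply Finset.sum_congr rfl
  intro h _
  rw [extendByZero_coe]

theorem sum_extendByZero [Fintype G] (H : Subgroup G) [Fintype H] (θ : H → ℂ) :
    ∑ g : G, extendByZero H θ g = ∑ h : H, θ h := by
  have := sum_extendByZero_mul H θ (fun _ => 1)
  simpa using this

/-! ### indFun -/

theorem indFun_apply [Fintype G] (H : Subgroup G) (θ : H → ℂ) (g : G) :
    indFun H θ g = (Nat.card H : ℂ)⁻¹ * ∑ x : G, extendByZero H θ (x⁻¹ * g * x) := rfl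

theorem indFun_add [Fintype G] (H : Subgroup G) (θ φ : H → ℂ) :
    indFun H (θ + φ) = indFun H θ + indFun H φ := by
  funext g
  simp only [indFun_apply, Pi.add_apply, extendByZero_add, Finset.sum_add_distrib, mul_add]

theorem indFun_sub [Fintype G] (H : Subgroup G) (θ φ : H → ℂ) :
    indFun H (θ - φ) = indFun H θ - indFun H φ := by
  funext g
  simp only [indFun_apply, Pi.sub_apply, extendByZero_sub, Finset.sum_sub_distrib, mul_sub]

theorem indFun_neg [Fintype G] (H : Subgroup G) (θ : H → ℂ) :
    indFun H (-θ) = -indFun H θ := by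
  funext g
  simp only [indFun_apply, Pi.neg_apply, extendByZero_neg, Finset.sum_neg_distrib, mul_neg]

theorem indFun_smul [Fintype G] (H : Subgroup G) (c : ℂ) (θ : H → ℂ) :
    indFun H (c • θ) = c • indFun H θ := by
  funext g
  simp only [indFun_apply, Pi.smul_apply, extendByZero_smul, smul_eq_mul, ← Finset.mul_sum]
  ring

theorem indFun_zero [Fintype G] (H : Subgroup G) :
    indFun H (0 : H → ℂ) = 0 := by
  funext g
  simp [indFun_apply, extendByZero_zero]

theorem indFun_sum [Fintype G] (H : Subgroup G) {ι : Type*} (s : Finset ι) (θ : ι → H → ℂ) :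
    indFun H (∑ i ∈ s, θ i) = ∑ i ∈ s, indFun H (θ i) := by
  classical
  induction s using Finset.induction_on with
  | empty => simp [indFun_zero]
  | insert a s ha ih => rw [Finset.sum_insert ha, Finset.sum_insert ha, indFun_add, ih]

/-- An induced function is a class function. -/
theorem indFun_isClassFunction [Fintype G] (H : Subgroup G) (θ : H → ℂ) :
    IsClassFunction G (indFun H θ) := by
  intro g h
  simp only [indFun_apply]
  congr 1
  apply Fintype.sum_equiv (Equiv.mulLeft h⁻¹)
  intro x
  simp only [Equiv.coe_mulLeft]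
  congr 1
  group

/-! ### classInner algebra -/

theorem classInner_def [Fintype G] (φ ψ : G → ℂ) :
    classInner φ ψ = (Nat.card G : ℂ)⁻¹ * ∑ g : G, φ g * conj (ψ g) := rfl

theorem classInner_add_left [Fintype G] (φ₁ φ₂ ψ : G → ℂ) :
    classInner (φ₁ + φ₂) ψ = classInner φ₁ ψ + classInner φ₂ ψ := by
  simp only [classInner_def, Pi.add_apply, add_mul, Finset.sum_add_distrib, mul_add]

theorem classInner_sub_left [Fintype G] (φ₁ φ₂ ψ : G → ℂ) :
    classInner (φ₁ - φ₂) ψ = classInner φ₁ ψ - classInner φ₂ ψ := by
  simp only [classInner_def, Pi.sub_apply, sub_mul, Finset.sum_sub_distrib, mul_sub]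

theorem classInner_neg_left [Fintype G] (φ ψ : G → ℂ) :
    classInner (-φ) ψ = -classInner φ ψ := by
  simp only [classInner_def, Pi.neg_apply, neg_mul, Finset.sum_neg_distrib, mul_neg]

theorem classInner_smul_left [Fintype G] (c : ℂ) (φ ψ : G → ℂ) :
    classInner (c • φ) ψ = c * classInner φ ψ := by
  simp only [classInner_def, Pi.smul_apply, smul_eq_mul, Finset.mul_sum]
  apply Finset.sum_congr rfl
  intro g _
  ring

theorem classInner_zero_left [Fintype G] (ψ : G → ℂ) :
    classInner (0 : G → ℂ) ψ = 0 := by
  simp [classInner_def]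

theorem classInner_add_right [Fintype G] (φ ψ₁ ψ₂ : G → ℂ) :
    classInner φ (ψ₁ + ψ₂) = classInner φ ψ₁ + classInner φ ψ₂ := by
  simp only [classInner_def, Pi.add_apply, map_add, mul_add, Finset.sum_add_distrib]

theorem classInner_sub_right [Fintype G] (φ ψ₁ ψ₂ : G → ℂ) :
    classInner φ (ψ₁ - ψ₂) = classInner φ ψ₁ - classInner φ ψ₂ := by
  simp only [classInner_def, Pi.sub_apply, map_sub, mul_sub, Finset.sum_sub_distrib]

theorem classInner_neg_right [Fintype G] (φ ψ : G → ℂ) :
    classInner φ (-ψ) = -classInner φ ψ := by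
  simp only [classInner_def, Pi.neg_apply, map_neg, mul_neg, Finset.sum_neg_distrib]

theorem classInner_smul_right [Fintype G] (c : ℂ) (φ ψ : G → ℂ) :
    classInner φ (c • ψ) = conj c * classInner φ ψ := by
  simp only [classInner_def, Pi.smul_apply, smul_eq_mul, map_mul, Finset.mul_sum]
  apply Finset.sum_congr rfl
  intro g _
  ring

theorem classInner_zero_right [Fintype G] (φ : G → ℂ) :
    classInner φ (0 : G → ℂ) = 0 := by
  simp [classInner_def]

theorem classInner_conj_symm [Fintype G] (φ ψ : G → ℂ) :
    conj (classInner φ ψ) = classInner ψ φ := by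
  simp only [classInner_def, map_mul, map_inv₀, Complex.conj_natCast, map_sum, Complex.conj_conj]
  congr 1
  apply Finset.sum_congr rfl
  intro g _
  ring

theorem classInner_sum_left [Fintype G] {ι : Type*} (s : Finset ι) (φ : ι → G → ℂ) (ψ : G → ℂ) :
    classInner (∑ i ∈ s, φ i) ψ = ∑ i ∈ s, classInner (φ i) ψ := by
  classical
  induction s using Finset.induction_on with
  | empty => simp [classInner_zero_left]
  | insert a s ha ih => rw [Finset.sum_insert ha, Finset.sum_insert ha, classInner_add_left, ih]

theorem classInner_sum_right [Fintype G] {ι : Type*} (s : Finset ι) (φ : G → ℂ) (ψ : ι → G → ℂ) :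
    classInner φ (∑ i ∈ s, ψ i) = ∑ i ∈ s, classInner φ (ψ i) := by
  classical
  induction s using Finset.induction_on with
  | empty => simp [classInner_zero_right]
  | insert a s ha ih => rw [Finset.sum_insert ha, Finset.sum_insert ha, classInner_add_right, ih]

/-! ### Frobenius reciprocity -/

theorem card_ne_zero_complex [Finite G] : (Nat.card G : ℂ) ≠ 0 := by
  exact_mod_cast Nat.card_pos.ne'

/-- Frobenius reciprocity: for a class function `χ` of `G`,
`⟨Ind θ, χ⟩_G = ⟨θ, χ|_H⟩_H`. -/
theorem frobenius_reciprocity [Fintype G] (H : Subgroup G) [Fintype H] (θ : H → ℂ) (χ : G → ℂ)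
    (hχ : IsClassFunction G χ) :
    classInner (indFun H θ) χ = classInner θ (fun h : H => χ h) := by
  simp only [classInner_def, indFun_apply]
  have h1 : ∑ g : G, (Nat.card H : ℂ)⁻¹ * (∑ x : G, extendByZero H θ (x⁻¹ * g * x)) * conj (χ g) =
      (Nat.card H : ℂ)⁻¹ * ∑ x : G, ∑ g : G, extendByZero H θ (x⁻¹ * g * x) * conj (χ g) := by
    rw [Finset.sum_comm, Finset.mul_sum]
    apply Finset.sum_congr rfl
    intro g _
    rw [mul_assoc, Finset.sum_mul]
  rw [h1]
  have h2 : ∀ x : G, ∑ g : G, extendByZero H θ (x⁻¹ * g * x) * conj (χ g) =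
      ∑ h : H, θ h * conj (χ h) := by
    intro x
    rw [← sum_extendByZero_mul H θ (fun g => conj (χ g))]
    apply Fintype.sum_equiv (MulAut.conj x⁻¹).toEquiv
    intro g
    simp only [MulEquiv.toEquiv_eq_coe, EquivLike.coe_coe, MulAut.conj_apply, inv_inv]
    congr 2
    have := hχ g x⁻¹
    simpa using this.symm
  simp only [h2, Finset.sum_const, Finset.card_univ, nsmul_eq_mul]
  have hG : (Nat.card G : ℂ) ≠ 0 := card_ne_zero_complex
  rw [← Nat.card_eq_fintype_card]
  field_simp

/-- Frobenius reciprocity, symmetric form. -/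
theorem frobenius_reciprocity' [Fintype G] (H : Subgroup G) [Fintype H] (θ : H → ℂ) (χ : G → ℂ)
    (hχ : IsClassFunction G χ) :
    classInner χ (indFun H θ) = classInner (fun h : H => χ h) θ := by
  rw [← classInner_conj_symm, frobenius_reciprocity H θ χ hχ, classInner_conj_symm]

end Cfsg.Agent.Lib.Helper25
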