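import Cfsg.Agent.Lib.Helper25.Ind
import Cfsg.Prelude.Def_OddOrderLocal
import Mathlib.GroupTheory.SpecificGroups.Cyclic

set_option autoImplicit false

/-!
Consequences of `Cfsg.IsSelfNormalizingCyclic W₁ W₂`: `W = W₁ ⊔ W₂` is abelian, `W = W₁ W₂`,
`|W| = |W₁| |W₂|`, the trivial-intersection property of `W \ (W₁ ∪ W₂)`, and the values on it of
functions induced from `W`.
-/

namespace Cfsg.Agent.Lib.Helper25

open Cfsg

variable {G : Type*} [Group G] {W₁ W₂ : Subgroup G}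

theorem snc_comm (hW : IsSelfNormalizingCyclic W₁ W₂) :
    ∀ s ∈ W₁ ⊔ W₂, ∀ t ∈ W₁ ⊔ W₂, s * t = t * s := by
  obtain ⟨-, -, -, -, hcyc, -⟩ := hW
  intro s hs t ht
  have := (IsCyclic.isMulCommutative (α := ↥(W₁ ⊔ W₂))).is_comm.comm ⟨s, hs⟩ ⟨t, ht⟩
  exact congrArg Subtype.val this

theorem snc_decomp (hW : IsSelfNormalizingCyclic W₁ W₂) :
    ∀ y ∈ W₁ ⊔ W₂, ∃ y₁ ∈ W₁, ∃ y₂ ∈ W₂, y = y₁ * y₂ := by
  obtain ⟨-, -, -, hcomm, -, -⟩ := hW
  let T : Subgroup G :=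
    { carrier := {y | ∃ y₁ ∈ W₁, ∃ y₂ ∈ W₂, y = y₁ * y₂}
      one_mem' := ⟨1, W₁.one_mem, 1, W₂.one_mem, by simp⟩
      mul_mem' := by
        rintro _ _ ⟨y₁, h1, y₂, h2, rfl⟩ ⟨z₁, h3, z₂, h4, rfl⟩
        refine ⟨y₁ * z₁, W₁.mul_mem h1 h3, y₂ * z₂, W₂.mul_mem h2 h4, ?_⟩
        have := hcomm z₁ h3 y₂ h2
        calc y₁ * y₂ * (z₁ * z₂) = y₁ * (y₂ * z₁) * z₂ := by group
          _ = y₁ * (z₁ * y₂) * z₂ := by rw [this]
          _ = y₁ * z₁ * (y₂ * z₂) := by group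
      inv_mem' := by
        rintro _ ⟨y₁, h1, y₂, h2, rfl⟩
        refine ⟨y₁⁻¹, W₁.inv_mem h1, y₂⁻¹, W₂.inv_mem h2, ?_⟩
        rw [mul_inv_rev]
        exact (hcomm y₁⁻¹ (W₁.inv_mem h1) y₂⁻¹ (W₂.inv_mem h2)).symm }
  intro y hy
  have hle : W₁ ⊔ W₂ ≤ T := sup_le (fun x hx => ⟨x, hx, 1, W₂.one_mem, by simp⟩)
    (fun x hx => ⟨1, W₁.one_mem, x, hx, by simp⟩)
  exact hle hy

theorem snc_card (hW : IsSelfNormalizingCyclic W₁ W₂) :
    Nat.card ↥(W₁ ⊔ W₂) = Nat.card W₁ * Nat.card W₂ := by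
  rw [← Nat.card_prod]
  symm
  apply Nat.card_congr
  refine Equiv.ofBijective (fun p : W₁ × W₂ => ⟨(p.1 : G) * p.2,
    (W₁ ⊔ W₂).mul_mem (Subgroup.mem_sup_left p.1.2) (Subgroup.mem_sup_right p.2.2)⟩) ⟨?_, ?_⟩
  · rintro ⟨y, h⟩ ⟨y', h'⟩ heq
    have h1 : (y : G) * h = y' * h' := congrArg Subtype.val heq
    have h2 : (y' : G)⁻¹ * y = h' * (h : G)⁻¹ := by
      calc (y' : G)⁻¹ * y = (y' : G)⁻¹ * (y * h) * (h : G)⁻¹ := by group
        _ = (y' : G)⁻¹ * (y' * h') * (h : G)⁻¹ := by rw [h1]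
        _ = _ := by group
    have hmem : (h' : G) * (h : G)⁻¹ ∈ W₁ ⊓ W₂ := by
      refine ⟨?_, W₂.mul_mem h'.2 (W₂.inv_mem h.2)⟩
      rw [← h2]; exact W₁.mul_mem (W₁.inv_mem y'.2) y.2
    rw [hW.2.2.1, Subgroup.mem_bot] at hmem
    have hh : (h' : G) = h := mul_inv_eq_one.mp hmem
    have hy : (y : G) = y' := by
      rw [hh] at h1
      exact mul_right_cancel h1
    exact Prod.ext (Subtype.ext hy) (Subtype.ext hh.symm)
  · rintro ⟨x, hx⟩
    obtain ⟨y₁, h1, y₂, h2, rfl⟩ := snc_decomp hW x hx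
    exact ⟨(⟨y₁, h1⟩, ⟨y₂, h2⟩), rfl⟩

/-- In the cyclic group `W`, a subgroup `K` is the set of solutions of `v ^ |K| = 1`. -/
theorem mem_iff_pow_card_eq_one_of_isCyclic [Finite G] (W K : Subgroup G) [hc : IsCyclic W]
    (hK : K ≤ W) {v : G} (hv : v ∈ W) : v ∈ K ↔ v ^ Nat.card K = 1 := by
  classical
  constructor
  · intro hvK
    have h1 := pow_card_eq_one' (G := K) (x := ⟨v, hvK⟩)
    have h2 := congrArg Subtype.val h1
    simp only [Subgroup.coe_pow, Subgroup.coe_one] at h2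
    exact h2
  · intro hpow
    have : Fintype W := Fintype.ofFinite _
    have : Fintype K := Fintype.ofFinite _
    set m := Nat.card K with hm
    have hm0 : 0 < m := Nat.card_pos
    have hle := IsCyclic.card_pow_eq_one_le (α := W) hm0
    -- the image of K in W
    let T : Finset W := Finset.univ.filter (fun a : W => (a : G) ∈ K)
    have hTS : T ⊆ Finset.univ.filter (fun a : W => a ^ m = 1) := by
      intro a ha
      simp only [T, Finset.mem_filter, Finset.mem_univ, true_and] at ha ⊢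
      have h1 := pow_card_eq_one' (G := K) (x := ⟨(a : G), ha⟩)
      have h2 := congrArg Subtype.val h1
      simp only [Subgroup.coe_pow, Subgroup.coe_one] at h2
      apply Subtype.ext
      simp only [Subgroup.coe_pow, Subgroup.coe_one]
      exact h2
    have hTcard : T.card = m := by
      rw [hm, Nat.card_eq_fintype_card]
      change (Finset.univ.filter (fun a : W => (a : G) ∈ K)).card = _
      rw [← Fintype.card_subtype]
      apply Fintype.card_congr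
      exact { toFun := fun a => ⟨(a.1 : G), a.2⟩
              invFun := fun k => ⟨⟨(k : G), hK k.2⟩, k.2⟩
              left_inv := fun a => rfl
              right_inv := fun k => rfl }
    have hEq : T = Finset.univ.filter (fun a : W => a ^ m = 1) :=
      Finset.eq_of_subset_of_card_le hTS (by rw [hTcard]; convert hle)
    have : (⟨v, hv⟩ : W) ∈ T := by
      rw [hEq]
      simp only [Finset.mem_filter, Finset.mem_univ, true_and]
      apply Subtype.ext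
      simp only [Subgroup.coe_pow, Subgroup.coe_one]
      exact hpow
    simpa [T] using this

theorem snc_mem_left_iff [Finite G] (hW : IsSelfNormalizingCyclic W₁ W₂) {v : G}
    (hv : v ∈ W₁ ⊔ W₂) : v ∈ W₁ ↔ v ^ Nat.card W₁ = 1 :=
  haveI := hW.2.2.2.2.1
  mem_iff_pow_card_eq_one_of_isCyclic (W₁ ⊔ W₂) W₁ le_sup_left hv

theorem snc_mem_right_iff [Finite G] (hW : IsSelfNormalizingCyclic W₁ W₂) {v : G}
    (hv : v ∈ W₁ ⊔ W₂) : v ∈ W₂ ↔ v ^ Nat.card W₂ = 1 :=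
  haveI := hW.2.2.2.2.1
  mem_iff_pow_card_eq_one_of_isCyclic (W₁ ⊔ W₂) W₂ le_sup_right hv

/-- The centraliser of an element of `W \ (W₁ ∪ W₂)` is `W`. -/
theorem snc_conj_eq_iff (hW : IsSelfNormalizingCyclic W₁ W₂) {w : G} (hw : w ∈ W₁ ⊔ W₂)
    (hw₁ : w ∉ W₁) (hw₂ : w ∉ W₂) {g : G} : g * w * g⁻¹ = w ↔ g ∈ W₁ ⊔ W₂ := by
  have hN := hW.2.2.2.2.2 {w}
    (by
      intro y hy
      rw [Set.mem_singleton_iff] at hy
      subst hy
      exact ⟨hw, fun h => h.elim hw₁ hw₂⟩) ⟨w, rfl⟩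
  rw [← hN, Subgroup.mem_set_normalizer_iff]
  constructor
  · intro h y
    simp only [Set.mem_singleton_iff]
    constructor
    · rintro rfl; exact h
    · intro hy
      have e : g * y * g⁻¹ = g * w * g⁻¹ := by rw [hy, h]
      exact mul_left_cancel (mul_right_cancel e)
  · intro h
    exact (h w).mp rfl

/-- `W \ (W₁ ∪ W₂)` is a trivial-intersection subset with normaliser `W`. -/
theorem snc_ti [Finite G] (hW : IsSelfNormalizingCyclic W₁ W₂) {w x : G} (hw : w ∈ W₁ ⊔ W₂)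
    (hw₁ : w ∉ W₁) (hw₂ : w ∉ W₂) (hx : x⁻¹ * w * x ∈ W₁ ⊔ W₂) (hx₁ : x⁻¹ * w * x ∉ W₁)
    (hx₂ : x⁻¹ * w * x ∉ W₂) : x ∈ W₁ ⊔ W₂ := by
  set y := x⁻¹ * w * x with hy
  have h1 : ∀ v ∈ W₁ ⊔ W₂, x * v * x⁻¹ ∈ W₁ ⊔ W₂ := by
    intro v hv
    rw [← snc_conj_eq_iff hW hw hw₁ hw₂]
    have hvy : v * y = y * v := snc_comm hW v hv y hx
    calc x * v * x⁻¹ * w * (x * v * x⁻¹)⁻¹ = x * (v * y) * v⁻¹ * x⁻¹ := by rw [hy]; group
      _ = x * (y * v) * v⁻¹ * x⁻¹ := by rw [hvy]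
      _ = w := by rw [hy]; group
  have h2 : ∀ v ∈ W₁ ⊔ W₂, x⁻¹ * v * x ∈ W₁ ⊔ W₂ := by
    intro v hv
    rw [← snc_conj_eq_iff hW hx hx₁ hx₂]
    have hvw : v * w = w * v := snc_comm hW v hv w hw
    calc x⁻¹ * v * x * y * (x⁻¹ * v * x)⁻¹ = x⁻¹ * (v * w) * v⁻¹ * x := by rw [hy]; group
      _ = x⁻¹ * (w * v) * v⁻¹ * x := by rw [hvw]
      _ = y := by rw [hy]; group
  have hN := hW.2.2.2.2.2 ((↑(W₁ ⊔ W₂) : Set G) \ (↑W₁ ∪ ↑W₂)) (subset_refl _)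
    ⟨w, hw, fun h => h.elim hw₁ hw₂⟩
  rw [← hN, Subgroup.mem_set_normalizer_iff]
  have hpow1 : ∀ h : G, (x * h * x⁻¹) ^ Nat.card W₁ = 1 ↔ h ^ Nat.card W₁ = 1 := by
    intro h
    rw [conj_pow]
    constructor
    · intro e
      have : x * h ^ Nat.card W₁ * x⁻¹ = x * 1 * x⁻¹ := by rw [e]; group
      exact mul_left_cancel (mul_right_cancel this)
    · intro e; rw [e]; group
  have hpow2 : ∀ h : G, (x * h * x⁻¹) ^ Nat.card W₂ = 1 ↔ h ^ Nat.card W₂ = 1 := by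
    intro h
    rw [conj_pow]
    constructor
    · intro e
      have : x * h ^ Nat.card W₂ * x⁻¹ = x * 1 * x⁻¹ := by rw [e]; group
      exact mul_left_cancel (mul_right_cancel this)
    · intro e; rw [e]; group
  have key : ∀ h : G, h ∈ W₁ ⊔ W₂ → x * h * x⁻¹ ∈ W₁ ⊔ W₂ →
      ((h ∈ W₁ ↔ x * h * x⁻¹ ∈ W₁) ∧ (h ∈ W₂ ↔ x * h * x⁻¹ ∈ W₂)) := by
    intro h hh hxh
    rw [snc_mem_left_iff hW hh, snc_mem_left_iff hW hxh, snc_mem_right_iff hW hh,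
      snc_mem_right_iff hW hxh, hpow1, hpow2]
    exact ⟨Iff.rfl, Iff.rfl⟩
  intro h
  constructor
  · rintro ⟨hhW, hh12⟩
    have hxh := h1 h hhW
    obtain ⟨k1, k2⟩ := key h hhW hxh
    refine ⟨hxh, ?_⟩
    rintro (hc | hc)
    · exact hh12 (Or.inl (k1.mpr hc))
    · exact hh12 (Or.inr (k2.mpr hc))
  · rintro ⟨hxh, hh12⟩
    have hhW : h ∈ W₁ ⊔ W₂ := by
      have := h2 _ hxh
      have e : x⁻¹ * (x * h * x⁻¹) * x = h := by group
      rwa [e] at this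
    obtain ⟨k1, k2⟩ := key h hhW hxh
    refine ⟨hhW, ?_⟩
    rintro (hc | hc)
    · exact hh12 (Or.inl (k1.mp hc))
    · exact hh12 (Or.inr (k2.mp hc))

/-- Functions induced from `W` vanishing on `W₁ ∪ W₂` restrict to themselves on
`W \ (W₁ ∪ W₂)`. -/
theorem indFun_apply_snc [Fintype G] (hW : IsSelfNormalizingCyclic W₁ W₂)
    (f : ↥(W₁ ⊔ W₂) → ℂ) (hf : ∀ v : ↥(W₁ ⊔ W₂), ((v : G) ∈ W₁ ∨ (v : G) ∈ W₂) → f v = 0)
    (w : ↥(W₁ ⊔ W₂)) (hw₁ : (w : G) ∉ W₁) (hw₂ : (w : G) ∉ W₂) :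
    indFun (W₁ ⊔ W₂) f w = f w := by
  classical
  rw [indFun_apply]
  have hterm : ∀ x : G, extendByZero (W₁ ⊔ W₂) f (x⁻¹ * w * x) =
      if x ∈ W₁ ⊔ W₂ then f w else 0 := by
    intro x
    split_ifs with hx
    · have e : x⁻¹ * (w : G) * x = w := by
        rw [mul_assoc, snc_comm hW w w.2 x hx]; group
      rw [e, extendByZero_coe]
    · by_cases hm : x⁻¹ * (w : G) * x ∈ W₁ ⊔ W₂
      · rw [extendByZero_of_mem _ _ hm]
        apply hf
        by_contra hcon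
        push Not at hcon
        exact hx (snc_ti hW w.2 hw₁ hw₂ hm hcon.1 hcon.2)
      · exact extendByZero_of_not_mem _ _ hm
  simp only [hterm]
  rw [← Finset.sum_filter, Finset.sum_const, nsmul_eq_mul]
  have hc : ((Finset.univ.filter (fun x : G => x ∈ W₁ ⊔ W₂)).card : ℂ) =
      (Nat.card ↥(W₁ ⊔ W₂) : ℂ) := by
    rw [Nat.card_eq_fintype_card, Fintype.card_subtype]
  rw [hc]
  have hne : (Nat.card ↥(W₁ ⊔ W₂) : ℂ) ≠ 0 := card_ne_zero_complex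
  field_simp

end Cfsg.Agent.Lib.Helper25
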