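import Mathlib.GroupTheory.FiniteAbelian.Duality
import Mathlib.RingTheory.RootsOfUnity.AlgebraicallyClosed
import Mathlib.Analysis.Complex.Basic
import Mathlib.Analysis.Complex.Norm
import Mathlib.FieldTheory.IsAlgClosed.Basic
import Mathlib.Analysis.Complex.Polynomial.Basic

set_option autoImplicit false

/-!
The dual group `W →* ℂˣ` of a finite commutative group: finiteness, annihilators and the
orthogonality relation `∑_{φ ∈ K^⊥} φ u = |K^⊥| [u ∈ K]`.
-/

namespace Cfsg.Agent.Lib.Helper25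

open scoped ComplexConjugate

variable {W : Type*} [CommGroup W] [Finite W]

theorem hasEnoughRoots (W : Type*) [CommGroup W] [Finite W] :
    HasEnoughRootsOfUnity ℂ (Monoid.exponent W) := by
  haveI : NeZero ((Monoid.exponent W : ℕ) : ℂ) :=
    ⟨by exact_mod_cast Monoid.exponent_ne_zero_of_finite⟩
  infer_instance

instance dual_finite (W : Type*) [CommGroup W] [Finite W] : Finite (W →* ℂˣ) := by
  haveI := hasEnoughRoots W
  have h := CommGroup.card_monoidHom_of_hasEnoughRootsOfUnity W ℂ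
  apply Nat.finite_of_card_ne_zero
  rw [h]
  exact Nat.card_pos.ne'

/-- The characters of `W` trivial on the subgroup `K`. -/
def annih (K : Subgroup W) : Subgroup (W →* ℂˣ) where
  carrier := {φ | ∀ w ∈ K, φ w = 1}
  one_mem' := fun _ _ => rfl
  mul_mem' := by
    intro a b ha hb w hw
    rw [MonoidHom.mul_apply, ha w hw, hb w hw, one_mul]
  inv_mem' := by
    intro a ha w hw
    rw [MonoidHom.inv_apply, ha w hw, inv_one]

theorem mem_annih (K : Subgroup W) (φ : W →* ℂˣ) : φ ∈ annih K ↔ ∀ w ∈ K, φ w = 1 := Iff.rfl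

/-- Orthogonality: the sum of the values at `u ∈ K` of the characters trivial on `K`. -/
theorem sum_annih_apply_of_mem (K : Subgroup W) [Fintype (annih K)] (u : W) (hu : u ∈ K) :
    ∑ φ : annih K, ((φ : W →* ℂˣ) u : ℂ) = (Fintype.card (annih K) : ℂ) := by
  have : ∀ φ : annih K, ((φ : W →* ℂˣ) u : ℂ) = 1 := by
    intro φ
    rw [φ.2 u hu]
    simp
  simp [this]

/-- Orthogonality: the sum of the values at `u ∉ K` of the characters trivial on `K`. -/
theorem sum_annih_apply_of_not_mem (K : Subgroup W) [Fintype (annih K)] (u : W) (hu : u ∉ K) :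
    ∑ φ : annih K, ((φ : W →* ℂˣ) u : ℂ) = 0 := by
  classical
  have := hasEnoughRoots W
  have hex : ∃ φ₀ : W →* ℂˣ, (∀ y ∈ K, φ₀ y = 1) ∧ φ₀ u ≠ 1 := by
    by_contra hcon
    push_neg at hcon
    exact hu ((CommGroup.forall_monoidHom_apply_eq_one_iff (M := ℂ) K u).mp hcon)
  obtain ⟨φ₀, hφ₀K, hφ₀u⟩ := hex
  set S := ∑ φ : annih K, ((φ : W →* ℂˣ) u : ℂ) with hS
  have h1 : S = (φ₀ u : ℂ) * S := by
    rw [hS, Finset.mul_sum]
    symm
    apply Fintype.sum_equiv (Equiv.mulLeft (⟨φ₀, hφ₀K⟩ : annih K))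
    intro φ
    simp
  have h2 : (1 - (φ₀ u : ℂ)) * S = 0 := by linear_combination h1
  rcases mul_eq_zero.mp h2 with h | h
  · exfalso
    apply hφ₀u
    have : (φ₀ u : ℂ) = 1 := by linear_combination -h
    exact Units.ext this
  · exact h

theorem card_annih_ne_zero (K : Subgroup W) [Fintype (annih K)] :
    (Fintype.card (annih K) : ℂ) ≠ 0 := by
  exact_mod_cast Fintype.card_ne_zero

/-- Values of characters of a finite group have norm one, so conjugation is inversion. -/
theorem conj_hom_apply {V : Type*} [Group V] [Finite V] (φ : V →* ℂˣ) (v : V) :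
    conj (φ v : ℂ) = (φ v⁻¹ : ℂ) := by
  have hpow : (φ v : ℂ) ^ orderOf v = 1 := by
    rw [← Units.val_pow_eq_pow_val, ← map_pow, pow_orderOf_eq_one, map_one, Units.val_one]
  have hn : ‖(φ v : ℂ)‖ = 1 := Complex.norm_eq_one_of_pow_eq_one hpow (orderOf_pos v).ne'
  rw [map_inv, Units.val_inv_eq_inv_val, Complex.inv_eq_conj hn]

end Cfsg.Agent.Lib.Helper25
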