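import Cfsg.Agent.Lib.Helper25.CharUtil

set_option autoImplicit false

/-!
Induction from a normal subgroup: conjugate functions, restriction of the induced function,
characters composed with homomorphisms.
-/

namespace Cfsg.Agent.Lib.Helper25

open Cfsg
open scoped ComplexConjugate

/-- Composition of a character with a homomorphism is a character. -/
theorem IsCharacter.comp_hom {H K : Type*} [Group H] [Group K] (f : K →* H) {χ : H → ℂ}
    (h : IsCharacter H χ) : IsCharacter K (fun k => χ (f k)) := by
  obtain ⟨n, ρ, rfl⟩ := h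
  exact ⟨n, ρ.comp f, rfl⟩

/-- Composition of an irreducible character with a surjective homomorphism is irreducible. -/
theorem IsIrrCharacter.comp_surj {H K : Type*} [Group H] [Group K] (f : K →* H)
    (hf : Function.Surjective f) {χ : H → ℂ} (h : IsIrrCharacter H χ) :
    IsIrrCharacter K (fun k => χ (f k)) := by
  obtain ⟨n, ρ, hρ, rfl⟩ := h
  refine ⟨n, ρ.comp f, ?_, rfl⟩
  rw [Cfsg.Agent.Lib.Helper3.isIrreducible_iff] at hρ ⊢
  refine ⟨hρ.1, ?_⟩
  intro S hS
  apply hρ.2 S
  intro g v hv
  obtain ⟨k, rfl⟩ := hf g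
  exact hS k v hv

variable {G : Type*} [Group G]

/-- The conjugate `θ^g : h ↦ θ (g h g⁻¹)` of a function on a normal subgroup. -/
def conjOn (H : Subgroup G) [hN : H.Normal] (θ : H → ℂ) (g : G) : H → ℂ :=
  fun h : H => θ ⟨g * h * g⁻¹, hN.conj_mem h h.2 g⟩

theorem conjOn_apply (H : Subgroup G) [hN : H.Normal] (θ : H → ℂ) (g : G) (h : H) :
    conjOn H θ g h = θ ⟨g * h * g⁻¹, hN.conj_mem h h.2 g⟩ := rfl

theorem conjOn_mul (H : Subgroup G) [hN : H.Normal] (θ : H → ℂ) (x y : G) :
    conjOn H (conjOn H θ x) y = conjOn H θ (x * y) := by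
  funext h
  simp only [conjOn]
  congr 1
  apply Subtype.ext
  simp only
  group

theorem conjOn_one (H : Subgroup G) [hN : H.Normal] (θ : H → ℂ) : conjOn H θ 1 = θ := by
  funext h
  simp only [conjOn]
  congr 1
  apply Subtype.ext
  simp

theorem conjOn_isIrr (H : Subgroup G) [hN : H.Normal] {θ : H → ℂ} (hθ : IsIrrCharacter H θ)
    (g : G) : IsIrrCharacter H (conjOn H θ g) := by
  have := IsIrrCharacter.comp_surj (MulAut.conjNormal g : H ≃* H).toMonoidHom
    (MulAut.conjNormal g : H ≃* H).surjective hθ
  exact this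

theorem extendByZero_conjOn (H : Subgroup G) [hN : H.Normal] (θ : H → ℂ) (g z : G) :
    extendByZero H (conjOn H θ g) z = extendByZero H θ (g * z * g⁻¹) := by
  by_cases hz : z ∈ H
  · rw [extendByZero_of_mem H _ hz, extendByZero_of_mem H θ (hN.conj_mem z hz g)]
    rfl
  · rw [extendByZero_of_not_mem H _ hz, extendByZero_of_not_mem]
    intro h
    apply hz
    have := hN.conj_mem _ h g⁻¹
    simpa [mul_assoc] using this

/-- Conjugate functions induce the same function. -/
theorem indFun_conjOn [Fintype G] (H : Subgroup G) [hN : H.Normal] (θ : H → ℂ) (g : G) :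
    indFun H (conjOn H θ g) = indFun H θ := by
  funext y
  rw [indFun_apply, indFun_apply]
  congr 1
  apply Fintype.sum_equiv (Equiv.mulRight g⁻¹)
  intro x
  rw [extendByZero_conjOn]
  congr 1
  simp only [Equiv.coe_mulRight, mul_inv_rev, inv_inv]
  group

/-- The restriction to `H` of the function induced from the normal subgroup `H`. -/
theorem indFun_restrict_normal [Fintype G] (H : Subgroup G) [hN : H.Normal] (θ : H → ℂ) (h : H) :
    indFun H θ h = (Nat.card H : ℂ)⁻¹ * ∑ x : G, conjOn H θ x h := by
  rw [indFun_apply]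
  congr 1
  apply Fintype.sum_equiv (Equiv.inv G)
  intro x
  simp only [Equiv.inv_apply, conjOn, inv_inv]
  rw [extendByZero_of_mem H θ (by simpa using hN.conj_mem h h.2 x⁻¹)]

end Cfsg.Agent.Lib.Helper25
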