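import Cfsg.Agent.Lib.Helper3.CharBasic
import Cfsg.Agent.Lib.Helper25.Ind

set_option autoImplicit false

/-!
Small utilities about irreducible characters up to sign and integrality of inner products.
-/

namespace Cfsg.Agent.Lib.Helper25

open Cfsg
open scoped ComplexConjugate

variable {G : Type*} [Group G]

/-- The degree of an irreducible character is a positive natural number. -/
theorem irr_degree {χ : G → ℂ} (h : IsIrrCharacter G χ) : ∃ n : ℕ, 0 < n ∧ χ 1 = (n : ℂ) := by
  obtain ⟨n, ρ, hρ, rfl⟩ := h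
  refine ⟨n, ?_, ?_⟩
  · have h1 : IsSimpleModule (MonoidAlgebra ℂ G) ρ.asModule :=
      (Representation.irreducible_iff_isSimpleModule_asModule ρ).mp hρ
    have h2 : Nontrivial ρ.asModule := IsSimpleModule.nontrivial (MonoidAlgebra ℂ G) ρ.asModule
    have h3 : Nontrivial (Fin n → ℂ) := h2
    by_contra hn
    have : n = 0 := by omega
    subst this
    exact not_subsingleton (Fin 0 → ℂ) inferInstance
  · rw [Representation.char_one]
    simp

/-- The degree of a character is a natural number. -/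
theorem char_degree {χ : G → ℂ} (h : IsCharacter G χ) : ∃ n : ℕ, χ 1 = (n : ℂ) := by
  obtain ⟨n, ρ, rfl⟩ := h
  refine ⟨n, ?_⟩
  rw [Representation.char_one]
  simp

/-- A function that is an irreducible character or the negative of one is `ε • χ₀`. -/
theorem signed_irr {f : G → ℂ} (h : IsIrrCharacter G f ∨ IsIrrCharacter G (-f)) :
    ∃ (ε : ℂ) (χ₀ : G → ℂ), (ε = 1 ∨ ε = -1) ∧ IsIrrCharacter G χ₀ ∧ f = ε • χ₀ := by
  rcases h with h | h
  · exact ⟨1, f, Or.inl rfl, h, by simp⟩
  · exact ⟨-1, -f, Or.inr rfl, h, by simp⟩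

theorem classInner_signed_irr [Fintype G] {ε₁ ε₂ : ℂ} {χ₁ χ₂ : G → ℂ}
    (h₁ : IsIrrCharacter G χ₁) (h₂ : IsIrrCharacter G χ₂) :
    classInner (ε₁ • χ₁) (ε₂ • χ₂) = ε₁ * conj ε₂ * (if χ₁ = χ₂ then 1 else 0) := by
  rw [classInner_smul_left, classInner_smul_right, Cfsg.Agent.Lib.Helper3.classInner_irr h₁ h₂]
  ring

/-- The inner product of two characters is a natural number. -/
theorem classInner_char_nat [Fintype G] {χ ψ : G → ℂ} (hχ : IsCharacter G χ) (hψ : IsCharacter G ψ) :
    ∃ n : ℕ, classInner χ ψ = (n : ℂ) := by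
  obtain ⟨a, ρ, rfl⟩ := hχ
  obtain ⟨b, σ, rfl⟩ := hψ
  have hinv : Invertible (Nat.card G : ℂ) :=
    invertibleOfNonzero (by exact_mod_cast Nat.card_pos.ne')
  refine ⟨Module.finrank ℂ (Representation.IntertwiningMap σ ρ), ?_⟩
  rw [← Representation.card_inv_mul_sum_char_mul_char_eq_finrank σ ρ, classInner_def]
  congr 1
  apply Finset.sum_congr rfl
  intro g _
  rw [Cfsg.Agent.Lib.Helper3.character_inv σ g]

/-- The inner product of two generalized characters is an integer. -/
theorem classInner_genChar_int [Fintype G] {χ ψ : G → ℂ} (hχ : IsGeneralizedCharacter G χ)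
    (hψ : IsGeneralizedCharacter G ψ) : ∃ n : ℤ, classInner χ ψ = (n : ℂ) := by
  obtain ⟨χ₁, χ₂, h1, h2, rfl⟩ := hχ
  obtain ⟨ψ₁, ψ₂, h3, h4, rfl⟩ := hψ
  obtain ⟨n11, e11⟩ := classInner_char_nat h1 h3
  obtain ⟨n12, e12⟩ := classInner_char_nat h1 h4
  obtain ⟨n21, e21⟩ := classInner_char_nat h2 h3
  obtain ⟨n22, e22⟩ := classInner_char_nat h2 h4
  refine ⟨(n11 : ℤ) - n12 - n21 + n22, ?_⟩
  rw [classInner_sub_left, classInner_sub_right, classInner_sub_right, e11, e12, e21, e22]
  push_cast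
  ring

end Cfsg.Agent.Lib.Helper25
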