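import Cfsg.Agent.Lib.Helper25.Ind

set_option autoImplicit false

/-!
Hermitian-form tools for `Cfsg.classInner`: positivity, orthogonal projection on a finite
orthonormal set, Bessel's identity.
-/

namespace Cfsg.Agent.Lib.Helper25

open Cfsg
open scoped ComplexConjugate

variable {G : Type*} [Group G] [Fintype G]

theorem classInner_self_eq (f : G → ℂ) :
    classInner f f = (((Nat.card G : ℝ)⁻¹ * ∑ g : G, ‖f g‖ ^ 2 : ℝ) : ℂ) := by
  rw [classInner_def]
  push_cast
  congr 1
  apply Finset.sum_congr rfl
  intro g _
  rw [Complex.mul_conj, Complex.normSq_eq_norm_sq]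
  push_cast
  rfl

theorem classInner_self_re_nonneg (f : G → ℂ) : 0 ≤ (classInner f f).re := by
  rw [classInner_self_eq, Complex.ofReal_re]
  apply mul_nonneg
  · exact inv_nonneg.mpr (Nat.cast_nonneg _)
  · exact Finset.sum_nonneg (fun g _ => sq_nonneg _)

theorem classInner_self_eq_zero {f : G → ℂ} (h : classInner f f = 0) : f = 0 := by
  rw [classInner_self_eq] at h
  have h1 : (Nat.card G : ℝ)⁻¹ * ∑ g : G, ‖f g‖ ^ 2 = 0 := by exact_mod_cast h
  have hG : (Nat.card G : ℝ)⁻¹ ≠ 0 := by
    apply inv_ne_zero
    exact_mod_cast Nat.card_pos.ne'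
  have h2 : ∑ g : G, ‖f g‖ ^ 2 = 0 := (mul_eq_zero.mp h1).resolve_left hG
  funext g
  have h3 := (Finset.sum_eq_zero_iff_of_nonneg (fun g _ => sq_nonneg (‖f g‖))).mp h2 g
    (Finset.mem_univ g)
  have h4 : ‖f g‖ = 0 := by
    have := pow_eq_zero_iff (n := 2) (by norm_num) |>.mp h3
    exact this
  exact norm_eq_zero.mp h4

/-- The orthogonal projection on the span of a finite orthonormal set. -/
noncomputable def proj (E : Finset (G → ℂ)) (v : G → ℂ) : G → ℂ :=
  ∑ α ∈ E, classInner v α • α

/-- Inner product of two combinations of two mutually orthogonal finite sets. -/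
theorem classInner_comb_orth (E F : Finset (G → ℂ)) (a b : (G → ℂ) → ℂ)
    (h : ∀ α ∈ E, ∀ β ∈ F, classInner α β = 0) :
    classInner (∑ α ∈ E, a α • α) (∑ β ∈ F, b β • β) = 0 := by
  rw [classInner_sum_left]
  apply Finset.sum_eq_zero
  intro α hα
  rw [classInner_sum_right]
  apply Finset.sum_eq_zero
  intro β hβ
  rw [classInner_smul_left, classInner_smul_right, h α hα β hβ]
  ring

/-- Inner product of two combinations of the same orthonormal set. -/
theorem classInner_comb_comb [DecidableEq (G → ℂ)] (E : Finset (G → ℂ)) (a b : (G → ℂ) → ℂ)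
    (hE : ∀ α ∈ E, ∀ β ∈ E, classInner α β = if α = β then 1 else 0) :
    classInner (∑ α ∈ E, a α • α) (∑ β ∈ E, b β • β) = ∑ α ∈ E, a α * conj (b α) := by
  rw [classInner_sum_left]
  apply Finset.sum_congr rfl
  intro α hα
  rw [classInner_sum_right]
  rw [Finset.sum_eq_single_of_mem α hα]
  · rw [classInner_smul_left, classInner_smul_right, hE α hα α hα, if_pos rfl]
    ring
  · intro β hβ hne
    rw [classInner_smul_left, classInner_smul_right, hE α hα β hβ, if_neg (Ne.symm hne)]
    ring

/-- Inner product of a vector with a combination of an orthonormal set. -/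
theorem classInner_comb_right (E : Finset (G → ℂ)) (b : (G → ℂ) → ℂ) (v : G → ℂ) :
    classInner v (∑ β ∈ E, b β • β) = ∑ β ∈ E, conj (b β) * classInner v β := by
  rw [classInner_sum_right]
  apply Finset.sum_congr rfl
  intro β _
  rw [classInner_smul_right]

theorem classInner_comb_left (E : Finset (G → ℂ)) (a : (G → ℂ) → ℂ) (v : G → ℂ) :
    classInner (∑ α ∈ E, a α • α) v = ∑ α ∈ E, a α * classInner α v := by
  rw [classInner_sum_left]
  apply Finset.sum_congr rfl
  intro α _
  rw [classInner_smul_left]

/-- Bessel's identity for an orthonormal finite set. -/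
theorem bessel_identity [DecidableEq (G → ℂ)] (E : Finset (G → ℂ))
    (hE : ∀ α ∈ E, ∀ β ∈ E, classInner α β = if α = β then 1 else 0) (v : G → ℂ) :
    classInner (v - proj E v) (v - proj E v) =
      classInner v v - ∑ α ∈ E, classInner v α * conj (classInner v α) := by
  unfold proj
  rw [classInner_sub_left, classInner_sub_right, classInner_sub_right,
    classInner_comb_comb E _ _ hE, classInner_comb_right, classInner_comb_left]
  have h1 : ∑ α ∈ E, classInner v α * classInner α v =
      ∑ α ∈ E, classInner v α * conj (classInner v α) := by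
    apply Finset.sum_congr rfl
    intro α _
    rw [classInner_conj_symm]
  have h2 : ∑ β ∈ E, conj (classInner v β) * classInner v β =
      ∑ α ∈ E, classInner v α * conj (classInner v α) := by
    apply Finset.sum_congr rfl
    intro α _
    ring
  rw [h1, h2]
  ring

/-- The projection has the same inner products with members of the orthonormal set. -/
theorem classInner_proj_mem [DecidableEq (G → ℂ)] (E : Finset (G → ℂ))
    (hE : ∀ α ∈ E, ∀ β ∈ E, classInner α β = if α = β then 1 else 0) (v : G → ℂ)
    {β : G → ℂ} (hβ : β ∈ E) : classInner (proj E v) β = classInner v β := by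
  unfold proj
  rw [classInner_comb_left, Finset.sum_eq_single_of_mem β hβ]
  · rw [hE β hβ β hβ, if_pos rfl, mul_one]
  · intro α hα hne
    rw [hE α hα β hβ, if_neg hne, mul_zero]

/-- The projection on `E` is orthogonal to anything orthogonal to `E`. -/
theorem classInner_proj_orth (E : Finset (G → ℂ)) (v w : G → ℂ)
    (h : ∀ α ∈ E, classInner α w = 0) : classInner (proj E v) w = 0 := by
  unfold proj
  rw [classInner_comb_left]
  apply Finset.sum_eq_zero
  intro α hα
  rw [h α hα, mul_zero]

theorem proj_add (E : Finset (G → ℂ)) (v w : G → ℂ) : proj E (v + w) = proj E v + proj E w := by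
  unfold proj
  rw [← Finset.sum_add_distrib]
  apply Finset.sum_congr rfl
  intro α _
  rw [classInner_add_left, add_smul]

theorem proj_sub (E : Finset (G → ℂ)) (v w : G → ℂ) : proj E (v - w) = proj E v - proj E w := by
  unfold proj
  rw [← Finset.sum_sub_distrib]
  apply Finset.sum_congr rfl
  intro α _
  rw [classInner_sub_left, sub_smul]

theorem proj_eq_zero_of_orth (E : Finset (G → ℂ)) (v : G → ℂ)
    (h : ∀ α ∈ E, classInner v α = 0) : proj E v = 0 := by
  unfold proj
  apply Finset.sum_eq_zero
  intro α hα
  rw [h α hα, zero_smul]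

/-- Anything orthogonal to `E` is orthogonal to the projection on `E`. -/
theorem classInner_orth_proj (E : Finset (G → ℂ)) (v w : G → ℂ)
    (h : ∀ α ∈ E, classInner w α = 0) : classInner w (proj E v) = 0 := by
  unfold proj
  rw [classInner_comb_right]
  apply Finset.sum_eq_zero
  intro α hα
  rw [h α hα, mul_zero]

/-- The squared norm of the projection. -/
theorem classInner_proj_proj [DecidableEq (G → ℂ)] (E : Finset (G → ℂ))
    (hE : ∀ α ∈ E, ∀ β ∈ E, classInner α β = if α = β then 1 else 0) (v w : G → ℂ) :
    classInner (proj E v) (proj E w) = ∑ α ∈ E, classInner v α * conj (classInner w α) := by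
  unfold proj
  rw [classInner_comb_comb E _ _ hE]

/-- Inner product of a vector with its projection. -/
theorem classInner_self_proj (E : Finset (G → ℂ)) (v w : G → ℂ) :
    classInner v (proj E w) = ∑ α ∈ E, conj (classInner w α) * classInner v α := by
  unfold proj
  rw [classInner_comb_right]

/-- Bessel's identity for the union of two mutually orthogonal orthonormal finite sets. -/
theorem bessel_two [DecidableEq (G → ℂ)] (E F : Finset (G → ℂ))
    (hE : ∀ α ∈ E, ∀ β ∈ E, classInner α β = if α = β then 1 else 0)
    (hF : ∀ α ∈ F, ∀ β ∈ F, classInner α β = if α = β then 1 else 0)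
    (hEF : ∀ α ∈ E, ∀ β ∈ F, classInner α β = 0) (v : G → ℂ) :
    classInner (v - proj E v - proj F v) (v - proj E v - proj F v) =
      classInner v v - ∑ α ∈ E, classInner v α * conj (classInner v α)
        - ∑ β ∈ F, classInner v β * conj (classInner v β) := by
  have h1 : proj F (proj E v) = 0 := by
    apply proj_eq_zero_of_orth
    intro β hβ
    exact classInner_proj_orth E v β (fun α hα => hEF α hα β hβ)
  have h2 : proj F (v - proj E v) = proj F v := by
    rw [proj_sub, h1, sub_zero]
  have h3 := bessel_identity F hF (v - proj E v)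
  rw [h2, bessel_identity E hE v] at h3
  rw [h3]
  congr 1
  apply Finset.sum_congr rfl
  intro β hβ
  have h4 : classInner (v - proj E v) β = classInner v β := by
    rw [classInner_sub_left, classInner_proj_orth E v β (fun α hα => hEF α hα β hβ), sub_zero]
  rw [h4]

end Cfsg.Agent.Lib.Helper25
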