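import Cfsg.Prelude.Def_OddOrderChar
import Cfsg.Agent.Lib.Helper3.CharOps
import Cfsg.Agent.Lib.Helper25.CharUtil
import Cfsg.Agent.Lib.Helper25.InnerTools

set_option autoImplicit false

/-!
Basic API for the coherence vocabulary of `Def_OddOrderChar`: closure of generalized characters,
`zspan`, `zspanOn`, `IsLinearIsometryOn`, `conjFun`.
-/

namespace Cfsg.Agent.Lib.Helper25

open Cfsg
open scoped ComplexConjugate

section GenChar

variable {G : Type*} [Group G]

theorem genChar_zero : IsGeneralizedCharacter G (0 : G → ℂ) :=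
  ⟨0, 0, Cfsg.Agent.Lib.Helper3.IsCharacter.zero, Cfsg.Agent.Lib.Helper3.IsCharacter.zero, by simp⟩

theorem genChar_of_char {χ : G → ℂ} (h : IsCharacter G χ) : IsGeneralizedCharacter G χ :=
  ⟨χ, 0, h, Cfsg.Agent.Lib.Helper3.IsCharacter.zero, by simp⟩

theorem genChar_add {θ θ' : G → ℂ} (h : IsGeneralizedCharacter G θ)
    (h' : IsGeneralizedCharacter G θ') : IsGeneralizedCharacter G (θ + θ') := by
  obtain ⟨χ, ψ, hχ, hψ, rfl⟩ := h
  obtain ⟨χ', ψ', hχ', hψ', rfl⟩ := h'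
  exact ⟨χ + χ', ψ + ψ', Cfsg.Agent.Lib.Helper3.IsCharacter.add hχ hχ',
    Cfsg.Agent.Lib.Helper3.IsCharacter.add hψ hψ', by ring⟩

theorem genChar_neg {θ : G → ℂ} (h : IsGeneralizedCharacter G θ) :
    IsGeneralizedCharacter G (-θ) := by
  obtain ⟨χ, ψ, hχ, hψ, rfl⟩ := h
  exact ⟨ψ, χ, hψ, hχ, by ring⟩

theorem genChar_sub {θ θ' : G → ℂ} (h : IsGeneralizedCharacter G θ)
    (h' : IsGeneralizedCharacter G θ') : IsGeneralizedCharacter G (θ - θ') := by
  rw [sub_eq_add_neg]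
  exact genChar_add h (genChar_neg h')

theorem genChar_natCast_smul {θ : G → ℂ} (h : IsGeneralizedCharacter G θ) (n : ℕ) :
    IsGeneralizedCharacter G ((n : ℂ) • θ) := by
  obtain ⟨χ, ψ, hχ, hψ, rfl⟩ := h
  exact ⟨(n : ℂ) • χ, (n : ℂ) • ψ, Cfsg.Agent.Lib.Helper3.IsCharacter.nsmul hχ n,
    Cfsg.Agent.Lib.Helper3.IsCharacter.nsmul hψ n, by rw [smul_sub]⟩

theorem genChar_intCast_smul {θ : G → ℂ} (h : IsGeneralizedCharacter G θ) (n : ℤ) :
    IsGeneralizedCharacter G ((n : ℂ) • θ) := by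
  rcases Int.eq_nat_or_neg n with ⟨k, rfl | rfl⟩
  · simpa using genChar_natCast_smul h k
  · have : (((-(k : ℤ)) : ℤ) : ℂ) • θ = -((k : ℂ) • θ) := by
      push_cast
      rw [neg_smul]
    rw [this]
    exact genChar_neg (genChar_natCast_smul h k)

theorem genChar_zsmul {θ : G → ℂ} (h : IsGeneralizedCharacter G θ) (n : ℤ) :
    IsGeneralizedCharacter G (n • θ) := by
  have : n • θ = (n : ℂ) • θ := by
    funext g
    simp
  rw [this]
  exact genChar_intCast_smul h n

theorem genChar_sum {ι : Type*} (s : Finset ι) (f : ι → G → ℂ)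
    (h : ∀ i ∈ s, IsGeneralizedCharacter G (f i)) : IsGeneralizedCharacter G (∑ i ∈ s, f i) := by
  classical
  induction s using Finset.induction_on with
  | empty => simpa using genChar_zero
  | insert a s ha ih =>
    rw [Finset.sum_insert ha]
    exact genChar_add (h a (Finset.mem_insert_self a s))
      (ih (fun i hi => h i (Finset.mem_insert_of_mem hi)))

end GenChar

section ZSpan

variable {X : Type*}

theorem mem_zspan_iff {S : Set (X → ℂ)} {f : X → ℂ} :
    f ∈ zspan S ↔ f ∈ (Submodule.span ℤ S : Submodule ℤ (X → ℂ)) := Iff.rfl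

theorem subset_zspan {S : Set (X → ℂ)} {f : X → ℂ} (h : f ∈ S) : f ∈ zspan S :=
  Submodule.subset_span h

theorem zspan_zero {S : Set (X → ℂ)} : (0 : X → ℂ) ∈ zspan S :=
  Submodule.zero_mem _

theorem zspan_add {S : Set (X → ℂ)} {f g : X → ℂ} (hf : f ∈ zspan S) (hg : g ∈ zspan S) :
    f + g ∈ zspan S := Submodule.add_mem _ hf hg

theorem zspan_neg {S : Set (X → ℂ)} {f : X → ℂ} (hf : f ∈ zspan S) : -f ∈ zspan S :=
  Submodule.neg_mem _ hf

theorem zspan_sub {S : Set (X → ℂ)} {f g : X → ℂ} (hf : f ∈ zspan S) (hg : g ∈ zspan S) :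
    f - g ∈ zspan S := Submodule.sub_mem _ hf hg

theorem zspan_zsmul {S : Set (X → ℂ)} {f : X → ℂ} (hf : f ∈ zspan S) (n : ℤ) :
    n • f ∈ zspan S := Submodule.smul_mem _ n hf

theorem zspan_mono {S T : Set (X → ℂ)} (h : S ⊆ T) : zspan S ⊆ zspan T :=
  Submodule.span_mono h

/-- Membership in `zspanOn S {1}ᶜ` (for a type with a `1`). -/
theorem mem_zspanOn_one {X : Type*} [One X] {S : Set (X → ℂ)} {f : X → ℂ} :
    f ∈ zspanOn S ({1}ᶜ : Set X) ↔ f ∈ zspan S ∧ f 1 = 0 := by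
  constructor
  · rintro ⟨h1, h2⟩
    exact ⟨h1, h2 1 (by simp)⟩
  · rintro ⟨h1, h2⟩
    refine ⟨h1, ?_⟩
    intro x hx
    have : x = 1 := by
      by_contra hne
      exact hx hne
    rw [this, h2]

theorem zspanOn_zero {S : Set (X → ℂ)} {A : Set X} : (0 : X → ℂ) ∈ zspanOn S A :=
  ⟨zspan_zero, fun _ _ => rfl⟩

theorem zspanOn_add {S : Set (X → ℂ)} {A : Set X} {f g : X → ℂ} (hf : f ∈ zspanOn S A)
    (hg : g ∈ zspanOn S A) : f + g ∈ zspanOn S A :=
  ⟨zspan_add hf.1 hg.1, fun x hx => by rw [Pi.add_apply, hf.2 x hx, hg.2 x hx, add_zero]⟩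

theorem zspanOn_neg {S : Set (X → ℂ)} {A : Set X} {f : X → ℂ} (hf : f ∈ zspanOn S A) :
    -f ∈ zspanOn S A :=
  ⟨zspan_neg hf.1, fun x hx => by rw [Pi.neg_apply, hf.2 x hx, neg_zero]⟩

theorem zspanOn_sub {S : Set (X → ℂ)} {A : Set X} {f g : X → ℂ} (hf : f ∈ zspanOn S A)
    (hg : g ∈ zspanOn S A) : f - g ∈ zspanOn S A :=
  ⟨zspan_sub hf.1 hg.1, fun x hx => by rw [Pi.sub_apply, hf.2 x hx, hg.2 x hx, sub_zero]⟩

theorem zspanOn_zsmul {S : Set (X → ℂ)} {A : Set X} {f : X → ℂ} (hf : f ∈ zspanOn S A)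
    (n : ℤ) : n • f ∈ zspanOn S A :=
  ⟨zspan_zsmul hf.1 n, fun x hx => by rw [Pi.smul_apply, hf.2 x hx, smul_zero]⟩

theorem zspanOn_mono {S T : Set (X → ℂ)} {A : Set X} (h : S ⊆ T) : zspanOn S A ⊆ zspanOn T A :=
  fun _ hf => ⟨zspan_mono h hf.1, hf.2⟩

end ZSpan

section Isometry

variable {L : Type*} [Group L] [Fintype L] {G : Type*} [Group G] [Fintype G]

/-- Consequences of `IsLinearIsometryOn` on a set closed under the module operations. -/
theorem isometryOn_map_zero {E : Set (L → ℂ)} {τ : (L → ℂ) → (G → ℂ)}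
    (h : IsLinearIsometryOn E τ) (h0 : (0 : L → ℂ) ∈ E) : τ 0 = 0 := by
  have := h.2.1 0 h0 0
  simpa using this

theorem isometryOn_map_neg {E : Set (L → ℂ)} {τ : (L → ℂ) → (G → ℂ)}
    (h : IsLinearIsometryOn E τ) {f : L → ℂ} (hf : f ∈ E) : τ (-f) = -τ f := by
  have := h.2.1 f hf (-1)
  simpa using this

theorem isometryOn_map_sub {E : Set (L → ℂ)} {τ : (L → ℂ) → (G → ℂ)}
    (h : IsLinearIsometryOn E τ) (hneg : ∀ f ∈ E, -f ∈ E) {f g : L → ℂ} (hf : f ∈ E)
    (hg : g ∈ E) : τ (f - g) = τ f - τ g := by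
  rw [sub_eq_add_neg, h.1 f hf (-g) (hneg g hg), isometryOn_map_neg h hg, ← sub_eq_add_neg]

end Isometry

section ConjFun

variable {L : Type*} [Group L] [Fintype L]

theorem conjFun_apply {X : Type*} (χ : X → ℂ) (x : X) : conjFun χ x = conj (χ x) := rfl

theorem conjFun_conjFun {X : Type*} (χ : X → ℂ) : conjFun (conjFun χ) = χ := by
  funext x
  simp [conjFun]

theorem classInner_conjFun (χ φ : L → ℂ) :
    classInner (conjFun χ) (conjFun φ) = conj (classInner χ φ) := by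
  rw [classInner_def, classInner_def, map_mul, map_sum]
  congr 1
  · simp
  · apply Finset.sum_congr rfl
    intro g _
    simp [conjFun]

theorem classInner_conjFun' (χ φ : L → ℂ) :
    classInner (conjFun χ) (conjFun φ) = classInner φ χ := by
  rw [classInner_conjFun, classInner_conj_symm]

end ConjFun

section Extension

variable {L : Type*} [Group L] [Fintype L] {G : Type*} [Group G] [Fintype G]

omit [Fintype L] in
/-- Members of `zspan S` take at `1` an integer multiple of the common degree. -/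
theorem zspan_apply_one {S : Set (L → ℂ)} {d : ℂ} (hdeg : ∀ χ ∈ S, χ 1 = d) {f : L → ℂ}
    (hf : f ∈ zspan S) : ∃ k : ℤ, f 1 = (k : ℂ) * d := by
  induction hf using Submodule.span_induction with
  | mem x hx => exact ⟨1, by rw [hdeg x hx]; simp⟩
  | zero => exact ⟨0, by simp⟩
  | add x y _ _ hx hy =>
    obtain ⟨a, ha⟩ := hx
    obtain ⟨b, hb⟩ := hy
    exact ⟨a + b, by rw [Pi.add_apply, ha, hb]; push_cast; ring⟩
  | smul n x _ hx =>
    obtain ⟨a, ha⟩ := hx
    exact ⟨n * a, by rw [Pi.smul_apply, ha]; simp; ring⟩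

omit [Fintype L] in
/-- Subtracting the right multiple of `χ₁` lands in the functions vanishing at `1`. -/
theorem sub_smul_mem_zspanOn {S : Set (L → ℂ)} {d : ℂ} (hd : d ≠ 0) (hdeg : ∀ χ ∈ S, χ 1 = d)
    {χ₁ : L → ℂ} (hχ₁ : χ₁ ∈ S) {f : L → ℂ} (hf : f ∈ zspan S) :
    f - (f 1 / d) • χ₁ ∈ zspanOn S ({1}ᶜ : Set L) := by
  obtain ⟨k, hk⟩ := zspan_apply_one hdeg hf
  have hm : f 1 / d = (k : ℂ) := by
    rw [hk]
    field_simp
  rw [mem_zspanOn_one]
  constructor
  · rw [hm, Int.cast_smul_eq_zsmul]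
    exact zspan_sub hf (zspan_zsmul (subset_zspan hχ₁) k)
  · rw [Pi.sub_apply, Pi.smul_apply, hdeg χ₁ hχ₁, smul_eq_mul]
    field_simp
    ring

/-- One-vector extension: if `a₁` behaves like an image of `χ₁` against all `τ (χ₁ - χ)`, then the
isometry `τ` on `zspanOn S {1}ᶜ` extends to `zspan S` (all members of `S` having the same nonzero
degree). -/
theorem exists_extension_of_vector {S : Set (L → ℂ)} {τ : (L → ℂ) → (G → ℂ)} {d : ℂ} (hd : d ≠ 0)
    (hdeg : ∀ χ ∈ S, χ 1 = d) {χ₁ : L → ℂ} (hχ₁ : χ₁ ∈ S)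
    (hiso : IsLinearIsometryOn (zspanOn S ({1}ᶜ : Set L)) τ)
    (a₁ : G → ℂ) (ha₁ : IsGeneralizedCharacter G a₁)
    (hn : classInner a₁ a₁ = classInner χ₁ χ₁)
    (h1 : ∀ χ ∈ S, classInner a₁ (τ (χ₁ - χ)) = classInner χ₁ (χ₁ - χ))
    (h2 : ∀ χ ∈ S, classInner (τ (χ₁ - χ)) a₁ = classInner (χ₁ - χ) χ₁) :
    ∃ τ₁ : (L → ℂ) → (G → ℂ), IsLinearIsometryOn (zspan S) τ₁ ∧
      ∀ α ∈ zspanOn S ({1}ᶜ : Set L), τ₁ α = τ α := by
  set Z₀ := zspanOn S ({1}ᶜ : Set L) with hZ₀
  have hneg : ∀ f ∈ Z₀, -f ∈ Z₀ := fun f hf => zspanOn_neg hf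
  have hτ0 : τ 0 = 0 := isometryOn_map_zero hiso zspanOn_zero
  have hmem : ∀ f ∈ zspan S, f - (f 1 / d) • χ₁ ∈ Z₀ :=
    fun f hf => sub_smul_mem_zspanOn hd hdeg hχ₁ hf
  have hdiff : ∀ χ ∈ S, χ₁ - χ ∈ Z₀ := by
    intro χ hχ
    rw [hZ₀, mem_zspanOn_one]
    exact ⟨zspan_sub (subset_zspan hχ₁) (subset_zspan hχ),
      by rw [Pi.sub_apply, hdeg χ₁ hχ₁, hdeg χ hχ, sub_self]⟩
  -- the key compatibility, by span induction
  have key : ∀ f ∈ zspan S,
      classInner a₁ (τ (f - (f 1 / d) • χ₁)) = classInner χ₁ (f - (f 1 / d) • χ₁) ∧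
      classInner (τ (f - (f 1 / d) • χ₁)) a₁ = classInner (f - (f 1 / d) • χ₁) χ₁ := by
    intro f hf
    induction hf using Submodule.span_induction with
    | mem x hx =>
      have e : x - (x 1 / d) • χ₁ = -(χ₁ - x) := by
        rw [hdeg x hx, div_self hd, one_smul]
        ring
      rw [e, isometryOn_map_neg hiso (hdiff x hx), classInner_neg_right, classInner_neg_right,
        classInner_neg_left, classInner_neg_left, h1 x hx, h2 x hx]
      exact ⟨rfl, rfl⟩
    | zero =>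
      have e : (0 : L → ℂ) - ((0 : L → ℂ) 1 / d) • χ₁ = 0 := by simp
      rw [e, hτ0]
      simp [classInner_zero_left, classInner_zero_right]
    | add x y hx hy ihx ihy =>
      have e : (x + y) - ((x + y) 1 / d) • χ₁ =
          (x - (x 1 / d) • χ₁) + (y - (y 1 / d) • χ₁) := by
        rw [Pi.add_apply, add_div, add_smul]
        abel
      rw [e, hiso.1 _ (hmem x hx) _ (hmem y hy), classInner_add_right, classInner_add_right,
        classInner_add_left, classInner_add_left, ihx.1, ihx.2, ihy.1, ihy.2]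
      exact ⟨rfl, rfl⟩
    | smul n x hx ihx =>
      have e : (n • x) - ((n • x) 1 / d) • χ₁ = n • (x - (x 1 / d) • χ₁) := by
        rw [Pi.smul_apply, smul_sub]
        congr 1
        rw [← Int.cast_smul_eq_zsmul ℂ n (x 1), smul_eq_mul, mul_div_assoc, mul_smul,
          Int.cast_smul_eq_zsmul]
      rw [e, hiso.2.1 _ (hmem x hx) n, ← Int.cast_smul_eq_zsmul ℂ n (τ _),
        ← Int.cast_smul_eq_zsmul ℂ n (x - _), classInner_smul_right, classInner_smul_right,
        classInner_smul_left, classInner_smul_left, ihx.1, ihx.2]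
      exact ⟨rfl, rfl⟩
  refine ⟨fun f => τ (f - (f 1 / d) • χ₁) + (f 1 / d) • a₁, ⟨?_, ?_, ?_, ?_⟩, ?_⟩
  · -- additivity
    intro f hf g hg
    have e : (f + g) - ((f + g) 1 / d) • χ₁ =
        (f - (f 1 / d) • χ₁) + (g - (g 1 / d) • χ₁) := by
      rw [Pi.add_apply, add_div, add_smul]
      abel
    show τ ((f + g) - ((f + g) 1 / d) • χ₁) + ((f + g) 1 / d) • a₁ = _
    rw [e, hiso.1 _ (hmem f hf) _ (hmem g hg), Pi.add_apply, add_div, add_smul]
    exact add_add_add_comm _ _ _ _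
  · -- integer scalars
    intro f hf n
    have e : (n • f) - ((n • f) 1 / d) • χ₁ = n • (f - (f 1 / d) • χ₁) := by
      rw [Pi.smul_apply, smul_sub]
      congr 1
      rw [← Int.cast_smul_eq_zsmul ℂ n (f 1), smul_eq_mul, mul_div_assoc, mul_smul,
        Int.cast_smul_eq_zsmul]
    show τ ((n • f) - ((n • f) 1 / d) • χ₁) + ((n • f) 1 / d) • a₁ = _
    rw [e, hiso.2.1 _ (hmem f hf) n, smul_add]
    congr 1
    rw [Pi.smul_apply, ← Int.cast_smul_eq_zsmul ℂ n (f 1), smul_eq_mul, mul_div_assoc, mul_smul,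
      Int.cast_smul_eq_zsmul]
  · -- isometry
    intro f hf g hg
    show classInner (τ (f - (f 1 / d) • χ₁) + (f 1 / d) • a₁)
      (τ (g - (g 1 / d) • χ₁) + (g 1 / d) • a₁) = classInner f g
    have ef : f = (f - (f 1 / d) • χ₁) + (f 1 / d) • χ₁ := by abel
    have eg : g = (g - (g 1 / d) • χ₁) + (g 1 / d) • χ₁ := by abel
    conv_rhs => rw [ef, eg]
    rw [classInner_add_left, classInner_add_right, classInner_add_right,
      classInner_add_left, classInner_add_right, classInner_add_right,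
      hiso.2.2.1 _ (hmem f hf) _ (hmem g hg),
      classInner_smul_right, classInner_smul_left, classInner_smul_left, classInner_smul_right,
      classInner_smul_right, classInner_smul_left, classInner_smul_left, classInner_smul_right,
      (key f hf).2, (key g hg).1, hn]
  · -- values are generalized characters
    intro f hf
    obtain ⟨k, hk⟩ := zspan_apply_one hdeg hf
    have hm : f 1 / d = (k : ℂ) := by
      rw [hk]
      field_simp
    show IsGeneralizedCharacter G (τ (f - (f 1 / d) • χ₁) + (f 1 / d) • a₁)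
    apply genChar_add (hiso.2.2.2 _ (hmem f hf))
    rw [hm]
    exact genChar_intCast_smul ha₁ k
  · -- agreement
    intro f hf
    have hf1 : f 1 = 0 := (mem_zspanOn_one.mp hf).2
    show τ (f - (f 1 / d) • χ₁) + (f 1 / d) • a₁ = τ f
    rw [hf1, zero_div, zero_smul, zero_smul, sub_zero, add_zero]

end Extension

end Cfsg.Agent.Lib.Helper25
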