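import Cfsg.Agent.Lib.Helper3.CharBasic

set_option autoImplicit false

/-!
`Re χ(g) ≤ χ(1)` with equality only if `χ(g) = χ(1)`.
-/

namespace Cfsg.Agent.Lib.Helper25

open Cfsg
open scoped ComplexConjugate

theorem eq_one_of_norm_one_of_re_eq_one {z : ℂ} (hn : ‖z‖ = 1) (hr : z.re = 1) : z = 1 := by
  have hsq : z.re ^ 2 + z.im ^ 2 = 1 := by
    have := Complex.sq_norm z
    rw [hn, Complex.normSq_apply] at this
    nlinarith
  have hi : z.im = 0 := by
    rw [hr] at hsq
    nlinarith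
  apply Complex.ext <;> simp [hr, hi]

/-- For a character `χ` of a finite group: `Re χ(g) ≤ Re χ(1)`, with equality only if
`χ g = χ 1`. -/
theorem char_re_le {H : Type*} [Group H] [Finite H] {χ : H → ℂ} (hχ : IsCharacter H χ) (g : H) :
    (χ g).re ≤ (χ 1).re ∧ ((χ g).re = (χ 1).re → χ g = χ 1) := by
  classical
  obtain ⟨n, ρ, rfl⟩ := hχ
  obtain ⟨b, μ, h1, h2⟩ := Cfsg.Agent.Lib.Helper3.exists_eigenbasis_rep ρ g
  have hnorm : ∀ i, ‖μ i‖ = 1 := fun i =>
    Complex.norm_eq_one_of_pow_eq_one (h2 i) (orderOf_pos g).ne'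
  have hre : ∀ i, (μ i).re ≤ 1 := fun i => (Complex.re_le_norm (μ i)).trans (hnorm i).le
  have hg : ρ.character g = ∑ i, μ i := Cfsg.Agent.Lib.Helper3.character_eq_sum_eigen ρ g b μ h1
  have h1' : ρ.character 1 = ∑ _i : Fin (Module.finrank ℂ (Fin n → ℂ)), (1 : ℂ) := by
    rw [Representation.char_one]
    simp
  have hgre : (ρ.character g).re = ∑ i, (μ i).re := by rw [hg, Complex.re_sum]
  have h1re : (ρ.character 1).re = ∑ _i : Fin (Module.finrank ℂ (Fin n → ℂ)), (1 : ℝ) := by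
    rw [h1', Complex.re_sum]
    simp
  refine ⟨?_, ?_⟩
  · rw [hgre, h1re]
    exact Finset.sum_le_sum (fun i _ => hre i)
  · intro heq
    rw [hgre, h1re] at heq
    have hsum : ∑ i, (1 - (μ i).re) = 0 := by
      rw [Finset.sum_sub_distrib, heq, sub_self]
    have h0 := (Finset.sum_eq_zero_iff_of_nonneg (fun i _ => sub_nonneg.mpr (hre i))).mp hsum
    have hall : ∀ i, μ i = 1 := fun i =>
      eq_one_of_norm_one_of_re_eq_one (hnorm i) (by linarith [h0 i (Finset.mem_univ i)])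
    rw [hg, h1']
    exact Finset.sum_congr rfl (fun i _ => hall i)

end Cfsg.Agent.Lib.Helper25
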