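import Cfsg.Agent.Lib.Helper25.Coherence

set_option autoImplicit false

/-!
More tools for coherence: Bessel's identity for an orthogonal family, extension of a coherent
isometry by a pair of new vectors.
-/

namespace Cfsg.Agent.Lib.Helper25

open Cfsg
open scoped ComplexConjugate

section Tools

variable {G : Type*} [Group G] [Fintype G]

theorem classInner_zsmul_left (n : ℤ) (f g : G → ℂ) :
    classInner (n • f) g = (n : ℂ) * classInner f g := by
  rw [← Int.cast_smul_eq_zsmul ℂ n f, classInner_smul_left]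

theorem classInner_zsmul_right (n : ℤ) (f g : G → ℂ) :
    classInner f (n • g) = (n : ℂ) * classInner f g := by
  rw [← Int.cast_smul_eq_zsmul ℂ n g, classInner_smul_right, map_intCast]

/-- Bessel's identity for a finite orthogonal family with natural-number squared norms. -/
theorem bessel_orthogonal {ι : Type*} [DecidableEq ι] (I : Finset ι) (u : ι → G → ℂ) (N : ι → ℕ)
    (hN : ∀ i ∈ I, N i ≠ 0)
    (hu : ∀ i ∈ I, ∀ j ∈ I, classInner (u i) (u j) = if i = j then (N i : ℂ) else 0)
    (X : G → ℂ) :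
    classInner (X - ∑ i ∈ I, (classInner X (u i) / N i) • u i)
        (X - ∑ i ∈ I, (classInner X (u i) / N i) • u i) =
      classInner X X - ∑ i ∈ I, classInner X (u i) * conj (classInner X (u i)) / N i := by
  have hXP : classInner X (∑ i ∈ I, (classInner X (u i) / N i) • u i) =
      ∑ i ∈ I, classInner X (u i) * conj (classInner X (u i)) / N i := by
    rw [classInner_sum_right]
    apply Finset.sum_congr rfl
    intro i _
    rw [classInner_smul_right, map_div₀, Complex.conj_natCast]
    ring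
  have hPX : classInner (∑ i ∈ I, (classInner X (u i) / N i) • u i) X =
      ∑ i ∈ I, classInner X (u i) * conj (classInner X (u i)) / N i := by
    rw [classInner_sum_left]
    apply Finset.sum_congr rfl
    intro i _
    rw [classInner_smul_left, ← classInner_conj_symm X (u i)]
    ring
  have hPP : classInner (∑ i ∈ I, (classInner X (u i) / N i) • u i)
      (∑ i ∈ I, (classInner X (u i) / N i) • u i) =
      ∑ i ∈ I, classInner X (u i) * conj (classInner X (u i)) / N i := by
    rw [classInner_sum_left]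
    apply Finset.sum_congr rfl
    intro i hi
    rw [classInner_sum_right, Finset.sum_eq_single_of_mem i hi]
    · rw [classInner_smul_left, classInner_smul_right, hu i hi i hi, if_pos rfl, map_div₀,
        Complex.conj_natCast]
      have : (N i : ℂ) ≠ 0 := by exact_mod_cast hN i hi
      field_simp
    · intro j hj hne
      rw [classInner_smul_left, classInner_smul_right, hu i hi j hj, if_neg (Ne.symm hne)]
      ring
  rw [classInner_sub_left, classInner_sub_right, classInner_sub_right, hXP, hPX, hPP]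
  ring

end Tools

section ExtendPair

variable {L : Type*} [Group L] [Fintype L] {G : Type*} [Group G] [Fintype G]

/-- Inner product of two combinations `u + β v + γ w` with all cross terms vanishing. -/
theorem classInner_three {H : Type*} [Group H] [Fintype H] (u v w u' : H → ℂ) (β γ β' γ' : ℂ)
    (h1 : classInner u v = 0) (h2 : classInner u w = 0) (h3 : classInner v u' = 0)
    (h4 : classInner w u' = 0) (h5 : classInner v w = 0) (h6 : classInner w v = 0) :
    classInner (u + β • v + γ • w) (u' + β' • v + γ' • w) =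
      classInner u u' + β * conj β' * classInner v v + γ * conj γ' * classInner w w := by
  simp only [classInner_add_left, classInner_add_right, classInner_smul_left,
    classInner_smul_right, h1, h2, h3, h4, h5, h6]
  ring

/-- Extension of a coherent isometry by a pair of new vectors `X`, `X'` standing for the images
of two new characters `χ`, `χ'`. -/
theorem exists_extension_pair {S₁ S : Set (L → ℂ)} (hS₁S : S₁ ⊆ S)
    {τ τ₁ : (L → ℂ) → (G → ℂ)}
    (hτ : IsLinearIsometryOn (zspanOn S ({1}ᶜ : Set L)) τ)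
    (hτ₁ : IsLinearIsometryOn (zspan S₁) τ₁)
    (hagree : ∀ α ∈ zspanOn S₁ ({1}ᶜ : Set L), τ₁ α = τ α)
    {χ χ' χ₁ : L → ℂ} (hχS : χ ∈ S) (hχ'S : χ' ∈ S) (hχ₁ : χ₁ ∈ S₁) (a : ℤ)
    (hdegχ : χ 1 = a * χ₁ 1) (hdegχ' : χ' 1 = a * χ₁ 1)
    {N : ℂ} (hN : N ≠ 0) (hχχ : classInner χ χ = N) (hχ'χ' : classInner χ' χ' = N)
    (hχχ' : classInner χ χ' = 0)
    (horth : ∀ φ ∈ S₁, classInner φ χ = 0) (horth' : ∀ φ ∈ S₁, classInner φ χ' = 0)
    {X X' : G → ℂ} (hX : IsGeneralizedCharacter G X) (hX' : IsGeneralizedCharacter G X')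
    (hXX : classInner X X = N) (hX'X' : classInner X' X' = N) (hXX' : classInner X X' = 0)
    (hTX : ∀ φ ∈ S₁, classInner (τ₁ φ) X = 0) (hTX' : ∀ φ ∈ S₁, classInner (τ₁ φ) X' = 0)
    (hτψ : τ (χ - a • χ₁) = X - a • τ₁ χ₁) (hτψ' : τ (χ' - a • χ₁) = X' - a • τ₁ χ₁) :
    ∃ τ₂ : (L → ℂ) → (G → ℂ), IsLinearIsometryOn (zspan (S₁ ∪ {χ, χ'})) τ₂ ∧
      ∀ α ∈ zspanOn (S₁ ∪ {χ, χ'}) ({1}ᶜ : Set L), τ₂ α = τ α := by
  have hχ'χ : classInner χ' χ = 0 := by
    rw [← classInner_conj_symm, hχχ', map_zero]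
  have hX'X : classInner X' X = 0 := by
    rw [← classInner_conj_symm, hXX', map_zero]
  -- the coefficient functionals and the remainder
  set b : (L → ℂ) → ℂ := fun f => classInner f χ / N with hb
  set b' : (L → ℂ) → ℂ := fun f => classInner f χ' / N with hb'
  set r : (L → ℂ) → (L → ℂ) := fun f => f - b f • χ - b' f • χ' with hr
  have b_add : ∀ f g, b (f + g) = b f + b g := by
    intro f g
    simp only [hb, classInner_add_left, add_div]
  have b'_add : ∀ f g, b' (f + g) = b' f + b' g := by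
    intro f g
    simp only [hb', classInner_add_left, add_div]
  have b_smul : ∀ (n : ℤ) f, b (n • f) = n * b f := by
    intro n f
    simp only [hb, classInner_zsmul_left, mul_div_assoc]
  have b'_smul : ∀ (n : ℤ) f, b' (n • f) = n * b' f := by
    intro n f
    simp only [hb', classInner_zsmul_left, mul_div_assoc]
  have r_add : ∀ f g, r (f + g) = r f + r g := by
    intro f g
    simp only [hr, b_add, b'_add, add_smul]
    abel
  have r_smul : ∀ (n : ℤ) f, r (n • f) = n • r f := by
    intro n f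
    simp only [hr, b_smul, b'_smul, smul_sub, mul_smul, Int.cast_smul_eq_zsmul]
  have r_decomp : ∀ f, f = r f + b f • χ + b' f • χ' := by
    intro f
    simp only [hr]
    abel
  -- integrality and membership
  have key : ∀ f ∈ zspan (S₁ ∪ {χ, χ'}),
      (∃ k : ℤ, b f = k) ∧ (∃ k : ℤ, b' f = k) ∧ r f ∈ zspan S₁ := by
    intro f hf
    induction hf using Submodule.span_induction with
    | mem x hx =>
      rcases hx with hx | hx | hx
      · have e1 : b x = 0 := by simp only [hb, horth x hx, zero_div]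
        have e2 : b' x = 0 := by simp only [hb', horth' x hx, zero_div]
        refine ⟨⟨0, by simpa using e1⟩, ⟨0, by simpa using e2⟩, ?_⟩
        have : r x = x := by simp only [hr, e1, e2, zero_smul, sub_zero]
        rw [this]
        exact subset_zspan hx
      · have e1 : b x = 1 := by simp only [hb, hx, hχχ, div_self hN]
        have e2 : b' x = 0 := by simp only [hb', hx, hχχ', zero_div]
        refine ⟨⟨1, by simpa using e1⟩, ⟨0, by simpa using e2⟩, ?_⟩
        have : r x = 0 := by
          simp only [hr, e1, e2, zero_smul, sub_zero, one_smul]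
          rw [hx, sub_self]
        rw [this]
        exact zspan_zero
      · have hx' : x = χ' := hx
        have e1 : b x = 0 := by simp only [hb, hx', hχ'χ, zero_div]
        have e2 : b' x = 1 := by simp only [hb', hx', hχ'χ', div_self hN]
        refine ⟨⟨0, by simpa using e1⟩, ⟨1, by simpa using e2⟩, ?_⟩
        have : r x = 0 := by
          simp only [hr, e1, e2, zero_smul, sub_zero, one_smul]
          rw [hx', sub_self]
        rw [this]
        exact zspan_zero
    | zero =>
      have e1 : b 0 = 0 := by simp only [hb, classInner_zero_left, zero_div]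
      have e2 : b' 0 = 0 := by simp only [hb', classInner_zero_left, zero_div]
      refine ⟨⟨0, by simpa using e1⟩, ⟨0, by simpa using e2⟩, ?_⟩
      have : r 0 = 0 := by simp only [hr, e1, e2, zero_smul, sub_zero]
      rw [this]
      exact zspan_zero
    | add x y _ _ ihx ihy =>
      obtain ⟨⟨k1, h1⟩, ⟨k1', h1'⟩, m1⟩ := ihx
      obtain ⟨⟨k2, h2⟩, ⟨k2', h2'⟩, m2⟩ := ihy
      refine ⟨⟨k1 + k2, by rw [b_add, h1, h2]; push_cast; rfl⟩,
        ⟨k1' + k2', by rw [b'_add, h1', h2']; push_cast; rfl⟩, ?_⟩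
      rw [r_add]
      exact zspan_add m1 m2
    | smul n x _ ihx =>
      obtain ⟨⟨k1, h1⟩, ⟨k1', h1'⟩, m1⟩ := ihx
      refine ⟨⟨n * k1, by rw [b_smul, h1]; push_cast; rfl⟩,
        ⟨n * k1', by rw [b'_smul, h1']; push_cast; rfl⟩, ?_⟩
      rw [r_smul]
      exact zspan_zsmul m1 n
  -- images of `zspan S₁` are orthogonal to `X`, `X'`
  have orthX : ∀ g ∈ zspan S₁, classInner (τ₁ g) X = 0 ∧ classInner (τ₁ g) X' = 0 := by
    intro g hg
    induction hg using Submodule.span_induction with
    | mem x hx => exact ⟨hTX x hx, hTX' x hx⟩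
    | zero =>
      rw [isometryOn_map_zero hτ₁ zspan_zero]
      exact ⟨classInner_zero_left _, classInner_zero_left _⟩
    | add x y hx hy ihx ihy =>
      rw [hτ₁.1 x hx y hy, classInner_add_left, classInner_add_left, ihx.1, ihx.2, ihy.1, ihy.2]
      simp
    | smul n x hx ihx =>
      rw [hτ₁.2.1 x hx n, classInner_zsmul_left, classInner_zsmul_left, ihx.1, ihx.2]
      simp
  have orthX_symm : ∀ g ∈ zspan S₁, classInner X (τ₁ g) = 0 ∧ classInner X' (τ₁ g) = 0 := by
    intro g hg
    constructor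
    · rw [← classInner_conj_symm, (orthX g hg).1, map_zero]
    · rw [← classInner_conj_symm, (orthX g hg).2, map_zero]
  have rχ : ∀ f, classInner (r f) χ = 0 ∧ classInner (r f) χ' = 0 := by
    intro f
    constructor
    · simp only [hr, hb, hb', classInner_sub_left, classInner_smul_left, hχχ, hχ'χ]
      field_simp
      ring
    · simp only [hr, hb, hb', classInner_sub_left, classInner_smul_left, hχ'χ', hχχ']
      field_simp
      ring
  have χr : ∀ f, classInner χ (r f) = 0 ∧ classInner χ' (r f) = 0 := by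
    intro f
    constructor
    · rw [← classInner_conj_symm, (rχ f).1, map_zero]
    · rw [← classInner_conj_symm, (rχ f).2, map_zero]
  refine ⟨fun f => τ₁ (r f) + b f • X + b' f • X', ⟨?_, ?_, ?_, ?_⟩, ?_⟩
  · -- additivity
    intro f hf g hg
    obtain ⟨_, _, mf⟩ := key f hf
    obtain ⟨_, _, mg⟩ := key g hg
    show τ₁ (r (f + g)) + b (f + g) • X + b' (f + g) • X' =
      (τ₁ (r f) + b f • X + b' f • X') + (τ₁ (r g) + b g • X + b' g • X')
    rw [r_add, hτ₁.1 _ mf _ mg, b_add, b'_add, add_smul, add_smul]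
    abel
  · -- integer scalars
    intro f hf n
    obtain ⟨_, _, mf⟩ := key f hf
    show τ₁ (r (n • f)) + b (n • f) • X + b' (n • f) • X' =
      n • (τ₁ (r f) + b f • X + b' f • X')
    rw [r_smul, hτ₁.2.1 _ mf n, b_smul, b'_smul, mul_smul, mul_smul, Int.cast_smul_eq_zsmul,
      Int.cast_smul_eq_zsmul, smul_add, smul_add]
  · -- isometry
    intro f hf g hg
    obtain ⟨_, _, mf⟩ := key f hf
    obtain ⟨_, _, mg⟩ := key g hg
    show classInner (τ₁ (r f) + b f • X + b' f • X') (τ₁ (r g) + b g • X + b' g • X') = _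
    rw [classInner_three _ _ _ _ _ _ _ _ (orthX _ mf).1 (orthX _ mf).2 (orthX_symm _ mg).1
      (orthX_symm _ mg).2 hXX' hX'X, hτ₁.2.2.1 _ mf _ mg, hXX, hX'X']
    conv_rhs => rw [r_decomp f, r_decomp g]
    rw [classInner_three _ _ _ _ _ _ _ _ (rχ f).1 (rχ f).2 (χr g).1 (χr g).2 hχχ' hχ'χ, hχχ,
      hχ'χ']
  · -- virtual characters
    intro f hf
    obtain ⟨⟨k, hk⟩, ⟨k', hk'⟩, mf⟩ := key f hf
    show IsGeneralizedCharacter G (τ₁ (r f) + b f • X + b' f • X')
    rw [hk, hk']
    exact genChar_add (genChar_add (hτ₁.2.2.2 _ mf) (genChar_intCast_smul hX k))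
      (genChar_intCast_smul hX' k')
  · -- agreement with τ
    intro f hf
    obtain ⟨hf2, hf1⟩ := mem_zspanOn_one.mp hf
    obtain ⟨⟨k, hk⟩, ⟨k', hk'⟩, mf⟩ := key f hf2
    show τ₁ (r f) + b f • X + b' f • X' = τ f
    have hχ₁S : χ₁ ∈ S := hS₁S hχ₁
    have hψ : χ - a • χ₁ ∈ zspanOn S ({1}ᶜ : Set L) := by
      rw [mem_zspanOn_one]
      refine ⟨zspan_sub (subset_zspan hχS) (zspan_zsmul (subset_zspan hχ₁S) a), ?_⟩
      rw [Pi.sub_apply, Pi.smul_apply, hdegχ, zsmul_eq_mul, sub_self]
    have hψ' : χ' - a • χ₁ ∈ zspanOn S ({1}ᶜ : Set L) := by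
      rw [mem_zspanOn_one]
      refine ⟨zspan_sub (subset_zspan hχ'S) (zspan_zsmul (subset_zspan hχ₁S) a), ?_⟩
      rw [Pi.sub_apply, Pi.smul_apply, hdegχ', zsmul_eq_mul, sub_self]
    have hg1 : r f + ((k + k') * a) • χ₁ ∈ zspanOn S₁ ({1}ᶜ : Set L) := by
      rw [mem_zspanOn_one]
      refine ⟨zspan_add mf (zspan_zsmul (subset_zspan hχ₁) _), ?_⟩
      have : r f 1 = f 1 - b f * χ 1 - b' f * χ' 1 := by
        simp only [hr, Pi.sub_apply, Pi.smul_apply, smul_eq_mul]
      rw [Pi.add_apply, Pi.smul_apply, this, hf1, hk, hk', hdegχ, hdegχ', zsmul_eq_mul]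
      push_cast
      ring
    have hg : r f + ((k + k') * a) • χ₁ ∈ zspanOn S ({1}ᶜ : Set L) :=
      zspanOn_mono hS₁S hg1
    have hfdec : f = (r f + ((k + k') * a) • χ₁) + (k • (χ - a • χ₁) + k' • (χ' - a • χ₁)) := by
      conv_lhs => rw [r_decomp f, hk, hk', Int.cast_smul_eq_zsmul, Int.cast_smul_eq_zsmul]
      module
    have e1 : τ f = τ (r f + ((k + k') * a) • χ₁) + (k • τ (χ - a • χ₁) + k' • τ (χ' - a • χ₁)) := by
      conv_lhs => rw [hfdec]
      rw [hτ.1 _ hg _ (zspanOn_add (zspanOn_zsmul hψ k) (zspanOn_zsmul hψ' k')),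
        hτ.1 _ (zspanOn_zsmul hψ k) _ (zspanOn_zsmul hψ' k'), hτ.2.1 _ hψ k, hτ.2.1 _ hψ' k']
    have e2 : τ (r f + ((k + k') * a) • χ₁) = τ₁ (r f) + ((k + k') * a) • τ₁ χ₁ := by
      rw [← hagree _ hg1, hτ₁.1 _ mf _ (zspan_zsmul (subset_zspan hχ₁) _),
        hτ₁.2.1 _ (subset_zspan hχ₁)]
    rw [e1, e2, hτψ, hτψ', hk, hk', Int.cast_smul_eq_zsmul, Int.cast_smul_eq_zsmul]
    module

end ExtendPair

end Cfsg.Agent.Lib.Helper25
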