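import Cfsg.Agent.Lib.Helper25.IndIrr3
import Cfsg.Agent.S1516
import Cfsg.Agent.S1492

set_option autoImplicit false
set_option linter.unusedSectionVars false

namespace Cfsg.Agent.Lib.Helper25

open Cfsg
open scoped ComplexConjugate

section CohMax

variable {L : Type*} [Group L] [Fintype L] {G : Type*} [Group G] [Fintype G]

/-- Coherence passes to subsets (given a nonzero element). -/
theorem isCoherent_of_subset {S₁ T : Set (L → ℂ)} {τ : (L → ℂ) → (G → ℂ)} (hTS : T ⊆ S₁)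
    (hcoh : IsCoherent S₁ ({1}ᶜ : Set L) τ)
    (hne : ∃ α ∈ zspanOn T ({1}ᶜ : Set L), α ≠ 0) : IsCoherent T ({1}ᶜ : Set L) τ := by
  obtain ⟨_, τ₁, hτ₁, hag⟩ := hcoh
  refine ⟨hne, τ₁, ⟨?_, ?_, ?_, ?_⟩, fun α hα => hag α (zspanOn_mono hTS hα)⟩
  · exact fun α hα β hβ => hτ₁.1 α (zspan_mono hTS hα) β (zspan_mono hTS hβ)
  · exact fun α hα n => hτ₁.2.1 α (zspan_mono hTS hα) n
  · exact fun α hα β hβ => hτ₁.2.2.1 α (zspan_mono hTS hα) β (zspan_mono hTS hβ)
  · exact fun α hα => hτ₁.2.2.2 α (zspan_mono hTS hα)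

/-- Coherence of a conjugation-closed subset `T`, from the coherence of `S₀` and an extension step
that adjoins a member of `T` and its conjugate to any coherent subset containing `S₀`. -/
theorem coherent_by_maximality {S : Set (L → ℂ)} {τ : (L → ℂ) → (G → ℂ)}
    {R : (L → ℂ) → Finset (G → ℂ)} (hS : IsCoherenceSystem S τ R) (hfin : S.Finite)
    (S₀ : Set (L → ℂ)) (hS₀ : S₀ ⊆ S) (hS₀c : ∀ φ ∈ S₀, conjFun φ ∈ S₀)
    (hcoh₀ : IsCoherent S₀ ({1}ᶜ : Set L) τ)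
    (T : Set (L → ℂ)) (hT : T ⊆ S) (hTc : ∀ φ ∈ T, conjFun φ ∈ T) (hTne : T.Nonempty)
    (hstep : ∀ S₁ : Finset (L → ℂ), S₀ ⊆ ↑S₁ → ↑S₁ ⊆ S → (∀ φ ∈ S₁, conjFun φ ∈ S₁) →
      IsCoherent (↑S₁ : Set (L → ℂ)) ({1}ᶜ : Set L) τ → ∀ χ ∈ T, χ ∉ S₁ → conjFun χ ∉ S₁ →
      IsCoherent (↑S₁ ∪ {χ, conjFun χ} : Set (L → ℂ)) ({1}ᶜ : Set L) τ) :
    IsCoherent T ({1}ᶜ : Set L) τ := by
  classical
  let F : Finset (Finset (L → ℂ)) := hfin.toFinset.powerset.filter (fun S₁ =>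
    S₀ ⊆ ↑S₁ ∧ (∀ φ ∈ S₁, conjFun φ ∈ S₁) ∧ IsCoherent (↑S₁ : Set (L → ℂ)) ({1}ᶜ : Set L) τ)
  have hF : ∀ S₁ : Finset (L → ℂ), S₁ ∈ F ↔ (↑S₁ ⊆ S ∧ S₀ ⊆ ↑S₁ ∧ (∀ φ ∈ S₁, conjFun φ ∈ S₁) ∧
      IsCoherent (↑S₁ : Set (L → ℂ)) ({1}ᶜ : Set L) τ) := by
    intro S₁
    simp only [F, Finset.mem_filter, Finset.mem_powerset]
    rw [← Finset.coe_subset, Set.Finite.coe_toFinset]
  have hS₀fin : S₀.Finite := hfin.subset hS₀
  have h0 : hS₀fin.toFinset ∈ F := by
    rw [hF, Set.Finite.coe_toFinset]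
    refine ⟨hS₀, subset_rfl, ?_, hcoh₀⟩
    intro φ hφ
    rw [Set.Finite.mem_toFinset] at hφ ⊢
    exact hS₀c φ hφ
  obtain ⟨S₁, hS₁mem, hmax⟩ := Finset.exists_max_image F Finset.card ⟨_, h0⟩
  obtain ⟨h1, h2, h3, h4⟩ := (hF S₁).mp hS₁mem
  have claim : T ⊆ ↑S₁ := by
    intro χ hχT
    by_contra hχ
    rw [Finset.mem_coe] at hχ
    have hcχ : conjFun χ ∉ S₁ := by
      intro h
      apply hχ
      have := h3 _ h
      rwa [conjFun_conjFun] at this
    have hnew := hstep S₁ h2 h1 h3 h4 χ hχT hχ hcχ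
    have hcoe : (↑(insert χ (insert (conjFun χ) S₁)) : Set (L → ℂ)) = ↑S₁ ∪ {χ, conjFun χ} := by
      ext f
      simp only [Finset.coe_insert, Set.mem_insert_iff, Finset.mem_coe, Set.mem_union,
        Set.mem_singleton_iff]
      tauto
    have hS₂ : insert χ (insert (conjFun χ) S₁) ∈ F := by
      rw [hF, hcoe]
      refine ⟨?_, ?_, ?_, hnew⟩
      · rintro f (hf | hf | hf)
        · exact h1 hf
        · rw [hf]; exact hT hχT
        · rw [Set.mem_singleton_iff] at hf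
          rw [hf]; exact hS.conj_mem χ (hT hχT)
      · exact fun f hf => Or.inl (h2 hf)
      · intro f hf
        rw [Finset.mem_insert, Finset.mem_insert] at hf ⊢
        rcases hf with hf | hf | hf
        · right; left; rw [hf]
        · left; rw [hf, conjFun_conjFun]
        · right; right; exact h3 f hf
    have hle := hmax _ hS₂
    have hlt : S₁.card < (insert χ (insert (conjFun χ) S₁)).card := by
      apply Finset.card_lt_card
      rw [Finset.ssubset_iff_of_subset]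
      · exact ⟨χ, Finset.mem_insert_self _ _, hχ⟩
      · intro f hf
        exact Finset.mem_insert_of_mem (Finset.mem_insert_of_mem hf)
    omega
  obtain ⟨χ, hχ⟩ := hTne
  apply isCoherent_of_subset claim h4
  refine ⟨χ - conjFun χ, Cfsg.Agent.S1516.sub_conj_mem hS hT hTc hχ, ?_⟩
  intro h
  exact hS.conj_ne χ (hT hχ) (sub_eq_zero.mp h).symm

end CohMax

section DegBound

variable {L : Type*} [Group L] [Fintype L] (K : Subgroup L) [hK : K.Normal]

/-- The degree bound of PF 6.1 from S1492. -/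
theorem degree_sq_le {θ : K → ℂ} (hθ : IsIrrCharacter K θ) (B C D : Subgroup L) [hB : B.Normal]
    (hBD : B ≤ D) (hDC : D ≤ C) (hCK : C ≤ K)
    (hcent : ∀ x ∈ D, ∀ y ∈ C, x * y * x⁻¹ * y⁻¹ ∈ B)
    (hker : ∀ a : K, (a : L) ∈ B → θ a = θ 1) (m : ℕ) (hm : θ 1 = m) :
    m ^ 2 ≤ (C.relIndex K) ^ 2 * D.relIndex C := by
  have h := Cfsg.Agent.S1492.result θ hθ (B.subgroupOf K) (C.subgroupOf K) (D.subgroupOf K)
    (fun x hx => hBD hx) (fun x hx => hDC hx)
    (fun c _ b hb => hB.conj_mem b hb c)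
    (fun d hd c hc => hcent d hd c hc)
    (fun b hb => hker b hb)
  rw [hm, Complex.norm_natCast] at h
  have h' : m ^ 2 * Nat.card (C.subgroupOf K) * Nat.card (D.subgroupOf K) ≤ Nat.card K ^ 2 := by
    exact_mod_cast h
  have hC := Subgroup.card_mul_index (C.subgroupOf K)
  have hD := Subgroup.card_mul_index (D.subgroupOf K)
  have hiC : (C.subgroupOf K).index = C.relIndex K := rfl
  have hiD : (D.subgroupOf K).index = D.relIndex K := rfl
  have hrel := Subgroup.relIndex_mul_relIndex D C K hDC hCK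
  rw [hiC] at hC
  rw [hiD, ← hrel] at hD
  have hcC : 0 < Nat.card (C.subgroupOf K) := Nat.card_pos
  have hcD : 0 < Nat.card (D.subgroupOf K) := Nat.card_pos
  have h2 : m ^ 2 * (Nat.card (C.subgroupOf K) * Nat.card (D.subgroupOf K)) ≤
      ((C.relIndex K) ^ 2 * D.relIndex C) *
        (Nat.card (C.subgroupOf K) * Nat.card (D.subgroupOf K)) := by
    calc m ^ 2 * (Nat.card (C.subgroupOf K) * Nat.card (D.subgroupOf K))
        = m ^ 2 * Nat.card (C.subgroupOf K) * Nat.card (D.subgroupOf K) := by ring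
      _ ≤ Nat.card K ^ 2 := h'
      _ = (Nat.card (C.subgroupOf K) * C.relIndex K) *
          (Nat.card (D.subgroupOf K) * (D.relIndex C * C.relIndex K)) := by rw [hC, hD]; ring
      _ = _ := by ring
  exact Nat.le_of_mul_le_mul_right h2 (Nat.mul_pos hcC hcD)

/-- The sum of `φ(1)²/‖φ‖²` over the characters induced from the nonprincipal irreducible
characters of `K/A`. -/
theorem sum_inducedIrrAbove [Fintype (IrrCharacter K)] (A : Subgroup L) [hA : A.Normal]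
    (d n : (L → ℂ) → ℕ) (hd : ∀ φ ∈ inducedIrrAbove K A, φ 1 = (d φ : ℂ))
    (hn : ∀ φ ∈ inducedIrrAbove K A, classInner φ φ = (n φ : ℂ)) :
    ∑ φ ∈ (irrAbove K A).image (fun θ : IrrCharacter K => indFun K (θ : K → ℂ)),
      ((d φ : ℝ) ^ 2 / (n φ : ℝ)) = (K.index : ℝ) * ((A.relIndex K : ℝ) - 1) := by
  classical
  have hdegex : ∀ θ : IrrCharacter K, ∃ m : ℕ, (θ : K → ℂ) 1 = (m : ℂ) := by
    intro θ
    obtain ⟨m, _, hm⟩ := irr_degree θ.2
    exact ⟨m, hm⟩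
  choose deg hdeg using hdegex
  have hmem : ∀ θ ∈ irrAbove K A, indFun K (θ : K → ℂ) ∈ inducedIrrAbove K A := by
    intro θ hθ
    rw [inducedIrrAbove_eq_image]
    exact Finset.mem_coe.mpr (Finset.mem_image_of_mem _ hθ)
  rw [sum_image_ind K (irrAbove K A) (irrAbove_fibre K A) d n deg hdeg
    (fun θ hθ => hd _ (hmem θ hθ)) (fun θ hθ => hn _ (hmem θ hθ))]
  congr 1
  have h := sum_sq_irrAbove K A
  rw [Finset.sum_congr rfl (fun θ _ => by rw [hdeg θ])] at h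
  have h2 : ((∑ θ ∈ irrAbove K A, (deg θ : ℝ) ^ 2 : ℝ) : ℂ) = (((A.relIndex K : ℝ) - 1 : ℝ) : ℂ) := by
    push_cast
    exact h
  exact Complex.ofReal_injective h2

end DegBound

end Cfsg.Agent.Lib.Helper25
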