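import Cfsg.Agent.Lib.Helper25.CohMax
import Cfsg.Agent.Lib.Helper3.ProperInduced
import Cfsg.Agent.S1517
import Cfsg.Agent.S1519

set_option autoImplicit false
set_option linter.unusedSectionVars false

namespace Cfsg.Agent.Lib.Helper25

open Cfsg
open scoped ComplexConjugate

section LinDeg

/-- An irreducible character trivial on all commutators is linear. -/
theorem degree_one_of_commutators {K : Type*} [Group K] [Finite K] {θ : K → ℂ}
    (hθ : IsIrrCharacter K θ) (h : ∀ g k : K, θ (g * k * g⁻¹ * k⁻¹) = θ 1) : θ 1 = 1 := by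
  classical
  have : Fintype K := Fintype.ofFinite K
  obtain ⟨m, σ, hσ, rfl⟩ := hθ
  have hker : ∀ g k : K, σ (g * k * g⁻¹ * k⁻¹) = 1 := by
    intro g k
    have := (Cfsg.Agent.Lib.Helper79.rep_mem_ker_iff σ (g * k * g⁻¹ * k⁻¹)).mpr (h g k)
    exact this
  have hcomm : ∀ a b : K, σ a * σ b = σ b * σ a := by
    intro a b
    have e : a * b = (a * b * a⁻¹ * b⁻¹) * (b * a) := by group
    rw [← map_mul, e, map_mul, hker, one_mul, map_mul]
  have hirr : IsIrrCharacter K σ.character := ⟨m, σ, hσ, rfl⟩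
  have hne : classInner σ.character σ.character ≠ 0 := by
    rw [Cfsg.Agent.Lib.Helper3.classInner_irr hirr hirr, if_pos rfl]
    exact one_ne_zero
  exact Cfsg.Agent.Lib.Helper3.irr_constituent_linear_of_commute σ hcomm hirr hne

end LinDeg

section SubSystem

variable {L : Type*} [Group L] [Fintype L] {G : Type*} [Group G] [Fintype G]

/-- A nonempty conjugation-closed subset of a coherence system is a coherence system. -/
theorem IsCoherenceSystem.subset {S T : Set (L → ℂ)} {τ : (L → ℂ) → (G → ℂ)}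
    {R : (L → ℂ) → Finset (G → ℂ)} (hS : IsCoherenceSystem S τ R) (hTS : T ⊆ S)
    (hTne : T.Nonempty) (hTc : ∀ φ ∈ T, conjFun φ ∈ T) : IsCoherenceSystem T τ R where
  nonempty := hTne
  isCharacter := fun χ hχ => hS.isCharacter χ (hTS hχ)
  conj_mem := hTc
  conj_ne := fun χ hχ => hS.conj_ne χ (hTS hχ)
  isometry := by
    obtain ⟨h1, h2, h3, h4⟩ := hS.isometry
    have hsub : zspanOn T ({1}ᶜ : Set L) ⊆ zspanOn S ({1}ᶜ : Set L) := zspanOn_mono hTS
    exact ⟨fun α hα β hβ => h1 α (hsub hα) β (hsub hβ), fun α hα n => h2 α (hsub hα) n,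
      fun α hα β hβ => h3 α (hsub hα) β (hsub hβ), fun α hα => h4 α (hsub hα)⟩
  map_one := fun α hα => hS.map_one α (zspanOn_mono hTS hα)
  orthogonal := fun χ hχ φ hφ => hS.orthogonal χ (hTS hχ) φ (hTS hφ)
  orthonormal := fun χ hχ => hS.orthonormal χ (hTS hχ)
  virtual := fun χ hχ => hS.virtual χ (hTS hχ)
  sum_eq := fun χ hχ => hS.sum_eq χ (hTS hχ)
  disjoint := fun χ hχ φ hφ => hS.disjoint χ (hTS hχ) φ (hTS hφ)

variable (K : Subgroup L) [hK : K.Normal]

/-- `S(H₁)` is coherent when `K/H₁` is abelian. -/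
theorem coherent_of_commutator_le (hsolv : Group.IsSolvable K) {τ : (L → ℂ) → (G → ℂ)}
    {R : (L → ℂ) → Finset (G → ℂ)} (hS : IsCoherenceSystem (inducedIrrAbove K ⊥) τ R)
    (H₁ : Subgroup L) [H₁.Normal] (hH₁K : H₁ < K) (hcomm : ⁅K, K⁆ ≤ H₁) :
    IsCoherent (inducedIrrAbove K H₁) ({1}ᶜ : Set L) τ := by
  obtain ⟨χ, hχ, -⟩ := Cfsg.Agent.S1519.exists_linear_mem K hsolv H₁ hH₁K
  have hsub := IsCoherenceSystem.subset hS (inducedIrrAbove_mono K (bot_le : ⊥ ≤ H₁)) ⟨χ, hχ⟩
    (fun φ hφ => inducedIrrAbove_conj K H₁ hφ)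
  apply Cfsg.Agent.S1517.result _ τ R hsub
  have hdeg : ∀ φ ∈ inducedIrrAbove K H₁, φ 1 = (K.index : ℂ) := by
    rintro φ ⟨θ, hθ, -, hker, rfl⟩
    rw [indIrr_apply_one]
    have : θ 1 = 1 := by
      apply degree_one_of_commutators hθ
      intro g k
      have hmem : ((g * k * g⁻¹ * k⁻¹ : K) : L) ∈ H₁ := by
        apply hcomm
        have := Subgroup.commutator_mem_commutator g.2 k.2
        rw [commutatorElement_def] at this
        exact_mod_cast this
      exact hker _ hmem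
    rw [this, mul_one]
  intro φ hφ ψ hψ
  rw [hdeg φ hφ, hdeg ψ hψ]

end SubSystem

end Cfsg.Agent.Lib.Helper25
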