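import Cfsg.Agent.Lib.Helper3.Complete
import Cfsg.Agent.Lib.Helper25.CharUtil

set_option autoImplicit false

/-!
A generalized character of norm 2 vanishing at 1 is a difference of two distinct irreducible
characters.
-/

namespace Cfsg.Agent.Lib.Helper25

open Cfsg
open scoped ComplexConjugate

/-- Integers with `∑ f² = 2`: exactly two entries are `±1`, the rest vanish. -/
theorem int_sum_sq_eq_two {ι : Type*} [Fintype ι] [DecidableEq ι] (f : ι → ℤ)
    (h : ∑ i, f i ^ 2 = 2) :
    ∃ i j, i ≠ j ∧ (f i = 1 ∨ f i = -1) ∧ (f j = 1 ∨ f j = -1) ∧ ∀ k, k ≠ i → k ≠ j → f k = 0 := by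
  have hle : ∀ k, f k ^ 2 ≤ 2 := by
    intro k
    rw [← h]
    exact Finset.single_le_sum (f := fun i => f i ^ 2) (fun i _ => sq_nonneg (f i)) (Finset.mem_univ k)
  have hval : ∀ k, f k = 0 ∨ f k = 1 ∨ f k = -1 := by
    intro k
    have h1 := hle k
    have h2 : -1 ≤ f k := by nlinarith
    have h3 : f k ≤ 1 := by nlinarith
    omega
  set T := Finset.univ.filter (fun k => f k ≠ 0) with hT
  have hsq : ∀ k, f k ^ 2 = if f k ≠ 0 then 1 else 0 := by
    intro k
    rcases hval k with h | h | h <;> rw [h] <;> simp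
  have hcard : T.card = 2 := by
    have : ∑ i, f i ^ 2 = (T.card : ℤ) := by
      rw [Finset.sum_congr rfl (fun k _ => hsq k), Finset.sum_ite, Finset.sum_const_zero, add_zero,
        Finset.sum_const, nsmul_eq_mul, mul_one]
    rw [this] at h
    exact_mod_cast h
  obtain ⟨i, j, hij, hTij⟩ := Finset.card_eq_two.mp hcard
  have hi : f i ≠ 0 := by
    have : i ∈ T := by rw [hTij]; simp
    simpa [hT] using this
  have hj : f j ≠ 0 := by
    have : j ∈ T := by rw [hTij]; simp
    simpa [hT] using this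
  refine ⟨i, j, hij, ?_, ?_, ?_⟩
  · rcases hval i with h | h | h
    · exact absurd h hi
    · exact Or.inl h
    · exact Or.inr h
  · rcases hval j with h | h | h
    · exact absurd h hj
    · exact Or.inl h
    · exact Or.inr h
  · intro k hki hkj
    by_contra hk
    have : k ∈ T := by simp [hT, hk]
    rw [hTij] at this
    simp at this
    rcases this with h | h
    · exact hki h
    · exact hkj h

theorem IsGeneralizedCharacter.isClassFunction {G : Type*} [Group G] {Y : G → ℂ}
    (h : IsGeneralizedCharacter G Y) : IsClassFunction G Y := by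
  obtain ⟨χ, ψ, h1, h2, rfl⟩ := h
  exact Cfsg.Agent.Lib.Helper3.isClassFunction_sub
    (Cfsg.Agent.Lib.Helper3.IsCharacter.isClassFunction h1)
    (Cfsg.Agent.Lib.Helper3.IsCharacter.isClassFunction h2)

theorem isCharacter_zero {G : Type*} [Group G] : IsCharacter G (0 : G → ℂ) := by
  refine ⟨0, 1, ?_⟩
  funext g
  simp [Representation.character]

theorem IsCharacter.isGeneralizedCharacter {G : Type*} [Group G] {χ : G → ℂ}
    (h : IsCharacter G χ) : IsGeneralizedCharacter G χ :=
  ⟨χ, 0, h, isCharacter_zero, by simp⟩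

theorem IsCharacter.neg_isGeneralizedCharacter {G : Type*} [Group G] {χ : G → ℂ}
    (h : IsCharacter G χ) : IsGeneralizedCharacter G (-χ) :=
  ⟨0, χ, isCharacter_zero, h, by simp⟩

/-- A generalized character of norm `2` vanishing at `1` is `μ₁ - μ₂` for distinct irreducible
characters. -/
theorem genChar_norm_two {G : Type*} [Group G] [Fintype G] {Y : G → ℂ}
    (hY : IsGeneralizedCharacter G Y) (h2 : classInner Y Y = 2) (h1 : Y 1 = 0) :
    ∃ μ₁ μ₂ : G → ℂ, IsIrrCharacter G μ₁ ∧ IsIrrCharacter G μ₂ ∧ μ₁ ≠ μ₂ ∧ Y = μ₁ - μ₂ := by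
  classical
  haveI : Fintype (IrrCharacter G) := Fintype.ofFinite _
  have hcf := IsGeneralizedCharacter.isClassFunction hY
  have hexp := Cfsg.Agent.Lib.Helper3.classFunction_eq_sum hcf
  have key : ∀ μ : IrrCharacter G, ∃ m : ℤ, classInner Y (μ : G → ℂ) = (m : ℂ) := fun μ =>
    classInner_genChar_int hY
      (IsCharacter.isGeneralizedCharacter (Cfsg.Agent.Lib.Helper3.IsIrrCharacter.isCharacter μ.2))
  choose m hm using key
  have hexp' : Y = ∑ μ : IrrCharacter G, ((m μ : ℤ) : ℂ) • (μ : G → ℂ) := by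
    rw [hexp]
    exact Finset.sum_congr rfl (fun μ _ => by rw [hm μ])
  -- Parseval
  have hpars : ∑ μ : IrrCharacter G, m μ ^ 2 = 2 := by
    have e : classInner Y Y = ∑ μ : IrrCharacter G, (((m μ) ^ 2 : ℤ) : ℂ) := by
      conv_lhs => rw [hexp']
      rw [classInner_sum_left]
      apply Finset.sum_congr rfl
      intro μ _
      rw [classInner_smul_left, ← hexp', ← classInner_conj_symm, hm μ]
      simp [sq]
    rw [h2] at e
    have : ((∑ μ : IrrCharacter G, m μ ^ 2 : ℤ) : ℂ) = ((2 : ℤ) : ℂ) := by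
      push_cast
      push_cast at e
      exact e.symm
    exact_mod_cast this
  obtain ⟨i, j, hij, hi, hj, hrest⟩ := int_sum_sq_eq_two m hpars
  have hY2 : Y = ((m i : ℤ) : ℂ) • (i : G → ℂ) + ((m j : ℤ) : ℂ) • (j : G → ℂ) := by
    rw [hexp']
    rw [← Finset.add_sum_erase Finset.univ _ (Finset.mem_univ i)]
    rw [← Finset.add_sum_erase (Finset.univ.erase i) _ (Finset.mem_erase.mpr ⟨hij.symm, Finset.mem_univ j⟩)]
    rw [Finset.sum_eq_zero, add_zero]
    intro k hk
    have hk1 : k ≠ j := (Finset.mem_erase.mp hk).1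
    have hk2 : k ≠ i := (Finset.mem_erase.mp (Finset.mem_erase.mp hk).2).1
    rw [hrest k hk2 hk1]
    simp
  obtain ⟨di, hdi, edi⟩ := irr_degree i.2
  obtain ⟨dj, hdj, edj⟩ := irr_degree j.2
  have hdeg : ((m i : ℤ) : ℂ) * di + ((m j : ℤ) : ℂ) * dj = 0 := by
    have := congrFun hY2 1
    rw [h1] at this
    simp only [Pi.add_apply, Pi.smul_apply, smul_eq_mul] at this
    rw [edi, edj] at this
    exact this.symm
  have hdegZ : m i * (di : ℤ) + m j * (dj : ℤ) = 0 := by
    have : ((m i * (di : ℤ) + m j * (dj : ℤ) : ℤ) : ℂ) = ((0 : ℤ) : ℂ) := by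
      push_cast
      exact hdeg
    exact_mod_cast this
  have hne : (i : G → ℂ) ≠ (j : G → ℂ) := fun h => hij (Subtype.ext h)
  rcases hi with hi | hi <;> rcases hj with hj | hj
  · exfalso; rw [hi, hj] at hdegZ; omega
  · refine ⟨i, j, i.2, j.2, hne, ?_⟩
    rw [hY2, hi, hj]
    simp [sub_eq_add_neg]
  · refine ⟨j, i, j.2, i.2, hne.symm, ?_⟩
    rw [hY2, hi, hj]
    simp [sub_eq_add_neg, add_comm]
  · exfalso; rw [hi, hj] at hdegZ; omega

end Cfsg.Agent.Lib.Helper25
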