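import Mathlib

set_option linter.style.haveILetI false

set_option autoImplicit false

namespace Cfsg.Agent.Lib.Helper25

section FrobInvol

variable {G : Type*} [Group G]

/-- A fixed-point-free involution normalising a finite subgroup inverts it, hence the subgroup
is abelian. -/
theorem abelian_of_fpf_involution (H : Subgroup G) [Finite H] (t : G) (ht2 : t * t = 1)
    (htn : ∀ h ∈ H, t * h * t⁻¹ ∈ H)
    (hfpf : ∀ h ∈ H, t * h = h * t → h = 1) : ∀ a ∈ H, ∀ b ∈ H, a * b = b * a := by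
  have htinv : t⁻¹ = t := inv_eq_of_mul_eq_one_left ht2
  -- the map y ↦ y⁻¹ * (t y t⁻¹) on H
  let f : H → H := fun y => ⟨(y : G)⁻¹ * (t * y * t⁻¹), H.mul_mem (H.inv_mem y.2) (htn _ y.2)⟩
  have hinj : Function.Injective f := by
    intro y y' h
    have h1 : (y : G)⁻¹ * (t * y * t⁻¹) = (y' : G)⁻¹ * (t * y' * t⁻¹) := congrArg Subtype.val h
    have h2 : t * ((y : G) * (y' : G)⁻¹) = ((y : G) * (y' : G)⁻¹) * t := by
      have h3 : (y' : G) * (y : G)⁻¹ * (t * y * t⁻¹) = t * y' * t⁻¹ := by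
        rw [mul_assoc (y' : G), h1]; group
      have h4 : t * (y : G) * t⁻¹ = (y : G) * (y' : G)⁻¹ * (t * y' * t⁻¹) := by
        rw [← h3]; group
      calc t * ((y : G) * (y' : G)⁻¹) = (t * y * t⁻¹) * (t * (y' : G)⁻¹ * t⁻¹) * t := by group
        _ = ((y : G) * (y' : G)⁻¹ * (t * y' * t⁻¹)) * (t * (y' : G)⁻¹ * t⁻¹) * t := by rw [h4]
        _ = ((y : G) * (y' : G)⁻¹) * t := by group
    have h5 := hfpf _ (H.mul_mem y.2 (H.inv_mem y'.2)) h2
    apply Subtype.ext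
    exact mul_inv_eq_one.mp h5
  have hsurj : Function.Surjective f := Finite.injective_iff_surjective.mp hinj
  -- t inverts every element of H
  have hinvert : ∀ c ∈ H, t * c * t⁻¹ = c⁻¹ := by
    intro c hc
    obtain ⟨y, hy⟩ := hsurj ⟨c, hc⟩
    have hc' : c = (y : G)⁻¹ * (t * y * t⁻¹) := (congrArg Subtype.val hy).symm
    rw [hc']
    calc t * ((y : G)⁻¹ * (t * y * t⁻¹)) * t⁻¹
        = (t * (y : G)⁻¹ * t⁻¹) * ((t * t) * y * (t⁻¹ * t⁻¹)) := by group
      _ = (t * (y : G)⁻¹ * t⁻¹) * y := by rw [ht2, htinv, ht2]; group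
      _ = ((y : G)⁻¹ * (t * y * t⁻¹))⁻¹ := by group
  intro a ha b hb
  have h1 := hinvert (a * b) (H.mul_mem ha hb)
  have h2 : t * (a * b) * t⁻¹ = (t * a * t⁻¹) * (t * b * t⁻¹) := by group
  rw [h2, hinvert a ha, hinvert b hb] at h1
  -- a⁻¹ b⁻¹ = (ab)⁻¹ = b⁻¹ a⁻¹
  have h3 : a⁻¹ * b⁻¹ = b⁻¹ * a⁻¹ := by rw [h1, mul_inv_rev]
  calc a * b = (b⁻¹ * a⁻¹)⁻¹ := by group
    _ = (a⁻¹ * b⁻¹)⁻¹ := by rw [h3]
    _ = b * a := by group

/-- In a Frobenius-like situation (centraliser form) with a non-abelian kernel of odd order, the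
whole group has odd order. -/
theorem odd_card_of_nonabelian_kernel (H L : Subgroup G) [Finite L]
    (hHL : H ≤ L) (hHn : ∀ x ∈ L, ∀ h ∈ H, x * h * x⁻¹ ∈ H)
    (hfrob : ∀ h ∈ H, h ≠ 1 → L ⊓ Subgroup.centralizer ({h} : Set G) ≤ H)
    (hHodd : Odd (Nat.card H)) (hna : ¬ ∀ a ∈ H, ∀ b ∈ H, a * b = b * a) :
    Odd (Nat.card L) := by
  classical
  by_contra hnot
  rw [Nat.not_odd_iff_even, even_iff_two_dvd] at hnot
  haveI : Fact (Nat.Prime 2) := ⟨Nat.prime_two⟩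
  obtain ⟨t, ht⟩ := exists_prime_orderOf_dvd_card' 2 hnot
  have ht' : orderOf (t : G) = 2 := by rw [Subgroup.orderOf_coe, ht]
  have ht2 : (t : G) * (t : G) = 1 := by
    rw [← pow_two, ← ht', pow_orderOf_eq_one]
  haveI : Finite H := Finite.of_injective (fun h : H => (⟨h, hHL h.2⟩ : L))
    (fun a b hab => Subtype.ext (congrArg (fun x : L => (x : G)) hab))
  have htH : (t : G) ∉ H := by
    intro h
    have h1 : orderOf (⟨(t : G), h⟩ : H) ∣ Nat.card H := orderOf_dvd_natCard _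
    have h2 : orderOf (⟨(t : G), h⟩ : H) = 2 := by
      rw [← ht', ← Subgroup.orderOf_coe]
    rw [h2] at h1
    obtain ⟨k, hk⟩ := hHodd
    omega
  apply hna
  apply abelian_of_fpf_involution H (t : G) ht2 (fun h hh => hHn _ t.2 h hh)
  intro h hh hth
  by_contra h1
  apply htH
  apply hfrob h hh h1
  refine Subgroup.mem_inf.mpr ⟨t.2, ?_⟩
  rw [Subgroup.mem_centralizer_iff]
  intro y hy
  rw [Set.mem_singleton_iff] at hy
  rw [hy]
  exact hth.symm

end FrobInvol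

end Cfsg.Agent.Lib.Helper25
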