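import Mathlib
import Cfsg.Prelude.Def_Transfer

set_option autoImplicit false
set_option linter.style.haveILetI false

namespace Cfsg.Agent.Lib.Helper25

open Cfsg

section FrobTrans

variable {G : Type*} [Group G]

/-- A group `W` of order `|K| - 1` acting on `K` by conjugation without non-trivial fixed points
is transitive on the non-identity elements of `K`. -/
theorem frobC_transitive (K W : Subgroup G) [Finite K] [Finite W]
    (hfpf : ∀ w ∈ W, w ≠ 1 → ∀ h ∈ K, w * h = h * w → h = 1)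
    (hWn : ∀ w ∈ W, ∀ h ∈ K, w * h * w⁻¹ ∈ K)
    (hcard : Nat.card K = Nat.card W + 1) {x : G} (hx : x ∈ K) (hx1 : x ≠ 1) :
    ∀ y ∈ K, y ≠ 1 → ∃ w ∈ W, w * x * w⁻¹ = y := by
  classical
  haveI : Fintype K := Fintype.ofFinite K
  haveI : Fintype W := Fintype.ofFinite W
  let f : W → K := fun w => ⟨(w : G) * x * (w : G)⁻¹, hWn w w.2 x hx⟩
  have hinj : Function.Injective f := by
    intro w w' h
    have h1 : (w : G) * x * (w : G)⁻¹ = (w' : G) * x * (w' : G)⁻¹ := congrArg Subtype.val h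
    have h2 : ((w' : G)⁻¹ * (w : G)) * x = x * ((w' : G)⁻¹ * (w : G)) := by
      calc ((w' : G)⁻¹ * (w : G)) * x = (w' : G)⁻¹ * ((w : G) * x * (w : G)⁻¹) * (w : G) := by group
        _ = (w' : G)⁻¹ * ((w' : G) * x * (w' : G)⁻¹) * (w : G) := by rw [h1]
        _ = x * ((w' : G)⁻¹ * (w : G)) := by group
    by_contra hne
    have h3 : (w' : G)⁻¹ * (w : G) ≠ 1 := by
      intro h4
      apply hne
      apply Subtype.ext
      have := inv_mul_eq_one.mp h4
      exact this.symm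
    exact hx1 (hfpf _ (W.mul_mem (W.inv_mem w'.2) w.2) h3 x hx h2)
  have hsub : Finset.univ.image f ⊆ Finset.univ.erase (1 : K) := by
    intro y hy
    rw [Finset.mem_image] at hy
    obtain ⟨w, -, rfl⟩ := hy
    rw [Finset.mem_erase]
    refine ⟨?_, Finset.mem_univ _⟩
    intro h
    have h1 : (w : G) * x * (w : G)⁻¹ = 1 := congrArg Subtype.val h
    apply hx1
    have : x = (w : G)⁻¹ * ((w : G) * x * (w : G)⁻¹) * (w : G) := by group
    rw [this, h1]
    group
  have hc1 : (Finset.univ.image f).card = Nat.card W := by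
    rw [Finset.card_image_of_injective _ hinj, Finset.card_univ, Nat.card_eq_fintype_card]
  have hc2 : (Finset.univ.erase (1 : K)).card = Nat.card W := by
    rw [Finset.card_erase_of_mem (Finset.mem_univ _), Finset.card_univ,
      ← Nat.card_eq_fintype_card, hcard]
    omega
  have heq : Finset.univ.image f = Finset.univ.erase (1 : K) :=
    Finset.eq_of_subset_of_card_le hsub (by rw [hc1, hc2])
  intro y hy hy1
  have hmem : (⟨y, hy⟩ : K) ∈ Finset.univ.erase (1 : K) := by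
    rw [Finset.mem_erase]
    exact ⟨fun h => hy1 (congrArg Subtype.val h), Finset.mem_univ _⟩
  rw [← heq, Finset.mem_image] at hmem
  obtain ⟨w, -, hw⟩ := hmem
  exact ⟨w, w.2, congrArg Subtype.val hw⟩

/-- In the situation of `frobC_transitive`, a nilpotent `K ≠ 1` is elementary abelian. -/
theorem frobC_elementaryAbelian (K W : Subgroup G) [Finite K] [Finite W]
    (hfpf : ∀ w ∈ W, w ≠ 1 → ∀ h ∈ K, w * h = h * w → h = 1)
    (hWn : ∀ w ∈ W, ∀ h ∈ K, w * h * w⁻¹ ∈ K)
    (hcard : Nat.card K = Nat.card W + 1) (hnil : Group.IsNilpotent K) (hK1 : K ≠ ⊥) :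
    ∃ p : ℕ, p.Prime ∧ IsElementaryAbelian p K := by
  classical
  haveI := hnil
  haveI : Nontrivial K := (Subgroup.nontrivial_iff_ne_bot K).mpr hK1
  have hcen : Subgroup.center K ≠ ⊥ := Group.IsNilpotent.center_ne_bot K
  obtain ⟨z, hz, hz1⟩ : ∃ z ∈ Subgroup.center K, z ≠ 1 := by
    by_contra hall
    push Not at hall
    exact hcen (eq_bot_iff.mpr (fun z hz => by rw [Subgroup.mem_bot]; exact hall z hz))
  have hx : (z : G) ∈ K := z.2
  have hx1 : (z : G) ≠ 1 := fun h => hz1 (Subtype.ext h)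
  have hxc : ∀ k ∈ K, (z : G) * k = k * (z : G) := by
    intro k hk
    have := Subgroup.mem_center_iff.mp hz ⟨k, hk⟩
    exact (congrArg Subtype.val this).symm
  have htr := frobC_transitive K W hfpf hWn hcard hx hx1
  have hWn' : ∀ w ∈ W, ∀ h ∈ K, w⁻¹ * h * w ∈ K := by
    intro w hw h hh
    have := hWn w⁻¹ (W.inv_mem hw) h hh
    rwa [inv_inv] at this
  -- every element of K is central
  have hcentral : ∀ y ∈ K, ∀ k ∈ K, y * k = k * y := by
    intro y hy k hk
    by_cases hy1 : y = 1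
    · rw [hy1, one_mul, mul_one]
    obtain ⟨w, hw, rfl⟩ := htr y hy hy1
    have h1 := hxc (w⁻¹ * k * w) (hWn' w hw k hk)
    calc w * (z : G) * w⁻¹ * k = w * ((z : G) * (w⁻¹ * k * w)) * w⁻¹ := by group
      _ = w * ((w⁻¹ * k * w) * (z : G)) * w⁻¹ := by rw [h1]
      _ = k * (w * (z : G) * w⁻¹) := by group
  have hcardK : Nat.card K ≠ 1 := fun h => hK1 (Subgroup.card_eq_one.mp h)
  obtain ⟨p, hp, hpK⟩ := Nat.exists_prime_and_dvd hcardK
  haveI : Fact p.Prime := ⟨hp⟩
  obtain ⟨x₀, hx₀⟩ := exists_prime_orderOf_dvd_card' p hpK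
  have hx₀1 : (x₀ : G) ≠ 1 := by
    intro h
    have : x₀ = 1 := Subtype.ext h
    rw [this, orderOf_one] at hx₀
    exact hp.one_lt.ne hx₀
  have hx₀p : (x₀ : G) ^ p = 1 := by
    have := pow_orderOf_eq_one x₀
    rw [hx₀] at this
    have h2 := congrArg Subtype.val this
    rwa [Subgroup.coe_pow, Subgroup.coe_one] at h2
  obtain ⟨w₀, hw₀, hw₀x⟩ := htr (x₀ : G) x₀.2 hx₀1
  have hzp : (z : G) ^ p = 1 := by
    have h1 : (z : G) = w₀⁻¹ * (x₀ : G) * w₀⁻¹⁻¹ := by rw [← hw₀x]; group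
    rw [h1, conj_pow, hx₀p]
    group
  refine ⟨p, hp, ⟨⟨fun a b => Subtype.ext (hcentral a a.2 b b.2)⟩⟩, ?_⟩
  intro a ha
  by_cases ha1 : a = 1
  · rw [ha1, one_pow]
  obtain ⟨w, hw, rfl⟩ := htr a ha ha1
  rw [conj_pow, hzp]
  group

end FrobTrans

end Cfsg.Agent.Lib.Helper25
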