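import Cfsg.Agent.Lib.Helper25.FrobStruct2

set_option autoImplicit false
set_option linter.unusedSectionVars false
set_option linter.style.haveILetI false

namespace Cfsg.Agent.Lib.Helper25

open Cfsg

section FrobIrr

variable {L : Type*} [Group L] [Fintype L] (K W : Subgroup L) [hK : K.Normal]

/-- In a Frobenius group, characters induced from non-principal irreducible characters of the
kernel are irreducible. -/
theorem frob_ind_irr (hinf : K ⊓ W = ⊥) (hsup : K ⊔ W = ⊤)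
    (hfpf : ∀ w ∈ W, w ≠ 1 → ∀ k ∈ K, w * k = k * w → k = 1)
    {θ : K → ℂ} (hθ : IsIrrCharacter K θ) (hθ1 : θ ≠ fun _ => 1) :
    IsIrrCharacter L (indFun K θ) := by
  classical
  apply typeP_ind_irreducible K W hinf hsup hθ
  intro y hy hy1 hfix
  have hHall : Nat.Coprime (Nat.card W) W.index := by
    rw [typeP_index_eq K W hinf hsup]
    exact frob_coprime K W hfpf
  have hcyc : IsCyclic (⊥ : Subgroup L) := inferInstance
  have hC : ∀ x ∈ W, x ≠ 1 → K ⊓ Subgroup.centralizer ({x} : Set L) = ⊥ := by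
    intro x hx hx1
    rw [eq_bot_iff]
    intro k hk
    rw [Subgroup.mem_bot]
    have h2 := (Cfsg.Agent.S1499.mem_centralizer_singleton x k).mp hk.2
    exact hfpf x hx hx1 k hk.1 h2.symm
  have hcard := typeP_card_fixed K W ⊥ hinf hsup hHall hcyc hC y⁻¹ (W.inv_mem hy)
    (by simpa using hy1)
  rw [Subgroup.card_bot] at hcard
  have hsub : Subsingleton {θ : IrrCharacter K // irrSmul K y⁻¹ θ = θ} :=
    (Nat.card_eq_one_iff_unique.mp hcard).1
  have h1 : irrSmul K y⁻¹ ⟨θ, hθ⟩ = ⟨θ, hθ⟩ := by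
    apply Subtype.ext
    rw [irrSmul_val, inv_inv]
    exact hfix
  have h2 : irrSmul K y⁻¹ ⟨fun _ => 1, Cfsg.Agent.Lib.Helper3.isIrrCharacter_one⟩ =
      ⟨fun _ => 1, Cfsg.Agent.Lib.Helper3.isIrrCharacter_one⟩ := by
    apply Subtype.ext
    rw [irrSmul_val]
    rfl
  have h3 := hsub.elim ⟨⟨θ, hθ⟩, h1⟩ ⟨⟨fun _ => 1, Cfsg.Agent.Lib.Helper3.isIrrCharacter_one⟩, h2⟩
  exact hθ1 (congrArg (fun t => (t.1 : K → ℂ)) h3)

end FrobIrr

end Cfsg.Agent.Lib.Helper25
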