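import Cfsg.Agent.S1524
import Cfsg.Agent.S0033
import Mathlib.GroupTheory.SchurZassenhaus
import Mathlib.GroupTheory.Sylow

set_option autoImplicit false
set_option linter.unusedSectionVars false
set_option linter.style.haveILetI false

/-!
Sibley's coherence theorem (S1524) from the centraliser form of the Frobenius hypothesis.
-/

namespace Cfsg.Agent.Lib.Helper25

open Cfsg

section Coprime

variable {L : Type*} [Group L] [Finite L]

/-- A subgroup containing the centralisers of its non-identity elements is a Hall subgroup. -/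
theorem frobC_coprime (K : Subgroup L)
    (hC : ∀ k ∈ K, k ≠ 1 → ∀ x : L, x * k = k * x → x ∈ K) :
    (Nat.card K).Coprime K.index := by
  by_contra hnc
  obtain ⟨p, hp, hpK, hpi⟩ := Nat.Prime.not_coprime_iff_dvd.mp hnc
  haveI : Fact p.Prime := ⟨hp⟩
  obtain ⟨z, hz⟩ := exists_prime_orderOf_dvd_card' p hpK
  have hz' : orderOf (z : L) = p := by rw [Subgroup.orderOf_coe, hz]
  have hz1 : (z : L) ≠ 1 := by
    intro h
    rw [h, orderOf_one] at hz'
    exact hp.one_lt.ne hz'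
  have hpg : IsPGroup p (Subgroup.zpowers (z : L)) :=
    IsPGroup.of_card (n := 1) (by rw [Nat.card_zpowers, hz', pow_one])
  obtain ⟨P, hP⟩ := hpg.exists_le_sylow
  have hzP : (z : L) ∈ (P : Subgroup L) := hP (Subgroup.mem_zpowers _)
  haveI : Nontrivial (P : Subgroup L) :=
    ⟨⟨⟨(z : L), hzP⟩, 1, fun h => hz1 (congrArg Subtype.val h)⟩⟩
  haveI : Nontrivial (Subgroup.center (P : Subgroup L)) := IsPGroup.center_nontrivial P.isPGroup'
  obtain ⟨c, hc1⟩ := exists_ne (1 : Subgroup.center (P : Subgroup L))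
  have hcL1 : ((c : (P : Subgroup L)) : L) ≠ 1 := by
    intro h
    apply hc1
    apply Subtype.ext
    apply Subtype.ext
    exact h
  have hccomm : ∀ g : (P : Subgroup L), (g : L) * ((c : (P : Subgroup L)) : L) =
      ((c : (P : Subgroup L)) : L) * (g : L) := by
    intro g
    have := Subgroup.mem_center_iff.mp c.2 g
    exact congrArg Subtype.val this
  have hcK : ((c : (P : Subgroup L)) : L) ∈ K := by
    apply hC (z : L) z.2 hz1
    exact (hccomm ⟨(z : L), hzP⟩).symm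
  have hPK : (P : Subgroup L) ≤ K := by
    intro g hg
    exact hC _ hcK hcL1 g (hccomm ⟨g, hg⟩)
  have h1 : K.index ∣ (P : Subgroup L).index := Subgroup.index_dvd_of_le hPK
  exact P.not_dvd_index (hpi.trans h1)

end Coprime

section Adapter

variable {G : Type*} [Group G]

set_option maxHeartbeats 1000000 in
/-- From the centraliser form of the Frobenius hypothesis: a complement acting without fixed
points, and nilpotency of the kernel (Thompson). -/
theorem frobC_exists_complement (H L : Subgroup G) [Finite L]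
    (hHL : H < L) (hH1 : H ≠ ⊥) (hHn : ∀ x ∈ L, ∀ h ∈ H, x * h * x⁻¹ ∈ H)
    (hfrob : ∀ h ∈ H, h ≠ 1 → L ⊓ Subgroup.centralizer ({h} : Set G) ≤ H) :
    ∃ W₁ : Subgroup G, W₁ ≤ L ∧ W₁ ≠ ⊥ ∧ Group.IsNilpotent H ∧ H ⊓ W₁ = ⊥ ∧ H ⊔ W₁ = L ∧
      ∀ w ∈ W₁, w ≠ 1 → ∀ h ∈ H, w * h = h * w → h = 1 := by
  classical
  haveI : Fintype L := Fintype.ofFinite L
  set K := H.subgroupOf L with hK
  haveI hKn : K.Normal := ⟨fun n hn g => by
    rw [hK, Subgroup.mem_subgroupOf] at hn ⊢
    have := hHn g g.2 n hn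
    simpa using this⟩
  have hC : ∀ k ∈ K, k ≠ 1 → ∀ x : L, x * k = k * x → x ∈ K := by
    intro k hk hk1 x hxk
    rw [hK, Subgroup.mem_subgroupOf]
    apply hfrob (k : G) (Subgroup.mem_subgroupOf.mp hk) (fun h => hk1 (Subtype.ext h))
    refine Subgroup.mem_inf.mpr ⟨x.2, ?_⟩
    rw [Subgroup.mem_centralizer_iff]
    intro y hy
    rw [Set.mem_singleton_iff] at hy
    rw [hy]
    exact (congrArg Subtype.val hxk).symm
  have hcop : (Nat.card K).Coprime K.index := frobC_coprime K hC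
  obtain ⟨W, hW⟩ := Subgroup.exists_right_complement'_of_coprime hcop
  have hdisj : K ⊓ W = ⊥ := disjoint_iff.mp hW.disjoint
  have hsupKW : K ⊔ W = ⊤ := hW.sup_eq_top
  have hK1 : K ≠ ⊥ := by
    intro h
    apply hH1
    rw [eq_bot_iff]
    intro x hx
    have : (⟨x, hHL.le hx⟩ : L) ∈ K := Subgroup.mem_subgroupOf.mpr hx
    rw [h, Subgroup.mem_bot] at this
    rw [Subgroup.mem_bot]
    exact congrArg Subtype.val this
  have hKtop : K ≠ ⊤ := by
    intro h
    rw [hK, Subgroup.subgroupOf_eq_top] at h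
    exact hHL.not_ge h
  have hW1 : W ≠ ⊥ := by
    intro h
    rw [h, sup_bot_eq] at hsupKW
    exact hKtop hsupKW
  -- fixed-point-freeness
  have hfpfL : ∀ w ∈ W, w ≠ 1 → ∀ k ∈ K, w * k = k * w → k = 1 := by
    intro w hw hw1 k hk hwk
    by_contra hk1
    have hwK : w ∈ K := hC k hk hk1 w hwk
    have : w ∈ K ⊓ W := ⟨hwK, hw⟩
    rw [hdisj, Subgroup.mem_bot] at this
    exact hw1 this
  -- nilpotency by Thompson's theorem
  have hKnil : Group.IsNilpotent K := by
    have hcardW : Nat.card W ≠ 1 := fun h => hW1 (Subgroup.card_eq_one.mp h)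
    obtain ⟨p, hp, hpW⟩ := Nat.exists_prime_and_dvd hcardW
    haveI : Fact p.Prime := ⟨hp⟩
    obtain ⟨w, hw⟩ := exists_prime_orderOf_dvd_card' p hpW
    have hw' : orderOf (w : L) = p := by rw [Subgroup.orderOf_coe, hw]
    have hw1 : (w : L) ≠ 1 := by
      intro h
      rw [h, orderOf_one] at hw'
      exact hp.one_lt.ne hw'
    set φ : K ≃* K := MulAut.conjNormal (w : L) with hφ
    have hφapp : ∀ k : K, ((φ k : K) : L) = (w : L) * k * (w : L)⁻¹ := by
      intro k
      rw [hφ]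
      simp
    have hfix : MonoidHom.FixedPointFree (φ : K →* K) := by
      intro k hk
      have h1 : (w : L) * k * (w : L)⁻¹ = k := by
        rw [← hφapp]
        exact congrArg Subtype.val hk
      have h2 : (w : L) * k = k * (w : L) := by
        calc (w : L) * k = ((w : L) * k * (w : L)⁻¹) * (w : L) := by group
          _ = k * (w : L) := by rw [h1]
      exact Subtype.ext (hfpfL (w : L) w.2 hw1 k k.2 h2)
    have hpow : φ ^ p = 1 := by
      rw [hφ, ← map_pow, ← hw', pow_orderOf_eq_one, map_one]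
    have hne : φ ≠ 1 := by
      intro h
      obtain ⟨k, hkK, hk1⟩ : ∃ k ∈ K, k ≠ 1 := by
        by_contra hall
        push Not at hall
        exact hK1 (eq_bot_iff.mpr (fun k hk => by rw [Subgroup.mem_bot]; exact hall k hk))
      have h1 : φ ⟨k, hkK⟩ = ⟨k, hkK⟩ := by rw [h]; rfl
      have := hfix ⟨k, hkK⟩ h1
      exact hk1 (congrArg Subtype.val this)
    exact Cfsg.Agent.S0033.result φ hfix p hp (orderOf_eq_prime hpow hne)
  have hnil : Group.IsNilpotent H := by
    haveI := hKnil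
    exact Group.nilpotent_of_mulEquiv (Subgroup.subgroupOfEquivOfLe hHL.le)
  -- the complement inside `G`
  set W₁ : Subgroup G := W.map L.subtype with hW₁
  have hmemW₁ : ∀ x : G, x ∈ W₁ ↔ ∃ hx : x ∈ L, (⟨x, hx⟩ : L) ∈ W := by
    intro x
    rw [hW₁, Subgroup.mem_map]
    constructor
    · rintro ⟨w, hw, rfl⟩
      exact ⟨w.2, hw⟩
    · rintro ⟨hx, hw⟩
      exact ⟨⟨x, hx⟩, hw, rfl⟩
  have hW₁L : W₁ ≤ L := fun x hx => ((hmemW₁ x).mp hx).1
  have hW₁1 : W₁ ≠ ⊥ := by
    intro h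
    apply hW1
    rw [eq_bot_iff]
    intro w hw
    have : (w : G) ∈ W₁ := (hmemW₁ _).mpr ⟨w.2, hw⟩
    rw [h, Subgroup.mem_bot] at this
    rw [Subgroup.mem_bot]
    exact Subtype.ext this
  have hinf : H ⊓ W₁ = ⊥ := by
    rw [eq_bot_iff]
    intro x hx
    obtain ⟨hxL, hxW⟩ := (hmemW₁ x).mp hx.2
    have : (⟨x, hxL⟩ : L) ∈ K ⊓ W := ⟨Subgroup.mem_subgroupOf.mpr hx.1, hxW⟩
    rw [hdisj, Subgroup.mem_bot] at this
    rw [Subgroup.mem_bot]
    exact congrArg Subtype.val this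
  have hsup : H ⊔ W₁ = L := by
    apply le_antisymm (sup_le hHL.le hW₁L)
    intro x hx
    obtain ⟨k, hk, w, hw, hkw⟩ := typeP_decomp K W hsupKW (⟨x, hx⟩ : L)
    have : x = (k : G) * (w : G) := by
      have := congrArg Subtype.val hkw
      simpa using this
    rw [this]
    exact Subgroup.mul_mem_sup (Subgroup.mem_subgroupOf.mp hk) ((hmemW₁ _).mpr ⟨w.2, hw⟩)
  have hfpf : ∀ w ∈ W₁, w ≠ 1 → ∀ h ∈ H, w * h = h * w → h = 1 := by
    intro w hw hw1 h hh hwh
    obtain ⟨hwL, hwW⟩ := (hmemW₁ w).mp hw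
    have := hfpfL ⟨w, hwL⟩ hwW (fun h' => hw1 (congrArg Subtype.val h')) ⟨h, hHL.le hh⟩
      (Subgroup.mem_subgroupOf.mpr hh) (Subtype.ext hwh)
    exact congrArg Subtype.val this
  exact ⟨W₁, hW₁L, hW₁1, hnil, hinf, hsup, hfpf⟩

/-- Sibley's theorem with the Frobenius hypothesis in centraliser form. -/
theorem sibley_of_centralizer [Fintype G] (H L : Subgroup G) [Fintype L] (hodd : Odd (Nat.card L))
    (hHL : H < L) (hH1 : H ≠ ⊥) (hHn : ∀ x ∈ L, ∀ h ∈ H, x * h * x⁻¹ ∈ H)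
    (hfrob : ∀ h ∈ H, h ≠ 1 → L ⊓ Subgroup.centralizer ({h} : Set G) ≤ H)
    (hTI : IsTISubset (H : Set G)) (hN : Subgroup.normalizer (H : Set G) = L) :
    IsCoherent (inducedIrrAbove (H.subgroupOf L) ⊥) ({1}ᶜ : Set L)
      (fun α : L → ℂ => indFun L α) := by
  obtain ⟨W₁, hW₁L, hW₁1, hnil, hinf, hsup, hfpf⟩ := frobC_exists_complement H L hHL hH1 hHn hfrob
  exact Cfsg.Agent.S1524.result H L W₁ hodd hHL.le hW₁L hH1 hW₁1 hnil hHn hinf hsup hfpf hTI hN

end Adapter

end Cfsg.Agent.Lib.Helper25
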