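import Cfsg.Agent.Lib.Helper25.ZKer
import Cfsg.Agent.Lib.Helper25.SibleyFrob
import Cfsg.Agent.Lib.Helper25.FrobIrr
import Cfsg.Agent.Lib.Helper3.OddOrder

set_option autoImplicit false
set_option linter.unusedSectionVars false
set_option linter.style.haveILetI false

namespace Cfsg.Agent.Lib.Helper25

open Cfsg
open scoped ComplexConjugate

section Bridge

variable {L : Type*} [Group L] [Fintype L] (K : Subgroup L) [hK : K.Normal]

/-- an irreducible character that is constant is the principal character -/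
theorem irr_eq_one_of_const {M : Type*} [Group M] [Fintype M] {θ : M → ℂ}
    (hθ : IsIrrCharacter M θ) (hconst : ∀ a : M, θ a = θ 1) : θ = fun _ => 1 := by
  classical
  by_contra hne
  have h1 := Cfsg.Agent.Lib.Helper3.classInner_irr hθ
    (Cfsg.Agent.Lib.Helper3.isIrrCharacter_one (G := M))
  rw [if_neg hne] at h1
  obtain ⟨n, hn0, hn⟩ := irr_degree hθ
  have h2 : classInner θ (fun _ : M => (1 : ℂ)) = θ 1 := by
    unfold classInner
    have : ∀ g : M, θ g * conj ((fun _ : M => (1 : ℂ)) g) = θ 1 := by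
      intro g
      simp [hconst g]
    rw [Finset.sum_congr rfl (fun g _ => this g), Finset.sum_const, Finset.card_univ,
      nsmul_eq_mul, ← Nat.card_eq_fintype_card, ← mul_assoc,
      inv_mul_cancel₀ (by exact_mod_cast Nat.card_pos.ne'), one_mul]
  rw [h2, hn] at h1
  have : (n : ℂ) ≠ 0 := by exact_mod_cast hn0.ne'
  exact this h1

theorem inducedIrrAbove_self_eq_empty : inducedIrrAbove K K = ∅ := by
  classical
  haveI : Fintype K := Fintype.ofFinite _
  rw [Set.eq_empty_iff_forall_notMem]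
  rintro φ ⟨θ, hθ, hne, hker, -⟩
  exact hne (irr_eq_one_of_const hθ (fun a => hker a a.2))

/-- If all characters induced from non-principal irreducible characters of `K` are
irreducible, they are exactly the irreducible characters of `L` not trivial on `K`. -/
theorem inducedIrrAbove_bot_eq_relevant
    (hirr : ∀ χ ∈ inducedIrrAbove K ⊥, IsIrrCharacter L χ) :
    inducedIrrAbove K ⊥ = {χ | IsIrrCharacter L χ ∧ ∃ z ∈ K, χ z ≠ χ 1} := by
  have h := diff_inducedIrrAbove_eq K K le_rfl (fun χ hχ => hirr χ hχ.1)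
  rw [inducedIrrAbove_self_eq_empty, Set.sdiff_empty] at h
  exact h

end Bridge

section BridgeG

variable {G : Type*} [Group G]

/-- The bridge in the ambient group: for a subgroup `H < L` normal in `L` satisfying the
Frobenius condition in centraliser form, the characters induced from the non-principal
irreducible characters of `H` are exactly the irreducible characters of `L` non-trivial
on `H`, and they are all irreducible. -/
theorem frobC_induced_eq_relevant (H L : Subgroup G) [Fintype L]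
    (hHL : H < L) (hH1 : H ≠ ⊥) (hHn : ∀ x ∈ L, ∀ h ∈ H, x * h * x⁻¹ ∈ H)
    (hfrob : ∀ h ∈ H, h ≠ 1 → L ⊓ Subgroup.centralizer ({h} : Set G) ≤ H) :
    (∀ χ ∈ inducedIrrAbove (H.subgroupOf L) ⊥, IsIrrCharacter L χ) ∧
    inducedIrrAbove (H.subgroupOf L) ⊥ =
      {χ : L → ℂ | IsIrrCharacter L χ ∧ ∃ x : L, (x : G) ∈ H ∧ χ x ≠ χ 1} := by
  classical
  obtain ⟨W₁, hW₁L, hW1, hnil, hinf, hsup, hfpf⟩ :=
    frobC_exists_complement H L hHL hH1 hHn hfrob
  set K := H.subgroupOf L with hK
  set W := W₁.subgroupOf L with hW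
  haveI hKn : K.Normal := ⟨fun n hn g => by
    rw [hK, Subgroup.mem_subgroupOf] at hn ⊢
    have := hHn g g.2 n hn
    simpa using this⟩
  have hinf' : K ⊓ W = ⊥ := by
    rw [eq_bot_iff]
    intro x hx
    rw [Subgroup.mem_bot]
    have h1 : (x : G) ∈ H ⊓ W₁ :=
      ⟨Subgroup.mem_subgroupOf.mp hx.1, Subgroup.mem_subgroupOf.mp hx.2⟩
    rw [hinf, Subgroup.mem_bot] at h1
    exact Subtype.ext h1
  have hsup' : K ⊔ W = ⊤ := by
    rw [hK, hW, ← Subgroup.subgroupOf_sup hHL.le hW₁L, hsup, Subgroup.subgroupOf_self]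
  have hfpf' : ∀ w ∈ W, w ≠ 1 → ∀ k ∈ K, w * k = k * w → k = 1 := by
    intro w hw hw1 k hk hwk
    have := hfpf w (Subgroup.mem_subgroupOf.mp hw) (fun h => hw1 (Subtype.ext h)) k
      (Subgroup.mem_subgroupOf.mp hk) (congrArg Subtype.val hwk)
    exact Subtype.ext this
  have hirr : ∀ χ ∈ inducedIrrAbove K ⊥, IsIrrCharacter L χ := by
    rintro χ ⟨θ, hθ, hne, -, rfl⟩
    exact frob_ind_irr K W hinf' hsup' hfpf' hθ hne
  refine ⟨hirr, ?_⟩
  rw [inducedIrrAbove_bot_eq_relevant K hirr]
  ext χ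
  simp only [Set.mem_ofPred_eq]
  constructor
  · rintro ⟨h1, z, hz, hne⟩
    exact ⟨h1, z, Subgroup.mem_subgroupOf.mp hz, hne⟩
  · rintro ⟨h1, z, hz, hne⟩
    exact ⟨h1, z, Subgroup.mem_subgroupOf.mpr hz, hne⟩

end BridgeG

end Cfsg.Agent.Lib.Helper25
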