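import Cfsg.Agent.Lib.Helper25.IndIrr
import Cfsg.Agent.Lib.Helper25.Coherence2
import Cfsg.Agent.Lib.Helper3.OddOrder
import Cfsg.Agent.Lib.Helper79.Basic

set_option autoImplicit false
set_option linter.unusedSectionVars false

namespace Cfsg.Agent.Lib.Helper25

open Cfsg
open scoped ComplexConjugate

section LinChar

/-- A solvable finite group has, for each proper normal subgroup, a nontrivial linear character
trivial on it. -/
theorem exists_linear_nontrivial {K : Type*} [Group K] [Finite K] (hs : Group.IsSolvable K)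
    (N : Subgroup K) [N.Normal] (hN : N ≠ ⊤) :
    ∃ lam : K →* ℂˣ, lam ≠ 1 ∧ ∀ a ∈ N, lam a = 1 := by
  have hQs : Group.IsSolvable (K ⧸ N) := inferInstance
  have hQn : Nontrivial (K ⧸ N) := QuotientGroup.nontrivial_iff.mpr hN
  have hlt := Group.IsSolvable.commutator_lt_top_of_nontrivial (K ⧸ N)
  obtain ⟨q, -, hq⟩ := SetLike.exists_of_lt hlt
  have hne : (Abelianization.of q : Abelianization (K ⧸ N)) ≠ 1 := by
    intro h
    apply hq
    have := (QuotientGroup.eq_one_iff (N := commutator (K ⧸ N)) q).mp h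
    exact this
  have : NeZero (Monoid.exponent (Abelianization (K ⧸ N))) := ⟨Monoid.exponent_ne_zero_of_finite⟩
  obtain ⟨φ, hφ⟩ := CommGroup.exists_apply_ne_one_of_hasEnoughRootsOfUnity
    (Abelianization (K ⧸ N)) ℂ hne
  refine ⟨(φ.comp Abelianization.of).comp (QuotientGroup.mk' N), ?_, ?_⟩
  · intro h
    obtain ⟨k, rfl⟩ := QuotientGroup.mk_surjective q
    apply hφ
    have := DFunLike.congr_fun h k
    simpa using this
  · intro a ha
    have : (QuotientGroup.mk' N) a = 1 := (QuotientGroup.eq_one_iff a).mpr ha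
    rw [MonoidHom.comp_apply, this, map_one]

end LinChar

section IndIrr3

variable {L : Type*} [Group L] [Fintype L] (K : Subgroup L) [hK : K.Normal]

theorem classInner_indIrr_self_ne_zero (θ : IrrCharacter K) :
    classInner (indFun K (θ : K → ℂ)) (indFun K (θ : K → ℂ)) ≠ 0 := by
  classical
  have : Fintype (IrrCharacter K) := Fintype.ofFinite _
  intro h
  have h1 := norm_mul_card_fibre K θ
  rw [h, zero_mul] at h1
  exact index_ne_zero_complex K h1.symm

/-- Irreducible characters of `K` inducing the same character are conjugate. -/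
theorem exists_conj_of_ind_eq (θ θ' : IrrCharacter K)
    (h : indFun K (θ' : K → ℂ) = indFun K (θ : K → ℂ)) :
    ∃ g : L, (θ' : K → ℂ) = fun h : K => (θ : K → ℂ) ⟨g * h * g⁻¹, hK.conj_mem h h.2 g⟩ := by
  by_contra hex
  obtain ⟨_, h2⟩ := Cfsg.Agent.S1486.result K (θ : K → ℂ) (θ' : K → ℂ) θ.2 θ'.2
  have h3 := h2 hex
  rw [h] at h3
  exact classInner_indIrr_self_ne_zero K θ h3

theorem conjFun_extendByZero (θ : K → ℂ) (g : L) :
    conj (extendByZero K θ g) = extendByZero K (conjFun θ) g := by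
  by_cases hg : g ∈ K
  · rw [extendByZero_of_mem K _ hg, extendByZero_of_mem K _ hg]
    rfl
  · rw [extendByZero_of_not_mem K _ hg, extendByZero_of_not_mem K _ hg, map_zero]

theorem conjFun_indFun (θ : K → ℂ) : conjFun (indFun K θ) = indFun K (conjFun θ) := by
  funext g
  rw [conjFun_apply, indFun_apply, indFun_apply, map_mul, map_inv₀, Complex.conj_natCast, map_sum]
  congr 1
  apply Finset.sum_congr rfl
  intro x _
  rw [conjFun_extendByZero]

theorem conjFun_ne_one {X : Type*} {θ : X → ℂ} (h : θ ≠ fun _ => 1) : conjFun θ ≠ fun _ => 1 := by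
  intro h1
  apply h
  funext x
  have := congrFun h1 x
  rw [conjFun_apply] at this
  have h2 := congrArg conj this
  rw [Complex.conj_conj, map_one] at h2
  exact h2

theorem inducedIrrAbove_conj (A : Subgroup L) {φ : L → ℂ} (hφ : φ ∈ inducedIrrAbove K A) :
    conjFun φ ∈ inducedIrrAbove K A := by
  classical
  have : Fintype K := Fintype.ofFinite _
  obtain ⟨θ, hθ, hne, hker, rfl⟩ := hφ
  refine ⟨conjFun θ, Cfsg.Agent.Lib.Helper3.IsIrrCharacter.conj hθ, conjFun_ne_one hne, ?_,
    conjFun_indFun K θ⟩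
  intro a ha
  rw [conjFun_apply, conjFun_apply, hker a ha]

theorem inducedIrrAbove_mono {A B : Subgroup L} (h : A ≤ B) :
    inducedIrrAbove K B ⊆ inducedIrrAbove K A := by
  rintro φ ⟨θ, hθ, hne, hker, rfl⟩
  exact ⟨θ, hθ, hne, fun a ha => hker a (h ha), rfl⟩

/-- The finite set of nonprincipal irreducible characters of `K` with `A ⊓ K` in their kernel. -/
noncomputable def irrAbove [Fintype (IrrCharacter K)] (A : Subgroup L) : Finset (IrrCharacter K) :=
  open Classical in
  Finset.univ.filter (fun θ : IrrCharacter K => (θ : K → ℂ) ≠ (fun _ => 1) ∧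
    ∀ a : K, (a : L) ∈ A → (θ : K → ℂ) a = (θ : K → ℂ) 1)

theorem mem_irrAbove [Fintype (IrrCharacter K)] (A : Subgroup L) (θ : IrrCharacter K) :
    θ ∈ irrAbove K A ↔ (θ : K → ℂ) ≠ (fun _ => 1) ∧
      ∀ a : K, (a : L) ∈ A → (θ : K → ℂ) a = (θ : K → ℂ) 1 := by
  classical
  unfold irrAbove
  rw [Finset.mem_filter]
  simp only [Finset.mem_univ, true_and]

open Classical in
theorem inducedIrrAbove_eq_image [Fintype (IrrCharacter K)] (A : Subgroup L) :
    inducedIrrAbove K A =
      ↑((irrAbove K A).image (fun θ : IrrCharacter K => indFun K (θ : K → ℂ))) := by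
  ext φ
  rw [Finset.mem_coe, Finset.mem_image]
  constructor
  · rintro ⟨θ, hθ, hne, hker, rfl⟩
    exact ⟨⟨θ, hθ⟩, (mem_irrAbove K A _).mpr ⟨hne, hker⟩, rfl⟩
  · rintro ⟨θ, hθ, rfl⟩
    obtain ⟨hne, hker⟩ := (mem_irrAbove K A θ).mp hθ
    exact ⟨θ.1, θ.2, hne, hker, rfl⟩

theorem inducedIrrAbove_finite (A : Subgroup L) : (inducedIrrAbove K A).Finite := by
  classical
  have : Fintype (IrrCharacter K) := Fintype.ofFinite _
  rw [inducedIrrAbove_eq_image]
  exact Finset.finite_toSet _

/-- `irrAbove K A` is a union of fibres of induction when `A` is normal. -/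
theorem irrAbove_fibre [Fintype (IrrCharacter K)] (A : Subgroup L) [hA : A.Normal]
    (θ : IrrCharacter K) (hθ : θ ∈ irrAbove K A) (θ' : IrrCharacter K)
    (h : indFun K (θ' : K → ℂ) = indFun K (θ : K → ℂ)) : θ' ∈ irrAbove K A := by
  obtain ⟨hne, hker⟩ := (mem_irrAbove K A θ).mp hθ
  obtain ⟨g, hg⟩ := exists_conj_of_ind_eq K θ θ' h
  rw [mem_irrAbove]
  have h1 : (θ' : K → ℂ) 1 = (θ : K → ℂ) 1 := by
    rw [hg]
    exact congrArg (θ : K → ℂ) (Subtype.ext (by simp))
  refine ⟨?_, ?_⟩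
  · intro h1'
    apply hne
    funext k
    have := congrFun h1' ⟨g⁻¹ * k * g, by simpa using hK.conj_mem k k.2 g⁻¹⟩
    rw [hg] at this
    simp only at this
    rw [← this]
    exact congrArg (θ : K → ℂ) (Subtype.ext (by simp [mul_assoc]))
  · intro a ha
    rw [h1, hg]
    exact hker ⟨g * a * g⁻¹, hK.conj_mem a a.2 g⟩ (hA.conj_mem a ha g)

/-- The sum of `θ(1)²` over `irrAbove K A`. -/
theorem sum_sq_irrAbove [Fintype (IrrCharacter K)] (A : Subgroup L) [hA : A.Normal] :
    ∑ θ ∈ irrAbove K A, ((θ : K → ℂ) 1) ^ 2 = (A.relIndex K : ℂ) - 1 := by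
  classical
  have : Fintype K := Fintype.ofFinite _
  have hN : (A.subgroupOf K).Normal := inferInstance
  have h := sum_sq_degree_kernel (A.subgroupOf K)
  have hone : (⟨fun _ => 1, Cfsg.Agent.Lib.Helper3.isIrrCharacter_one⟩ : IrrCharacter K) ∈
      Finset.univ.filter (fun θ : IrrCharacter K =>
        ∀ a : A.subgroupOf K, (θ : K → ℂ) a = (θ : K → ℂ) 1) := by
    rw [Finset.mem_filter]
    exact ⟨Finset.mem_univ _, fun _ => rfl⟩
  rw [← Finset.add_sum_erase _ _ hone] at h
  have heq : (Finset.univ.filter (fun θ : IrrCharacter K =>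
        ∀ a : A.subgroupOf K, (θ : K → ℂ) a = (θ : K → ℂ) 1)).erase
        (⟨fun _ => 1, Cfsg.Agent.Lib.Helper3.isIrrCharacter_one⟩ : IrrCharacter K) =
      irrAbove K A := by
    ext θ
    rw [Finset.mem_erase, Finset.mem_filter, mem_irrAbove]
    simp only [Finset.mem_univ, true_and]
    constructor
    · rintro ⟨h1, h2⟩
      refine ⟨fun h => h1 (Subtype.ext h), fun a ha => h2 ⟨a, ha⟩⟩
    · rintro ⟨h1, h2⟩
      refine ⟨fun h => h1 (congrArg Subtype.val h), fun a => h2 a.1 a.2⟩
  rw [heq] at h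
  have hidx : (A.subgroupOf K).index = A.relIndex K := rfl
  rw [hidx] at h
  rw [← h]
  simp

end IndIrr3

section IndIrr4

variable {L : Type*} [Group L] [Fintype L] (K : Subgroup L) [hK : K.Normal]

open Classical in
/-- The sum of `φ(1)²/‖φ‖²` over the characters induced from a set `T` of irreducible characters
of `K` that is a union of fibres of induction equals `|L : K| ∑_{θ ∈ T} θ(1)²`. -/
theorem sum_image_ind [Fintype (IrrCharacter K)] (T : Finset (IrrCharacter K))
    (hT : ∀ θ ∈ T, ∀ θ' : IrrCharacter K,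
      indFun K (θ' : K → ℂ) = indFun K (θ : K → ℂ) → θ' ∈ T)
    (d n : (L → ℂ) → ℕ) (deg : IrrCharacter K → ℕ)
    (hdeg : ∀ θ : IrrCharacter K, (θ : K → ℂ) 1 = (deg θ : ℂ))
    (hd : ∀ θ ∈ T, indFun K (θ : K → ℂ) 1 = (d (indFun K (θ : K → ℂ)) : ℂ))
    (hn : ∀ θ ∈ T, classInner (indFun K (θ : K → ℂ)) (indFun K (θ : K → ℂ)) =
      (n (indFun K (θ : K → ℂ)) : ℂ)) :
    ∑ φ ∈ T.image (fun θ : IrrCharacter K => indFun K (θ : K → ℂ)),
      ((d φ : ℝ) ^ 2 / (n φ : ℝ)) = (K.index : ℝ) * ∑ θ ∈ T, (deg θ : ℝ) ^ 2 := by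
  rw [Finset.mul_sum]
  apply Finset.sum_image'
  intro θ hθ
  set fib := (Finset.univ.filter (fun θ' : IrrCharacter K =>
        indFun K (θ' : K → ℂ) = indFun K (θ : K → ℂ))).card with hfib
  have hfilter : T.filter (fun θ' : IrrCharacter K => indFun K (θ' : K → ℂ) = indFun K (θ : K → ℂ)) =
      Finset.univ.filter (fun θ' : IrrCharacter K =>
        indFun K (θ' : K → ℂ) = indFun K (θ : K → ℂ)) := by
    ext θ'
    simp only [Finset.mem_filter, Finset.mem_univ, true_and]
    constructor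
    · intro h; exact h.2
    · intro h; exact ⟨hT θ hθ θ' h, h⟩
  have hdegeq : ∀ θ' ∈ T.filter (fun θ' : IrrCharacter K => indFun K (θ' : K → ℂ) = indFun K (θ : K → ℂ)),
      (K.index : ℝ) * (deg θ' : ℝ) ^ 2 = (K.index : ℝ) * (deg θ : ℝ) ^ 2 := by
    intro θ' hθ'
    have h1 := degree_eq_of_ind_eq K (Finset.mem_filter.mp hθ').2
    rw [hdeg, hdeg] at h1
    have h2 : deg θ' = deg θ := by exact_mod_cast h1
    rw [h2]
  rw [Finset.sum_congr rfl hdegeq, Finset.sum_const, hfilter, ← hfib, nsmul_eq_mul]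
  -- natural number identities
  have hnf : n (indFun K (θ : K → ℂ)) * fib = K.index := by
    have := norm_mul_card_fibre K θ
    rw [hn θ hθ] at this
    exact_mod_cast this
  have hdk : d (indFun K (θ : K → ℂ)) = K.index * deg θ := by
    have := hd θ hθ
    rw [indIrr_apply_one, hdeg] at this
    exact_mod_cast this.symm
  have hn0 : (n (indFun K (θ : K → ℂ)) : ℝ) ≠ 0 := by
    have hidx : K.index ≠ 0 := Subgroup.index_ne_zero_of_finite
    have : n (indFun K (θ : K → ℂ)) ≠ 0 := by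
      intro h0
      rw [h0, zero_mul] at hnf
      exact hidx hnf.symm
    exact_mod_cast this
  rw [hdk, ← hnf]
  push_cast
  field_simp

end IndIrr4

end Cfsg.Agent.Lib.Helper25
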