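import Cfsg.Agent.Lib.Helper25.TIFrob
import Cfsg.Agent.Lib.Helper25.Coherence
import Cfsg.Agent.Lib.Helper25.IndIrr3
import Cfsg.Agent.Lib.Helper3.OddOrder
import Cfsg.Agent.Lib.Helper75.CliffordCorr

set_option autoImplicit false
set_option linter.unusedSectionVars false
set_option linter.style.haveILetI false

/-!
Preparations for Sibley's theorem: the isometry given by induction from the normalizer of a
TI-subgroup.
-/

namespace Cfsg.Agent.Lib.Helper25

open Cfsg
open scoped ComplexConjugate

section PrepL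

variable {L : Type*} [Group L] [Fintype L] (K : Subgroup L) [hK : K.Normal]

/-- members of `zspan S` are class functions vanishing off `K` -/
theorem zspan_induced_props {f : L → ℂ} (hf : f ∈ zspan (inducedIrrAbove K ⊥)) :
    IsClassFunction L f ∧ ∀ x : L, x ∉ K → f x = 0 := by
  induction hf using Submodule.span_induction with
  | mem x hx =>
    obtain ⟨θ, -, -, -, rfl⟩ := hx
    exact ⟨indFun_isClassFunction K θ, fun x hx => indFun_normal_of_not_mem K θ hx⟩
  | zero => exact ⟨fun _ _ => rfl, fun _ _ => rfl⟩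
  | add x y _ _ hx hy =>
    refine ⟨fun g h => ?_, fun z hz => ?_⟩
    · rw [Pi.add_apply, Pi.add_apply, hx.1, hy.1]
    · rw [Pi.add_apply, hx.2 z hz, hy.2 z hz, add_zero]
  | smul n x _ hx =>
    refine ⟨fun g h => ?_, fun z hz => ?_⟩
    · rw [Pi.smul_apply, Pi.smul_apply, hx.1]
    · rw [Pi.smul_apply, hx.2 z hz, smul_zero]

/-- members of `S` are not real when `L` has odd order and `K ≠ ⊤` -/
theorem induced_conj_ne (hodd : Odd (Nat.card L)) (hKtop : K ≠ ⊤) {χ : L → ℂ}
    (hχ : χ ∈ inducedIrrAbove K ⊥) (hirr : IsIrrCharacter L χ) : conjFun χ ≠ χ := by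
  intro h
  have hreal : ∀ g : L, (χ g).im = 0 := by
    intro g
    have := congrFun h g
    rw [conjFun_apply] at this
    exact Complex.conj_eq_iff_im.mp this
  have h1 := Cfsg.Agent.Lib.Helper3.eq_one_of_real_of_odd hodd hirr hreal
  obtain ⟨x, hx⟩ : ∃ x : L, x ∉ K := by
    by_contra hall
    push Not at hall
    exact hKtop (eq_top_iff.mpr (fun x _ => hall x))
  have h2 := (zspan_induced_props K (subset_zspan hχ)).2 x hx
  rw [h1] at h2
  exact one_ne_zero h2

end PrepL

section PrepG

variable {G : Type*} [Group G] [Fintype G] (H L : Subgroup G) [Fintype L]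

/-- induction to `G` sends `zspan S` to generalized characters -/
theorem zspan_induced_genChar {f : L → ℂ}
    (hf : f ∈ zspan (inducedIrrAbove (H.subgroupOf L) ⊥)) :
    IsGeneralizedCharacter G (indFun L f) := by
  induction hf using Submodule.span_induction with
  | mem x hx =>
    obtain ⟨θ, hθ, -, -, rfl⟩ := hx
    apply genChar_of_char
    apply Cfsg.Agent.Lib.Helper3.isCharacter_indFun L
    exact Cfsg.Agent.Lib.Helper3.isCharacter_indFun _
      (Cfsg.Agent.Lib.Helper3.IsIrrCharacter.isCharacter hθ)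
  | zero => rw [indFun_zero]; exact genChar_zero
  | add x y _ _ hx hy => rw [indFun_add]; exact genChar_add hx hy
  | smul n x _ hx =>
    rw [← Int.cast_smul_eq_zsmul ℂ n x, indFun_smul]
    exact genChar_intCast_smul hx n

/-- induction from `L = N_G(H)` is a linear isometry on the members of `zspan S` vanishing
at `1` -/
theorem ti_isometryOn [hKn : (H.subgroupOf L).Normal] (hTI : IsTISubset (H : Set G))
    (hN : Subgroup.normalizer (H : Set G) = L) :
    IsLinearIsometryOn (zspanOn (inducedIrrAbove (H.subgroupOf L) ⊥) ({1}ᶜ : Set L))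
      (fun α : L → ℂ => indFun L α) ∧
    ∀ α ∈ zspanOn (inducedIrrAbove (H.subgroupOf L) ⊥) ({1}ᶜ : Set L), indFun L α 1 = 0 := by
  refine ⟨⟨?_, ?_, ?_, ?_⟩, ?_⟩
  · intro α _ β _
    exact indFun_add L α β
  · intro α _ n
    show indFun L (n • α) = n • indFun L α
    rw [← Int.cast_smul_eq_zsmul ℂ n α, indFun_smul, Int.cast_smul_eq_zsmul]
  · intro α hα β hβ
    have hα' := zspan_induced_props (H.subgroupOf L) hα.1
    have hβ' := zspan_induced_props (H.subgroupOf L) hβ.1
    have hα1 : α 1 = 0 := (mem_zspanOn_one.mp hα).2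
    exact ti_inner_ind H L hTI hN α β hβ'.1
      (fun x hx => hβ'.2 x (fun h => hx (Subgroup.mem_subgroupOf.mp h)))
      (fun x hx => hα'.2 x (fun h => hx (Subgroup.mem_subgroupOf.mp h))) hα1
  · intro α hα
    exact zspan_induced_genChar H L hα.1
  · intro α hα
    have hα1 : α 1 = 0 := (mem_zspanOn_one.mp hα).2
    rw [Cfsg.Agent.Lib.Helper75.indFun_apply_one, hα1, mul_zero]

end PrepG

end Cfsg.Agent.Lib.Helper25
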