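import Cfsg.Agent.S1535
import Cfsg.Agent.Lib.Helper25.RelBridge
import Cfsg.Agent.Lib.Helper25.FrobInvol
import Cfsg.Agent.Lib.Helper25.FrobTrans
import Cfsg.Agent.Lib.Helper25.SibleyPrep

set_option autoImplicit false
set_option linter.unusedSectionVars false
set_option linter.style.haveILetI false

namespace Cfsg.Agent.Lib.Helper25

open Cfsg
open scoped ComplexConjugate Pointwise

section FeitSibley

variable {G : Type*} [Group G] [Fintype G]

set_option maxHeartbeats 1000000 in
/-- The Feit–Sibley coherence theorem for a nilpotent TI-subgroup with Frobenius normaliser: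
master version. -/
theorem feit_sibley_master (K L : Subgroup G) [Fintype L]
    (hN : Subgroup.normalizer (K : Set G) = L) (hK1 : K ≠ ⊥)
    (hTI : IsTISubset (K : Set G)) (hlt : K < L)
    (hC : ∀ k ∈ K, k ≠ 1 → Subgroup.centralizer ({k} : Set G) ≤ K) :
    (Nat.card {χ : L → ℂ // IsIrrCharacter L χ ∧ ∃ k : L, (k : G) ∈ K ∧ χ k ≠ χ 1} = 1 ∧
      Nat.card K = (K.subgroupOf L).index + 1 ∧
      ∃ p : ℕ, p.Prime ∧ IsElementaryAbelian p K) ∨
    ((∃ m : ℕ, Nat.card K = 2 ^ m) ∧
      (⁅K, K⁆.subgroupOf K).index ≤ 4 * (K.subgroupOf L).index ^ 2 + 1) ∨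
    IsCoherent {χ : L → ℂ | IsIrrCharacter L χ ∧ ∃ k : L, (k : G) ∈ K ∧ χ k ≠ χ 1} {1}ᶜ
      (fun α : L → ℂ => indFun L α) := by
  classical
  have hKL : K ≤ L := hlt.le
  have hHn : ∀ x ∈ L, ∀ h ∈ K, x * h * x⁻¹ ∈ K := by
    intro x hx h hh
    rw [← hN] at hx
    have := Subgroup.mem_normalizer_iff.mp hx h
    exact this.mp hh
  have hfrob : ∀ h ∈ K, h ≠ 1 → L ⊓ Subgroup.centralizer ({h} : Set G) ≤ K :=
    fun h hh h1 => inf_le_right.trans (hC h hh h1)
  obtain ⟨hirr, hbridge⟩ := frobC_induced_eq_relevant K L hlt hK1 hHn hfrob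
  obtain ⟨W₁, hW₁L, hW1, hnil, hinf, hsup, hfpf⟩ :=
    frobC_exists_complement K L hlt hK1 hHn hfrob
  set H := K.subgroupOf L with hH
  set W := W₁.subgroupOf L with hW
  haveI hHnorm : H.Normal := ⟨fun n hn g => by
    rw [hH, Subgroup.mem_subgroupOf] at hn ⊢
    have := hHn g g.2 n hn
    simpa using this⟩
  have hH1 : H ≠ ⊥ := by
    intro h
    apply hK1
    rw [eq_bot_iff]
    intro x hx
    have : (⟨x, hKL hx⟩ : L) ∈ H := Subgroup.mem_subgroupOf.mpr hx
    rw [h, Subgroup.mem_bot] at this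
    rw [Subgroup.mem_bot]
    exact congrArg Subtype.val this
  have hH2 : H ≠ ⊤ := by
    intro h
    rw [hH, Subgroup.subgroupOf_eq_top] at h
    exact hlt.not_ge h
  have hC' : ∀ h ∈ H, h ≠ 1 → Subgroup.centralizer ({h} : Set L) ≤ H := by
    intro h hh h1 x hx
    rw [hH, Subgroup.mem_subgroupOf]
    apply hC (h : G) (Subgroup.mem_subgroupOf.mp hh) (fun h' => h1 (Subtype.ext h'))
    rw [Subgroup.mem_centralizer_iff] at hx ⊢
    intro y hy
    rw [Set.mem_singleton_iff] at hy
    rw [hy]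
    have := hx h (Set.mem_singleton h)
    exact congrArg Subtype.val this
  have hcardHK : Nat.card H = Nat.card K :=
    Nat.card_congr (Subgroup.subgroupOfEquivOfLe hKL).toEquiv
  -- the isometry
  obtain ⟨hτiso, hτ1⟩ := ti_isometryOn K L hTI hN
  rw [hbridge] at hτiso hτ1
  have hsetEq : {χ : L → ℂ | IsIrrCharacter L χ ∧ ∃ k : L, (k : G) ∈ K ∧ χ k ≠ χ 1} =
      {χ : L → ℂ | IsIrrCharacter L χ ∧ ∃ h ∈ H, χ h ≠ χ 1} := by
    ext χ
    simp only [Set.mem_ofPred_eq]
    constructor
    · rintro ⟨h1, z, hz, hne⟩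
      exact ⟨h1, z, Subgroup.mem_subgroupOf.mpr hz, hne⟩
    · rintro ⟨h1, z, hz, hne⟩
      exact ⟨h1, z, Subgroup.mem_subgroupOf.mp hz, hne⟩
  -- complement data
  have hinf' : H ⊓ W = ⊥ := by
    rw [eq_bot_iff]
    intro x hx
    rw [Subgroup.mem_bot]
    have h1 : (x : G) ∈ K ⊓ W₁ :=
      ⟨Subgroup.mem_subgroupOf.mp hx.1, Subgroup.mem_subgroupOf.mp hx.2⟩
    rw [hinf, Subgroup.mem_bot] at h1
    exact Subtype.ext h1
  have hsup' : H ⊔ W = ⊤ := by
    rw [hH, hW, ← Subgroup.subgroupOf_sup hKL hW₁L, hsup, Subgroup.subgroupOf_self]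
  have hmul : (H : Set L) * (W : Set L) = Set.univ := by
    rw [← Subgroup.normal_mul, hsup', Subgroup.coe_top]
  have hcompl : Subgroup.IsComplement' H W :=
    Subgroup.isComplement'_of_disjoint_and_mul_eq_univ (disjoint_iff.mpr hinf') hmul
  have hindex : H.index = Nat.card W₁ := by
    rw [hcompl.symm.index_eq_card]
    exact Nat.card_congr (Subgroup.subgroupOfEquivOfLe hW₁L).toEquiv
  by_cases he : Nat.card H = H.index + 1
  · -- the exceptional case
    left
    have hcardKW : Nat.card K = Nat.card W₁ + 1 := by rw [← hcardHK, he, hindex]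
    haveI : Finite L := inferInstance
    haveI : Finite K := Finite.of_injective (fun h : K => (⟨h, hKL h.2⟩ : L))
      (fun a b hab => Subtype.ext (congrArg (fun x : L => (x : G)) hab))
    haveI : Finite W₁ := Finite.of_injective (fun h : W₁ => (⟨h, hW₁L h.2⟩ : L))
      (fun a b hab => Subtype.ext (congrArg (fun x : L => (x : G)) hab))
    refine ⟨?_, by rw [← hcardHK, he], ?_⟩
    · -- exactly one character
      haveI : Finite (IrrCharacter L) := Cfsg.Agent.Lib.Helper3.irrCharacter_finite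
      haveI := Fintype.ofFinite (IrrCharacter L)
      have hsum := Cfsg.Agent.Lib.Helper76.sum_relIrr H (⊥ : Subgroup L) bot_le
      rw [Subgroup.relIndex_bot_left, he] at hsum
      have hsum' : ∑ χ ∈ Cfsg.Agent.Lib.Helper76.relIrr H ⊥,
          Cfsg.Agent.Lib.Helper76.natDeg χ ^ 2 = H.index ^ 2 := by
        have : (H.index + 1) * H.index = H.index ^ 2 + H.index := by ring
        rw [this] at hsum
        exact Nat.add_right_cancel hsum
      have hge : ∀ χ ∈ Cfsg.Agent.Lib.Helper76.relIrr H ⊥,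
          H.index ^ 2 ≤ Cfsg.Agent.Lib.Helper76.natDeg χ ^ 2 := by
        intro χ hχ
        have h1 := Cfsg.Agent.Lib.Helper76.index_dvd_natDeg H hC' hχ
        have h2 := Cfsg.Agent.Lib.Helper76.natDeg_pos
          ((Cfsg.Agent.Lib.Helper76.mem_relIrr H).mp hχ).1
        exact Nat.pow_le_pow_left (Nat.le_of_dvd h2 h1) 2
      have he0 : 0 < H.index := Nat.pos_of_ne_zero Subgroup.index_ne_zero_of_finite
      have hcard1 : (Cfsg.Agent.Lib.Helper76.relIrr H ⊥).card = 1 := by
        have h1 : (Cfsg.Agent.Lib.Helper76.relIrr H ⊥).card * H.index ^ 2 ≤ H.index ^ 2 := by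
          have h0 : (Cfsg.Agent.Lib.Helper76.relIrr H ⊥).card * H.index ^ 2 ≤
              ∑ χ ∈ Cfsg.Agent.Lib.Helper76.relIrr H ⊥,
                Cfsg.Agent.Lib.Helper76.natDeg χ ^ 2 := by
            rw [← smul_eq_mul, ← Finset.sum_const]
            exact Finset.sum_le_sum hge
          rwa [hsum'] at h0
        have hpos : 0 < H.index ^ 2 := pow_pos he0 2
        have h2 : (Cfsg.Agent.Lib.Helper76.relIrr H ⊥).card ≤ 1 := by
          by_contra hgt
          push Not at hgt
          have : 2 * H.index ^ 2 ≤ (Cfsg.Agent.Lib.Helper76.relIrr H ⊥).card * H.index ^ 2 :=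
            Nat.mul_le_mul_right _ hgt
          omega
        have h3 : (Cfsg.Agent.Lib.Helper76.relIrr H ⊥).card ≠ 0 := by
          intro h0
          rw [Finset.card_eq_zero] at h0
          rw [h0, Finset.sum_empty] at hsum'
          omega
        omega
      have hcoe := Cfsg.Agent.Lib.Helper76.coe_relIrr_bot H
      rw [← hsetEq] at hcoe
      have h4 : Nat.card {χ : L → ℂ // IsIrrCharacter L χ ∧ ∃ k : L, (k : G) ∈ K ∧ χ k ≠ χ 1} =
          Nat.card ↥(↑(Cfsg.Agent.Lib.Helper76.relIrr H ⊥) : Set (L → ℂ)) := by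
        rw [hcoe]
        rfl
      rw [h4, Nat.card_coe_set_eq, Set.ncard_coe_finset, hcard1]
    · -- elementary abelian
      refine frobC_elementaryAbelian K W₁ hfpf (fun w hw h hh => hHn w (hW₁L hw) h hh) hcardKW
        hnil hK1
  · right
    have hτiso' := hτiso
    have hτ1' := hτ1
    rw [hsetEq] at hτiso' hτ1' ⊢
    rcases Cfsg.Agent.S1535.result H hH1 hH2 hC' he (fun α : L → ℂ => indFun L α) hτiso' hτ1'
      with hcoh | ⟨p, hp, ⟨m, hm⟩, hna, hidx⟩
    · right
      exact hcoh
    · have hna' : ¬ ∀ a ∈ K, ∀ b ∈ K, a * b = b * a := by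
        intro hab
        apply hna
        refine ⟨⟨fun a b => ?_⟩⟩
        apply Subtype.ext
        apply Subtype.ext
        have := hab (a : L) (Subgroup.mem_subgroupOf.mp a.2) (b : L) (Subgroup.mem_subgroupOf.mp b.2)
        simpa using this
      by_cases hp2 : p = 2
      · left
        refine ⟨⟨m, by rw [← hcardHK, hm, hp2]⟩, ?_⟩
        have hmapH : H.map L.subtype = K := Subgroup.map_subgroupOf_eq_of_le hKL
        have hmapC : (⁅H, H⁆ : Subgroup L).map L.subtype = ⁅K, K⁆ := by
          rw [Subgroup.map_commutator, hmapH]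
        have hrel : (⁅K, K⁆ : Subgroup G).relIndex K = (⁅H, H⁆ : Subgroup L).relIndex H := by
          rw [← hmapC, ← hmapH]
          exact Subgroup.relIndex_map_map_of_injective _ _ (Subgroup.subtype_injective L)
        show (⁅K, K⁆ : Subgroup G).relIndex K ≤ _
        rw [hrel]
        exact hidx
      · right
        have hKodd : Odd (Nat.card K) := by
          rw [← hcardHK, hm]
          exact (hp.odd_of_ne_two hp2).pow
        have hodd : Odd (Nat.card L) :=
          odd_card_of_nonabelian_kernel K L hKL hHn hfrob hKodd hna'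
        have hcoh := sibley_of_centralizer K L hodd hlt hK1 hHn hfrob hTI hN
        rw [hbridge, hsetEq] at hcoh
        exact hcoh

end FeitSibley

end Cfsg.Agent.Lib.Helper25
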