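import Mathlib

/-! # Oc hive (helper44, S5977/S5978), sub-lemma OC-T1H of helper10's OC-T1 part A (helper25):
in `E = F(√δ)` (`δ` a non-square of the finite field `F` of odd characteristic) every element whose norm is a
non-zero square of `F` is a square of `E`. -/

set_option autoImplicit false
set_option linter.unusedSimpArgs false
set_option linter.unusedVariables false

namespace Cfsg.Agent.Lib.Helper44.Oc

theorem t1h_ringChar_ne_two {F : Type*} [Field F] (h2 : (2 : F) ≠ 0) : ringChar F ≠ 2 := by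
  intro h
  apply h2
  have h1 := CharP.cast_eq_zero F (ringChar F)
  rw [h] at h1
  exact_mod_cast h1

/-- every non-zero element of `F` is a square in `E` -/
theorem t1h_sq_of_base {F : Type*} [Field F] [Fintype F] (h2 : (2 : F) ≠ 0) (δ : F)
    (hδ : ¬ IsSquare δ) (f : F) (hf : f ≠ 0) :
    ∃ e : QuadraticAlgebra F δ 0, e ^ 2 = ⟨f, 0⟩ := by
  have hF := t1h_ringChar_ne_two h2
  have hδ0 : δ ≠ 0 := by
    rintro rfl
    exact hδ ⟨0, (mul_zero 0).symm⟩
  by_cases hs : IsSquare f
  · obtain ⟨s, hs⟩ := hs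
    refine ⟨⟨s, 0⟩, ?_⟩
    ext <;> simp [pow_two, hs]
  · have h1 : f ^ (Fintype.card F / 2) = -1 := by
      rcases FiniteField.pow_dichotomy hF hf with h | h
      · exact absurd ((FiniteField.isSquare_iff hF hf).2 h) hs
      · exact h
    have h3 : δ ^ (Fintype.card F / 2) = -1 := by
      rcases FiniteField.pow_dichotomy hF hδ0 with h | h
      · exact absurd ((FiniteField.isSquare_iff hF hδ0).2 h) hδ
      · exact h
    have h4 : IsSquare (f / δ) := by
      rw [FiniteField.isSquare_iff hF (div_ne_zero hf hδ0), div_pow, h1, h3]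
      simp
    obtain ⟨g, hg⟩ := h4
    rw [div_eq_iff hδ0] at hg
    refine ⟨⟨0, g⟩, ?_⟩
    ext
    · simp [pow_two]
      rw [hg]
      ring
    · simp [pow_two]

/-- OC-T1H -/
theorem t1c_sq_of_norm_sq {F : Type*} [Field F] [Fintype F] (h2 : (2 : F) ≠ 0) (δ : F)
    (hδ : ¬ IsSquare δ) (x : QuadraticAlgebra F δ 0) (m : F) (hm : m ≠ 0)
    (hx : QuadraticAlgebra.norm x = m ^ 2) : ∃ e : QuadraticAlgebra F δ 0, x = e ^ 2 := by
  have hδ0 : δ ≠ 0 := by
    rintro rfl
    exact hδ ⟨0, (mul_zero 0).symm⟩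
  rw [QuadraticAlgebra.norm_def] at hx
  have hx' : δ * x.im * x.im = x.re * x.re - m ^ 2 := by
    linear_combination (-1 : F) * hx
  by_cases hp : x.re = -m
  · have him : x.im = 0 := by
      rw [hp] at hx'
      have h0 : δ * (x.im * x.im) = 0 := by
        rw [← mul_assoc, hx']
        ring
      rcases mul_eq_zero.1 h0 with h | h
      · exact absurd h hδ0
      · exact mul_self_eq_zero.1 h
    obtain ⟨e, he⟩ := t1h_sq_of_base h2 δ hδ (-m) (neg_ne_zero.2 hm)
    refine ⟨e, ?_⟩
    rw [he]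
    ext
    · exact hp
    · exact him
  · have hne : m + x.re ≠ 0 := fun h => hp (eq_neg_of_add_eq_zero_right h)
    have hf : (2 * (m + x.re))⁻¹ ≠ 0 := inv_ne_zero (mul_ne_zero h2 hne)
    obtain ⟨e₀, he₀⟩ := t1h_sq_of_base h2 δ hδ _ hf
    refine ⟨e₀ * ⟨m + x.re, x.im⟩, ?_⟩
    rw [mul_pow, he₀]
    ext
    · simp only [pow_two, QuadraticAlgebra.re_mul, QuadraticAlgebra.im_mul]
      simp only [zero_mul, mul_zero, add_zero]
      rw [hx']
      field_simp
      ring
    · simp only [pow_two, QuadraticAlgebra.re_mul, QuadraticAlgebra.im_mul]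
      simp only [zero_mul, mul_zero, add_zero, zero_add]
      field_simp
      ring

end Cfsg.Agent.Lib.Helper44.Oc
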