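import Mathlib
import Cfsg.Agent.Lib.Helper6.Nc.Defs

/-!
# NC-FIELD (Nc hive, S3894): a finite field with at least 4 elements all of whose units have
2-power order contains a square root of `-1` and has characteristic `≠ 2`
-/

set_option autoImplicit false
set_option linter.unusedVariables false
set_option linter.unusedSimpArgs false
set_option linter.unusedSectionVars false

namespace Cfsg.Agent.Lib.Helper6.Nc

open Matrix

variable {F : Type*} [Field F]

/-- NC-FIELD. -/
theorem nc_field [Fintype F] (h4 : 4 ≤ Fintype.card F)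
    (hno : ¬ ∃ a : Fˣ, ∀ k : ℕ, a ^ (2 ^ k) ≠ 1) :
    ∃ i : Fˣ, (i : F) * i = -1 ∧ (2 : F) ≠ 0 := by
  classical
  have hno' : ∀ a : Fˣ, ∃ k : ℕ, a ^ (2 ^ k) = 1 := by
    intro a
    by_contra hc
    exact hno ⟨a, fun k hk => hc ⟨k, hk⟩⟩
  obtain ⟨g, hg⟩ := IsCyclic.exists_generator (α := Fˣ)
  have hord : orderOf g = Fintype.card F - 1 := by
    rw [orderOf_eq_card_of_forall_mem_zpowers hg, Nat.card_eq_fintype_card, Fintype.card_units]
  obtain ⟨k, hk⟩ := hno' g
  have hdvd : orderOf g ∣ 2 ^ k := orderOf_dvd_of_pow_eq_one hk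
  obtain ⟨m, hmk, hm⟩ := (Nat.dvd_prime_pow Nat.prime_two).1 hdvd
  have hm2 : 2 ≤ m := by
    by_contra hlt
    have h01 : m = 0 ∨ m = 1 := by omega
    rcases h01 with rfl | rfl
    · rw [hm] at hord; simp at hord; omega
    · rw [hm] at hord; simp at hord; omega
  set i : Fˣ := g ^ (2 ^ (m - 2)) with hi
  have hi4 : i ^ 4 = 1 := by
    rw [hi, ← pow_mul]
    have h1 : 2 ^ (m - 2) * 4 = 2 ^ m := by
      have h2 : m = (m - 2) + 2 := by omega
      conv_rhs => rw [h2, pow_add]
      norm_num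
    rw [h1, ← hm]; exact pow_orderOf_eq_one g
  have hi2 : i ^ 2 ≠ 1 := by
    intro h
    rw [hi, ← pow_mul] at h
    have h1 : orderOf g ∣ 2 ^ (m - 2) * 2 := orderOf_dvd_of_pow_eq_one h
    rw [hm] at h1
    have h2 : 2 ^ (m - 2) * 2 = 2 ^ (m - 1) := by
      have h3 : m - 1 = (m - 2) + 1 := by omega
      rw [h3, pow_succ]
    rw [h2] at h1
    have h4' := (Nat.pow_dvd_pow_iff_le_right (by norm_num : 1 < 2)).1 h1
    omega
  have hx4 : (i : F) ^ 4 = 1 := by
    have := congrArg (fun u : Fˣ => (u : F)) hi4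
    simpa using this
  have hx2 : (i : F) ^ 2 ≠ 1 := by
    intro h
    apply hi2
    apply Units.ext
    simpa using h
  have hfac : ((i : F) ^ 2 - 1) * ((i : F) ^ 2 + 1) = 0 := by
    have : ((i : F) ^ 2 - 1) * ((i : F) ^ 2 + 1) = (i : F) ^ 4 - 1 := by ring
    rw [this, hx4, sub_self]
  have hneg : (i : F) * i = -1 := by
    rcases mul_eq_zero.1 hfac with h | h
    · exact absurd (sub_eq_zero.1 h) hx2
    · have := eq_neg_of_add_eq_zero_left h
      rw [← this]; ring
  refine ⟨i, hneg, ?_⟩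
  intro h2
  apply hx2
  have h11 : (-1 : F) = 1 := by
    have : (1 : F) + 1 = 0 := by rw [one_add_one_eq_two]; exact h2
    exact neg_eq_of_add_eq_zero_left this
  rw [pow_two, hneg, h11]

end Cfsg.Agent.Lib.Helper6.Nc
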