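import Mathlib
import Cfsg.Agent.Lib.Helper6.Nc.Defs

/-!
# NC-VEC (Nc hive, S3894): the points of the projective line as vectors
-/

set_option autoImplicit false
set_option linter.unusedVariables false
set_option linter.unusedSimpArgs false
set_option linter.unusedSectionVars false

namespace Cfsg.Agent.Lib.Helper6.Nc

open Matrix

variable {F : Type*} [Field F]

theorem ncvec_coe_toGL (A : Matrix.SpecialLinearGroup (Fin 2) F) :
    ((Matrix.SpecialLinearGroup.toGL A : GL (Fin 2) F) : Matrix (Fin 2) (Fin 2) F) =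
      (A : Matrix (Fin 2) (Fin 2) F) := rfl

/-- NC-VEC (a). -/
theorem vec_ne_zero (x : Option F) : vec x ≠ 0 := by
  cases x with
  | none =>
    intro h
    have := congrFun h 0
    simp [vec] at this
  | some c =>
    intro h
    have := congrFun h 1
    simp [vec] at this

theorem ncvec_lineStab_smul {n : ℕ} (c : F) (hc : c ≠ 0) (w : Fin n → F) :
    lineStab (c • w) = lineStab w := by
  ext g
  rw [mem_lineStab, mem_lineStab]
  constructor
  · rintro ⟨d, hd⟩
    refine ⟨d, ?_⟩
    rw [Matrix.mulVec_smul, smul_comm (d : F) c w] at hd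
    have := congrArg (fun z => c⁻¹ • z) hd
    simp only [smul_smul, inv_mul_cancel₀ hc, one_smul] at this
    rw [← smul_smul, ← smul_smul, smul_smul c⁻¹ c, inv_mul_cancel₀ hc, one_smul] at this
    exact this
  · rintro ⟨d, hd⟩
    refine ⟨d, ?_⟩
    rw [Matrix.mulVec_smul, hd, smul_comm]

/-- NC-VEC (b).  Every nonzero `v` is proportional to some `vec x`. -/
theorem vec_cover (v : Fin 2 → F) (hv : v ≠ 0) : ∃ x : Option F, lineStab v = lineStab (vec x) := by
  by_cases h1 : v 1 = 0
  · have h0 : v 0 ≠ 0 := by
      intro h0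
      apply hv
      ext j
      fin_cases j
      · exact h0
      · exact h1
    refine ⟨none, ?_⟩
    have : v = v 0 • vec (none : Option F) := by
      ext j
      fin_cases j
      · simp [vec]
      · simp [vec, h1]
    conv_lhs => rw [this]
    rw [ncvec_lineStab_smul _ h0]
  · refine ⟨some (v 0 / v 1), ?_⟩
    have : v = v 1 • vec (some (v 0 / v 1)) := by
      ext j
      fin_cases j
      · simp [vec]; field_simp
      · simp [vec]
    conv_lhs => rw [this]
    rw [ncvec_lineStab_smul _ h1]

/-- NC-VEC (c). -/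
theorem vec_proper (x : Option F) : ∃ t : Matrix.SpecialLinearGroup (Fin 2) F,
    Matrix.SpecialLinearGroup.toGL t ∉ lineStab (vec x) := by
  cases x with
  | none =>
    refine ⟨uL F, ?_⟩
    rintro ⟨c, hc⟩
    have h1 := congrFun hc 1
    rw [ncvec_coe_toGL] at h1
    simp [uL, vec, Matrix.mulVec, dotProduct, Fin.sum_univ_two] at h1
  | some a =>
    refine ⟨uU F, ?_⟩
    rintro ⟨c, hc⟩
    have h1 := congrFun hc 1
    have h0 := congrFun hc 0
    rw [ncvec_coe_toGL] at h1 h0
    simp [uU, vec, Matrix.mulVec, dotProduct, Fin.sum_univ_two] at h1 h0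
    rw [← h1] at h0
    simp at h0

/-- NC-VEC (d). -/
theorem vec_inj (x y : Option F) (h : ∃ c : Fˣ, vec x = (c : F) • vec y) : x = y := by
  obtain ⟨c, hc⟩ := h
  cases x with
  | none =>
    cases y with
    | none => rfl
    | some b =>
      have h1 := congrFun hc 1
      simp [vec] at h1
      exact absurd h1.symm c.ne_zero
  | some a =>
    cases y with
    | none =>
      have h1 := congrFun hc 1
      simp [vec] at h1
    | some b =>
      have h1 := congrFun hc 1
      have h0 := congrFun hc 0
      simp [vec] at h1 h0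
      rw [← h1] at h0
      simp at h0
      rw [h0]

/-- NC-VEC (e). -/
theorem sig_vec (x : Option F) :
    ((sig x : Matrix.SpecialLinearGroup (Fin 2) F) : Matrix (Fin 2) (Fin 2) F) *ᵥ ![(1 : F), 0] = vec x := by
  cases x with
  | none => simp [sig, vec]
  | some c =>
    ext j
    fin_cases j <;> simp [sig, vec, Matrix.mulVec, dotProduct, Fin.sum_univ_two]

/-- NC-VEC (f). -/
theorem sig_some_zero :
    Matrix.SpecialLinearGroup.toGL (sig (some (0 : F))) * uUg F *
      (Matrix.SpecialLinearGroup.toGL (sig (some (0 : F))))⁻¹ = (uLg F)⁻¹ := by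
  rw [mul_inv_eq_iff_eq_mul, eq_inv_mul_iff_mul_eq]
  apply Units.ext
  rw [Units.val_mul, Units.val_mul, coe_uUg, coe_uLg, ncvec_coe_toGL]
  ext i j
  fin_cases i <;> fin_cases j <;>
    simp [sig, Matrix.mul_apply, Fin.sum_univ_two]

end Cfsg.Agent.Lib.Helper6.Nc
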