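import Mathlib

/-! # Rt hive (helper12, S2359/S1156/S2358), leaf RT-R7CENT sub-leaf R7C-CYC (helper25, for helper52):
a finite group acting faithfully and commuting with an endomorphism `S` whose only invariant subspaces
are `⊥` and `⊤` is cyclic (the centraliser of `S` is a commutative domain). -/

set_option autoImplicit false
set_option linter.unusedSimpArgs false
set_option linter.unusedVariables false
set_option linter.unusedSectionVars false

namespace Cfsg.Agent.Lib.Helper12.Rt

open Polynomial

/-- an endomorphism commuting with `S` which kills a nonzero vector is zero -/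
theorem r7ccyc_ker {K : Type*} [Field K] {V : Type*} [AddCommGroup V] [Module K V]
    (S : Module.End K V)
    (hsimple : ∀ N : Submodule K V, (∀ v ∈ N, S v ∈ N) → N = ⊥ ∨ N = ⊤)
    (A : Module.End K V) (hA : A * S = S * A) (w : V) (hw : w ≠ 0) (hAw : A w = 0) : A = 0 := by
  have hinv : ∀ x ∈ LinearMap.ker A, S x ∈ LinearMap.ker A := by
    intro x hx
    rw [LinearMap.mem_ker] at hx ⊢
    have h1 : A (S x) = S (A x) := by
      have := congrArg (fun T : Module.End K V => T x) hA
      simpa [Module.End.mul_apply] using this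
    rw [h1, hx, map_zero]
  rcases hsimple _ hinv with h | h
  · exfalso
    apply hw
    have hmem : w ∈ LinearMap.ker A := hAw
    rw [h] at hmem
    simpa using hmem
  · exact LinearMap.ker_eq_top.mp h

/-- every vector is `q(S) v` for `v ≠ 0` -/
theorem r7ccyc_cyclic_vector {K : Type*} [Field K] {V : Type*} [AddCommGroup V] [Module K V]
    (S : Module.End K V)
    (hsimple : ∀ N : Submodule K V, (∀ v ∈ N, S v ∈ N) → N = ⊥ ∨ N = ⊤)
    (v : V) (hv : v ≠ 0) (w : V) : ∃ q : K[X], (aeval S q) v = w := by
  let N : Submodule K V :=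
    { carrier := {w | ∃ q : K[X], (aeval S q) v = w}
      add_mem' := by
        rintro _ _ ⟨q1, rfl⟩ ⟨q2, rfl⟩
        exact ⟨q1 + q2, by rw [map_add, LinearMap.add_apply]⟩
      zero_mem' := ⟨0, by rw [map_zero, LinearMap.zero_apply]⟩
      smul_mem' := by
        rintro c _ ⟨q, rfl⟩
        exact ⟨c • q, by rw [map_smul, LinearMap.smul_apply]⟩ }
  have hinv : ∀ x ∈ N, S x ∈ N := by
    rintro _ ⟨q, rfl⟩
    refine ⟨X * q, ?_⟩
    rw [map_mul, aeval_X, Module.End.mul_apply]
  have hvN : v ∈ N := ⟨1, by rw [map_one, Module.End.one_apply]⟩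
  rcases hsimple N hinv with h | h
  · exfalso
    apply hv
    rw [h] at hvN
    simpa using hvN
  · have : w ∈ N := by rw [h]; trivial
    exact this

theorem r7ccyc_aeval_comm {K : Type*} [Field K] {V : Type*} [AddCommGroup V] [Module K V]
    (S : Module.End K V) (q : K[X]) : aeval S q * S = S * aeval S q := by
  have hX : aeval S (X : K[X]) = S := aeval_X S
  calc aeval S q * S = aeval S q * aeval S (X : K[X]) := by rw [hX]
    _ = aeval S (q * X) := (map_mul _ _ _).symm
    _ = aeval S (X * q) := by rw [mul_comm]
    _ = aeval S (X : K[X]) * aeval S q := map_mul _ _ _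
    _ = S * aeval S q := by rw [hX]

/-- every endomorphism commuting with `S` is a polynomial in `S` -/
theorem r7ccyc_poly {K : Type*} [Field K] {V : Type*} [AddCommGroup V] [Module K V]
    [Nontrivial V] (S : Module.End K V)
    (hsimple : ∀ N : Submodule K V, (∀ v ∈ N, S v ∈ N) → N = ⊥ ∨ N = ⊤)
    (A : Module.End K V) (hA : A * S = S * A) : ∃ q : K[X], A = aeval S q := by
  obtain ⟨v, hv⟩ := exists_ne (0 : V)
  obtain ⟨q, hq⟩ := r7ccyc_cyclic_vector S hsimple v hv (A v)
  refine ⟨q, ?_⟩
  have hcomm : (A - aeval S q) * S = S * (A - aeval S q) := by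
    have h1 : aeval S q * S = S * aeval S q := r7ccyc_aeval_comm S q
    rw [sub_mul, mul_sub, hA, h1]
  have := r7ccyc_ker S hsimple (A - aeval S q) hcomm v hv (by
    rw [LinearMap.sub_apply, hq, sub_self])
  exact sub_eq_zero.mp this

theorem r7cent_cyclic_of_simple {K : Type*} [Field K] [Fintype K] {V : Type*} [AddCommGroup V]
    [Module K V] [Module.Finite K V] [Nontrivial V] (S : Module.End K V)
    (hsimple : ∀ N : Submodule K V, (∀ v ∈ N, S v ∈ N) → N = ⊥ ∨ N = ⊤) {H : Type*} [Group H]
    [Finite H] (f : H →* Module.End K V) (hf : Function.Injective f)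
    (hcomm : ∀ h : H, f h * S = S * f h) : IsCyclic H := by
  classical
  obtain ⟨v, hv⟩ := exists_ne (0 : V)
  let R := Subalgebra.centralizer K ({S} : Set (Module.End K V))
  have hmem : ∀ A : Module.End K V, A ∈ R ↔ A * S = S * A := by
    intro A
    rw [Subalgebra.mem_centralizer_iff]
    constructor
    · intro h
      exact (h S rfl).symm
    · intro h g hg
      rw [Set.mem_singleton_iff] at hg
      rw [hg]
      exact h.symm
  have hcommR : ∀ a b : R, a * b = b * a := by
    intro a b
    obtain ⟨q, hq⟩ := r7ccyc_poly S hsimple a.1 ((hmem _).1 a.2)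
    obtain ⟨r, hr⟩ := r7ccyc_poly S hsimple b.1 ((hmem _).1 b.2)
    apply Subtype.ext
    change a.1 * b.1 = b.1 * a.1
    rw [hq, hr, ← map_mul, ← map_mul, mul_comm]
  let _ : CommRing R := { (inferInstance : Ring R) with mul_comm := hcommR }
  have : NoZeroDivisors R := by
    refine ⟨?_⟩
    intro a b hab
    by_contra hne
    push Not at hne
    have hbv : b.1 v ≠ 0 := by
      intro h0
      apply hne.2
      apply Subtype.ext
      exact r7ccyc_ker S hsimple b.1 ((hmem _).1 b.2) v hv h0
    apply hne.1
    apply Subtype.ext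
    apply r7ccyc_ker S hsimple a.1 ((hmem _).1 a.2) (b.1 v) hbv
    have : (a.1 * b.1) v = 0 := by
      have h1 : (a * b).1 = 0 := by rw [hab]; rfl
      have h2 : (a * b).1 = a.1 * b.1 := rfl
      rw [← h2, h1, LinearMap.zero_apply]
    simpa [Module.End.mul_apply] using this
  have : IsDomain R := NoZeroDivisors.to_isDomain R
  let f' : H →* R :=
    { toFun := fun h => ⟨f h, (hmem _).2 (hcomm h)⟩
      map_one' := by
        apply Subtype.ext
        exact map_one f
      map_mul' := by
        intro x y
        apply Subtype.ext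
        exact map_mul f x y }
  have hf' : Function.Injective f' := by
    intro x y hxy
    apply hf
    exact congrArg Subtype.val hxy
  exact isCyclic_of_injective_ringHom f' hf'

end Cfsg.Agent.Lib.Helper12.Rt
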