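import Cfsg.Agent.Lib.Helper25.Ind
import Mathlib.GroupTheory.QuotientGroup.Defs
import Mathlib.GroupTheory.Index
import Mathlib.GroupTheory.Coset.Card

set_option autoImplicit false

/-!
Sums over a group versus sums over a quotient, and induction versus inflation.
-/

namespace Cfsg.Agent.Lib.Helper25

open Cfsg

variable {G : Type*} [Group G]

/-- The map `(q, a) ↦ q.out * a` is a bijection `(G ⧸ A) × A → G`. -/
theorem out_mul_bijective (A : Subgroup G) :
    Function.Bijective (fun p : (G ⧸ A) × A => (p.1.out : G) * (p.2 : G)) := by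
  constructor
  · rintro ⟨q, a⟩ ⟨q', a'⟩ h
    simp only at h
    have hq : q = q' := by
      have h1 : (QuotientGroup.mk (q.out * (a : G)) : G ⧸ A) = QuotientGroup.mk (q'.out * (a' : G)) := by
        rw [h]
      rw [QuotientGroup.mk_mul_of_mem _ a.2, QuotientGroup.mk_mul_of_mem _ a'.2,
        QuotientGroup.out_eq', QuotientGroup.out_eq'] at h1
      exact h1
    subst hq
    have : (a : G) = a' := mul_left_cancel h
    exact Prod.ext rfl (Subtype.ext this)
  · intro g
    obtain ⟨h, hh⟩ := QuotientGroup.mk_out_eq_mul A g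
    refine ⟨(QuotientGroup.mk g, h⁻¹), ?_⟩
    simp only
    rw [hh]
    simp

/-- Summing a function of the coset over the group. -/
theorem sum_comp_mk [Fintype G] (A : Subgroup G) [Fintype (G ⧸ A)] (F : G ⧸ A → ℂ) :
    ∑ x : G, F (QuotientGroup.mk x) = (Nat.card A : ℂ) * ∑ q : G ⧸ A, F q := by
  classical
  haveI : Fintype A := Fintype.ofFinite A
  rw [← (Equiv.ofBijective _ (out_mul_bijective A)).sum_comp, Fintype.sum_prod_type]
  simp only [Equiv.ofBijective_apply]
  have : ∀ q : G ⧸ A, ∀ a : A, F (QuotientGroup.mk ((q.out : G) * (a : G))) = F q := by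
    intro q a
    rw [QuotientGroup.mk_mul_of_mem _ a.2, QuotientGroup.out_eq']
  simp only [this, Finset.sum_const, Finset.card_univ, nsmul_eq_mul, Nat.card_eq_fintype_card]
  rw [Finset.mul_sum]

/-- Order of the image of `H ≥ A` in `G ⧸ A`. -/
theorem card_map_mk_mul_card [Finite G] (A H : Subgroup G) [A.Normal] (hAH : A ≤ H) :
    Nat.card (H.map (QuotientGroup.mk' A)) * Nat.card A = Nat.card H := by
  have hsurj : Function.Surjective (QuotientGroup.mk' A) := QuotientGroup.mk'_surjective A
  have h1 : (H.map (QuotientGroup.mk' A)).index = H.index := by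
    have := Subgroup.index_comap_of_surjective (H.map (QuotientGroup.mk' A)) hsurj
    rw [Subgroup.comap_map_eq, QuotientGroup.ker_mk', sup_eq_left.mpr hAH] at this
    exact this.symm
  have h2 := Subgroup.card_mul_index (H.map (QuotientGroup.mk' A))
  have h3 := Subgroup.card_mul_index H
  have h4 := Subgroup.card_eq_card_quotient_mul_card_subgroup A
  have hidx : H.index ≠ 0 := Subgroup.index_ne_zero_of_finite
  rw [h1] at h2
  have : Nat.card (H.map (QuotientGroup.mk' A)) * Nat.card A * H.index = Nat.card H * H.index := by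
    rw [h3, h4, ← h2]; ring
  exact Nat.eq_of_mul_eq_mul_right (Nat.pos_of_ne_zero hidx) this

/-- Induction commutes with inflation. -/
theorem indFun_inflation [Fintype G] (A H : Subgroup G) [A.Normal] (hAH : A ≤ H)
    [Fintype (G ⧸ A)] (θ : H → ℂ) (θ₁ : ↥(H.map (QuotientGroup.mk' A)) → ℂ)
    (hθ : ∀ x : H, θ₁ ⟨QuotientGroup.mk' A x, Subgroup.mem_map_of_mem _ x.2⟩ = θ x) (g : G) :
    indFun (H.map (QuotientGroup.mk' A)) θ₁ (QuotientGroup.mk' A g) = indFun H θ g := by
  classical
  rw [indFun_apply, indFun_apply]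
  have hext : ∀ z : G, extendByZero H θ z =
      extendByZero (H.map (QuotientGroup.mk' A)) θ₁ (QuotientGroup.mk' A z) := by
    intro z
    by_cases hz : z ∈ H
    · rw [extendByZero_of_mem H θ hz,
        extendByZero_of_mem _ θ₁ (Subgroup.mem_map_of_mem _ hz)]
      exact (hθ ⟨z, hz⟩).symm
    · rw [extendByZero_of_not_mem H θ hz, extendByZero_of_not_mem]
      rintro ⟨h, hh, hhz⟩
      apply hz
      have : h⁻¹ * z ∈ A := by
        rw [← QuotientGroup.eq]
        exact hhz
      have := H.mul_mem hh (hAH this)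
      simpa using this
  have hsum : ∑ x : G, extendByZero H θ (x⁻¹ * g * x) =
      (Nat.card A : ℂ) * ∑ q : G ⧸ A,
        extendByZero (H.map (QuotientGroup.mk' A)) θ₁ (q⁻¹ * QuotientGroup.mk' A g * q) := by
    rw [← sum_comp_mk A (fun q => extendByZero (H.map (QuotientGroup.mk' A)) θ₁
      (q⁻¹ * QuotientGroup.mk' A g * q))]
    apply Finset.sum_congr rfl
    intro x _
    rw [hext]
    rfl
  rw [hsum]
  have hcard := card_map_mk_mul_card A H hAH
  have hA0 : (Nat.card A : ℂ) ≠ 0 := card_ne_zero_complex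
  have hK0 : (Nat.card (H.map (QuotientGroup.mk' A)) : ℂ) ≠ 0 := card_ne_zero_complex
  have : (Nat.card H : ℂ) = (Nat.card (H.map (QuotientGroup.mk' A)) : ℂ) * (Nat.card A : ℂ) := by
    rw [← hcard]; push_cast; ring
  rw [this]
  field_simp

end Cfsg.Agent.Lib.Helper25
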