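import Mathlib
import Cfsg.Prelude.Def_ClassicalGeometry
import Cfsg.Prelude.Def_GeometricClasses
import Cfsg.Agent.Lib.Helper48.TiDefs
import Cfsg.Agent.Lib.Helper67.TsDefs
import Cfsg.Agent.Lib.Helper43.OddOrthGram

/-! # TS hive (S5972, helper67): leaf TS-BRIDGE (helper25): the small bridges for `oddB` -/

set_option autoImplicit false

namespace Cfsg.Agent.Lib.Helper67.Ts

open Polynomial Module
open Cfsg.Agent.Lib.Helper2.BG Cfsg.Agent.Lib.Helper99 Cfsg.Agent.Lib.Helper48.Ti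

section concrete

variable {F : Type*} [Field F]

/-- `oddB` is the polar bilinear form of helper43's `oddForm` -/
theorem bridge_oddB_eq (d : ℕ) :
    (oddB d : VO d F →ₗ[F] VO d F →ₗ[F] F) =
      QuadraticMap.polarBilin (Cfsg.Agent.Lib.Helper43.oddForm d F) := by
  have h : (Matrix.of fun a b : Unit ⊕ (Fin d ⊕ Fin d) =>
      Cfsg.quadFormOdd d F (Pi.single a 1 + Pi.single b 1) - Cfsg.quadFormOdd d F (Pi.single a 1)
        - Cfsg.quadFormOdd d F (Pi.single b 1)) =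
      LinearMap.BilinForm.toMatrix' (QuadraticMap.polarBilin (Cfsg.Agent.Lib.Helper43.oddForm d F)) := by
    ext a b
    rw [LinearMap.BilinForm.toMatrix'_apply, QuadraticMap.polarBilin_apply_apply,
      Cfsg.Agent.Lib.Helper43.oddForm_coe]
    rfl
  unfold oddB
  rw [h, Matrix.toBilin'_toMatrix']

/-- TS-BRIDGE (1): `oddB` is the polar form -/
theorem oddB_apply (d : ℕ) (u v : VO d F) :
    oddB d u v = Cfsg.quadFormOdd d F (u + v) - Cfsg.quadFormOdd d F u - Cfsg.quadFormOdd d F v := by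
  rw [bridge_oddB_eq, QuadraticMap.polarBilin_apply_apply, Cfsg.Agent.Lib.Helper43.oddForm_coe]
  rfl

/-- TS-BRIDGE (2) -/
theorem oddB_symm (d : ℕ) (u v : VO d F) : oddB d u v = oddB d v u := by
  rw [oddB_apply, oddB_apply, add_comm u v]
  ring

/-- TS-BRIDGE (3) -/
theorem oddB_self (d : ℕ) (u : VO d F) : oddB d u u = 2 * Cfsg.quadFormOdd d F u := by
  rw [bridge_oddB_eq, QuadraticMap.polarBilin_apply_apply, QuadraticMap.polar_self,
    Cfsg.Agent.Lib.Helper43.oddForm_coe]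
  simp

/-- TS-BRIDGE (4) -/
theorem oddB_nd (h2 : (2 : F) ≠ 0) (d : ℕ) : Nd (oddB (F := F) d) ⊤ := by
  intro u _ hu
  have hnd := Cfsg.Agent.Lib.Helper43.OddOrth.oddForm_nondegenerate (m := d) (F := F) h2
  rw [← bridge_oddB_eq] at hnd
  exact hnd.1 u (fun v => hu v Submodule.mem_top)

/-- TS-BRIDGE (5): totally singular = totally isotropic for the polar form (`2 ≠ 0`) -/
theorem ts_iff_ti (h2 : (2 : F) ≠ 0) (d : ℕ) (W : Submodule F (VO d F)) :
    (∀ w ∈ W, Cfsg.quadFormOdd d F w = 0) ↔ TI (oddB d) W := by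
  constructor
  · intro h u hu v hv
    rw [oddB_apply, h u hu, h v hv, h (u + v) (W.add_mem hu hv)]
    ring
  · intro h w hw
    have h1 := h w hw w hw
    rw [oddB_self] at h1
    exact (mul_eq_zero.mp h1).resolve_left h2

/-- TS-BRIDGE (6): elements of `Ω` are isometries of the polar form -/
theorem isom_of_mem_omega (d : ℕ) (x : GL (Unit ⊕ (Fin d ⊕ Fin d)) F)
    (hx : x ∈ Cfsg.Geo.omegaGL (Cfsg.quadFormOdd d F)) :
    (∀ v : VO d F, Cfsg.quadFormOdd d F
        (Matrix.toLin' (x : Matrix (Unit ⊕ (Fin d ⊕ Fin d)) (Unit ⊕ (Fin d ⊕ Fin d)) F) v)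
        = Cfsg.quadFormOdd d F v) ∧
      Isom (oddB d)
        (Matrix.toLin' (x : Matrix (Unit ⊕ (Fin d ⊕ Fin d)) (Unit ⊕ (Fin d ⊕ Fin d)) F)) := by
  have hQ : ∀ v : VO d F, Cfsg.quadFormOdd d F
      (Matrix.toLin' (x : Matrix (Unit ⊕ (Fin d ⊕ Fin d)) (Unit ⊕ (Fin d ⊕ Fin d)) F) v)
      = Cfsg.quadFormOdd d F v := by
    intro v
    obtain ⟨y, -, rfl⟩ := hx
    have := y.2 v v
    rw [Matrix.toLin'_apply]
    exact this
  refine ⟨hQ, ?_⟩
  intro u v
  rw [oddB_apply, oddB_apply, ← map_add, hQ, hQ, hQ]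

/-- TS-BRIDGE (7) -/
theorem finrank_VO (d : ℕ) : finrank F (VO d F) = 2 * d + 1 := by
  rw [Module.finrank_fintype_fun_eq_card]
  simp only [Fintype.card_sum, Fintype.card_unit, Fintype.card_fin]
  ring

end concrete

end Cfsg.Agent.Lib.Helper67.Ts
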