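import Cfsg.Agent.Lib.Helper37.B2O5Defs

/-!
# BO-REL2-7 (Bo hive, S1083): the commutator relations `[x_s(u), x_7(t)]` in `O₅(F)`
-/

set_option autoImplicit false
set_option linter.unusedSectionVars false
set_option linter.unusedVariables false
set_option linter.unusedSimpArgs false
set_option linter.unnecessarySeqFocus false
set_option linter.unreachableTactic false
set_option linter.unusedTactic false

namespace Cfsg.Agent.Lib.Helper37.B2O5

open Matrix Module QuadraticMap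
open Cfsg.Agent.Lib.Helper8 Cfsg.Agent.Lib.Helper13 Cfsg.Agent.Lib.Helper37 Cfsg.Agent.Lib.Helper43

variable {F : Type*} [Field F]

theorem rel2_7_xn0 (t : F) : Xn 0 t = X 0 t := Xn_of_lt (by norm_num) t
theorem rel2_7_xn1 (t : F) : Xn 1 t = X 1 t := Xn_of_lt (by norm_num) t
theorem rel2_7_xn2 (t : F) : Xn 2 t = X 2 t := Xn_of_lt (by norm_num) t
theorem rel2_7_xn3 (t : F) : Xn 3 t = X 3 t := Xn_of_lt (by norm_num) t
theorem rel2_7_xn4 (t : F) : Xn 4 t = X 4 t := Xn_of_lt (by norm_num) t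
theorem rel2_7_xn5 (t : F) : Xn 5 t = X 5 t := Xn_of_lt (by norm_num) t
theorem rel2_7_xn6 (t : F) : Xn 6 t = X 6 t := Xn_of_lt (by norm_num) t
theorem rel2_7_xn7 (t : F) : Xn 7 t = X 7 t := Xn_of_lt (by norm_num) t

theorem rel2_7_s1 (t u : F) :
    (Xn 1 u)⁻¹ * (Xn 7 t)⁻¹ * Xn 1 u * Xn 7 t = wprod (Cfsg.Lie.chevB2.commWord F 7 1 t u) := by
  have h : Cfsg.Lie.chevB2.commTerms 7 1 = [(5, 1, 1, 1), (3, 1, 1, 2)] := by decide
  unfold wprod Cfsg.Lie.ChevalleyDatum.commWord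
  rw [h]
  simp only [List.map_cons, List.map_nil, List.prod_cons, List.prod_nil, mul_one]
  simp only [rel2_7_xn0, rel2_7_xn1, rel2_7_xn2, rel2_7_xn3, rel2_7_xn4, rel2_7_xn5, rel2_7_xn6, rel2_7_xn7, X_inv]
  apply reflElt_ext
  intro x
  simp only [act_mul, act_one, act_X0, act_X1, act_X2, act_X3, act_X4, act_X5, act_X6, act_X7]
  apply ext5 <;> simp <;> ring

theorem rel2_7_s2 (t u : F) :
    (Xn 2 u)⁻¹ * (Xn 7 t)⁻¹ * Xn 2 u * Xn 7 t = wprod (Cfsg.Lie.chevB2.commWord F 7 2 t u) := by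
  have h : Cfsg.Lie.chevB2.commTerms 7 2 = [(6, -1, 1, 1), (4, -1, 1, 2)] := by decide
  unfold wprod Cfsg.Lie.ChevalleyDatum.commWord
  rw [h]
  simp only [List.map_cons, List.map_nil, List.prod_cons, List.prod_nil, mul_one]
  simp only [rel2_7_xn0, rel2_7_xn1, rel2_7_xn2, rel2_7_xn3, rel2_7_xn4, rel2_7_xn5, rel2_7_xn6, rel2_7_xn7, X_inv]
  apply reflElt_ext
  intro x
  simp only [act_mul, act_one, act_X0, act_X1, act_X2, act_X3, act_X4, act_X5, act_X6, act_X7]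
  apply ext5 <;> simp <;> ring

theorem rel2_7_s3 (t u : F) :
    (Xn 3 u)⁻¹ * (Xn 7 t)⁻¹ * Xn 3 u * Xn 7 t = wprod (Cfsg.Lie.chevB2.commWord F 7 3 t u) := by
  have h : Cfsg.Lie.chevB2.commTerms 7 3 = [] := by decide
  unfold wprod Cfsg.Lie.ChevalleyDatum.commWord
  rw [h]
  simp only [List.map_cons, List.map_nil, List.prod_cons, List.prod_nil, mul_one]
  simp only [rel2_7_xn0, rel2_7_xn1, rel2_7_xn2, rel2_7_xn3, rel2_7_xn4, rel2_7_xn5, rel2_7_xn6, rel2_7_xn7, X_inv]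
  apply reflElt_ext
  intro x
  simp only [act_mul, act_one, act_X0, act_X1, act_X2, act_X3, act_X4, act_X5, act_X6, act_X7]
  apply ext5 <;> simp <;> ring

theorem rel2_7_s4 (t u : F) :
    (Xn 4 u)⁻¹ * (Xn 7 t)⁻¹ * Xn 4 u * Xn 7 t = wprod (Cfsg.Lie.chevB2.commWord F 7 4 t u) := by
  have h : Cfsg.Lie.chevB2.commTerms 7 4 = [] := by decide
  unfold wprod Cfsg.Lie.ChevalleyDatum.commWord
  rw [h]
  simp only [List.map_cons, List.map_nil, List.prod_cons, List.prod_nil, mul_one]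
  simp only [rel2_7_xn0, rel2_7_xn1, rel2_7_xn2, rel2_7_xn3, rel2_7_xn4, rel2_7_xn5, rel2_7_xn6, rel2_7_xn7, X_inv]
  apply reflElt_ext
  intro x
  simp only [act_mul, act_one, act_X0, act_X1, act_X2, act_X3, act_X4, act_X5, act_X6, act_X7]
  apply ext5 <;> simp <;> ring

theorem rel2_7_s5 (t u : F) :
    (Xn 5 u)⁻¹ * (Xn 7 t)⁻¹ * Xn 5 u * Xn 7 t = wprod (Cfsg.Lie.chevB2.commWord F 7 5 t u) := by
  have h : Cfsg.Lie.chevB2.commTerms 7 5 = [] := by decide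
  unfold wprod Cfsg.Lie.ChevalleyDatum.commWord
  rw [h]
  simp only [List.map_cons, List.map_nil, List.prod_cons, List.prod_nil, mul_one]
  simp only [rel2_7_xn0, rel2_7_xn1, rel2_7_xn2, rel2_7_xn3, rel2_7_xn4, rel2_7_xn5, rel2_7_xn6, rel2_7_xn7, X_inv]
  apply reflElt_ext
  intro x
  simp only [act_mul, act_one, act_X0, act_X1, act_X2, act_X3, act_X4, act_X5, act_X6, act_X7]
  apply ext5 <;> simp <;> ring

theorem rel2_7_s6 (t u : F) :
    (Xn 6 u)⁻¹ * (Xn 7 t)⁻¹ * Xn 6 u * Xn 7 t = wprod (Cfsg.Lie.chevB2.commWord F 7 6 t u) := by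
  have h : Cfsg.Lie.chevB2.commTerms 7 6 = [] := by decide
  unfold wprod Cfsg.Lie.ChevalleyDatum.commWord
  rw [h]
  simp only [List.map_cons, List.map_nil, List.prod_cons, List.prod_nil, mul_one]
  simp only [rel2_7_xn0, rel2_7_xn1, rel2_7_xn2, rel2_7_xn3, rel2_7_xn4, rel2_7_xn5, rel2_7_xn6, rel2_7_xn7, X_inv]
  apply reflElt_ext
  intro x
  simp only [act_mul, act_one, act_X0, act_X1, act_X2, act_X3, act_X4, act_X5, act_X6, act_X7]
  apply ext5 <;> simp <;> ring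

/-- BO-REL2-7. -/
theorem rel2_7 (s : ℕ) (hs : s < 8) (h1 : s ≠ 7) (h2 : s ≠ 0) (t u : F) :
    (Xn s u)⁻¹ * (Xn 7 t)⁻¹ * Xn s u * Xn 7 t = wprod (Cfsg.Lie.chevB2.commWord F 7 s t u) := by
  interval_cases s
  · exact absurd rfl h2
  · exact rel2_7_s1 t u
  · exact rel2_7_s2 t u
  · exact rel2_7_s3 t u
  · exact rel2_7_s4 t u
  · exact rel2_7_s5 t u
  · exact rel2_7_s6 t u
  · exact absurd rfl h1

end Cfsg.Agent.Lib.Helper37.B2O5
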