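import Cfsg.Agent.Lib.Helper37.D4O8Defs

/-!
# DO-REL2-12 (Do hive, S1082): the commutator relations `[x_s(u), x_12(t)]` in `O₈⁺(F)`
(GENERATED from the `chevD4.commTerms` table by helper25's script.)
-/

set_option autoImplicit false
set_option linter.unusedSectionVars false
set_option linter.unusedVariables false
set_option linter.unusedSimpArgs false
set_option linter.unnecessarySeqFocus false
set_option linter.unreachableTactic false
set_option linter.unusedTactic false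

namespace Cfsg.Agent.Lib.Helper37.D4O8

open Matrix Module QuadraticMap
open Cfsg.Agent.Lib.Helper8 Cfsg.Agent.Lib.Helper13 Cfsg.Agent.Lib.Helper37

variable {F : Type*} [Field F]

theorem rel2_12_xn0 (t : F) : Xn 0 t = X 0 t := Xn_of_lt (by norm_num) t
theorem rel2_12_xn1 (t : F) : Xn 1 t = X 1 t := Xn_of_lt (by norm_num) t
theorem rel2_12_xn2 (t : F) : Xn 2 t = X 2 t := Xn_of_lt (by norm_num) t
theorem rel2_12_xn3 (t : F) : Xn 3 t = X 3 t := Xn_of_lt (by norm_num) t
theorem rel2_12_xn4 (t : F) : Xn 4 t = X 4 t := Xn_of_lt (by norm_num) t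
theorem rel2_12_xn5 (t : F) : Xn 5 t = X 5 t := Xn_of_lt (by norm_num) t
theorem rel2_12_xn6 (t : F) : Xn 6 t = X 6 t := Xn_of_lt (by norm_num) t
theorem rel2_12_xn7 (t : F) : Xn 7 t = X 7 t := Xn_of_lt (by norm_num) t
theorem rel2_12_xn8 (t : F) : Xn 8 t = X 8 t := Xn_of_lt (by norm_num) t
theorem rel2_12_xn9 (t : F) : Xn 9 t = X 9 t := Xn_of_lt (by norm_num) t
theorem rel2_12_xn10 (t : F) : Xn 10 t = X 10 t := Xn_of_lt (by norm_num) t
theorem rel2_12_xn11 (t : F) : Xn 11 t = X 11 t := Xn_of_lt (by norm_num) t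
theorem rel2_12_xn12 (t : F) : Xn 12 t = X 12 t := Xn_of_lt (by norm_num) t
theorem rel2_12_xn13 (t : F) : Xn 13 t = X 13 t := Xn_of_lt (by norm_num) t
theorem rel2_12_xn14 (t : F) : Xn 14 t = X 14 t := Xn_of_lt (by norm_num) t
theorem rel2_12_xn15 (t : F) : Xn 15 t = X 15 t := Xn_of_lt (by norm_num) t
theorem rel2_12_xn16 (t : F) : Xn 16 t = X 16 t := Xn_of_lt (by norm_num) t
theorem rel2_12_xn17 (t : F) : Xn 17 t = X 17 t := Xn_of_lt (by norm_num) t
theorem rel2_12_xn18 (t : F) : Xn 18 t = X 18 t := Xn_of_lt (by norm_num) t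
theorem rel2_12_xn19 (t : F) : Xn 19 t = X 19 t := Xn_of_lt (by norm_num) t
theorem rel2_12_xn20 (t : F) : Xn 20 t = X 20 t := Xn_of_lt (by norm_num) t
theorem rel2_12_xn21 (t : F) : Xn 21 t = X 21 t := Xn_of_lt (by norm_num) t
theorem rel2_12_xn22 (t : F) : Xn 22 t = X 22 t := Xn_of_lt (by norm_num) t
theorem rel2_12_xn23 (t : F) : Xn 23 t = X 23 t := Xn_of_lt (by norm_num) t

theorem rel2_12_s0 (t u : F) :
    (Xn 0 u)⁻¹ * (Xn 12 t)⁻¹ * Xn 0 u * Xn 12 t = wprod (Cfsg.Lie.chevD4.commWord F 12 0 t u) := by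
  have h : Cfsg.Lie.chevD4.commTerms 12 0 = [] := by decide
  unfold wprod Cfsg.Lie.ChevalleyDatum.commWord
  rw [h]
  simp only [List.map_cons, List.map_nil, List.prod_cons, List.prod_nil, mul_one]
  simp only [rel2_12_xn0, rel2_12_xn12, X_inv]
  apply reflElt_ext
  intro x
  simp only [act_mul, act_one, act_X0, act_X12]
  apply ext8 <;> simp <;> ring

theorem rel2_12_s1 (t u : F) :
    (Xn 1 u)⁻¹ * (Xn 12 t)⁻¹ * Xn 1 u * Xn 12 t = wprod (Cfsg.Lie.chevD4.commWord F 12 1 t u) := by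
  have h : Cfsg.Lie.chevD4.commTerms 12 1 = [(2, -1, 1, 1)] := by decide
  unfold wprod Cfsg.Lie.ChevalleyDatum.commWord
  rw [h]
  simp only [List.map_cons, List.map_nil, List.prod_cons, List.prod_nil, mul_one]
  simp only [rel2_12_xn1, rel2_12_xn2, rel2_12_xn12, X_inv]
  apply reflElt_ext
  intro x
  simp only [act_mul, act_one, act_X1, act_X2, act_X12]
  apply ext8 <;> simp <;> ring

theorem rel2_12_s2 (t u : F) :
    (Xn 2 u)⁻¹ * (Xn 12 t)⁻¹ * Xn 2 u * Xn 12 t = wprod (Cfsg.Lie.chevD4.commWord F 12 2 t u) := by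
  have h : Cfsg.Lie.chevD4.commTerms 12 2 = [] := by decide
  unfold wprod Cfsg.Lie.ChevalleyDatum.commWord
  rw [h]
  simp only [List.map_cons, List.map_nil, List.prod_cons, List.prod_nil, mul_one]
  simp only [rel2_12_xn2, rel2_12_xn12, X_inv]
  apply reflElt_ext
  intro x
  simp only [act_mul, act_one, act_X2, act_X12]
  apply ext8 <;> simp <;> ring

theorem rel2_12_s3 (t u : F) :
    (Xn 3 u)⁻¹ * (Xn 12 t)⁻¹ * Xn 3 u * Xn 12 t = wprod (Cfsg.Lie.chevD4.commWord F 12 3 t u) := by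
  have h : Cfsg.Lie.chevD4.commTerms 12 3 = [(4, -1, 1, 1)] := by decide
  unfold wprod Cfsg.Lie.ChevalleyDatum.commWord
  rw [h]
  simp only [List.map_cons, List.map_nil, List.prod_cons, List.prod_nil, mul_one]
  simp only [rel2_12_xn3, rel2_12_xn4, rel2_12_xn12, X_inv]
  apply reflElt_ext
  intro x
  simp only [act_mul, act_one, act_X3, act_X4, act_X12]
  apply ext8 <;> simp <;> ring

theorem rel2_12_s4 (t u : F) :
    (Xn 4 u)⁻¹ * (Xn 12 t)⁻¹ * Xn 4 u * Xn 12 t = wprod (Cfsg.Lie.chevD4.commWord F 12 4 t u) := by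
  have h : Cfsg.Lie.chevD4.commTerms 12 4 = [] := by decide
  unfold wprod Cfsg.Lie.ChevalleyDatum.commWord
  rw [h]
  simp only [List.map_cons, List.map_nil, List.prod_cons, List.prod_nil, mul_one]
  simp only [rel2_12_xn4, rel2_12_xn12, X_inv]
  apply reflElt_ext
  intro x
  simp only [act_mul, act_one, act_X4, act_X12]
  apply ext8 <;> simp <;> ring

theorem rel2_12_s5 (t u : F) :
    (Xn 5 u)⁻¹ * (Xn 12 t)⁻¹ * Xn 5 u * Xn 12 t = wprod (Cfsg.Lie.chevD4.commWord F 12 5 t u) := by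
  have h : Cfsg.Lie.chevD4.commTerms 12 5 = [] := by decide
  unfold wprod Cfsg.Lie.ChevalleyDatum.commWord
  rw [h]
  simp only [List.map_cons, List.map_nil, List.prod_cons, List.prod_nil, mul_one]
  simp only [rel2_12_xn5, rel2_12_xn12, X_inv]
  apply reflElt_ext
  intro x
  simp only [act_mul, act_one, act_X5, act_X12]
  apply ext8 <;> simp <;> ring

theorem rel2_12_s6 (t u : F) :
    (Xn 6 u)⁻¹ * (Xn 12 t)⁻¹ * Xn 6 u * Xn 12 t = wprod (Cfsg.Lie.chevD4.commWord F 12 6 t u) := by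
  have h : Cfsg.Lie.chevD4.commTerms 12 6 = [(7, -1, 1, 1)] := by decide
  unfold wprod Cfsg.Lie.ChevalleyDatum.commWord
  rw [h]
  simp only [List.map_cons, List.map_nil, List.prod_cons, List.prod_nil, mul_one]
  simp only [rel2_12_xn6, rel2_12_xn7, rel2_12_xn12, X_inv]
  apply reflElt_ext
  intro x
  simp only [act_mul, act_one, act_X6, act_X7, act_X12]
  apply ext8 <;> simp <;> ring

theorem rel2_12_s7 (t u : F) :
    (Xn 7 u)⁻¹ * (Xn 12 t)⁻¹ * Xn 7 u * Xn 12 t = wprod (Cfsg.Lie.chevD4.commWord F 12 7 t u) := by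
  have h : Cfsg.Lie.chevD4.commTerms 12 7 = [] := by decide
  unfold wprod Cfsg.Lie.ChevalleyDatum.commWord
  rw [h]
  simp only [List.map_cons, List.map_nil, List.prod_cons, List.prod_nil, mul_one]
  simp only [rel2_12_xn7, rel2_12_xn12, X_inv]
  apply reflElt_ext
  intro x
  simp only [act_mul, act_one, act_X7, act_X12]
  apply ext8 <;> simp <;> ring

theorem rel2_12_s8 (t u : F) :
    (Xn 8 u)⁻¹ * (Xn 12 t)⁻¹ * Xn 8 u * Xn 12 t = wprod (Cfsg.Lie.chevD4.commWord F 12 8 t u) := by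
  have h : Cfsg.Lie.chevD4.commTerms 12 8 = [(9, -1, 1, 1)] := by decide
  unfold wprod Cfsg.Lie.ChevalleyDatum.commWord
  rw [h]
  simp only [List.map_cons, List.map_nil, List.prod_cons, List.prod_nil, mul_one]
  simp only [rel2_12_xn8, rel2_12_xn9, rel2_12_xn12, X_inv]
  apply reflElt_ext
  intro x
  simp only [act_mul, act_one, act_X8, act_X9, act_X12]
  apply ext8 <;> simp <;> ring

theorem rel2_12_s9 (t u : F) :
    (Xn 9 u)⁻¹ * (Xn 12 t)⁻¹ * Xn 9 u * Xn 12 t = wprod (Cfsg.Lie.chevD4.commWord F 12 9 t u) := by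
  have h : Cfsg.Lie.chevD4.commTerms 12 9 = [] := by decide
  unfold wprod Cfsg.Lie.ChevalleyDatum.commWord
  rw [h]
  simp only [List.map_cons, List.map_nil, List.prod_cons, List.prod_nil, mul_one]
  simp only [rel2_12_xn9, rel2_12_xn12, X_inv]
  apply reflElt_ext
  intro x
  simp only [act_mul, act_one, act_X9, act_X12]
  apply ext8 <;> simp <;> ring

theorem rel2_12_s10 (t u : F) :
    (Xn 10 u)⁻¹ * (Xn 12 t)⁻¹ * Xn 10 u * Xn 12 t = wprod (Cfsg.Lie.chevD4.commWord F 12 10 t u) := by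
  have h : Cfsg.Lie.chevD4.commTerms 12 10 = [] := by decide
  unfold wprod Cfsg.Lie.ChevalleyDatum.commWord
  rw [h]
  simp only [List.map_cons, List.map_nil, List.prod_cons, List.prod_nil, mul_one]
  simp only [rel2_12_xn10, rel2_12_xn12, X_inv]
  apply reflElt_ext
  intro x
  simp only [act_mul, act_one, act_X10, act_X12]
  apply ext8 <;> simp <;> ring

theorem rel2_12_s13 (t u : F) :
    (Xn 13 u)⁻¹ * (Xn 12 t)⁻¹ * Xn 13 u * Xn 12 t = wprod (Cfsg.Lie.chevD4.commWord F 12 13 t u) := by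
  have h : Cfsg.Lie.chevD4.commTerms 12 13 = [] := by decide
  unfold wprod Cfsg.Lie.ChevalleyDatum.commWord
  rw [h]
  simp only [List.map_cons, List.map_nil, List.prod_cons, List.prod_nil, mul_one]
  simp only [rel2_12_xn12, rel2_12_xn13, X_inv]
  apply reflElt_ext
  intro x
  simp only [act_mul, act_one, act_X12, act_X13]
  apply ext8 <;> simp <;> ring

theorem rel2_12_s14 (t u : F) :
    (Xn 14 u)⁻¹ * (Xn 12 t)⁻¹ * Xn 14 u * Xn 12 t = wprod (Cfsg.Lie.chevD4.commWord F 12 14 t u) := by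
  have h : Cfsg.Lie.chevD4.commTerms 12 14 = [(15, 1, 1, 1)] := by decide
  unfold wprod Cfsg.Lie.ChevalleyDatum.commWord
  rw [h]
  simp only [List.map_cons, List.map_nil, List.prod_cons, List.prod_nil, mul_one]
  simp only [rel2_12_xn12, rel2_12_xn14, rel2_12_xn15, X_inv]
  apply reflElt_ext
  intro x
  simp only [act_mul, act_one, act_X12, act_X14, act_X15]
  apply ext8 <;> simp <;> ring

theorem rel2_12_s15 (t u : F) :
    (Xn 15 u)⁻¹ * (Xn 12 t)⁻¹ * Xn 15 u * Xn 12 t = wprod (Cfsg.Lie.chevD4.commWord F 12 15 t u) := by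
  have h : Cfsg.Lie.chevD4.commTerms 12 15 = [] := by decide
  unfold wprod Cfsg.Lie.ChevalleyDatum.commWord
  rw [h]
  simp only [List.map_cons, List.map_nil, List.prod_cons, List.prod_nil, mul_one]
  simp only [rel2_12_xn12, rel2_12_xn15, X_inv]
  apply reflElt_ext
  intro x
  simp only [act_mul, act_one, act_X12, act_X15]
  apply ext8 <;> simp <;> ring

theorem rel2_12_s16 (t u : F) :
    (Xn 16 u)⁻¹ * (Xn 12 t)⁻¹ * Xn 16 u * Xn 12 t = wprod (Cfsg.Lie.chevD4.commWord F 12 16 t u) := by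
  have h : Cfsg.Lie.chevD4.commTerms 12 16 = [(17, 1, 1, 1)] := by decide
  unfold wprod Cfsg.Lie.ChevalleyDatum.commWord
  rw [h]
  simp only [List.map_cons, List.map_nil, List.prod_cons, List.prod_nil, mul_one]
  simp only [rel2_12_xn12, rel2_12_xn16, rel2_12_xn17, X_inv]
  apply reflElt_ext
  intro x
  simp only [act_mul, act_one, act_X12, act_X16, act_X17]
  apply ext8 <;> simp <;> ring

theorem rel2_12_s17 (t u : F) :
    (Xn 17 u)⁻¹ * (Xn 12 t)⁻¹ * Xn 17 u * Xn 12 t = wprod (Cfsg.Lie.chevD4.commWord F 12 17 t u) := by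
  have h : Cfsg.Lie.chevD4.commTerms 12 17 = [] := by decide
  unfold wprod Cfsg.Lie.ChevalleyDatum.commWord
  rw [h]
  simp only [List.map_cons, List.map_nil, List.prod_cons, List.prod_nil, mul_one]
  simp only [rel2_12_xn12, rel2_12_xn17, X_inv]
  apply reflElt_ext
  intro x
  simp only [act_mul, act_one, act_X12, act_X17]
  apply ext8 <;> simp <;> ring

theorem rel2_12_s18 (t u : F) :
    (Xn 18 u)⁻¹ * (Xn 12 t)⁻¹ * Xn 18 u * Xn 12 t = wprod (Cfsg.Lie.chevD4.commWord F 12 18 t u) := by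
  have h : Cfsg.Lie.chevD4.commTerms 12 18 = [] := by decide
  unfold wprod Cfsg.Lie.ChevalleyDatum.commWord
  rw [h]
  simp only [List.map_cons, List.map_nil, List.prod_cons, List.prod_nil, mul_one]
  simp only [rel2_12_xn12, rel2_12_xn18, X_inv]
  apply reflElt_ext
  intro x
  simp only [act_mul, act_one, act_X12, act_X18]
  apply ext8 <;> simp <;> ring

theorem rel2_12_s19 (t u : F) :
    (Xn 19 u)⁻¹ * (Xn 12 t)⁻¹ * Xn 19 u * Xn 12 t = wprod (Cfsg.Lie.chevD4.commWord F 12 19 t u) := by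
  have h : Cfsg.Lie.chevD4.commTerms 12 19 = [(20, 1, 1, 1)] := by decide
  unfold wprod Cfsg.Lie.ChevalleyDatum.commWord
  rw [h]
  simp only [List.map_cons, List.map_nil, List.prod_cons, List.prod_nil, mul_one]
  simp only [rel2_12_xn12, rel2_12_xn19, rel2_12_xn20, X_inv]
  apply reflElt_ext
  intro x
  simp only [act_mul, act_one, act_X12, act_X19, act_X20]
  apply ext8 <;> simp <;> ring

theorem rel2_12_s20 (t u : F) :
    (Xn 20 u)⁻¹ * (Xn 12 t)⁻¹ * Xn 20 u * Xn 12 t = wprod (Cfsg.Lie.chevD4.commWord F 12 20 t u) := by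
  have h : Cfsg.Lie.chevD4.commTerms 12 20 = [] := by decide
  unfold wprod Cfsg.Lie.ChevalleyDatum.commWord
  rw [h]
  simp only [List.map_cons, List.map_nil, List.prod_cons, List.prod_nil, mul_one]
  simp only [rel2_12_xn12, rel2_12_xn20, X_inv]
  apply reflElt_ext
  intro x
  simp only [act_mul, act_one, act_X12, act_X20]
  apply ext8 <;> simp <;> ring

theorem rel2_12_s21 (t u : F) :
    (Xn 21 u)⁻¹ * (Xn 12 t)⁻¹ * Xn 21 u * Xn 12 t = wprod (Cfsg.Lie.chevD4.commWord F 12 21 t u) := by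
  have h : Cfsg.Lie.chevD4.commTerms 12 21 = [(22, 1, 1, 1)] := by decide
  unfold wprod Cfsg.Lie.ChevalleyDatum.commWord
  rw [h]
  simp only [List.map_cons, List.map_nil, List.prod_cons, List.prod_nil, mul_one]
  simp only [rel2_12_xn12, rel2_12_xn21, rel2_12_xn22, X_inv]
  apply reflElt_ext
  intro x
  simp only [act_mul, act_one, act_X12, act_X21, act_X22]
  apply ext8 <;> simp <;> ring

theorem rel2_12_s22 (t u : F) :
    (Xn 22 u)⁻¹ * (Xn 12 t)⁻¹ * Xn 22 u * Xn 12 t = wprod (Cfsg.Lie.chevD4.commWord F 12 22 t u) := by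
  have h : Cfsg.Lie.chevD4.commTerms 12 22 = [] := by decide
  unfold wprod Cfsg.Lie.ChevalleyDatum.commWord
  rw [h]
  simp only [List.map_cons, List.map_nil, List.prod_cons, List.prod_nil, mul_one]
  simp only [rel2_12_xn12, rel2_12_xn22, X_inv]
  apply reflElt_ext
  intro x
  simp only [act_mul, act_one, act_X12, act_X22]
  apply ext8 <;> simp <;> ring

theorem rel2_12_s23 (t u : F) :
    (Xn 23 u)⁻¹ * (Xn 12 t)⁻¹ * Xn 23 u * Xn 12 t = wprod (Cfsg.Lie.chevD4.commWord F 12 23 t u) := by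
  have h : Cfsg.Lie.chevD4.commTerms 12 23 = [] := by decide
  unfold wprod Cfsg.Lie.ChevalleyDatum.commWord
  rw [h]
  simp only [List.map_cons, List.map_nil, List.prod_cons, List.prod_nil, mul_one]
  simp only [rel2_12_xn12, rel2_12_xn23, X_inv]
  apply reflElt_ext
  intro x
  simp only [act_mul, act_one, act_X12, act_X23]
  apply ext8 <;> simp <;> ring

/-- DO-REL2-12. -/
theorem rel2_12 (s : ℕ) (hs : s < 24) (h1 : s ≠ 12) (h2 : s ≠ 11) (t u : F) :
    (Xn s u)⁻¹ * (Xn 12 t)⁻¹ * Xn s u * Xn 12 t = wprod (Cfsg.Lie.chevD4.commWord F 12 s t u) := by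
  interval_cases s
  · exact rel2_12_s0 t u
  · exact rel2_12_s1 t u
  · exact rel2_12_s2 t u
  · exact rel2_12_s3 t u
  · exact rel2_12_s4 t u
  · exact rel2_12_s5 t u
  · exact rel2_12_s6 t u
  · exact rel2_12_s7 t u
  · exact rel2_12_s8 t u
  · exact rel2_12_s9 t u
  · exact rel2_12_s10 t u
  · exact absurd rfl h2
  · exact absurd rfl h1
  · exact rel2_12_s13 t u
  · exact rel2_12_s14 t u
  · exact rel2_12_s15 t u
  · exact rel2_12_s16 t u
  · exact rel2_12_s17 t u
  · exact rel2_12_s18 t u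
  · exact rel2_12_s19 t u
  · exact rel2_12_s20 t u
  · exact rel2_12_s21 t u
  · exact rel2_12_s22 t u
  · exact rel2_12_s23 t u

end Cfsg.Agent.Lib.Helper37.D4O8
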