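import Cfsg.Agent.Lib.Helper37.D4O8Defs

/-!
# DO-REL2-2 (Do hive, S1082): the commutator relations `[x_s(u), x_2(t)]` in `O₈⁺(F)`
(GENERATED from the `chevD4.commTerms` table by helper25's script.)
-/

set_option autoImplicit false
set_option linter.unusedSectionVars false
set_option linter.unusedVariables false
set_option linter.unusedSimpArgs false
set_option linter.unnecessarySeqFocus false
set_option linter.unreachableTactic false
set_option linter.unusedTactic false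

namespace Cfsg.Agent.Lib.Helper37.D4O8

open Matrix Module QuadraticMap
open Cfsg.Agent.Lib.Helper8 Cfsg.Agent.Lib.Helper13 Cfsg.Agent.Lib.Helper37

variable {F : Type*} [Field F]

theorem rel2_2_xn0 (t : F) : Xn 0 t = X 0 t := Xn_of_lt (by norm_num) t
theorem rel2_2_xn1 (t : F) : Xn 1 t = X 1 t := Xn_of_lt (by norm_num) t
theorem rel2_2_xn2 (t : F) : Xn 2 t = X 2 t := Xn_of_lt (by norm_num) t
theorem rel2_2_xn3 (t : F) : Xn 3 t = X 3 t := Xn_of_lt (by norm_num) t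
theorem rel2_2_xn4 (t : F) : Xn 4 t = X 4 t := Xn_of_lt (by norm_num) t
theorem rel2_2_xn5 (t : F) : Xn 5 t = X 5 t := Xn_of_lt (by norm_num) t
theorem rel2_2_xn6 (t : F) : Xn 6 t = X 6 t := Xn_of_lt (by norm_num) t
theorem rel2_2_xn7 (t : F) : Xn 7 t = X 7 t := Xn_of_lt (by norm_num) t
theorem rel2_2_xn8 (t : F) : Xn 8 t = X 8 t := Xn_of_lt (by norm_num) t
theorem rel2_2_xn9 (t : F) : Xn 9 t = X 9 t := Xn_of_lt (by norm_num) t
theorem rel2_2_xn10 (t : F) : Xn 10 t = X 10 t := Xn_of_lt (by norm_num) t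
theorem rel2_2_xn11 (t : F) : Xn 11 t = X 11 t := Xn_of_lt (by norm_num) t
theorem rel2_2_xn12 (t : F) : Xn 12 t = X 12 t := Xn_of_lt (by norm_num) t
theorem rel2_2_xn13 (t : F) : Xn 13 t = X 13 t := Xn_of_lt (by norm_num) t
theorem rel2_2_xn14 (t : F) : Xn 14 t = X 14 t := Xn_of_lt (by norm_num) t
theorem rel2_2_xn15 (t : F) : Xn 15 t = X 15 t := Xn_of_lt (by norm_num) t
theorem rel2_2_xn16 (t : F) : Xn 16 t = X 16 t := Xn_of_lt (by norm_num) t
theorem rel2_2_xn17 (t : F) : Xn 17 t = X 17 t := Xn_of_lt (by norm_num) t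
theorem rel2_2_xn18 (t : F) : Xn 18 t = X 18 t := Xn_of_lt (by norm_num) t
theorem rel2_2_xn19 (t : F) : Xn 19 t = X 19 t := Xn_of_lt (by norm_num) t
theorem rel2_2_xn20 (t : F) : Xn 20 t = X 20 t := Xn_of_lt (by norm_num) t
theorem rel2_2_xn21 (t : F) : Xn 21 t = X 21 t := Xn_of_lt (by norm_num) t
theorem rel2_2_xn22 (t : F) : Xn 22 t = X 22 t := Xn_of_lt (by norm_num) t
theorem rel2_2_xn23 (t : F) : Xn 23 t = X 23 t := Xn_of_lt (by norm_num) t

theorem rel2_2_s0 (t u : F) :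
    (Xn 0 u)⁻¹ * (Xn 2 t)⁻¹ * Xn 0 u * Xn 2 t = wprod (Cfsg.Lie.chevD4.commWord F 2 0 t u) := by
  have h : Cfsg.Lie.chevD4.commTerms 2 0 = [] := by decide
  unfold wprod Cfsg.Lie.ChevalleyDatum.commWord
  rw [h]
  simp only [List.map_cons, List.map_nil, List.prod_cons, List.prod_nil, mul_one]
  simp only [rel2_2_xn0, rel2_2_xn2, X_inv]
  apply reflElt_ext
  intro x
  simp only [act_mul, act_one, act_X0, act_X2]
  apply ext8 <;> simp <;> ring

theorem rel2_2_s1 (t u : F) :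
    (Xn 1 u)⁻¹ * (Xn 2 t)⁻¹ * Xn 1 u * Xn 2 t = wprod (Cfsg.Lie.chevD4.commWord F 2 1 t u) := by
  have h : Cfsg.Lie.chevD4.commTerms 2 1 = [] := by decide
  unfold wprod Cfsg.Lie.ChevalleyDatum.commWord
  rw [h]
  simp only [List.map_cons, List.map_nil, List.prod_cons, List.prod_nil, mul_one]
  simp only [rel2_2_xn1, rel2_2_xn2, X_inv]
  apply reflElt_ext
  intro x
  simp only [act_mul, act_one, act_X1, act_X2]
  apply ext8 <;> simp <;> ring

theorem rel2_2_s3 (t u : F) :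
    (Xn 3 u)⁻¹ * (Xn 2 t)⁻¹ * Xn 3 u * Xn 2 t = wprod (Cfsg.Lie.chevD4.commWord F 2 3 t u) := by
  have h : Cfsg.Lie.chevD4.commTerms 2 3 = [] := by decide
  unfold wprod Cfsg.Lie.ChevalleyDatum.commWord
  rw [h]
  simp only [List.map_cons, List.map_nil, List.prod_cons, List.prod_nil, mul_one]
  simp only [rel2_2_xn2, rel2_2_xn3, X_inv]
  apply reflElt_ext
  intro x
  simp only [act_mul, act_one, act_X2, act_X3]
  apply ext8 <;> simp <;> ring

theorem rel2_2_s4 (t u : F) :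
    (Xn 4 u)⁻¹ * (Xn 2 t)⁻¹ * Xn 4 u * Xn 2 t = wprod (Cfsg.Lie.chevD4.commWord F 2 4 t u) := by
  have h : Cfsg.Lie.chevD4.commTerms 2 4 = [] := by decide
  unfold wprod Cfsg.Lie.ChevalleyDatum.commWord
  rw [h]
  simp only [List.map_cons, List.map_nil, List.prod_cons, List.prod_nil, mul_one]
  simp only [rel2_2_xn2, rel2_2_xn4, X_inv]
  apply reflElt_ext
  intro x
  simp only [act_mul, act_one, act_X2, act_X4]
  apply ext8 <;> simp <;> ring

theorem rel2_2_s5 (t u : F) :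
    (Xn 5 u)⁻¹ * (Xn 2 t)⁻¹ * Xn 5 u * Xn 2 t = wprod (Cfsg.Lie.chevD4.commWord F 2 5 t u) := by
  have h : Cfsg.Lie.chevD4.commTerms 2 5 = [] := by decide
  unfold wprod Cfsg.Lie.ChevalleyDatum.commWord
  rw [h]
  simp only [List.map_cons, List.map_nil, List.prod_cons, List.prod_nil, mul_one]
  simp only [rel2_2_xn2, rel2_2_xn5, X_inv]
  apply reflElt_ext
  intro x
  simp only [act_mul, act_one, act_X2, act_X5]
  apply ext8 <;> simp <;> ring

theorem rel2_2_s6 (t u : F) :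
    (Xn 6 u)⁻¹ * (Xn 2 t)⁻¹ * Xn 6 u * Xn 2 t = wprod (Cfsg.Lie.chevD4.commWord F 2 6 t u) := by
  have h : Cfsg.Lie.chevD4.commTerms 2 6 = [] := by decide
  unfold wprod Cfsg.Lie.ChevalleyDatum.commWord
  rw [h]
  simp only [List.map_cons, List.map_nil, List.prod_cons, List.prod_nil, mul_one]
  simp only [rel2_2_xn2, rel2_2_xn6, X_inv]
  apply reflElt_ext
  intro x
  simp only [act_mul, act_one, act_X2, act_X6]
  apply ext8 <;> simp <;> ring

theorem rel2_2_s7 (t u : F) :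
    (Xn 7 u)⁻¹ * (Xn 2 t)⁻¹ * Xn 7 u * Xn 2 t = wprod (Cfsg.Lie.chevD4.commWord F 2 7 t u) := by
  have h : Cfsg.Lie.chevD4.commTerms 2 7 = [] := by decide
  unfold wprod Cfsg.Lie.ChevalleyDatum.commWord
  rw [h]
  simp only [List.map_cons, List.map_nil, List.prod_cons, List.prod_nil, mul_one]
  simp only [rel2_2_xn2, rel2_2_xn7, X_inv]
  apply reflElt_ext
  intro x
  simp only [act_mul, act_one, act_X2, act_X7]
  apply ext8 <;> simp <;> ring

theorem rel2_2_s8 (t u : F) :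
    (Xn 8 u)⁻¹ * (Xn 2 t)⁻¹ * Xn 8 u * Xn 2 t = wprod (Cfsg.Lie.chevD4.commWord F 2 8 t u) := by
  have h : Cfsg.Lie.chevD4.commTerms 2 8 = [(0, -1, 1, 1)] := by decide
  unfold wprod Cfsg.Lie.ChevalleyDatum.commWord
  rw [h]
  simp only [List.map_cons, List.map_nil, List.prod_cons, List.prod_nil, mul_one]
  simp only [rel2_2_xn0, rel2_2_xn2, rel2_2_xn8, X_inv]
  apply reflElt_ext
  intro x
  simp only [act_mul, act_one, act_X0, act_X2, act_X8]
  apply ext8 <;> simp <;> ring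

theorem rel2_2_s9 (t u : F) :
    (Xn 9 u)⁻¹ * (Xn 2 t)⁻¹ * Xn 9 u * Xn 2 t = wprod (Cfsg.Lie.chevD4.commWord F 2 9 t u) := by
  have h : Cfsg.Lie.chevD4.commTerms 2 9 = [] := by decide
  unfold wprod Cfsg.Lie.ChevalleyDatum.commWord
  rw [h]
  simp only [List.map_cons, List.map_nil, List.prod_cons, List.prod_nil, mul_one]
  simp only [rel2_2_xn2, rel2_2_xn9, X_inv]
  apply reflElt_ext
  intro x
  simp only [act_mul, act_one, act_X2, act_X9]
  apply ext8 <;> simp <;> ring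

theorem rel2_2_s10 (t u : F) :
    (Xn 10 u)⁻¹ * (Xn 2 t)⁻¹ * Xn 10 u * Xn 2 t = wprod (Cfsg.Lie.chevD4.commWord F 2 10 t u) := by
  have h : Cfsg.Lie.chevD4.commTerms 2 10 = [] := by decide
  unfold wprod Cfsg.Lie.ChevalleyDatum.commWord
  rw [h]
  simp only [List.map_cons, List.map_nil, List.prod_cons, List.prod_nil, mul_one]
  simp only [rel2_2_xn2, rel2_2_xn10, X_inv]
  apply reflElt_ext
  intro x
  simp only [act_mul, act_one, act_X2, act_X10]
  apply ext8 <;> simp <;> ring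

theorem rel2_2_s11 (t u : F) :
    (Xn 11 u)⁻¹ * (Xn 2 t)⁻¹ * Xn 11 u * Xn 2 t = wprod (Cfsg.Lie.chevD4.commWord F 2 11 t u) := by
  have h : Cfsg.Lie.chevD4.commTerms 2 11 = [(1, 1, 1, 1)] := by decide
  unfold wprod Cfsg.Lie.ChevalleyDatum.commWord
  rw [h]
  simp only [List.map_cons, List.map_nil, List.prod_cons, List.prod_nil, mul_one]
  simp only [rel2_2_xn1, rel2_2_xn2, rel2_2_xn11, X_inv]
  apply reflElt_ext
  intro x
  simp only [act_mul, act_one, act_X1, act_X2, act_X11]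
  apply ext8 <;> simp <;> ring

theorem rel2_2_s12 (t u : F) :
    (Xn 12 u)⁻¹ * (Xn 2 t)⁻¹ * Xn 12 u * Xn 2 t = wprod (Cfsg.Lie.chevD4.commWord F 2 12 t u) := by
  have h : Cfsg.Lie.chevD4.commTerms 2 12 = [] := by decide
  unfold wprod Cfsg.Lie.ChevalleyDatum.commWord
  rw [h]
  simp only [List.map_cons, List.map_nil, List.prod_cons, List.prod_nil, mul_one]
  simp only [rel2_2_xn2, rel2_2_xn12, X_inv]
  apply reflElt_ext
  intro x
  simp only [act_mul, act_one, act_X2, act_X12]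
  apply ext8 <;> simp <;> ring

theorem rel2_2_s13 (t u : F) :
    (Xn 13 u)⁻¹ * (Xn 2 t)⁻¹ * Xn 13 u * Xn 2 t = wprod (Cfsg.Lie.chevD4.commWord F 2 13 t u) := by
  have h : Cfsg.Lie.chevD4.commTerms 2 13 = [(4, 1, 1, 1)] := by decide
  unfold wprod Cfsg.Lie.ChevalleyDatum.commWord
  rw [h]
  simp only [List.map_cons, List.map_nil, List.prod_cons, List.prod_nil, mul_one]
  simp only [rel2_2_xn2, rel2_2_xn4, rel2_2_xn13, X_inv]
  apply reflElt_ext
  intro x
  simp only [act_mul, act_one, act_X2, act_X4, act_X13]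
  apply ext8 <;> simp <;> ring

theorem rel2_2_s14 (t u : F) :
    (Xn 14 u)⁻¹ * (Xn 2 t)⁻¹ * Xn 14 u * Xn 2 t = wprod (Cfsg.Lie.chevD4.commWord F 2 14 t u) := by
  have h : Cfsg.Lie.chevD4.commTerms 2 14 = [] := by decide
  unfold wprod Cfsg.Lie.ChevalleyDatum.commWord
  rw [h]
  simp only [List.map_cons, List.map_nil, List.prod_cons, List.prod_nil, mul_one]
  simp only [rel2_2_xn2, rel2_2_xn14, X_inv]
  apply reflElt_ext
  intro x
  simp only [act_mul, act_one, act_X2, act_X14]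
  apply ext8 <;> simp <;> ring

theorem rel2_2_s15 (t u : F) :
    (Xn 15 u)⁻¹ * (Xn 2 t)⁻¹ * Xn 15 u * Xn 2 t = wprod (Cfsg.Lie.chevD4.commWord F 2 15 t u) := by
  have h : Cfsg.Lie.chevD4.commTerms 2 15 = [] := by decide
  unfold wprod Cfsg.Lie.ChevalleyDatum.commWord
  rw [h]
  simp only [List.map_cons, List.map_nil, List.prod_cons, List.prod_nil, mul_one]
  simp only [rel2_2_xn2, rel2_2_xn15, X_inv]
  apply reflElt_ext
  intro x
  simp only [act_mul, act_one, act_X2, act_X15]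
  apply ext8 <;> simp <;> ring

theorem rel2_2_s16 (t u : F) :
    (Xn 16 u)⁻¹ * (Xn 2 t)⁻¹ * Xn 16 u * Xn 2 t = wprod (Cfsg.Lie.chevD4.commWord F 2 16 t u) := by
  have h : Cfsg.Lie.chevD4.commTerms 2 16 = [(5, 1, 1, 1)] := by decide
  unfold wprod Cfsg.Lie.ChevalleyDatum.commWord
  rw [h]
  simp only [List.map_cons, List.map_nil, List.prod_cons, List.prod_nil, mul_one]
  simp only [rel2_2_xn2, rel2_2_xn5, rel2_2_xn16, X_inv]
  apply reflElt_ext
  intro x
  simp only [act_mul, act_one, act_X2, act_X5, act_X16]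
  apply ext8 <;> simp <;> ring

theorem rel2_2_s17 (t u : F) :
    (Xn 17 u)⁻¹ * (Xn 2 t)⁻¹ * Xn 17 u * Xn 2 t = wprod (Cfsg.Lie.chevD4.commWord F 2 17 t u) := by
  have h : Cfsg.Lie.chevD4.commTerms 2 17 = [] := by decide
  unfold wprod Cfsg.Lie.ChevalleyDatum.commWord
  rw [h]
  simp only [List.map_cons, List.map_nil, List.prod_cons, List.prod_nil, mul_one]
  simp only [rel2_2_xn2, rel2_2_xn17, X_inv]
  apply reflElt_ext
  intro x
  simp only [act_mul, act_one, act_X2, act_X17]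
  apply ext8 <;> simp <;> ring

theorem rel2_2_s18 (t u : F) :
    (Xn 18 u)⁻¹ * (Xn 2 t)⁻¹ * Xn 18 u * Xn 2 t = wprod (Cfsg.Lie.chevD4.commWord F 2 18 t u) := by
  have h : Cfsg.Lie.chevD4.commTerms 2 18 = [(7, -1, 1, 1)] := by decide
  unfold wprod Cfsg.Lie.ChevalleyDatum.commWord
  rw [h]
  simp only [List.map_cons, List.map_nil, List.prod_cons, List.prod_nil, mul_one]
  simp only [rel2_2_xn2, rel2_2_xn7, rel2_2_xn18, X_inv]
  apply reflElt_ext
  intro x
  simp only [act_mul, act_one, act_X2, act_X7, act_X18]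
  apply ext8 <;> simp <;> ring

theorem rel2_2_s19 (t u : F) :
    (Xn 19 u)⁻¹ * (Xn 2 t)⁻¹ * Xn 19 u * Xn 2 t = wprod (Cfsg.Lie.chevD4.commWord F 2 19 t u) := by
  have h : Cfsg.Lie.chevD4.commTerms 2 19 = [(10, -1, 1, 1)] := by decide
  unfold wprod Cfsg.Lie.ChevalleyDatum.commWord
  rw [h]
  simp only [List.map_cons, List.map_nil, List.prod_cons, List.prod_nil, mul_one]
  simp only [rel2_2_xn2, rel2_2_xn10, rel2_2_xn19, X_inv]
  apply reflElt_ext
  intro x
  simp only [act_mul, act_one, act_X2, act_X10, act_X19]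
  apply ext8 <;> simp <;> ring

theorem rel2_2_s20 (t u : F) :
    (Xn 20 u)⁻¹ * (Xn 2 t)⁻¹ * Xn 20 u * Xn 2 t = wprod (Cfsg.Lie.chevD4.commWord F 2 20 t u) := by
  have h : Cfsg.Lie.chevD4.commTerms 2 20 = [] := by decide
  unfold wprod Cfsg.Lie.ChevalleyDatum.commWord
  rw [h]
  simp only [List.map_cons, List.map_nil, List.prod_cons, List.prod_nil, mul_one]
  simp only [rel2_2_xn2, rel2_2_xn20, X_inv]
  apply reflElt_ext
  intro x
  simp only [act_mul, act_one, act_X2, act_X20]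
  apply ext8 <;> simp <;> ring

theorem rel2_2_s22 (t u : F) :
    (Xn 22 u)⁻¹ * (Xn 2 t)⁻¹ * Xn 22 u * Xn 2 t = wprod (Cfsg.Lie.chevD4.commWord F 2 22 t u) := by
  have h : Cfsg.Lie.chevD4.commTerms 2 22 = [(12, -1, 1, 1)] := by decide
  unfold wprod Cfsg.Lie.ChevalleyDatum.commWord
  rw [h]
  simp only [List.map_cons, List.map_nil, List.prod_cons, List.prod_nil, mul_one]
  simp only [rel2_2_xn2, rel2_2_xn12, rel2_2_xn22, X_inv]
  apply reflElt_ext
  intro x
  simp only [act_mul, act_one, act_X2, act_X12, act_X22]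
  apply ext8 <;> simp <;> ring

theorem rel2_2_s23 (t u : F) :
    (Xn 23 u)⁻¹ * (Xn 2 t)⁻¹ * Xn 23 u * Xn 2 t = wprod (Cfsg.Lie.chevD4.commWord F 2 23 t u) := by
  have h : Cfsg.Lie.chevD4.commTerms 2 23 = [(15, 1, 1, 1)] := by decide
  unfold wprod Cfsg.Lie.ChevalleyDatum.commWord
  rw [h]
  simp only [List.map_cons, List.map_nil, List.prod_cons, List.prod_nil, mul_one]
  simp only [rel2_2_xn2, rel2_2_xn15, rel2_2_xn23, X_inv]
  apply reflElt_ext
  intro x
  simp only [act_mul, act_one, act_X2, act_X15, act_X23]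
  apply ext8 <;> simp <;> ring

/-- DO-REL2-2. -/
theorem rel2_2 (s : ℕ) (hs : s < 24) (h1 : s ≠ 2) (h2 : s ≠ 21) (t u : F) :
    (Xn s u)⁻¹ * (Xn 2 t)⁻¹ * Xn s u * Xn 2 t = wprod (Cfsg.Lie.chevD4.commWord F 2 s t u) := by
  interval_cases s
  · exact rel2_2_s0 t u
  · exact rel2_2_s1 t u
  · exact absurd rfl h1
  · exact rel2_2_s3 t u
  · exact rel2_2_s4 t u
  · exact rel2_2_s5 t u
  · exact rel2_2_s6 t u
  · exact rel2_2_s7 t u
  · exact rel2_2_s8 t u
  · exact rel2_2_s9 t u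
  · exact rel2_2_s10 t u
  · exact rel2_2_s11 t u
  · exact rel2_2_s12 t u
  · exact rel2_2_s13 t u
  · exact rel2_2_s14 t u
  · exact rel2_2_s15 t u
  · exact rel2_2_s16 t u
  · exact rel2_2_s17 t u
  · exact rel2_2_s18 t u
  · exact rel2_2_s19 t u
  · exact rel2_2_s20 t u
  · exact absurd rfl h2
  · exact rel2_2_s22 t u
  · exact rel2_2_s23 t u

end Cfsg.Agent.Lib.Helper37.D4O8
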