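import Cfsg.Agent.Lib.Helper37.D4O8Defs

/-!
# DO-REL2-20 (Do hive, S1082): the commutator relations `[x_s(u), x_20(t)]` in `O₈⁺(F)`
(GENERATED from the `chevD4.commTerms` table by helper25's script.)
-/

set_option autoImplicit false
set_option linter.unusedSectionVars false
set_option linter.unusedVariables false
set_option linter.unusedSimpArgs false
set_option linter.unnecessarySeqFocus false
set_option linter.unreachableTactic false
set_option linter.unusedTactic false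

namespace Cfsg.Agent.Lib.Helper37.D4O8

open Matrix Module QuadraticMap
open Cfsg.Agent.Lib.Helper8 Cfsg.Agent.Lib.Helper13 Cfsg.Agent.Lib.Helper37

variable {F : Type*} [Field F]

theorem rel2_20_xn0 (t : F) : Xn 0 t = X 0 t := Xn_of_lt (by norm_num) t
theorem rel2_20_xn1 (t : F) : Xn 1 t = X 1 t := Xn_of_lt (by norm_num) t
theorem rel2_20_xn2 (t : F) : Xn 2 t = X 2 t := Xn_of_lt (by norm_num) t
theorem rel2_20_xn3 (t : F) : Xn 3 t = X 3 t := Xn_of_lt (by norm_num) t
theorem rel2_20_xn4 (t : F) : Xn 4 t = X 4 t := Xn_of_lt (by norm_num) t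
theorem rel2_20_xn5 (t : F) : Xn 5 t = X 5 t := Xn_of_lt (by norm_num) t
theorem rel2_20_xn6 (t : F) : Xn 6 t = X 6 t := Xn_of_lt (by norm_num) t
theorem rel2_20_xn7 (t : F) : Xn 7 t = X 7 t := Xn_of_lt (by norm_num) t
theorem rel2_20_xn8 (t : F) : Xn 8 t = X 8 t := Xn_of_lt (by norm_num) t
theorem rel2_20_xn9 (t : F) : Xn 9 t = X 9 t := Xn_of_lt (by norm_num) t
theorem rel2_20_xn10 (t : F) : Xn 10 t = X 10 t := Xn_of_lt (by norm_num) t
theorem rel2_20_xn11 (t : F) : Xn 11 t = X 11 t := Xn_of_lt (by norm_num) t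
theorem rel2_20_xn12 (t : F) : Xn 12 t = X 12 t := Xn_of_lt (by norm_num) t
theorem rel2_20_xn13 (t : F) : Xn 13 t = X 13 t := Xn_of_lt (by norm_num) t
theorem rel2_20_xn14 (t : F) : Xn 14 t = X 14 t := Xn_of_lt (by norm_num) t
theorem rel2_20_xn15 (t : F) : Xn 15 t = X 15 t := Xn_of_lt (by norm_num) t
theorem rel2_20_xn16 (t : F) : Xn 16 t = X 16 t := Xn_of_lt (by norm_num) t
theorem rel2_20_xn17 (t : F) : Xn 17 t = X 17 t := Xn_of_lt (by norm_num) t
theorem rel2_20_xn18 (t : F) : Xn 18 t = X 18 t := Xn_of_lt (by norm_num) t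
theorem rel2_20_xn19 (t : F) : Xn 19 t = X 19 t := Xn_of_lt (by norm_num) t
theorem rel2_20_xn20 (t : F) : Xn 20 t = X 20 t := Xn_of_lt (by norm_num) t
theorem rel2_20_xn21 (t : F) : Xn 21 t = X 21 t := Xn_of_lt (by norm_num) t
theorem rel2_20_xn22 (t : F) : Xn 22 t = X 22 t := Xn_of_lt (by norm_num) t
theorem rel2_20_xn23 (t : F) : Xn 23 t = X 23 t := Xn_of_lt (by norm_num) t

theorem rel2_20_s0 (t u : F) :
    (Xn 0 u)⁻¹ * (Xn 20 t)⁻¹ * Xn 0 u * Xn 20 t = wprod (Cfsg.Lie.chevD4.commWord F 20 0 t u) := by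
  have h : Cfsg.Lie.chevD4.commTerms 20 0 = [(7, -1, 1, 1)] := by decide
  unfold wprod Cfsg.Lie.ChevalleyDatum.commWord
  rw [h]
  simp only [List.map_cons, List.map_nil, List.prod_cons, List.prod_nil, mul_one]
  simp only [rel2_20_xn0, rel2_20_xn7, rel2_20_xn20, X_inv]
  apply reflElt_ext
  intro x
  simp only [act_mul, act_one, act_X0, act_X7, act_X20]
  apply ext8 <;> simp <;> ring

theorem rel2_20_s1 (t u : F) :
    (Xn 1 u)⁻¹ * (Xn 20 t)⁻¹ * Xn 1 u * Xn 20 t = wprod (Cfsg.Lie.chevD4.commWord F 20 1 t u) := by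
  have h : Cfsg.Lie.chevD4.commTerms 20 1 = [(10, 1, 1, 1)] := by decide
  unfold wprod Cfsg.Lie.ChevalleyDatum.commWord
  rw [h]
  simp only [List.map_cons, List.map_nil, List.prod_cons, List.prod_nil, mul_one]
  simp only [rel2_20_xn1, rel2_20_xn10, rel2_20_xn20, X_inv]
  apply reflElt_ext
  intro x
  simp only [act_mul, act_one, act_X1, act_X10, act_X20]
  apply ext8 <;> simp <;> ring

theorem rel2_20_s2 (t u : F) :
    (Xn 2 u)⁻¹ * (Xn 20 t)⁻¹ * Xn 2 u * Xn 20 t = wprod (Cfsg.Lie.chevD4.commWord F 20 2 t u) := by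
  have h : Cfsg.Lie.chevD4.commTerms 20 2 = [] := by decide
  unfold wprod Cfsg.Lie.ChevalleyDatum.commWord
  rw [h]
  simp only [List.map_cons, List.map_nil, List.prod_cons, List.prod_nil, mul_one]
  simp only [rel2_20_xn2, rel2_20_xn20, X_inv]
  apply reflElt_ext
  intro x
  simp only [act_mul, act_one, act_X2, act_X20]
  apply ext8 <;> simp <;> ring

theorem rel2_20_s4 (t u : F) :
    (Xn 4 u)⁻¹ * (Xn 20 t)⁻¹ * Xn 4 u * Xn 20 t = wprod (Cfsg.Lie.chevD4.commWord F 20 4 t u) := by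
  have h : Cfsg.Lie.chevD4.commTerms 20 4 = [(12, 1, 1, 1)] := by decide
  unfold wprod Cfsg.Lie.ChevalleyDatum.commWord
  rw [h]
  simp only [List.map_cons, List.map_nil, List.prod_cons, List.prod_nil, mul_one]
  simp only [rel2_20_xn4, rel2_20_xn12, rel2_20_xn20, X_inv]
  apply reflElt_ext
  intro x
  simp only [act_mul, act_one, act_X4, act_X12, act_X20]
  apply ext8 <;> simp <;> ring

theorem rel2_20_s5 (t u : F) :
    (Xn 5 u)⁻¹ * (Xn 20 t)⁻¹ * Xn 5 u * Xn 20 t = wprod (Cfsg.Lie.chevD4.commWord F 20 5 t u) := by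
  have h : Cfsg.Lie.chevD4.commTerms 20 5 = [(15, 1, 1, 1)] := by decide
  unfold wprod Cfsg.Lie.ChevalleyDatum.commWord
  rw [h]
  simp only [List.map_cons, List.map_nil, List.prod_cons, List.prod_nil, mul_one]
  simp only [rel2_20_xn5, rel2_20_xn15, rel2_20_xn20, X_inv]
  apply reflElt_ext
  intro x
  simp only [act_mul, act_one, act_X5, act_X15, act_X20]
  apply ext8 <;> simp <;> ring

theorem rel2_20_s6 (t u : F) :
    (Xn 6 u)⁻¹ * (Xn 20 t)⁻¹ * Xn 6 u * Xn 20 t = wprod (Cfsg.Lie.chevD4.commWord F 20 6 t u) := by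
  have h : Cfsg.Lie.chevD4.commTerms 20 6 = [] := by decide
  unfold wprod Cfsg.Lie.ChevalleyDatum.commWord
  rw [h]
  simp only [List.map_cons, List.map_nil, List.prod_cons, List.prod_nil, mul_one]
  simp only [rel2_20_xn6, rel2_20_xn20, X_inv]
  apply reflElt_ext
  intro x
  simp only [act_mul, act_one, act_X6, act_X20]
  apply ext8 <;> simp <;> ring

theorem rel2_20_s7 (t u : F) :
    (Xn 7 u)⁻¹ * (Xn 20 t)⁻¹ * Xn 7 u * Xn 20 t = wprod (Cfsg.Lie.chevD4.commWord F 20 7 t u) := by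
  have h : Cfsg.Lie.chevD4.commTerms 20 7 = [] := by decide
  unfold wprod Cfsg.Lie.ChevalleyDatum.commWord
  rw [h]
  simp only [List.map_cons, List.map_nil, List.prod_cons, List.prod_nil, mul_one]
  simp only [rel2_20_xn7, rel2_20_xn20, X_inv]
  apply reflElt_ext
  intro x
  simp only [act_mul, act_one, act_X7, act_X20]
  apply ext8 <;> simp <;> ring

theorem rel2_20_s8 (t u : F) :
    (Xn 8 u)⁻¹ * (Xn 20 t)⁻¹ * Xn 8 u * Xn 20 t = wprod (Cfsg.Lie.chevD4.commWord F 20 8 t u) := by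
  have h : Cfsg.Lie.chevD4.commTerms 20 8 = [(18, -1, 1, 1)] := by decide
  unfold wprod Cfsg.Lie.ChevalleyDatum.commWord
  rw [h]
  simp only [List.map_cons, List.map_nil, List.prod_cons, List.prod_nil, mul_one]
  simp only [rel2_20_xn8, rel2_20_xn18, rel2_20_xn20, X_inv]
  apply reflElt_ext
  intro x
  simp only [act_mul, act_one, act_X8, act_X18, act_X20]
  apply ext8 <;> simp <;> ring

theorem rel2_20_s9 (t u : F) :
    (Xn 9 u)⁻¹ * (Xn 20 t)⁻¹ * Xn 9 u * Xn 20 t = wprod (Cfsg.Lie.chevD4.commWord F 20 9 t u) := by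
  have h : Cfsg.Lie.chevD4.commTerms 20 9 = [] := by decide
  unfold wprod Cfsg.Lie.ChevalleyDatum.commWord
  rw [h]
  simp only [List.map_cons, List.map_nil, List.prod_cons, List.prod_nil, mul_one]
  simp only [rel2_20_xn9, rel2_20_xn20, X_inv]
  apply reflElt_ext
  intro x
  simp only [act_mul, act_one, act_X9, act_X20]
  apply ext8 <;> simp <;> ring

theorem rel2_20_s10 (t u : F) :
    (Xn 10 u)⁻¹ * (Xn 20 t)⁻¹ * Xn 10 u * Xn 20 t = wprod (Cfsg.Lie.chevD4.commWord F 20 10 t u) := by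
  have h : Cfsg.Lie.chevD4.commTerms 20 10 = [] := by decide
  unfold wprod Cfsg.Lie.ChevalleyDatum.commWord
  rw [h]
  simp only [List.map_cons, List.map_nil, List.prod_cons, List.prod_nil, mul_one]
  simp only [rel2_20_xn10, rel2_20_xn20, X_inv]
  apply reflElt_ext
  intro x
  simp only [act_mul, act_one, act_X10, act_X20]
  apply ext8 <;> simp <;> ring

theorem rel2_20_s11 (t u : F) :
    (Xn 11 u)⁻¹ * (Xn 20 t)⁻¹ * Xn 11 u * Xn 20 t = wprod (Cfsg.Lie.chevD4.commWord F 20 11 t u) := by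
  have h : Cfsg.Lie.chevD4.commTerms 20 11 = [(19, -1, 1, 1)] := by decide
  unfold wprod Cfsg.Lie.ChevalleyDatum.commWord
  rw [h]
  simp only [List.map_cons, List.map_nil, List.prod_cons, List.prod_nil, mul_one]
  simp only [rel2_20_xn11, rel2_20_xn19, rel2_20_xn20, X_inv]
  apply reflElt_ext
  intro x
  simp only [act_mul, act_one, act_X11, act_X19, act_X20]
  apply ext8 <;> simp <;> ring

theorem rel2_20_s12 (t u : F) :
    (Xn 12 u)⁻¹ * (Xn 20 t)⁻¹ * Xn 12 u * Xn 20 t = wprod (Cfsg.Lie.chevD4.commWord F 20 12 t u) := by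
  have h : Cfsg.Lie.chevD4.commTerms 20 12 = [] := by decide
  unfold wprod Cfsg.Lie.ChevalleyDatum.commWord
  rw [h]
  simp only [List.map_cons, List.map_nil, List.prod_cons, List.prod_nil, mul_one]
  simp only [rel2_20_xn12, rel2_20_xn20, X_inv]
  apply reflElt_ext
  intro x
  simp only [act_mul, act_one, act_X12, act_X20]
  apply ext8 <;> simp <;> ring

theorem rel2_20_s13 (t u : F) :
    (Xn 13 u)⁻¹ * (Xn 20 t)⁻¹ * Xn 13 u * Xn 20 t = wprod (Cfsg.Lie.chevD4.commWord F 20 13 t u) := by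
  have h : Cfsg.Lie.chevD4.commTerms 20 13 = [(22, -1, 1, 1)] := by decide
  unfold wprod Cfsg.Lie.ChevalleyDatum.commWord
  rw [h]
  simp only [List.map_cons, List.map_nil, List.prod_cons, List.prod_nil, mul_one]
  simp only [rel2_20_xn13, rel2_20_xn20, rel2_20_xn22, X_inv]
  apply reflElt_ext
  intro x
  simp only [act_mul, act_one, act_X13, act_X20, act_X22]
  apply ext8 <;> simp <;> ring

theorem rel2_20_s14 (t u : F) :
    (Xn 14 u)⁻¹ * (Xn 20 t)⁻¹ * Xn 14 u * Xn 20 t = wprod (Cfsg.Lie.chevD4.commWord F 20 14 t u) := by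
  have h : Cfsg.Lie.chevD4.commTerms 20 14 = [] := by decide
  unfold wprod Cfsg.Lie.ChevalleyDatum.commWord
  rw [h]
  simp only [List.map_cons, List.map_nil, List.prod_cons, List.prod_nil, mul_one]
  simp only [rel2_20_xn14, rel2_20_xn20, X_inv]
  apply reflElt_ext
  intro x
  simp only [act_mul, act_one, act_X14, act_X20]
  apply ext8 <;> simp <;> ring

theorem rel2_20_s15 (t u : F) :
    (Xn 15 u)⁻¹ * (Xn 20 t)⁻¹ * Xn 15 u * Xn 20 t = wprod (Cfsg.Lie.chevD4.commWord F 20 15 t u) := by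
  have h : Cfsg.Lie.chevD4.commTerms 20 15 = [] := by decide
  unfold wprod Cfsg.Lie.ChevalleyDatum.commWord
  rw [h]
  simp only [List.map_cons, List.map_nil, List.prod_cons, List.prod_nil, mul_one]
  simp only [rel2_20_xn15, rel2_20_xn20, X_inv]
  apply reflElt_ext
  intro x
  simp only [act_mul, act_one, act_X15, act_X20]
  apply ext8 <;> simp <;> ring

theorem rel2_20_s16 (t u : F) :
    (Xn 16 u)⁻¹ * (Xn 20 t)⁻¹ * Xn 16 u * Xn 20 t = wprod (Cfsg.Lie.chevD4.commWord F 20 16 t u) := by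
  have h : Cfsg.Lie.chevD4.commTerms 20 16 = [(23, 1, 1, 1)] := by decide
  unfold wprod Cfsg.Lie.ChevalleyDatum.commWord
  rw [h]
  simp only [List.map_cons, List.map_nil, List.prod_cons, List.prod_nil, mul_one]
  simp only [rel2_20_xn16, rel2_20_xn20, rel2_20_xn23, X_inv]
  apply reflElt_ext
  intro x
  simp only [act_mul, act_one, act_X16, act_X20, act_X23]
  apply ext8 <;> simp <;> ring

theorem rel2_20_s17 (t u : F) :
    (Xn 17 u)⁻¹ * (Xn 20 t)⁻¹ * Xn 17 u * Xn 20 t = wprod (Cfsg.Lie.chevD4.commWord F 20 17 t u) := by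
  have h : Cfsg.Lie.chevD4.commTerms 20 17 = [] := by decide
  unfold wprod Cfsg.Lie.ChevalleyDatum.commWord
  rw [h]
  simp only [List.map_cons, List.map_nil, List.prod_cons, List.prod_nil, mul_one]
  simp only [rel2_20_xn17, rel2_20_xn20, X_inv]
  apply reflElt_ext
  intro x
  simp only [act_mul, act_one, act_X17, act_X20]
  apply ext8 <;> simp <;> ring

theorem rel2_20_s18 (t u : F) :
    (Xn 18 u)⁻¹ * (Xn 20 t)⁻¹ * Xn 18 u * Xn 20 t = wprod (Cfsg.Lie.chevD4.commWord F 20 18 t u) := by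
  have h : Cfsg.Lie.chevD4.commTerms 20 18 = [] := by decide
  unfold wprod Cfsg.Lie.ChevalleyDatum.commWord
  rw [h]
  simp only [List.map_cons, List.map_nil, List.prod_cons, List.prod_nil, mul_one]
  simp only [rel2_20_xn18, rel2_20_xn20, X_inv]
  apply reflElt_ext
  intro x
  simp only [act_mul, act_one, act_X18, act_X20]
  apply ext8 <;> simp <;> ring

theorem rel2_20_s19 (t u : F) :
    (Xn 19 u)⁻¹ * (Xn 20 t)⁻¹ * Xn 19 u * Xn 20 t = wprod (Cfsg.Lie.chevD4.commWord F 20 19 t u) := by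
  have h : Cfsg.Lie.chevD4.commTerms 20 19 = [] := by decide
  unfold wprod Cfsg.Lie.ChevalleyDatum.commWord
  rw [h]
  simp only [List.map_cons, List.map_nil, List.prod_cons, List.prod_nil, mul_one]
  simp only [rel2_20_xn19, rel2_20_xn20, X_inv]
  apply reflElt_ext
  intro x
  simp only [act_mul, act_one, act_X19, act_X20]
  apply ext8 <;> simp <;> ring

theorem rel2_20_s21 (t u : F) :
    (Xn 21 u)⁻¹ * (Xn 20 t)⁻¹ * Xn 21 u * Xn 20 t = wprod (Cfsg.Lie.chevD4.commWord F 20 21 t u) := by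
  have h : Cfsg.Lie.chevD4.commTerms 20 21 = [] := by decide
  unfold wprod Cfsg.Lie.ChevalleyDatum.commWord
  rw [h]
  simp only [List.map_cons, List.map_nil, List.prod_cons, List.prod_nil, mul_one]
  simp only [rel2_20_xn20, rel2_20_xn21, X_inv]
  apply reflElt_ext
  intro x
  simp only [act_mul, act_one, act_X20, act_X21]
  apply ext8 <;> simp <;> ring

theorem rel2_20_s22 (t u : F) :
    (Xn 22 u)⁻¹ * (Xn 20 t)⁻¹ * Xn 22 u * Xn 20 t = wprod (Cfsg.Lie.chevD4.commWord F 20 22 t u) := by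
  have h : Cfsg.Lie.chevD4.commTerms 20 22 = [] := by decide
  unfold wprod Cfsg.Lie.ChevalleyDatum.commWord
  rw [h]
  simp only [List.map_cons, List.map_nil, List.prod_cons, List.prod_nil, mul_one]
  simp only [rel2_20_xn20, rel2_20_xn22, X_inv]
  apply reflElt_ext
  intro x
  simp only [act_mul, act_one, act_X20, act_X22]
  apply ext8 <;> simp <;> ring

theorem rel2_20_s23 (t u : F) :
    (Xn 23 u)⁻¹ * (Xn 20 t)⁻¹ * Xn 23 u * Xn 20 t = wprod (Cfsg.Lie.chevD4.commWord F 20 23 t u) := by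
  have h : Cfsg.Lie.chevD4.commTerms 20 23 = [] := by decide
  unfold wprod Cfsg.Lie.ChevalleyDatum.commWord
  rw [h]
  simp only [List.map_cons, List.map_nil, List.prod_cons, List.prod_nil, mul_one]
  simp only [rel2_20_xn20, rel2_20_xn23, X_inv]
  apply reflElt_ext
  intro x
  simp only [act_mul, act_one, act_X20, act_X23]
  apply ext8 <;> simp <;> ring

/-- DO-REL2-20. -/
theorem rel2_20 (s : ℕ) (hs : s < 24) (h1 : s ≠ 20) (h2 : s ≠ 3) (t u : F) :
    (Xn s u)⁻¹ * (Xn 20 t)⁻¹ * Xn s u * Xn 20 t = wprod (Cfsg.Lie.chevD4.commWord F 20 s t u) := by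
  interval_cases s
  · exact rel2_20_s0 t u
  · exact rel2_20_s1 t u
  · exact rel2_20_s2 t u
  · exact absurd rfl h2
  · exact rel2_20_s4 t u
  · exact rel2_20_s5 t u
  · exact rel2_20_s6 t u
  · exact rel2_20_s7 t u
  · exact rel2_20_s8 t u
  · exact rel2_20_s9 t u
  · exact rel2_20_s10 t u
  · exact rel2_20_s11 t u
  · exact rel2_20_s12 t u
  · exact rel2_20_s13 t u
  · exact rel2_20_s14 t u
  · exact rel2_20_s15 t u
  · exact rel2_20_s16 t u
  · exact rel2_20_s17 t u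
  · exact rel2_20_s18 t u
  · exact rel2_20_s19 t u
  · exact absurd rfl h1
  · exact rel2_20_s21 t u
  · exact rel2_20_s22 t u
  · exact rel2_20_s23 t u

end Cfsg.Agent.Lib.Helper37.D4O8
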