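import Cfsg.Agent.Lib.Helper41.StnDefs
import Cfsg.Agent.Lib.Helper80.Stn_BASIC

/-! # Stn hive (helper41, S2401), leaf STN-W-ONE (helper25): conjugation of `x_ik`, `x_jk`, `x_ki`, `x_kj`
by `w_ij(t)` (`k ∉ {i, j}`) -/

set_option autoImplicit false
set_option linter.unusedSimpArgs false
set_option linter.unusedVariables false
set_option linter.unusedSectionVars false

namespace Cfsg.Agent.Lib.Helper41.Stn

open Matrix

variable {K : Type*} [Field K] {n : ℕ}

theorem wone_conj3 {G : Type*} [Group G] (a b x : G) :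
    (a * b * a) * x * (a * b * a)⁻¹ = a * (b * (a * x * a⁻¹) * b⁻¹) * a⁻¹ := by group

theorem wone_conj_mul {G : Type*} [Group G] (a x y : G) :
    a * (x * y) * a⁻¹ = (a * x * a⁻¹) * (a * y * a⁻¹) := by group

/-- commuting case -/
theorem wone_c0 {i j k l : Fin n} (hil : i ≠ l) (hjk : j ≠ k) (t u : K) :
    xx i j t * xx k l u * (xx i j t)⁻¹ = xx k l u := by
  rw [xx_comm hil hjk, mul_inv_cancel_right]

/-- `x_ij(t) x_jl(u) x_ij(t)⁻¹ = x_il(tu) x_jl(u)` -/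
theorem wone_c1 {i j l : Fin n} (hij : i ≠ j) (hjl : j ≠ l) (hil : i ≠ l) (t u : K) :
    xx i j t * xx j l u * (xx i j t)⁻¹ = xx i l (t * u) * xx j l u := by
  rw [← xx_comm3 hij hjl hil t u]
  group

/-- `x_ij(t) x_li(u) x_ij(t)⁻¹ = x_lj(-ut) x_li(u)` -/
theorem wone_c2 {i j l : Fin n} (hij : i ≠ j) (hjl : j ≠ l) (hil : i ≠ l) (t u : K) :
    xx i j t * xx l i u * (xx i j t)⁻¹ = xx l j (-(u * t)) * xx l i u := by
  have h := xx_comm3 (Ne.symm hil) hij (Ne.symm hjl) u t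
  rw [← xx_inv, ← h]
  group

theorem ww_conj_xx_one {i j k : Fin n} (hij : i ≠ j) (hki : k ≠ i) (hkj : k ≠ j) {t : K} (ht : t ≠ 0)
    (u : K) :
    ww i j t * xx i k u * (ww i j t)⁻¹ = xx j k (-t⁻¹ * u) ∧
    ww i j t * xx j k u * (ww i j t)⁻¹ = xx i k (t * u) ∧
    ww i j t * xx k i u * (ww i j t)⁻¹ = xx k j (-t * u) ∧
    ww i j t * xx k j u * (ww i j t)⁻¹ = xx k i (t⁻¹ * u) := by
  have hji : j ≠ i := Ne.symm hij
  have hik : i ≠ k := Ne.symm hki
  have hjk : j ≠ k := Ne.symm hkj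
  unfold ww
  refine ⟨?_, ?_, ?_, ?_⟩
  · have s1 : xx i j t * xx i k u * (xx i j t)⁻¹ = xx i k u := wone_c0 hik hji t u
    have s2 : xx j i (-t⁻¹) * xx i k u * (xx j i (-t⁻¹))⁻¹ = xx j k (-t⁻¹ * u) * xx i k u :=
      wone_c1 hji hik hjk _ _
    have s3 : xx i j t * (xx j k (-t⁻¹ * u) * xx i k u) * (xx i j t)⁻¹ = xx j k (-t⁻¹ * u) := by
      rw [wone_conj_mul, wone_c1 hij hjk hik, wone_c0 hik hji, xx_comm hik hkj, mul_assoc, xx_add]
      have : t * (-t⁻¹ * u) + u = 0 := by field_simp; ring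
      rw [this, xx_zero, mul_one]
    rw [wone_conj3, s1, s2, s3]
  · have s1 : xx i j t * xx j k u * (xx i j t)⁻¹ = xx i k (t * u) * xx j k u :=
      wone_c1 hij hjk hik t u
    have s2 : xx j i (-t⁻¹) * (xx i k (t * u) * xx j k u) * (xx j i (-t⁻¹))⁻¹ = xx i k (t * u) := by
      rw [wone_conj_mul, wone_c1 hji hik hjk, wone_c0 hjk hij, xx_comm hjk hki, mul_assoc, xx_add]
      have : -t⁻¹ * (t * u) + u = 0 := by field_simp; ring
      rw [this, xx_zero, mul_one]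
    have s3 : xx i j t * xx i k (t * u) * (xx i j t)⁻¹ = xx i k (t * u) := wone_c0 hik hji _ _
    rw [wone_conj3, s1, s2, s3]
  · have s1 : xx i j t * xx k i u * (xx i j t)⁻¹ = xx k j (-(u * t)) * xx k i u :=
      wone_c2 hij hjk hik t u
    have s2 : xx j i (-t⁻¹) * (xx k j (-(u * t)) * xx k i u) * (xx j i (-t⁻¹))⁻¹ =
        xx k j (-t * u) := by
      rw [wone_conj_mul, wone_c2 hji hik hjk, wone_c0 hji hik, xx_comm hkj hik,
        mul_assoc, xx_add]
      have : -(-(u * t) * -t⁻¹) + u = 0 := by field_simp; ring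
      rw [this, xx_zero, mul_one]
      congr 1
      ring
    have s3 : xx i j t * xx k j (-t * u) * (xx i j t)⁻¹ = xx k j (-t * u) := wone_c0 hij hjk _ _
    rw [wone_conj3, s1, s2, s3]
  · have s1 : xx i j t * xx k j u * (xx i j t)⁻¹ = xx k j u := wone_c0 hij hjk t u
    have s2 : xx j i (-t⁻¹) * xx k j u * (xx j i (-t⁻¹))⁻¹ = xx k i (t⁻¹ * u) * xx k j u := by
      rw [wone_c2 hji hik hjk]
      congr 2
      ring
    have s3 : xx i j t * (xx k i (t⁻¹ * u) * xx k j u) * (xx i j t)⁻¹ = xx k i (t⁻¹ * u) := by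
      rw [wone_conj_mul, wone_c2 hij hjk hik, wone_c0 hij hjk, xx_comm hki hjk, mul_assoc, xx_add]
      have : -(t⁻¹ * u * t) + u = 0 := by field_simp; ring
      rw [this, xx_zero, mul_one]
    rw [wone_conj3, s1, s2, s3]

end Cfsg.Agent.Lib.Helper41.Stn
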