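import Cfsg.Agent.Lib.Helper41.StnDefs
import Cfsg.Agent.Lib.Helper80.Stn_BASIC
import Cfsg.Agent.Lib.Helper25.Stn_WONE

/-! # Stn hive (helper41, S2401), leaf STN-W-PAIR (helper25): conjugation of `x_ij`, `x_ji` by `w_ij(t)`
(through a third index `k`: `x_ij(u) = [x_ik(u), x_kj(1)]`) -/

set_option autoImplicit false
set_option linter.unusedSimpArgs false
set_option linter.unusedVariables false
set_option linter.unusedSectionVars false

namespace Cfsg.Agent.Lib.Helper41.Stn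

open Matrix

variable {K : Type*} [Field K] {n : ℕ}

theorem wpair_conj_comm {G : Type*} [Group G] (w a b : G) :
    w * (a * b * a⁻¹ * b⁻¹) * w⁻¹ =
      (w * a * w⁻¹) * (w * b * w⁻¹) * (w * a * w⁻¹)⁻¹ * (w * b * w⁻¹)⁻¹ := by group

theorem wpair_third (hn : 3 ≤ n) (i j : Fin n) : ∃ k : Fin n, k ≠ i ∧ k ≠ j := by
  by_contra h
  push Not at h
  have hsub : (Finset.univ : Finset (Fin n)) ⊆ {i, j} := by
    intro k _
    by_cases hk : k = i
    · simp [hk]
    · simp [h k hk]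
  have h1 := Finset.card_le_card hsub
  have h2 : ({i, j} : Finset (Fin n)).card ≤ 2 := Finset.card_le_two
  rw [Finset.card_univ, Fintype.card_fin] at h1
  omega

theorem ww_conj_xx_pair (hn : 3 ≤ n) {i j : Fin n} (hij : i ≠ j) {t : K} (ht : t ≠ 0) (u : K) :
    ww i j t * xx i j u * (ww i j t)⁻¹ = xx j i (-(t ^ 2)⁻¹ * u) ∧
    ww i j t * xx j i u * (ww i j t)⁻¹ = xx i j (-t ^ 2 * u) := by
  obtain ⟨k, hki, hkj⟩ := wpair_third hn i j
  have hji : j ≠ i := Ne.symm hij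
  have hik : i ≠ k := Ne.symm hki
  have hjk : j ≠ k := Ne.symm hkj
  obtain ⟨h1, h2, -, -⟩ := ww_conj_xx_one hij hki hkj ht u
  obtain ⟨-, -, g3, g4⟩ := ww_conj_xx_one hij hki hkj ht (1 : K)
  constructor
  · have e : xx i j u = xx i k u * xx k j 1 * (xx i k u)⁻¹ * (xx k j 1)⁻¹ := by
      rw [xx_comm3 hik hkj hij, mul_one]
    rw [e, wpair_conj_comm, h1, g4, xx_comm3 hjk hki hji]
    congr 1
    field_simp
  · have e : xx j i u = xx j k u * xx k i 1 * (xx j k u)⁻¹ * (xx k i 1)⁻¹ := by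
      rw [xx_comm3 hjk hki hji, mul_one]
    rw [e, wpair_conj_comm, h2, g3, xx_comm3 hik hkj hij]
    congr 1
    ring

end Cfsg.Agent.Lib.Helper41.Stn
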