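import Mathlib

/-! # Tu hive (S5953, helper14): sub-leaf TU-CNTc of helper2's frame count: pure arithmetic (helper25) -/

set_option autoImplicit false
set_option linter.unusedVariables false

namespace Cfsg.Agent.Lib.Helper14.Tu

/-- the number of nonzero isotropic vectors of a nondegenerate hermitian `k`-space, divided by nothing:
`(q^k - (-1)^k) (q^(k-1) - (-1)^(k-1))` -/
def cnt_A (q k : ℕ) : ℕ :=
  if Even k then (q ^ k - 1) * (q ^ (k - 1) + 1) else (q ^ k + 1) * (q ^ (k - 1) - 1)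

theorem cntc_not_dvd_sub {p q a : ℕ} (hp : p.Prime) (hpq : p ∣ q) (ha : 1 ≤ a) (hq : 1 ≤ q) :
    ¬ p ∣ q ^ a - 1 := by
  intro h
  have h1 : p ∣ q ^ a := dvd_pow hpq (by omega)
  have h2 : 1 ≤ q ^ a := Nat.one_le_pow _ _ hq
  have h3 : p ∣ q ^ a - (q ^ a - 1) := Nat.dvd_sub h1 h
  have h4 : q ^ a - (q ^ a - 1) = 1 := by omega
  rw [h4] at h3
  exact hp.one_lt.ne' (Nat.dvd_one.mp h3)

theorem cntc_not_dvd_add {p q a : ℕ} (hp : p.Prime) (hpq : p ∣ q) (ha : 1 ≤ a) :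
    ¬ p ∣ q ^ a + 1 := by
  intro h
  have h1 : p ∣ q ^ a := dvd_pow hpq (by omega)
  have h3 : p ∣ 1 := (Nat.dvd_add_right h1).mp h
  exact hp.one_lt.ne' (Nat.dvd_one.mp h3)

theorem cntc_not_dvd_A {p q k : ℕ} (hp : p.Prime) (hpq : p ∣ q) (hk : 2 ≤ k) (hq : 1 ≤ q) :
    ¬ p ∣ cnt_A q k := by
  unfold cnt_A
  split_ifs with he
  · intro h
    rcases (Nat.Prime.dvd_mul hp).mp h with h1 | h1
    · exact cntc_not_dvd_sub hp hpq (by omega) hq h1
    · exact cntc_not_dvd_add hp hpq (by omega) h1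
  · intro h
    rcases (Nat.Prime.dvd_mul hp).mp h with h1 | h1
    · exact cntc_not_dvd_add hp hpq (by omega) h1
    · exact cntc_not_dvd_sub hp hpq (by omega) hq h1

theorem cntc_dvd_of_dvd_A {r q k : ℕ} (hr : r.Prime) (hk : 2 ≤ k) (hq : 1 ≤ q) (h : r ∣ cnt_A q k) :
    ((r : ℤ) ∣ (q : ℤ) ^ k - (-1) ^ k) ∨ ((r : ℤ) ∣ (q : ℤ) ^ (k - 1) - (-1) ^ (k - 1)) := by
  have hqa : ∀ a : ℕ, 1 ≤ q ^ a := fun a => Nat.one_le_pow _ _ hq
  unfold cnt_A at h
  split_ifs at h with he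
  · have ho : Odd (k - 1) := by
      obtain ⟨c, hc⟩ := he
      exact ⟨c - 1, by omega⟩
    rcases (Nat.Prime.dvd_mul hr).mp h with h1 | h1
    · left
      rw [he.neg_one_pow]
      have := Int.natCast_dvd_natCast.mpr h1
      rwa [Nat.cast_sub (hqa k), Nat.cast_pow, Nat.cast_one] at this
    · right
      rw [ho.neg_one_pow, sub_neg_eq_add]
      have := Int.natCast_dvd_natCast.mpr h1
      rwa [Nat.cast_add, Nat.cast_pow, Nat.cast_one] at this
  · have ho : Odd k := Nat.not_even_iff_odd.mp he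
    have he' : Even (k - 1) := by
      obtain ⟨c, hc⟩ := ho
      exact ⟨c, by omega⟩
    rcases (Nat.Prime.dvd_mul hr).mp h with h1 | h1
    · left
      rw [ho.neg_one_pow, sub_neg_eq_add]
      have := Int.natCast_dvd_natCast.mpr h1
      rwa [Nat.cast_add, Nat.cast_pow, Nat.cast_one] at this
    · right
      rw [he'.neg_one_pow]
      have := Int.natCast_dvd_natCast.mpr h1
      rwa [Nat.cast_sub (hqa (k - 1)), Nat.cast_pow, Nat.cast_one] at this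

/-- TU-CNTc -/
theorem cnt_arith (p : ℕ) (hp : p.Prime) (q f : ℕ) (hf : 0 < f) (hq : q = p ^ f) (n m : ℕ)
    (hm : 1 ≤ m) (hmn : 2 * m ≤ n) (N : ℕ)
    (hN : N * ∏ j ∈ Finset.range m, ((q ^ 2) ^ m - (q ^ 2) ^ j) =
      ∏ j ∈ Finset.range m, ((q ^ 2) ^ j * cnt_A q (n - 2 * j))) :
    ¬ p ∣ N ∧ ∀ r : ℕ, r.Prime → r ≠ p → r ∣ N →
      ∃ j : ℕ, n - 2 * m < j ∧ j ≤ n ∧ ((r : ℤ) ∣ (q : ℤ) ^ j - (-1) ^ j) := by
  have hq1 : 1 ≤ q := by
    rw [hq]
    exact Nat.one_le_pow _ _ hp.pos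
  have hpq : p ∣ q := by
    rw [hq]
    exact dvd_pow_self p hf.ne'
  -- factor out the powers of `q²`
  have hfac : ∏ j ∈ Finset.range m, ((q ^ 2) ^ m - (q ^ 2) ^ j) =
      (∏ j ∈ Finset.range m, (q ^ 2) ^ j) * ∏ j ∈ Finset.range m, ((q ^ 2) ^ (m - j) - 1) := by
    rw [← Finset.prod_mul_distrib]
    apply Finset.prod_congr rfl
    intro j hj
    have hjm : j < m := Finset.mem_range.mp hj
    rw [Nat.mul_sub, mul_one, ← pow_add]
    congr 2
    omega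
  have hfac2 : ∏ j ∈ Finset.range m, ((q ^ 2) ^ j * cnt_A q (n - 2 * j)) =
      (∏ j ∈ Finset.range m, (q ^ 2) ^ j) * ∏ j ∈ Finset.range m, cnt_A q (n - 2 * j) :=
    Finset.prod_mul_distrib
  have hpos : 0 < ∏ j ∈ Finset.range m, (q ^ 2) ^ j :=
    Finset.prod_pos (fun j _ => Nat.pow_pos (Nat.pow_pos hq1))
  have hkey : N * ∏ j ∈ Finset.range m, ((q ^ 2) ^ (m - j) - 1) =
      ∏ j ∈ Finset.range m, cnt_A q (n - 2 * j) := by
    rw [hfac, hfac2] at hN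
    apply Nat.eq_of_mul_eq_mul_left hpos
    rw [← hN]
    ring
  have hdvd : N ∣ ∏ j ∈ Finset.range m, cnt_A q (n - 2 * j) := ⟨_, hkey.symm⟩
  constructor
  · intro hpN
    have h1 : p ∣ ∏ j ∈ Finset.range m, cnt_A q (n - 2 * j) := hpN.trans hdvd
    rw [Prime.dvd_finsetProd_iff (Nat.prime_iff.mp hp)] at h1
    obtain ⟨j, hj, hpj⟩ := h1
    have hjm : j < m := Finset.mem_range.mp hj
    exact cntc_not_dvd_A hp hpq (by omega) hq1 hpj
  · intro r hr _ hrN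
    have h1 : r ∣ ∏ j ∈ Finset.range m, cnt_A q (n - 2 * j) := hrN.trans hdvd
    rw [Prime.dvd_finsetProd_iff (Nat.prime_iff.mp hr)] at h1
    obtain ⟨j, hj, hrj⟩ := h1
    have hjm : j < m := Finset.mem_range.mp hj
    rcases cntc_dvd_of_dvd_A hr (by omega) hq1 hrj with h2 | h2
    · exact ⟨n - 2 * j, by omega, by omega, h2⟩
    · exact ⟨n - 2 * j - 1, by omega, by omega, h2⟩

end Cfsg.Agent.Lib.Helper14.Tu
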