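import Cfsg.Agent.Lib.Helper25.DualW
import Cfsg.Agent.Lib.Helper25.Ind
import Mathlib.RingTheory.IntegralDomain

set_option autoImplicit false

/-!
Orthogonality of the linear characters of a finite group, in `Cfsg.classInner` form.
-/

namespace Cfsg.Agent.Lib.Helper25

open Cfsg
open scoped ComplexConjugate

/-- A linear character as a complex-valued function. -/
noncomputable def homFun {W : Type*} [Group W] (ω : W →* ℂˣ) : W → ℂ := fun w => (ω w : ℂ)

theorem homFun_apply {W : Type*} [Group W] (ω : W →* ℂˣ) (w : W) : homFun ω w = (ω w : ℂ) := rfl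

theorem homFun_mul {W : Type*} [Group W] (ω ω' : W →* ℂˣ) :
    homFun (ω * ω') = fun w => homFun ω w * homFun ω' w := by
  funext w
  simp [homFun]

theorem homFun_one {W : Type*} [Group W] : homFun (1 : W →* ℂˣ) = fun _ => 1 := by
  funext w
  simp [homFun]

theorem sum_hom_eq_zero {W : Type*} [Group W] [Fintype W] (ω : W →* ℂˣ) (h : ω ≠ 1) :
    ∑ w : W, (ω w : ℂ) = 0 := by
  have := sum_hom_units_eq_zero ((Units.coeHom ℂ).comp ω)
    (by
      intro hcon
      apply h
      ext w
      have := DFunLike.congr_fun hcon w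
      simpa using this)
  simpa using this

theorem classInner_homFun {W : Type*} [Group W] [Fintype W] (ω ω' : W →* ℂˣ)
    [Decidable (ω = ω')] :
    classInner (homFun ω) (homFun ω') = if ω = ω' then 1 else 0 := by
  rw [classInner_def]
  have hterm : ∀ w : W, homFun ω w * conj (homFun ω' w) = ((ω * ω'⁻¹) w : ℂ) := by
    intro w
    rw [homFun_apply, homFun_apply, conj_hom_apply]
    simp
  simp only [hterm]
  have hW : (Nat.card W : ℂ) ≠ 0 := card_ne_zero_complex
  split_ifs with h
  · subst h
    have : ω * ω⁻¹ = 1 := mul_inv_cancel ω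
    rw [this]
    simp only [MonoidHom.one_apply, Units.val_one, Finset.sum_const, Finset.card_univ,
      nsmul_eq_mul, mul_one]
    rw [← Nat.card_eq_fintype_card]
    field_simp
  · rw [sum_hom_eq_zero, mul_zero]
    intro hcon
    apply h
    exact mul_inv_eq_one.mp hcon

end Cfsg.Agent.Lib.Helper25
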