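import Mathlib
import Cfsg.Prelude.Def_Local
import Cfsg.Agent.Lib.Helper22.FStar
import Cfsg.Agent.Lib.Helper91.Components

/-!
# MC9 (Mc hive, S1305): transport of a component of `C_G(a)` lying in `C_G(b)` to `C_{C_G(b)}(a)`
-/

set_option autoImplicit false
set_option linter.unusedVariables false
set_option linter.unusedSimpArgs false
set_option linter.unusedSectionVars false

open Cfsg Subgroup

namespace Cfsg.Agent.Lib.Helper22.Mc

universe u

/-- `C_G(b)` viewed inside `C_G(a)` is isomorphic to the centralizer of `a` inside `C_G(b)`;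
the isomorphism keeps the underlying element of `G`. -/
noncomputable def mc9_equiv {G : Type u} [Group G] (a b : G) (hamem : a ∈ centralizer ({b} : Set G)) :
    ↥((centralizer ({b} : Set G)).subgroupOf (centralizer ({a} : Set G))) ≃*
      ↥(centralizer ({(⟨a, hamem⟩ : ↥(centralizer ({b} : Set G)))} :
        Set ↥(centralizer ({b} : Set G)))) where
  toFun x := ⟨⟨((x : ↥(centralizer ({a} : Set G))) : G), Subgroup.mem_subgroupOf.1 x.2⟩, by
    rw [Subgroup.mem_centralizer_singleton_iff]
    apply Subtype.ext
    have h := (x : ↥(centralizer ({a} : Set G))).2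
    rw [Subgroup.mem_centralizer_singleton_iff] at h
    exact h⟩
  invFun y := ⟨⟨((y : ↥(centralizer ({b} : Set G))) : G), by
    have h := y.2
    rw [Subgroup.mem_centralizer_singleton_iff] at h
    rw [Subgroup.mem_centralizer_singleton_iff]
    exact congrArg Subtype.val h⟩, by
    rw [Subgroup.mem_subgroupOf]
    exact (y : ↥(centralizer ({b} : Set G))).2⟩
  left_inv x := by
    apply Subtype.ext
    apply Subtype.ext
    rfl
  right_inv y := by
    apply Subtype.ext
    apply Subtype.ext
    rfl
  map_mul' x y := by
    apply Subtype.ext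
    apply Subtype.ext
    rfl

/-- MC9. Transport: a component `K` of `C_G(a)` inside `C_G(b)` is a component of
`C_{C_G(b)}(a)`. -/
theorem mc9 {G : Type u} [Group G] (a b : G) (hamem : a ∈ centralizer ({b} : Set G)) (K : Subgroup G)
    (hKa : K ≤ centralizer ({a} : Set G)) (hKb : K ≤ centralizer ({b} : Set G))
    (hK : IsComponent (K.subgroupOf (centralizer ({a} : Set G)))) :
    IsComponent ((K.subgroupOf (centralizer ({b} : Set G))).subgroupOf
      (centralizer ({(⟨a, hamem⟩ : ↥(centralizer ({b} : Set G)))} :
        Set ↥(centralizer ({b} : Set G))))) := by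
  -- step 1: inside `C_G(a)`, restrict to `U = C_G(b) ∩ C_G(a)`
  have hLU : K.subgroupOf (centralizer ({a} : Set G)) ≤
      (centralizer ({b} : Set G)).subgroupOf (centralizer ({a} : Set G)) := by
    intro x hx
    rw [Subgroup.mem_subgroupOf] at hx ⊢
    exact hKb hx
  have h1 := Cfsg.Agent.Lib.Helper91.isComponent_subgroupOf hK hLU
  -- step 2: transport along the isomorphism
  have h2 := Cfsg.Agent.Lib.Helper22.isComponent_map_equiv (mc9_equiv a b hamem) h1
  -- step 3: identify the image
  have h3 : ((K.subgroupOf (centralizer ({a} : Set G))).subgroupOf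
      ((centralizer ({b} : Set G)).subgroupOf (centralizer ({a} : Set G)))).map
        (mc9_equiv a b hamem).toMonoidHom =
      (K.subgroupOf (centralizer ({b} : Set G))).subgroupOf
      (centralizer ({(⟨a, hamem⟩ : ↥(centralizer ({b} : Set G)))} :
        Set ↥(centralizer ({b} : Set G)))) := by
    ext y
    rw [Subgroup.mem_map, Subgroup.mem_subgroupOf, Subgroup.mem_subgroupOf]
    constructor
    · rintro ⟨x, hx, rfl⟩
      rw [Subgroup.mem_subgroupOf, Subgroup.mem_subgroupOf] at hx
      exact hx
    · intro hy
      refine ⟨(mc9_equiv a b hamem).symm y, ?_, ?_⟩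
      · rw [Subgroup.mem_subgroupOf, Subgroup.mem_subgroupOf]
        exact hy
      · exact (mc9_equiv a b hamem).apply_symm_apply y
  rw [h3] at h2
  exact h2

end Cfsg.Agent.Lib.Helper22.Mc
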