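import Cfsg.Agent.Lib.Helper5.SlK1Defs

/-! # Sl hive (helper76, S2332), sub-hive K1 (helper5), leaf K1-Q00 (helper25) -/

set_option autoImplicit false
set_option linter.unusedSimpArgs false
set_option linter.unusedVariables false
set_option linter.unusedSectionVars false

namespace Cfsg.Agent.Lib.Helper76.Sl

open Matrix Cfsg

variable {F : Type*} [Field F] [Fintype F] [DecidableEq F]

/-- a matrix whose rows `≠ 0` are identity rows has determinant its `(0,0)` entry -/
theorem k1q00_det (m : ℕ) (M : Matrix (Fin (m + 2)) (Fin (m + 2)) F)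
    (hM : ∀ i j : Fin (m + 2), i ≠ 0 → M i j = (1 : Matrix (Fin (m + 2)) (Fin (m + 2)) F) i j) :
    M.det = M 0 0 := by
  have htri : M.BlockTriangular id := by
    intro i j hji
    have hi : i ≠ 0 := by
      intro h
      rw [h] at hji
      exact absurd hji (Fin.not_lt_zero _)
    rw [hM i j hi, Matrix.one_apply_ne]
    exact ne_of_gt hji
  rw [Matrix.det_of_isUpperTriangular htri, Fin.prod_univ_succ]
  have : ∀ i : Fin (m + 1), M i.succ i.succ = 1 := by
    intro i
    rw [hM _ _ (Fin.succ_ne_zero i), Matrix.one_apply_eq]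
  simp only [this, Finset.prod_const_one, mul_one]

/-- K1-Q00: the `(0,0)` entry of an element of `Q` is `1` (`det = 1`, upper triangular). -/
theorem k1_entry00 (m : ℕ) (x : Gm F m) (hx : x ∈ Qset F m) : x.1 0 0 = 1 := by
  have h := k1q00_det m x.1 hx
  rw [x.2] at h
  exact h.symm

end Cfsg.Agent.Lib.Helper76.Sl
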