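import Cfsg.Agent.Lib.Helper5.SlK1Defs
import Cfsg.Agent.Lib.Helper25.SlK1Q00

/-! # Sl hive (helper76, S2332), sub-hive K1 (helper5), leaf K1-CARD (helper25): `|Q| = q^(m+1)` -/

set_option autoImplicit false
set_option linter.unusedSimpArgs false
set_option linter.unusedVariables false
set_option linter.unusedSectionVars false

namespace Cfsg.Agent.Lib.Helper76.Sl

open Matrix Cfsg

variable {F : Type*} [Field F] [Fintype F] [DecidableEq F]

/-- the matrix `1 + e_0 (0, a)ᵀ` -/
def k1card_mat (m : ℕ) (a : Fin (m + 1) → F) : Matrix (Fin (m + 2)) (Fin (m + 2)) F :=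
  Matrix.of fun i j => if i = 0 then (Fin.cons 1 a : Fin (m + 2) → F) j
    else (1 : Matrix (Fin (m + 2)) (Fin (m + 2)) F) i j

theorem k1card_mat_rows (m : ℕ) (a : Fin (m + 1) → F) (i j : Fin (m + 2)) (hi : i ≠ 0) :
    k1card_mat m a i j = (1 : Matrix (Fin (m + 2)) (Fin (m + 2)) F) i j := by
  simp [k1card_mat, hi]

theorem k1card_mat_row0 (m : ℕ) (a : Fin (m + 1) → F) (j : Fin (m + 1)) :
    k1card_mat m a 0 j.succ = a j := by
  simp [k1card_mat]

theorem k1card_mat_det (m : ℕ) (a : Fin (m + 1) → F) : (k1card_mat m a).det = 1 := by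
  rw [k1q00_det m _ (k1card_mat_rows m a)]
  simp [k1card_mat]

/-- K1-CARD: `|Q| = q^(m+1)`. -/
theorem k1_card (m : ℕ) : Nat.card (Qsub (F := F) m) = Fintype.card F ^ (m + 1) := by
  let f : Qsub (F := F) m → (Fin (m + 1) → F) := fun x j => x.1.1 0 j.succ
  have hinj : Function.Injective f := by
    intro x y hxy
    apply Subtype.ext
    apply Subtype.ext
    ext i j
    by_cases hi : i = 0
    · subst hi
      refine Fin.cases ?_ (fun j' => ?_) j
      · rw [k1_entry00 m x.1 x.2, k1_entry00 m y.1 y.2]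
      · exact congrFun hxy j'
    · rw [x.2 i j hi, y.2 i j hi]
  have hsurj : Function.Surjective f := by
    intro a
    refine ⟨⟨⟨k1card_mat m a, k1card_mat_det m a⟩, ?_⟩, ?_⟩
    · intro i j hi
      exact k1card_mat_rows m a i j hi
    · funext j
      exact k1card_mat_row0 m a j
  rw [Nat.card_congr (Equiv.ofBijective f ⟨hinj, hsurj⟩), Nat.card_eq_fintype_card,
    Fintype.card_fun, Fintype.card_fin]

end Cfsg.Agent.Lib.Helper76.Sl
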