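import Cfsg.Agent.Lib.Helper25.CohMax

set_option autoImplicit false
set_option linter.unusedSectionVars false

namespace Cfsg.Agent.Lib.Helper25

open Cfsg
open scoped ComplexConjugate

section CohMaxRanked

variable {L : Type*} [Group L] [Fintype L] {G : Type*} [Group G] [Fintype G]

/-- Ranked version of `coherent_by_maximality`: in the extension step one may assume that all the
members of `T` of smaller rank already lie in the coherent subset. -/
theorem coherent_by_maximality_ranked {S : Set (L → ℂ)} {τ : (L → ℂ) → (G → ℂ)}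
    {R : (L → ℂ) → Finset (G → ℂ)} (hS : IsCoherenceSystem S τ R) (hfin : S.Finite)
    (S₀ : Set (L → ℂ)) (hS₀ : S₀ ⊆ S) (hS₀c : ∀ φ ∈ S₀, conjFun φ ∈ S₀)
    (hcoh₀ : IsCoherent S₀ ({1}ᶜ : Set L) τ)
    (T : Set (L → ℂ)) (hT : T ⊆ S) (hTc : ∀ φ ∈ T, conjFun φ ∈ T) (hTne : T.Nonempty)
    (r : (L → ℂ) → ℕ)
    (hstep : ∀ S₁ : Finset (L → ℂ), S₀ ⊆ ↑S₁ → ↑S₁ ⊆ S → (∀ φ ∈ S₁, conjFun φ ∈ S₁) →
      IsCoherent (↑S₁ : Set (L → ℂ)) ({1}ᶜ : Set L) τ → ∀ χ ∈ T, χ ∉ S₁ → conjFun χ ∉ S₁ →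
      (∀ χ' ∈ T, r χ' < r χ → χ' ∈ S₁) →
      IsCoherent (↑S₁ ∪ {χ, conjFun χ} : Set (L → ℂ)) ({1}ᶜ : Set L) τ) :
    IsCoherent T ({1}ᶜ : Set L) τ := by
  classical
  let F : Finset (Finset (L → ℂ)) := hfin.toFinset.powerset.filter (fun S₁ =>
    S₀ ⊆ ↑S₁ ∧ (∀ φ ∈ S₁, conjFun φ ∈ S₁) ∧ IsCoherent (↑S₁ : Set (L → ℂ)) ({1}ᶜ : Set L) τ)
  have hF : ∀ S₁ : Finset (L → ℂ), S₁ ∈ F ↔ (↑S₁ ⊆ S ∧ S₀ ⊆ ↑S₁ ∧ (∀ φ ∈ S₁, conjFun φ ∈ S₁) ∧
      IsCoherent (↑S₁ : Set (L → ℂ)) ({1}ᶜ : Set L) τ) := by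
    intro S₁
    simp only [F, Finset.mem_filter, Finset.mem_powerset]
    rw [← Finset.coe_subset, Set.Finite.coe_toFinset]
  have hS₀fin : S₀.Finite := hfin.subset hS₀
  have hTfin : T.Finite := hfin.subset hT
  have h0 : hS₀fin.toFinset ∈ F := by
    rw [hF, Set.Finite.coe_toFinset]
    refine ⟨hS₀, subset_rfl, ?_, hcoh₀⟩
    intro φ hφ
    rw [Set.Finite.mem_toFinset] at hφ ⊢
    exact hS₀c φ hφ
  obtain ⟨S₁, hS₁mem, hmax⟩ := Finset.exists_max_image F Finset.card ⟨_, h0⟩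
  obtain ⟨h1, h2, h3, h4⟩ := (hF S₁).mp hS₁mem
  have claim : T ⊆ ↑S₁ := by
    by_contra hnot
    have hBne : (hTfin.toFinset \ S₁).Nonempty := by
      rw [Set.not_subset] at hnot
      obtain ⟨χ, hχT, hχ⟩ := hnot
      exact ⟨χ, Finset.mem_sdiff.mpr ⟨(Set.Finite.mem_toFinset hTfin).mpr hχT,
        fun h => hχ (Finset.mem_coe.mpr h)⟩⟩
    obtain ⟨χ, hχB, hmin⟩ := Finset.exists_min_image _ r hBne
    obtain ⟨hχT', hχ⟩ := Finset.mem_sdiff.mp hχB
    have hχT : χ ∈ T := (Set.Finite.mem_toFinset hTfin).mp hχT'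
    have hlow : ∀ χ' ∈ T, r χ' < r χ → χ' ∈ S₁ := by
      intro χ' hχ'T hlt
      by_contra hχ'
      have := hmin χ' (Finset.mem_sdiff.mpr ⟨(Set.Finite.mem_toFinset hTfin).mpr hχ'T, hχ'⟩)
      omega
    have hcχ : conjFun χ ∉ S₁ := by
      intro h
      apply hχ
      have := h3 _ h
      rwa [conjFun_conjFun] at this
    have hnew := hstep S₁ h2 h1 h3 h4 χ hχT hχ hcχ hlow
    have hcoe : (↑(insert χ (insert (conjFun χ) S₁)) : Set (L → ℂ)) = ↑S₁ ∪ {χ, conjFun χ} := by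
      ext f
      simp only [Finset.coe_insert, Set.mem_insert_iff, Finset.mem_coe, Set.mem_union,
        Set.mem_singleton_iff]
      tauto
    have hS₂ : insert χ (insert (conjFun χ) S₁) ∈ F := by
      rw [hF, hcoe]
      refine ⟨?_, ?_, ?_, hnew⟩
      · rintro f (hf | hf | hf)
        · exact h1 hf
        · rw [hf]; exact hT hχT
        · rw [Set.mem_singleton_iff] at hf
          rw [hf]; exact hS.conj_mem χ (hT hχT)
      · exact fun f hf => Or.inl (h2 hf)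
      · intro f hf
        rw [Finset.mem_insert, Finset.mem_insert] at hf ⊢
        rcases hf with hf | hf | hf
        · right; left; rw [hf]
        · left; rw [hf, conjFun_conjFun]
        · right; right; exact h3 f hf
    have hle := hmax _ hS₂
    have hlt : S₁.card < (insert χ (insert (conjFun χ) S₁)).card := by
      apply Finset.card_lt_card
      rw [Finset.ssubset_iff_of_subset]
      · exact ⟨χ, Finset.mem_insert_self _ _, hχ⟩
      · intro f hf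
        exact Finset.mem_insert_of_mem (Finset.mem_insert_of_mem hf)
    omega
  obtain ⟨χ, hχ⟩ := hTne
  apply isCoherent_of_subset claim h4
  refine ⟨χ - conjFun χ, Cfsg.Agent.S1516.sub_conj_mem hS hT hTc hχ, ?_⟩
  intro h
  exact hS.conj_ne χ (hT hχ) (sub_eq_zero.mp h).symm

end CohMaxRanked

end Cfsg.Agent.Lib.Helper25
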