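import Cfsg.Agent.S1523

set_option autoImplicit false
set_option linter.unusedSectionVars false
set_option linter.style.haveILetI false

namespace Cfsg.Agent.Lib.Helper25

open Cfsg
open Cfsg.Agent.Lib.Helper80 Cfsg.Agent.Lib.Helper75 Cfsg.Agent.Lib.Helper3
open Cfsg.Agent.S1523 (sum_free_action complMulAction not_conj_inv_of_odd conj_identity)

/-- Hall-subgroup version of Peterfalvi (6.7). -/
theorem const_mod_hall {G : Type*} [Group G] [Finite G] (K : Subgroup G) (hTI : Cfsg.IsTISubset ((K : Subgroup G) : Set G)) (hodd : Odd (Nat.card (Subgroup.normalizer ((K : Subgroup G) : Set G)))) (hHall : ∀ v ∈ K, ∀ x : G, x⁻¹ * v * x ∈ Subgroup.normalizer ((K : Subgroup G) : Set G) → x⁻¹ * v * x ∈ K) (Z : Subgroup G) (hZP : Z ≤ K) (hZn : ∀ x ∈ Subgroup.normalizer ((K : Subgroup G) : Set G), ∀ z ∈ Z, x * z * x⁻¹ ∈ Z) (hZc : ∀ z ∈ Z, ∀ y ∈ (K : Subgroup G), z * y = y * z) (ψ : G → ℂ) (hψ : Cfsg.IsIrrCharacter G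 ψ) (hconst : ∀ z ∈ Z, ∀ z' ∈ Z, z ≠ 1 → z' ≠ 1 → ψ z = ψ z') (z : G) (hz : z ∈ Z) (hz1 : z ≠ 1) : ∃ n d : ℤ, ψ z = n ∧ ψ 1 = d ∧ (Nat.card (K : Subgroup G) : ℤ) ∣ d - n := by
  classical
  letI : Fintype G := Fintype.ofFinite G
  set L := Subgroup.normalizer ((K : Subgroup G) : Set G) with hLdef
  let χ : IrrCharacter G := ⟨ψ, hψ⟩
  have hPL : (K : Subgroup G) ≤ L := Subgroup.le_normalizer
  have hZL : Z ≤ L := hZP.trans hPL
  have hzL : z ∈ L := hZL hz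
  have hzi : z⁻¹ ∈ Z := Z.inv_mem hz
  have hzi1 : z⁻¹ ≠ 1 := by simpa using hz1
  have hai : ψ z⁻¹ = ψ z := hconst z⁻¹ hzi z hz hzi1 hz1
  have hint : ∀ g, IsIntegral ℤ (ψ g) := fun g => irr_isIntegral χ g
  have hclass : ∀ g h : G, ψ (h * g * h⁻¹) = ψ g := fun g h => irr_class χ g h
  -- the value at `z` is a rational integer
  obtain ⟨n, hn⟩ : ∃ n : ℤ, (n : ℂ) = ψ z := by
    apply exists_int_eq_of_forall_ringEquiv_eq _ (hint z)
    intro τ
    obtain ⟨j, hj, hτ⟩ := exists_pow_of_ringEquiv τ (Nat.card G) Nat.card_pos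
    have h1 : τ (ψ z) = ψ (z ^ j) := by
      obtain ⟨m, ρ, hρ, hψρ⟩ := hψ
      rw [← hψρ]
      exact ringEquiv_character_eq_pow ρ τ (Nat.card G) j hτ z pow_card_eq_one'
    rw [h1]
    have hzj1 : z ^ j ≠ 1 := by
      intro h
      have h2 : orderOf z ∣ j := orderOf_dvd_of_pow_eq_one h
      have h3 : orderOf z ∣ Nat.card G := orderOf_dvd_natCard z
      have h4 : orderOf z ∣ Nat.gcd j (Nat.card G) := Nat.dvd_gcd h2 h3
      rw [hj] at h4
      exact hz1 (orderOf_eq_one_iff.1 (Nat.dvd_one.1 h4))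
    exact hconst (z ^ j) (Z.pow_mem hz j) z hz hzj1 hz1
  obtain ⟨d, hdpos, hd⟩ := irr_one_eq_natCast χ
  have hd' : ψ 1 = (d : ℂ) := hd
  -- the key function
  let F : G → ℂ := fun x => ψ (z * (x * z⁻¹ * x⁻¹)) - ψ (z * (x * z * x⁻¹))
  have hsum : ∑ x : G, F x = 0 := by
    have e1 : ∑ x : G, ψ (z * (x * z⁻¹ * x⁻¹)) = (Nat.card G : ℂ) * ψ z * ψ z⁻¹ / ψ 1 :=
      irr_sum_char_mul_conj χ z z⁻¹
    have e2 : ∑ x : G, ψ (z * (x * z * x⁻¹)) = (Nat.card G : ℂ) * ψ z * ψ z / ψ 1 :=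
      irr_sum_char_mul_conj χ z z
    simp only [F, Finset.sum_sub_distrib]
    rw [e1, e2, hai, sub_self]
  -- the part of the sum over `L`
  have hFL : ∀ x ∈ L, F x = if x * z = z * x then ψ 1 - ψ z else 0 := by
    intro x hx
    have ht1 : x * z * x⁻¹ ∈ Z := hZn x hx z hz
    have ht1' : z * (x * z * x⁻¹) ≠ 1 := by
      intro h
      exact not_conj_inv_of_odd L hodd x z hx hzL hz1 (eq_inv_of_mul_eq_one_right h)
    have hv1 : ψ (z * (x * z * x⁻¹)) = ψ z :=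
      hconst _ (Z.mul_mem hz ht1) z hz ht1' hz1
    have ht2 : x * z⁻¹ * x⁻¹ ∈ Z := hZn x hx z⁻¹ hzi
    show ψ (z * (x * z⁻¹ * x⁻¹)) - ψ (z * (x * z * x⁻¹)) = _
    rw [hv1]
    by_cases hc : x * z = z * x
    · rw [if_pos hc]
      have : x * z⁻¹ * x⁻¹ = z⁻¹ := by
        have h1 : x * z⁻¹ = z⁻¹ * x := by
          have this : z⁻¹ * (x * z) * z⁻¹ = z⁻¹ * (z * x) * z⁻¹ := by rw [hc]
          have e1 : z⁻¹ * (x * z) * z⁻¹ = z⁻¹ * x := by group
          have e2 : z⁻¹ * (z * x) * z⁻¹ = x * z⁻¹ := by group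
          rw [e1, e2] at this
          exact this.symm
        rw [h1]; group
      rw [this, mul_inv_cancel]
    · rw [if_neg hc]
      have ht2' : z * (x * z⁻¹ * x⁻¹) ≠ 1 := by
        intro h
        apply hc
        have h1 : x * z⁻¹ * x⁻¹ = z⁻¹ := eq_inv_of_mul_eq_one_right h
        have h2 : x * z⁻¹ = z⁻¹ * x := by
          calc x * z⁻¹ = (x * z⁻¹ * x⁻¹) * x := by group
            _ = z⁻¹ * x := by rw [h1]
        calc x * z = z * (z⁻¹ * x) * z := by group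
          _ = z * (x * z⁻¹) * z := by rw [h2]
          _ = z * x := by group
      rw [hconst _ (Z.mul_mem hz ht2) z hz ht2' hz1, sub_self]
  -- the action on the complement of `L`
  set C := L ⊓ Subgroup.centralizer ({z} : Set G) with hC
  letI := complMulAction L (K : Subgroup G) C hPL inf_le_left
  have hsmul : ∀ (a : ↥(K : Subgroup G) × ↥C) (x : {x : G // x ∉ L}),
      (a • x).1 = (a.1 : G) * x.1 * (a.2 : G)⁻¹ := fun a x => rfl
  have hCz : ∀ c : ↥C, (c : G) * z = z * (c : G) := by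
    intro c
    have := (Subgroup.mem_inf.1 c.2).2
    rw [Subgroup.mem_centralizer_iff] at this
    exact (this z rfl).symm
  have hfree : ∀ (a : ↥(K : Subgroup G) × ↥C) (x : {x : G // x ∉ L}), a • x = x → a = 1 := by
    intro a x h
    have h1 : (a.1 : G) * x.1 * (a.2 : G)⁻¹ = x.1 := by
      rw [← hsmul, h]
    have h2 : (a.2 : G) = x.1⁻¹ * (a.1 : G) * x.1 := by
      calc (a.2 : G) = x.1⁻¹ * ((a.1 : G) * x.1 * (a.2 : G)⁻¹) * (a.2 : G) := by
            rw [h1]; group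
        _ = x.1⁻¹ * (a.1 : G) * x.1 := by group
    have h3 : x.1⁻¹ * (a.1 : G) * x.1 ∈ L := by
      rw [← h2]; exact (Subgroup.mem_inf.1 a.2.2).1
    have h4 : x.1⁻¹ * (a.1 : G) * x.1 ∈ (K : Subgroup G) :=
      hHall _ a.1.2 _ h3
    have h5 : x.1⁻¹ * (a.1 : G) * x.1 = 1 := by
      apply hTI x.1 x.2 _ h4
      have : x.1 * (x.1⁻¹ * (a.1 : G) * x.1) * x.1⁻¹ = (a.1 : G) := by group
      rw [this]
      exact a.1.2
    have h6 : (a.2 : G) = 1 := by rw [h2, h5]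
    have h7 : (a.1 : G) = 1 := by
      have : (a.1 : G) = x.1 * (x.1⁻¹ * (a.1 : G) * x.1) * x.1⁻¹ := by group
      rw [this, h5]; group
    apply Prod.ext
    · exact Subtype.ext h7
    · exact Subtype.ext h6
  have hinv : ∀ (a : ↥(K : Subgroup G) × ↥C) (x : {x : G // x ∉ L}), F (a • x).1 = F x.1 := by
    intro a x
    rw [hsmul]
    have hzv : z * (a.1 : G) = (a.1 : G) * z := hZc z hz _ a.1.2
    have hcz : (a.2 : G) * z = z * (a.2 : G) := hCz a.2
    have hczi : (a.2 : G) * z⁻¹ = z⁻¹ * (a.2 : G) := by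
      calc (a.2 : G) * z⁻¹ = z⁻¹ * (z * (a.2 : G)) * z⁻¹ := by group
        _ = z⁻¹ * ((a.2 : G) * z) * z⁻¹ := by rw [hcz]
        _ = z⁻¹ * (a.2 : G) := by group
    show ψ (z * ((a.1 : G) * x.1 * (a.2 : G)⁻¹ * z⁻¹ * ((a.1 : G) * x.1 * (a.2 : G)⁻¹)⁻¹)) -
      ψ (z * ((a.1 : G) * x.1 * (a.2 : G)⁻¹ * z * ((a.1 : G) * x.1 * (a.2 : G)⁻¹)⁻¹)) =
      ψ (z * (x.1 * z⁻¹ * x.1⁻¹)) - ψ (z * (x.1 * z * x.1⁻¹))
    rw [conj_identity z _ x.1 _ z⁻¹ hczi hzv, conj_identity z _ x.1 _ z hcz hzv, hclass, hclass]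
  obtain ⟨β, hβ, hβsum⟩ := sum_free_action hfree (fun x => F x.1) hinv
    (fun x => (hint _).sub (hint _))
  -- splitting the sum
  have hsplit : ∑ x : G, F x = ∑ x ∈ Finset.univ.filter (· ∈ L), F x +
      ∑ x ∈ Finset.univ.filter (· ∉ L), F x :=
    (Finset.sum_filter_add_sum_filter_not _ _ _).symm
  have hnotL : ∑ x ∈ Finset.univ.filter (· ∉ L), F x = ∑ x : {x : G // x ∉ L}, F x.1 := by
    rw [Finset.sum_subtype (p := fun x => x ∉ L) (Finset.univ.filter (· ∉ L)) (by simp) F]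
  have hLsum : ∑ x ∈ Finset.univ.filter (· ∈ L), F x = (Fintype.card ↥C : ℂ) * (ψ 1 - ψ z) := by
    rw [Finset.sum_congr rfl (fun x hx => hFL x (Finset.mem_filter.1 hx).2), ← Finset.sum_filter,
      Finset.sum_const, nsmul_eq_mul]
    congr 2
    symm
    apply Fintype.card_of_subtype
    intro x
    simp only [Finset.mem_filter, Finset.mem_univ, true_and, hC, Subgroup.mem_inf,
      Subgroup.mem_centralizer_iff, Set.mem_singleton_iff, forall_eq]
    constructor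
    · rintro ⟨h1, h2⟩; exact ⟨h1, h2.symm⟩
    · rintro ⟨h1, h2⟩; exact ⟨h1, h2.symm⟩
  have hcard : (Fintype.card (↥(K : Subgroup G) × ↥C) : ℂ) =
      (Nat.card (K : Subgroup G) : ℂ) * (Fintype.card ↥C : ℂ) := by
    rw [Fintype.card_prod, Nat.card_eq_fintype_card]; push_cast; ring
  have hCne : (Fintype.card ↥C : ℂ) ≠ 0 := by
    exact_mod_cast Fintype.card_ne_zero
  have hkey : ψ 1 - ψ z = (Nat.card (K : Subgroup G) : ℂ) * (-β) := by
    have h0 : (Fintype.card ↥C : ℂ) * ((ψ 1 - ψ z) + (Nat.card (K : Subgroup G) : ℂ) * β) = 0 := by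
      have := hsum
      rw [hsplit, hnotL, hLsum, hβsum, hcard] at this
      rw [← this]; ring
    have := (mul_eq_zero.1 h0).resolve_left hCne
    linear_combination this
  have hPne : (Nat.card (K : Subgroup G) : ℂ) ≠ 0 := by
    exact_mod_cast Nat.card_pos.ne'
  have hq : IsIntegral ℤ ((((d : ℚ) - (n : ℚ)) / (Nat.card (K : Subgroup G) : ℚ) : ℚ) : ℂ) := by
    have : ((((d : ℚ) - (n : ℚ)) / (Nat.card (K : Subgroup G) : ℚ) : ℚ) : ℂ) = -β := by
      push_cast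
      rw [div_eq_iff hPne, ← hd', hn, hkey]; ring
    rw [this]
    exact hβ.neg
  obtain ⟨m, hm⟩ := int_of_isIntegral_ratCast hq
  refine ⟨n, (d : ℤ), hn.symm, by rw [hd']; push_cast; rfl, m, ?_⟩
  have hPne' : (Nat.card (K : Subgroup G) : ℚ) ≠ 0 := by
    exact_mod_cast Nat.card_pos.ne'
  have h1 : ((d : ℚ) - (n : ℚ)) = (Nat.card (K : Subgroup G) : ℚ) * (m : ℚ) := by
    rw [hm]; field_simp
  exact_mod_cast h1


end Cfsg.Agent.Lib.Helper25
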