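import Cfsg.Agent.Lib.Helper80.Orthogonality
import Cfsg.Agent.Lib.Helper3.Complete
import Cfsg.Agent.Lib.Helper25.CharUtil

set_option autoImplicit false
set_option linter.unusedSectionVars false
set_option linter.style.haveILetI false

namespace Cfsg.Agent.Lib.Helper25

open Cfsg
open scoped ComplexConjugate

section ConstOn

variable {L : Type*} [Group L] [Fintype L]

/-- If the multiplicities of the irreducible characters non-trivial on `Z` in a class function
`Ψ` are proportional to the degrees, then `Ψ` is constant on the non-identity elements of `Z`. -/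
theorem const_of_inner_prop (Z : Set L) (Ψ : L → ℂ) (hΨ : IsClassFunction L Ψ) (c : ℂ)
    (hc : ∀ χ : IrrCharacter L, (∃ z ∈ Z, (χ : L → ℂ) z ≠ (χ : L → ℂ) 1) →
      classInner Ψ (χ : L → ℂ) = c * (χ : L → ℂ) 1)
    {z z' : L} (hz : z ∈ Z) (hz' : z' ∈ Z) (hz1 : z ≠ 1) (hz'1 : z' ≠ 1) : Ψ z = Ψ z' := by
  classical
  haveI : Fintype (IrrCharacter L) := Fintype.ofFinite _
  have hexp := Cfsg.Agent.Lib.Helper3.classFunction_eq_sum hΨ
  have hval : ∀ x : L, Ψ x = ∑ χ : IrrCharacter L, classInner Ψ (χ : L → ℂ) * (χ : L → ℂ) x := by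
    intro x
    conv_lhs => rw [hexp]
    simp only [Finset.sum_apply, Pi.smul_apply, smul_eq_mul]
  have hdeg : ∀ χ : IrrCharacter L, conj ((χ : L → ℂ) 1) = (χ : L → ℂ) 1 := by
    intro χ
    obtain ⟨n, _, hn⟩ := irr_degree χ.2
    rw [hn, Complex.conj_natCast]
  have hcol : ∀ x : L, x ≠ 1 → ∑ χ : IrrCharacter L, (χ : L → ℂ) x * (χ : L → ℂ) 1 = 0 := by
    intro x hx
    have h := Cfsg.Agent.Lib.Helper80.irr_column_orthogonality x (1 : L)
    rw [if_neg (by rw [isConj_one_left]; exact hx)] at h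
    rw [← h]
    apply Finset.sum_congr rfl
    intro χ _
    rw [hdeg]
  have hterm : ∀ χ : IrrCharacter L,
      classInner Ψ (χ : L → ℂ) * (χ : L → ℂ) z - classInner Ψ (χ : L → ℂ) * (χ : L → ℂ) z' =
        c * ((χ : L → ℂ) z * (χ : L → ℂ) 1) - c * ((χ : L → ℂ) z' * (χ : L → ℂ) 1) := by
    intro χ
    by_cases h : ∃ z ∈ Z, (χ : L → ℂ) z ≠ (χ : L → ℂ) 1
    · rw [hc χ h]; ring
    · push Not at h
      rw [h z hz, h z' hz']; ring
  have : Ψ z - Ψ z' = 0 := by
    rw [hval z, hval z', ← Finset.sum_sub_distrib, Finset.sum_congr rfl (fun χ _ => hterm χ),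
      Finset.sum_sub_distrib, ← Finset.mul_sum, ← Finset.mul_sum, hcol z hz1, hcol z' hz'1]
    ring
  exact sub_eq_zero.mp this

end ConstOn

end Cfsg.Agent.Lib.Helper25
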