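import Cfsg.Agent.Lib.Helper25.CoprimeConj
import Mathlib.Algebra.BigOperators.Group.Finset.Piecewise
import Mathlib.Data.Fintype.BigOperators
import Mathlib.Data.Complex.Basic

set_option autoImplicit false

/-!
Coprime averaging: if `a` normalises `K`, `a ^ n = 1` with `n` prime to `|K|`, and `f` is invariant
under conjugation by `K`, then the average of `f (a h)` over `h ∈ K` equals the average of
`f (a c)` over `c ∈ C_K(a)`.
-/

namespace Cfsg.Agent.Lib.Helper25

variable {G : Type*} [Group G]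

theorem pow_eq_self_of_pow_eq_one {a : G} {n e : ℕ} (han : a ^ n = 1) (he : e ≡ 1 [MOD n]) :
    a ^ e = a := by
  have h1 : e ≡ 1 [MOD orderOf a] := he.of_dvd (orderOf_dvd_of_pow_eq_one han)
  have := (pow_eq_pow_iff_modEq (x := a)).mpr h1
  rwa [pow_one] at this

theorem pow_eq_one_of_mem [Finite G] {K : Subgroup G} {c : G} (hc : c ∈ K) {e : ℕ}
    (he : e ≡ 0 [MOD Nat.card K]) : c ^ e = 1 := by
  have h1 : e ≡ 0 [MOD orderOf c] := he.of_dvd (Subgroup.orderOf_dvd_natCard K hc)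
  have := (pow_eq_pow_iff_modEq (x := c)).mpr h1
  rwa [pow_zero] at this

theorem conj_pow' (g x : G) (k : ℕ) : (g * x * g⁻¹) ^ k = g * x ^ k * g⁻¹ := by
  induction k with
  | zero => simp
  | succ n ih => rw [pow_succ, ih, pow_succ]; group

/-- Every element of the coset `a K` is `K`-conjugate to `a c` with `c ∈ C_K(a)`. -/
theorem exists_conj_mul_centralizer [Finite G] (K : Subgroup G) (a : G)
    (ha : a ∈ Subgroup.normalizer (K : Set G)) (n : ℕ) (han : a ^ n = 1)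
    (hcop : n.Coprime (Nat.card K)) (h : G) (hh : h ∈ K) :
    ∃ k ∈ K, ∃ c ∈ K, c * a = a * c ∧ k * (a * c) * k⁻¹ = a * h := by
  set t := a * h with ht
  have htn : t ∈ Subgroup.normalizer (K : Set G) :=
    Subgroup.mul_mem _ ha (Subgroup.le_normalizer hh)
  have hta : t * a⁻¹ ∈ K := by
    have := conj_mem_of_mem_normalizer K ha hh
    rwa [ht]
  obtain ⟨e, he1, he0⟩ := Nat.chineseRemainder hcop 1 0
  set s := t ^ e with hs
  have hae : a ^ e = a := pow_eq_self_of_pow_eq_one han he1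
  have hs1 : s * a⁻¹ ∈ K := by
    have := pow_mul_inv_pow_mem K htn hta e
    rwa [hae] at this
  have htnK : t ^ n ∈ K := by
    have := pow_mul_inv_pow_mem K htn hta n
    rwa [han, inv_one, mul_one] at this
  have hsn : s ^ n = 1 := by
    rw [hs, ← pow_mul, mul_comm, pow_mul]
    exact pow_eq_one_of_mem htnK he0
  obtain ⟨x, hx, hxs⟩ := exists_conj_eq_of_coprime n K a s ha hcop han hsn hs1
  set r := s⁻¹ * t with hr
  have hrK : r ∈ K := by
    have h1 : a⁻¹ * s ∈ K := by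
      have := conj_inv_mem_of_mem_normalizer K ha hs1
      have e1 : a⁻¹ * (s * a⁻¹) * a = a⁻¹ * s := by group
      rwa [e1] at this
    have h2 : a⁻¹ * t = h := by rw [ht]; group
    have e2 : r = (a⁻¹ * s)⁻¹ * (a⁻¹ * t) := by rw [hr]; group
    rw [e2, h2]
    exact K.mul_mem (K.inv_mem h1) hh
  have hcomm : Commute s t := by
    rw [hs]
    exact (Commute.refl t).pow_left e
  have hsr : s * r = t := by rw [hr]; group
  have hrs : r * s = t := by
    rw [hr, mul_assoc, ← hcomm.eq]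
    group
  refine ⟨x⁻¹, K.inv_mem hx, x * r * x⁻¹, K.mul_mem (K.mul_mem hx hrK) (K.inv_mem hx), ?_, ?_⟩
  · rw [← hxs]
    calc x * r * x⁻¹ * (x * s * x⁻¹) = x * (r * s) * x⁻¹ := by group
      _ = x * (s * r) * x⁻¹ := by rw [hrs, hsr]
      _ = x * s * x⁻¹ * (x * r * x⁻¹) := by group
  · rw [← hxs]
    calc x⁻¹ * (x * s * x⁻¹ * (x * r * x⁻¹)) * x⁻¹⁻¹ = s * r := by group
      _ = t := hsr

/-- Uniqueness up to `C_K(a)` in the previous lemma. -/
theorem conj_centralizer_unique [Finite G] (K : Subgroup G) (a : G) (n : ℕ) (han : a ^ n = 1)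
    (hcop : n.Coprime (Nat.card K)) {j c c₀ : G} (hc : c ∈ K) (hc₀ : c₀ ∈ K)
    (hca : c * a = a * c) (hc₀a : c₀ * a = a * c₀) (h : a * c = j * (a * c₀) * j⁻¹) :
    j * a = a * j ∧ c = j * c₀ * j⁻¹ := by
  obtain ⟨e, he1, he0⟩ := Nat.chineseRemainder hcop 1 0
  have hae : a ^ e = a := pow_eq_self_of_pow_eq_one han he1
  have h1 : (a * c) ^ e = a := by
    have hcm : Commute a c := hca.symm
    rw [hcm.mul_pow, hae, pow_eq_one_of_mem hc he0, mul_one]
  have h2 : (a * c₀) ^ e = a := by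
    have hcm : Commute a c₀ := hc₀a.symm
    rw [hcm.mul_pow, hae, pow_eq_one_of_mem hc₀ he0, mul_one]
  have h3 : a = j * a * j⁻¹ := by
    have := congrArg (fun z => z ^ e) h
    beta_reduce at this
    rw [conj_pow', h1, h2] at this
    exact this
  have h4 : j * a = a * j := by
    calc j * a = (j * a * j⁻¹) * j := by group
      _ = a * j := by rw [← h3]
  refine ⟨h4, ?_⟩
  have h5 : a * c = a * (j * c₀ * j⁻¹) := by
    rw [h]
    calc j * (a * c₀) * j⁻¹ = (j * a * j⁻¹) * (j * c₀ * j⁻¹) := by group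
      _ = a * (j * c₀ * j⁻¹) := by rw [← h3]
  exact mul_left_cancel h5

section Avg

variable [Fintype G] [DecidableEq G]

/-- The fibres of `(k, c) ↦ k (a c) k⁻¹` over the coset `a K` all have `|C_K(a)|` elements. -/
theorem card_conj_fiber (K : Subgroup G) [DecidablePred (· ∈ K)] (a : G)
    (ha : a ∈ Subgroup.normalizer (K : Set G)) (n : ℕ) (han : a ^ n = 1)
    (hcop : n.Coprime (Nat.card K)) (h : G) (hh : h ∈ K) :
    (((Finset.univ.filter (· ∈ K)) ×ˢ (Finset.univ.filter (fun c : G => c ∈ K ∧ c * a = a * c))).filter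
      (fun p : G × G => p.1 * (a * p.2) * p.1⁻¹ = a * h)).card =
    (Finset.univ.filter (fun c : G => c ∈ K ∧ c * a = a * c)).card := by
  obtain ⟨k₀, hk₀, c₀, hc₀, hc₀a, hk₀c₀⟩ := exists_conj_mul_centralizer K a ha n han hcop h hh
  symm
  apply Finset.card_bij (fun j _ => (k₀ * j⁻¹, j * c₀ * j⁻¹))
  · intro j hj
    rw [Finset.mem_filter] at hj
    obtain ⟨-, hjK, hja⟩ := hj
    have hja' : j⁻¹ * a * j = a := by
      calc j⁻¹ * a * j = j⁻¹ * (a * j) := by group
        _ = j⁻¹ * (j * a) := by rw [hja]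
        _ = a := by group
    rw [Finset.mem_filter, Finset.mem_product, Finset.mem_filter, Finset.mem_filter]
    refine ⟨⟨⟨Finset.mem_univ _, K.mul_mem hk₀ (K.inv_mem hjK)⟩, Finset.mem_univ _,
      K.mul_mem (K.mul_mem hjK hc₀) (K.inv_mem hjK), ?_⟩, ?_⟩
    · calc j * c₀ * j⁻¹ * a = j * c₀ * (j⁻¹ * a * j) * j⁻¹ := by group
        _ = j * (c₀ * a) * j⁻¹ := by rw [hja']; group
        _ = j * (a * c₀) * j⁻¹ := by rw [hc₀a]
        _ = (j * a) * c₀ * j⁻¹ := by group
        _ = a * (j * c₀ * j⁻¹) := by rw [hja]; group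
    · show k₀ * j⁻¹ * (a * (j * c₀ * j⁻¹)) * (k₀ * j⁻¹)⁻¹ = a * h
      calc k₀ * j⁻¹ * (a * (j * c₀ * j⁻¹)) * (k₀ * j⁻¹)⁻¹
          = k₀ * ((j⁻¹ * a * j) * c₀) * k₀⁻¹ := by group
        _ = a * h := by rw [hja', hk₀c₀]
  · intro j₁ _ j₂ _ h12
    have := congrArg Prod.fst h12
    simp only at this
    have h' := mul_left_cancel this
    exact inv_injective h'
  · intro p hp
    rw [Finset.mem_filter, Finset.mem_product, Finset.mem_filter, Finset.mem_filter] at hp
    obtain ⟨⟨⟨-, hk⟩, -, hc, hca⟩, hp3⟩ := hp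
    have hkey : a * p.2 = (p.1⁻¹ * k₀) * (a * c₀) * (p.1⁻¹ * k₀)⁻¹ := by
      have : p.1 * (a * p.2) * p.1⁻¹ = k₀ * (a * c₀) * k₀⁻¹ := by rw [hp3, hk₀c₀]
      calc a * p.2 = p.1⁻¹ * (p.1 * (a * p.2) * p.1⁻¹) * p.1 := by group
        _ = p.1⁻¹ * (k₀ * (a * c₀) * k₀⁻¹) * p.1 := by rw [this]
        _ = _ := by group
    obtain ⟨u1, u2⟩ := conj_centralizer_unique K a n han hcop hc hc₀ hca hc₀a hkey
    refine ⟨p.1⁻¹ * k₀, ?_, ?_⟩
    · rw [Finset.mem_filter]
      exact ⟨Finset.mem_univ _, K.mul_mem (K.inv_mem hk) hk₀, u1⟩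
    · apply Prod.ext
      · show k₀ * (p.1⁻¹ * k₀)⁻¹ = p.1
        group
      · show (p.1⁻¹ * k₀) * c₀ * (p.1⁻¹ * k₀)⁻¹ = p.2
        exact u2.symm

/-- Coprime averaging. -/
theorem coprime_average (K : Subgroup G) [DecidablePred (· ∈ K)] (a : G)
    (ha : a ∈ Subgroup.normalizer (K : Set G)) (n : ℕ) (han : a ^ n = 1)
    (hcop : n.Coprime (Nat.card K)) (f : G → ℂ) (hf : ∀ k ∈ K, ∀ g, f (k * g * k⁻¹) = f g) :
    ((Finset.univ.filter (fun c : G => c ∈ K ∧ c * a = a * c)).card : ℂ) *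
        ∑ h ∈ Finset.univ.filter (· ∈ K), f (a * h) =
      ((Finset.univ.filter (· ∈ K)).card : ℂ) *
        ∑ c ∈ Finset.univ.filter (fun c : G => c ∈ K ∧ c * a = a * c), f (a * c) := by
  set FK := Finset.univ.filter (· ∈ K) with hFK
  set FC := Finset.univ.filter (fun c : G => c ∈ K ∧ c * a = a * c) with hFC
  have h1 : ∑ p ∈ FK ×ˢ FC, f (p.1 * (a * p.2) * p.1⁻¹) = (FK.card : ℂ) * ∑ c ∈ FC, f (a * c) := by
    rw [Finset.sum_product]
    have : ∀ k ∈ FK, ∑ c ∈ FC, f (k * (a * c) * k⁻¹) = ∑ c ∈ FC, f (a * c) := by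
      intro k hk
      apply Finset.sum_congr rfl
      intro c _
      exact hf k (Finset.mem_filter.mp hk).2 _
    rw [Finset.sum_congr rfl this, Finset.sum_const, nsmul_eq_mul]
  have h2 : ∑ p ∈ FK ×ˢ FC, f (p.1 * (a * p.2) * p.1⁻¹) = (FC.card : ℂ) * ∑ h ∈ FK, f (a * h) := by
    have e1 : ∀ p ∈ FK ×ˢ FC, f (p.1 * (a * p.2) * p.1⁻¹) =
        ∑ h ∈ FK, if p.1 * (a * p.2) * p.1⁻¹ = a * h then f (a * h) else 0 := by
      intro p hp
      rw [Finset.mem_product, Finset.mem_filter, Finset.mem_filter] at hp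
      obtain ⟨⟨-, hk⟩, -, hc, -⟩ := hp
      have hmem : a⁻¹ * p.1 * a * p.2 * p.1⁻¹ ∈ FK := by
        rw [Finset.mem_filter]
        refine ⟨Finset.mem_univ _, ?_⟩
        exact K.mul_mem (K.mul_mem (conj_inv_mem_of_mem_normalizer K ha hk) hc) (K.inv_mem hk)
      rw [Finset.sum_eq_single_of_mem _ hmem]
      · have : a * (a⁻¹ * p.1 * a * p.2 * p.1⁻¹) = p.1 * (a * p.2) * p.1⁻¹ := by group
        rw [if_pos this.symm, this]
      · intro h _ hne
        rw [if_neg]
        intro heq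
        apply hne
        have : a * h = a * (a⁻¹ * p.1 * a * p.2 * p.1⁻¹) := by rw [← heq]; group
        exact mul_left_cancel this
    rw [Finset.sum_congr rfl e1, Finset.sum_comm, Finset.mul_sum]
    apply Finset.sum_congr rfl
    intro h hh
    rw [← Finset.sum_filter, Finset.sum_const, nsmul_eq_mul,
      card_conj_fiber K a ha n han hcop h (Finset.mem_filter.mp hh).2]
  rw [← h1, ← h2]

end Avg

end Cfsg.Agent.Lib.Helper25
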