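import Cfsg.Agent.Lib.Helper25.CoprimeAvg

set_option autoImplicit false

/-!
Glauberman-type lemmas for a coprime element `x` acting on a normal subgroup `K`: every
`x`-invariant class of `K` contains an `x`-fixed element, and `x`-fixed elements that are
`K`-conjugate are `C_K(x)`-conjugate.
-/

namespace Cfsg.Agent.Lib.Helper25

variable {G : Type*} [Group G] [Finite G]

/-- An `x`-invariant `K`-class contains an element commuting with `x`. -/
theorem exists_conj_commute_of_invariant_class (K : Subgroup G) (x : G)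
    (hx : x ∈ Subgroup.normalizer (K : Set G)) (n : ℕ) (hxn : x ^ n = 1)
    (hcop : n.Coprime (Nat.card K)) (k m : G) (hm : m ∈ K)
    (hmk : m * k * m⁻¹ = x * k * x⁻¹) :
    ∃ h ∈ K, x * (h * k * h⁻¹) = (h * k * h⁻¹) * x := by
  -- `y = m⁻¹ x = x h₀` centralises `k`
  set h₀ := x⁻¹ * m⁻¹ * x with hh₀
  have hh₀K : h₀ ∈ K := conj_inv_mem_of_mem_normalizer K hx (K.inv_mem hm)
  have hy : x * h₀ = m⁻¹ * x := by rw [hh₀]; group
  have hyk : (m⁻¹ * x) * k * (m⁻¹ * x)⁻¹ = k := by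
    calc (m⁻¹ * x) * k * (m⁻¹ * x)⁻¹ = m⁻¹ * (x * k * x⁻¹) * m := by group
      _ = m⁻¹ * (m * k * m⁻¹) * m := by rw [hmk]
      _ = k := by group
  obtain ⟨k', hk', c, hc, hcx, hconj⟩ := exists_conj_mul_centralizer K x hx n hxn hcop h₀ hh₀K
  -- `x c` centralises `k'⁻¹ k k'`
  have h1 : (x * c) * (k'⁻¹ * k * k') * (x * c)⁻¹ = k'⁻¹ * k * k' := by
    have e : x * c = k'⁻¹ * (m⁻¹ * x) * k' := by
      rw [← hy, ← hconj]; group
    rw [e]
    calc k'⁻¹ * (m⁻¹ * x) * k' * (k'⁻¹ * k * k') * (k'⁻¹ * (m⁻¹ * x) * k')⁻¹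
        = k'⁻¹ * ((m⁻¹ * x) * k * (m⁻¹ * x)⁻¹) * k' := by group
      _ = k'⁻¹ * k * k' := by rw [hyk]
  -- `x = (x c)^e`
  obtain ⟨e, he1, he0⟩ := Nat.chineseRemainder hcop 1 0
  have hxe : x ^ e = x := pow_eq_self_of_pow_eq_one hxn he1
  have hce : c ^ e = 1 := pow_eq_one_of_mem hc he0
  have hcomm : Commute x c := hcx.symm
  have hxc : (x * c) ^ e = x := by
    rw [hcomm.mul_pow, hxe, hce, mul_one]
  have h2 : Commute (x * c) (k'⁻¹ * k * k') := by
    have : (x * c) * (k'⁻¹ * k * k') = (k'⁻¹ * k * k') * (x * c) := by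
      calc (x * c) * (k'⁻¹ * k * k') = ((x * c) * (k'⁻¹ * k * k') * (x * c)⁻¹) * (x * c) := by group
        _ = (k'⁻¹ * k * k') * (x * c) := by rw [h1]
    exact this
  have h3 : Commute x (k'⁻¹ * k * k') := by
    rw [← hxc]
    exact h2.pow_left e
  refine ⟨k'⁻¹, K.inv_mem hk', ?_⟩
  rw [inv_inv]
  exact h3.eq

/-- `x`-fixed elements that are `K`-conjugate are conjugate under `C_K(x)`. -/
theorem exists_conj_of_commute (K : Subgroup G) [hKn : K.Normal] (x : G) (n : ℕ) (hxn : x ^ n = 1)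
    (hcop : n.Coprime (Nat.card K)) (c c' m : G) (hm : m ∈ K) (hcx : x * c = c * x)
    (hc'x : x * c' = c' * x) (hconj : c' = m * c * m⁻¹) :
    ∃ d ∈ K, x * d = d * x ∧ c' = d * c * d⁻¹ := by
  set D := Subgroup.centralizer ({c'} : Set G) with hD
  have memD : ∀ g : G, g ∈ D ↔ g * c' = c' * g := by
    intro g
    rw [hD, Subgroup.mem_centralizer_iff]
    constructor
    · intro h; exact (h c' rfl).symm
    · intro h y hy
      rw [Set.mem_singleton_iff] at hy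
      rw [hy]; exact h.symm
  set H := K ⊓ D with hH
  have hxD : x ∈ D := (memD x).mpr hc'x
  set t := m * x * m⁻¹ with ht
  have htD : t ∈ D := by
    rw [memD, ht, hconj]
    calc m * x * m⁻¹ * (m * c * m⁻¹) = m * (x * c) * m⁻¹ := by group
      _ = m * (c * x) * m⁻¹ := by rw [hcx]
      _ = m * c * m⁻¹ * (m * x * m⁻¹) := by group
  have hxnorm : x ∈ Subgroup.normalizer (H : Set G) := by
    rw [Subgroup.mem_set_normalizer_iff]
    intro h
    constructor
    · rintro ⟨h1, h2⟩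
      exact ⟨hKn.conj_mem h h1 x, D.mul_mem (D.mul_mem hxD h2) (D.inv_mem hxD)⟩
    · rintro ⟨h1, h2⟩
      have e : h = x⁻¹ * (x * h * x⁻¹) * x⁻¹⁻¹ := by group
      rw [e]
      exact ⟨hKn.conj_mem _ h1 x⁻¹,
        D.mul_mem (D.mul_mem (D.inv_mem hxD) h2) (D.inv_mem (D.inv_mem hxD))⟩
  have hcopH : n.Coprime (Nat.card H) :=
    Nat.Coprime.coprime_dvd_right (Subgroup.card_dvd_of_le inf_le_left) hcop
  have htn : t ^ n = 1 := by
    rw [ht, conj_pow', hxn]; group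
  have htx : t * x⁻¹ ∈ H := by
    refine ⟨?_, D.mul_mem htD (D.inv_mem hxD)⟩
    have e : t * x⁻¹ = m * (x * m⁻¹ * x⁻¹) := by rw [ht]; group
    rw [e]
    exact K.mul_mem hm (hKn.conj_mem _ (K.inv_mem hm) x)
  obtain ⟨d₀, hd₀, hd₀t⟩ := exists_conj_eq_of_coprime n H x t hxnorm hcopH hxn htn htx
  refine ⟨d₀ * m, K.mul_mem hd₀.1 hm, ?_, ?_⟩
  · have e : d₀ * m * x = x * (d₀ * m) := by
      calc d₀ * m * x = (d₀ * t * d₀⁻¹) * (d₀ * m) := by rw [ht]; group
        _ = x * (d₀ * m) := by rw [hd₀t]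
    exact e.symm
  · have h1 := (memD d₀).mp hd₀.2
    calc c' = (c' * d₀) * d₀⁻¹ := by group
      _ = (d₀ * c') * d₀⁻¹ := by rw [h1]
      _ = d₀ * (m * c * m⁻¹) * d₀⁻¹ := by rw [← hconj]
      _ = d₀ * m * c * (d₀ * m)⁻¹ := by group

end Cfsg.Agent.Lib.Helper25
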