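import Mathlib.GroupTheory.Perm.Cycle.Type
import Mathlib.Data.Nat.Factorization.Induction
import Mathlib.GroupTheory.Index
import Mathlib.GroupTheory.Coset.Card
import Mathlib.RingTheory.Coprime.Lemmas

set_option autoImplicit false

/-!
Conjugacy of cyclic complements (the cyclic case of the Schur–Zassenhaus conjugacy theorem),
in elementwise form: if `g` normalises `H`, `g ^ n = 1 = t ^ n` with `n` prime to `|H|` and
`t ∈ H g`, then `t` is `H`-conjugate to `g`.
-/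

namespace Cfsg.Agent.Lib.Helper25

variable {G : Type*} [Group G]

theorem conj_mem_of_mem_normalizer (H : Subgroup G) {g : G}
    (hg : g ∈ Subgroup.normalizer (H : Set G)) {x : G} (hx : x ∈ H) : g * x * g⁻¹ ∈ H :=
  (Subgroup.mem_set_normalizer_iff.mp hg x).mp hx

theorem conj_inv_mem_of_mem_normalizer (H : Subgroup G) {g : G}
    (hg : g ∈ Subgroup.normalizer (H : Set G)) {x : G} (hx : x ∈ H) : g⁻¹ * x * g ∈ H := by
  have := conj_mem_of_mem_normalizer H (Subgroup.inv_mem _ hg) hx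
  simpa using this

/-- If `a ∈ H b` and `a` normalises `H` then `a ^ j ∈ H b ^ j`. -/
theorem pow_mul_inv_pow_mem (H : Subgroup G) {a b : G}
    (ha : a ∈ Subgroup.normalizer (H : Set G)) (hab : a * b⁻¹ ∈ H) (j : ℕ) :
    a ^ j * (b ^ j)⁻¹ ∈ H := by
  induction j with
  | zero => simp
  | succ j ih =>
    have : a ^ (j + 1) * (b ^ (j + 1))⁻¹ = a * (a ^ j * (b ^ j)⁻¹) * a⁻¹ * (a * b⁻¹) := by
      rw [pow_succ', pow_succ', mul_inv_rev]; group
    rw [this]
    exact H.mul_mem (conj_mem_of_mem_normalizer H ha ih) hab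

/-- If `a ∈ H b` and `a` normalises `H` then `a ^ j ∈ H b ^ j`, for integers `j`. -/
theorem zpow_mul_inv_zpow_mem (H : Subgroup G) {a b : G}
    (ha : a ∈ Subgroup.normalizer (H : Set G)) (hab : a * b⁻¹ ∈ H) (j : ℤ) :
    a ^ j * (b ^ j)⁻¹ ∈ H := by
  obtain ⟨k, rfl | rfl⟩ := j.eq_nat_or_neg
  · simpa using pow_mul_inv_pow_mem H ha hab k
  · have h1 := pow_mul_inv_pow_mem H ha hab k
    have hak : a ^ k ∈ Subgroup.normalizer (H : Set G) := Subgroup.pow_mem _ ha k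
    have h2 := conj_inv_mem_of_mem_normalizer H hak (H.inv_mem h1)
    have : a ^ (-(k : ℤ)) * (b ^ (-(k : ℤ)))⁻¹ = (a ^ k)⁻¹ * (a ^ k * (b ^ k)⁻¹)⁻¹ * a ^ k := by
      rw [zpow_neg, zpow_neg, zpow_natCast, zpow_natCast]; group
    rw [this]; exact h2

/-- The prime power case: a fixed point argument. -/
theorem exists_conj_eq_of_prime_pow [Finite G] (p k : ℕ) (hp : p.Prime) (H : Subgroup G) (g t : G)
    (hg : g ∈ Subgroup.normalizer (H : Set G)) (hcop : Nat.Coprime (p ^ k) (Nat.card H))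
    (hk : 0 < k)
    (hgn : g ^ (p ^ k) = 1) (htn : t ^ (p ^ k) = 1) (htg : t * g⁻¹ ∈ H) :
    ∃ x ∈ H, x * t * x⁻¹ = g := by
  classical
  have : Fact p.Prime := ⟨hp⟩
  have : Fintype H := Fintype.ofFinite _
  let f : Function.End H := fun x => ⟨t * x * g⁻¹, by
    have : t * (x : G) * g⁻¹ = (t * g⁻¹) * (g * x * g⁻¹) := by group
    rw [this]
    exact H.mul_mem htg (conj_mem_of_mem_normalizer H hg x.2)⟩
  have hf : ∀ (j : ℕ) (x : H), (((f ^ j) x : H) : G) = t ^ j * x * (g ^ j)⁻¹ := by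
    intro j
    induction j with
    | zero =>
      intro x
      rw [pow_zero, pow_zero, pow_zero]
      change (x : G) = _
      simp
    | succ j ih =>
      intro x
      rw [pow_succ']
      change t * ((f ^ j) x : H) * g⁻¹ = _
      rw [ih x, pow_succ', pow_succ', mul_inv_rev]
      group
  have hfp : f ^ p ^ k = 1 := by
    funext x
    apply Subtype.ext
    rw [hf, hgn, htn]
    change _ = (x : G)
    simp
  have hmod := Equiv.Perm.card_fixedPoints_modEq (f := f) hfp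
  have hnd : ¬ p ∣ Fintype.card H := by
    intro hd
    rw [← Nat.card_eq_fintype_card] at hd
    have h1 : p ∣ p ^ k := dvd_pow_self p hk.ne'
    have := Nat.dvd_gcd h1 hd
    rw [hcop] at this
    exact hp.one_lt.ne' (Nat.dvd_one.mp this)
  have hne : Fintype.card (Function.fixedPoints f) ≠ 0 := by
    intro h0
    rw [h0] at hmod
    exact hnd ((Nat.modEq_zero_iff_dvd).mp hmod)
  obtain ⟨⟨x, hx⟩⟩ := Fintype.card_pos_iff.mp (Nat.pos_of_ne_zero hne)
  have hx' : t * (x : G) * g⁻¹ = x := congrArg Subtype.val hx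
  refine ⟨(x : G)⁻¹, H.inv_mem x.2, ?_⟩
  rw [inv_inv]
  have hxg : t * (x : G) = x * g := by
    have h := congrArg (fun z => z * g) hx'
    simp only [inv_mul_cancel_right] at h
    exact h
  rw [mul_assoc, hxg]; group

/-- Conjugacy in the coset `H g`: if `g` normalises `H`, `g ^ n = 1 = t ^ n` with `n` prime to `|H|`
and `t ∈ H g`, then `t` is `H`-conjugate to `g`. -/
theorem exists_conj_eq_of_coprime [Finite G] (n : ℕ) : ∀ (H : Subgroup G) (g t : G),
    g ∈ Subgroup.normalizer (H : Set G) → Nat.Coprime n (Nat.card H) →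
    g ^ n = 1 → t ^ n = 1 → t * g⁻¹ ∈ H → ∃ x ∈ H, x * t * x⁻¹ = g := by
  induction n using Nat.recOnPosPrimePosCoprime with
  | prime_pow p k hp hk =>
    intro H g t hg hcop hgn htn htg
    exact exists_conj_eq_of_prime_pow p k hp H g t hg hcop hk hgn htn htg
  | zero =>
    intro H g t hg hcop hgn htn htg
    rw [Nat.coprime_zero_left] at hcop
    have hbot : H = ⊥ := Subgroup.card_eq_one.mp hcop
    rw [hbot, Subgroup.mem_bot] at htg
    refine ⟨1, H.one_mem, ?_⟩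
    rw [mul_inv_eq_one] at htg
    simp [htg]
  | one =>
    intro H g t hg hcop hgn htn htg
    rw [pow_one] at hgn htn
    refine ⟨1, H.one_mem, ?_⟩
    simp [hgn, htn]
  | coprime a b ha hb hab iha ihb =>
    intro H g t hg hcop hgn htn htg
    obtain ⟨u, v, huv⟩ := Nat.isCoprime_iff_coprime.mpr hab
    have hcopa : Nat.Coprime a (Nat.card H) := Nat.Coprime.coprime_dvd_left (dvd_mul_right a b) hcop
    have hcopb : Nat.Coprime b (Nat.card H) := Nat.Coprime.coprime_dvd_left (dvd_mul_left b a) hcop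
    -- the parts of g and t
    set g₁ := g ^ (v * (b : ℤ)) with hg₁
    set g₂ := g ^ (u * (a : ℤ)) with hg₂
    set t₁ := t ^ (v * (b : ℤ)) with ht₁
    set t₂ := t ^ (u * (a : ℤ)) with ht₂
    have hgg : g₁ * g₂ = g := by
      rw [hg₁, hg₂, ← zpow_add, add_comm, huv, zpow_one]
    have htt : t₁ * t₂ = t := by
      rw [ht₁, ht₂, ← zpow_add, add_comm, huv, zpow_one]
    have hg₁a : g₁ ^ a = 1 := by
      rw [hg₁, ← zpow_natCast, ← zpow_mul, mul_assoc, zpow_mul, ← Nat.cast_mul, mul_comm b a,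
        zpow_natCast, ← zpow_natCast, ← zpow_mul, mul_comm, zpow_mul, zpow_natCast, hgn, one_zpow]
    have hg₂b : g₂ ^ b = 1 := by
      rw [hg₂, ← zpow_natCast, ← zpow_mul, mul_assoc, zpow_mul, ← Nat.cast_mul,
        zpow_natCast, ← zpow_natCast, ← zpow_mul, mul_comm, zpow_mul, zpow_natCast, hgn, one_zpow]
    have ht₁a : t₁ ^ a = 1 := by
      rw [ht₁, ← zpow_natCast, ← zpow_mul, mul_assoc, zpow_mul, ← Nat.cast_mul, mul_comm b a,
        zpow_natCast, ← zpow_natCast, ← zpow_mul, mul_comm, zpow_mul, zpow_natCast, htn, one_zpow]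
    have ht₂b : t₂ ^ b = 1 := by
      rw [ht₂, ← zpow_natCast, ← zpow_mul, mul_assoc, zpow_mul, ← Nat.cast_mul,
        zpow_natCast, ← zpow_natCast, ← zpow_mul, mul_comm, zpow_mul, zpow_natCast, htn, one_zpow]
    have htN : t ∈ Subgroup.normalizer (H : Set G) := by
      have : t = (t * g⁻¹) * g := by group
      rw [this]
      exact Subgroup.mul_mem _ (Subgroup.le_normalizer htg) hg
    have hg₁N : g₁ ∈ Subgroup.normalizer (H : Set G) := Subgroup.zpow_mem _ hg _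
    have hg₂N : g₂ ∈ Subgroup.normalizer (H : Set G) := Subgroup.zpow_mem _ hg _
    have ht₁g₁ : t₁ * g₁⁻¹ ∈ H := zpow_mul_inv_zpow_mem H htN htg _
    have ht₂g₂ : t₂ * g₂⁻¹ ∈ H := zpow_mul_inv_zpow_mem H htN htg _
    have hcomm_t : Commute t₁ t₂ := by
      rw [ht₁, ht₂]; exact (Commute.refl t).zpow_zpow _ _
    have hcomm_g : Commute g₁ g₂ := by
      rw [hg₁, hg₂]; exact (Commute.refl g).zpow_zpow _ _
    -- step 1
    obtain ⟨x₁, hx₁, hx₁t⟩ := iha H g₁ t₁ hg₁N hcopa hg₁a ht₁a ht₁g₁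
    -- step 2
    set t₂' := x₁ * t₂ * x₁⁻¹ with ht₂'
    have hcomm' : Commute g₁ t₂' := by
      rw [← hx₁t, ht₂']
      have : Commute (x₁ * t₁ * x₁⁻¹) (x₁ * t₂ * x₁⁻¹) := by
        have := hcomm_t.eq
        unfold Commute SemiconjBy
        calc x₁ * t₁ * x₁⁻¹ * (x₁ * t₂ * x₁⁻¹) = x₁ * (t₁ * t₂) * x₁⁻¹ := by group
          _ = x₁ * (t₂ * t₁) * x₁⁻¹ := by rw [this]
          _ = _ := by group
      exact this
    let H' : Subgroup G := H ⊓ Subgroup.centralizer ({g₁} : Set G)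
    have hmemH' : ∀ z, z ∈ H' ↔ z ∈ H ∧ g₁ * z = z * g₁ := by
      intro z
      constructor
      · rintro ⟨h1, h2⟩
        refine ⟨h1, ?_⟩
        have h2' : z ∈ Subgroup.centralizer ({g₁} : Set G) := h2
        rw [Subgroup.mem_centralizer_iff] at h2'
        exact h2' g₁ rfl
      · rintro ⟨h1, h2⟩
        refine ⟨h1, ?_⟩
        change z ∈ Subgroup.centralizer ({g₁} : Set G)
        rw [Subgroup.mem_centralizer_iff]
        intro y hy
        rw [Set.mem_singleton_iff] at hy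
        rw [hy]; exact h2
    have ht₂'g₂ : t₂' * g₂⁻¹ ∈ H' := by
      rw [hmemH']
      constructor
      · have : t₂' * g₂⁻¹ = x₁ * (t₂ * g₂⁻¹) * (g₂ * x₁⁻¹ * g₂⁻¹) := by
          rw [ht₂']; group
        rw [this]
        exact H.mul_mem (H.mul_mem hx₁ ht₂g₂)
          (conj_mem_of_mem_normalizer H hg₂N (H.inv_mem hx₁))
      · have h1 := hcomm'.eq
        have h2 : g₁ * g₂⁻¹ = g₂⁻¹ * g₁ := (hcomm_g.inv_right).eq
        calc g₁ * (t₂' * g₂⁻¹) = (g₁ * t₂') * g₂⁻¹ := by group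
          _ = t₂' * (g₁ * g₂⁻¹) := by rw [h1]; group
          _ = t₂' * g₂⁻¹ * g₁ := by rw [h2]; group
    have hg₂N' : g₂ ∈ Subgroup.normalizer (H' : Set G) := by
      rw [Subgroup.mem_set_normalizer_iff]
      intro z
      simp only [SetLike.mem_coe, hmemH']
      have h2 : g₁ * g₂ = g₂ * g₁ := hcomm_g.eq
      have h3 : g₁ * g₂⁻¹ = g₂⁻¹ * g₁ := (hcomm_g.inv_right).eq
      constructor
      · rintro ⟨hz1, hz2⟩
        refine ⟨conj_mem_of_mem_normalizer H hg₂N hz1, ?_⟩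
        calc g₁ * (g₂ * z * g₂⁻¹) = (g₁ * g₂) * z * g₂⁻¹ := by group
          _ = g₂ * (g₁ * z) * g₂⁻¹ := by rw [h2]; group
          _ = g₂ * z * (g₁ * g₂⁻¹) := by rw [hz2]; group
          _ = g₂ * z * g₂⁻¹ * g₁ := by rw [h3]; group
      · rintro ⟨hz1, hz2⟩
        constructor
        · have := conj_inv_mem_of_mem_normalizer H hg₂N hz1
          have e : g₂⁻¹ * (g₂ * z * g₂⁻¹) * g₂ = z := by group
          rwa [e] at this
        · have e : z = g₂⁻¹ * (g₂ * z * g₂⁻¹) * g₂ := by group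
          rw [e]
          set w := g₂ * z * g₂⁻¹ with hw
          calc g₁ * (g₂⁻¹ * w * g₂) = (g₁ * g₂⁻¹) * w * g₂ := by group
            _ = g₂⁻¹ * (g₁ * w) * g₂ := by rw [h3]; group
            _ = g₂⁻¹ * w * (g₁ * g₂) := by rw [hz2]; group
            _ = g₂⁻¹ * w * g₂ * g₁ := by rw [h2]; group
    have hcopb' : Nat.Coprime b (Nat.card H') :=
      Nat.Coprime.coprime_dvd_right (Subgroup.card_dvd_of_le inf_le_left) hcopb
    have ht₂'b : t₂' ^ b = 1 := by
      rw [ht₂', conj_pow, ht₂b]; group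
    obtain ⟨x₂, hx₂, hx₂t⟩ := ihb H' g₂ t₂' hg₂N' hcopb' hg₂b ht₂'b ht₂'g₂
    have hx₂' := (hmemH' x₂).mp hx₂
    refine ⟨x₂ * x₁, H.mul_mem hx₂'.1 hx₁, ?_⟩
    have e1 : x₂ * x₁ * t * (x₂ * x₁)⁻¹ = x₂ * ((x₁ * t₁ * x₁⁻¹) * (x₁ * t₂ * x₁⁻¹)) * x₂⁻¹ := by
      rw [← htt]; group
    rw [e1, hx₁t, ← ht₂']
    have e2 : x₂ * (g₁ * t₂') * x₂⁻¹ = (x₂ * g₁) * t₂' * x₂⁻¹ := by group
    rw [e2, ← hx₂'.2]
    have e3 : g₁ * x₂ * t₂' * x₂⁻¹ = g₁ * (x₂ * t₂' * x₂⁻¹) := by group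
    rw [e3, hx₂t, hgg]

end Cfsg.Agent.Lib.Helper25
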