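import Cfsg.Agent.Lib.Helper25.Ind
import Cfsg.Prelude.Def_OddOrderChar
import Cfsg.Prelude.Def_OddOrderLocal

set_option autoImplicit false

/-!
Consequences of `Cfsg.IsCyclicTIFamily`: the induction formula for all pairs `(φ, ψ)` and the
additivity of the coefficients `⟨θ, χ ω⟩` of a class function vanishing on `W \ (W₁ ∪ W₂)`.
-/

namespace Cfsg.Agent.Lib.Helper25

open Cfsg
open scoped ComplexConjugate

variable {G : Type*} [Group G] [Fintype G]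

/-- The function `(1 - φ)(1 - ψ)` on `W`. -/
noncomputable def alphaFun {W : Type*} [Group W] (φ ψ : W →* ℂˣ) : W → ℂ :=
  fun w => 1 - (φ w : ℂ) - (ψ w : ℂ) + (φ w : ℂ) * (ψ w : ℂ)

theorem alphaFun_eq_zero_of_right {W : Type*} [Group W] (φ ψ : W →* ℂˣ) (w : W) (h : ψ w = 1) :
    alphaFun φ ψ w = 0 := by
  unfold alphaFun; rw [h]; simp

theorem alphaFun_eq_zero_of_left {W : Type*} [Group W] (φ ψ : W →* ℂˣ) (w : W) (h : φ w = 1) :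
    alphaFun φ ψ w = 0 := by
  unfold alphaFun; rw [h]; simp

/-- The induction identity of a cyclic TI family, for all pairs (also trivial `φ` or `ψ`). -/
theorem cyclicTI_induced_eq (W₁ W₂ : Subgroup G) (χ : (↥(W₁ ⊔ W₂) →* ℂˣ) → (G → ℂ))
    (hχ : IsCyclicTIFamily W₁ W₂ χ) (φ ψ : ↥(W₁ ⊔ W₂) →* ℂˣ)
    (hφ : ∀ w : ↥(W₁ ⊔ W₂), (w : G) ∈ W₂ → φ w = 1)
    (hψ : ∀ w : ↥(W₁ ⊔ W₂), (w : G) ∈ W₁ → ψ w = 1) :
    indFun (W₁ ⊔ W₂) (alphaFun φ ψ) = fun g => 1 - χ φ g - χ ψ g + χ (φ * ψ) g := by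
  by_cases h1 : φ = 1
  · subst h1
    have : alphaFun (1 : ↥(W₁ ⊔ W₂) →* ℂˣ) ψ = 0 := by
      funext w
      exact alphaFun_eq_zero_of_left _ _ w rfl
    have e : (1 : ↥(W₁ ⊔ W₂) →* ℂˣ) * ψ = ψ := by
      ext w; simp
    rw [this, indFun_zero, e]
    funext g
    simp [hχ.map_one]
  by_cases h2 : ψ = 1
  · subst h2
    have : alphaFun φ (1 : ↥(W₁ ⊔ W₂) →* ℂˣ) = 0 := by
      funext w
      exact alphaFun_eq_zero_of_right _ _ w rfl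
    have e : φ * (1 : ↥(W₁ ⊔ W₂) →* ℂˣ) = φ := by
      ext w; simp
    rw [this, indFun_zero, e]
    funext g
    simp [hχ.map_one]
  exact hχ.induced_eq φ ψ h1 h2 hφ hψ

/-- For a class function `θ` vanishing on `W \ (W₁ ∪ W₂)`, the coefficients `a ω = ⟨θ, χ ω⟩`
satisfy `a (φ ψ) = a φ + a ψ - a 1`. -/
theorem cyclicTI_coeff_add (W₁ W₂ : Subgroup G) (χ : (↥(W₁ ⊔ W₂) →* ℂˣ) → (G → ℂ))
    (hχ : IsCyclicTIFamily W₁ W₂ χ) (θ : G → ℂ) (hθ : IsClassFunction G θ)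
    (hθV : ∀ w : ↥(W₁ ⊔ W₂), (w : G) ∉ W₁ → (w : G) ∉ W₂ → θ w = 0)
    (φ ψ : ↥(W₁ ⊔ W₂) →* ℂˣ)
    (hφ : ∀ w : ↥(W₁ ⊔ W₂), (w : G) ∈ W₂ → φ w = 1)
    (hψ : ∀ w : ↥(W₁ ⊔ W₂), (w : G) ∈ W₁ → ψ w = 1) :
    classInner θ (χ (φ * ψ)) = classInner θ (χ φ) + classInner θ (χ ψ) - classInner θ (χ 1) := by
  classical
  have hind := cyclicTI_induced_eq W₁ W₂ χ hχ φ ψ hφ hψ
  have h0 : classInner θ (indFun (W₁ ⊔ W₂) (alphaFun φ ψ)) = 0 := by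
    rw [frobenius_reciprocity' (W₁ ⊔ W₂) (alphaFun φ ψ) θ hθ, classInner_def]
    have : ∀ w : ↥(W₁ ⊔ W₂), θ (w : G) * conj (alphaFun φ ψ w) = 0 := by
      intro w
      by_cases h1 : (w : G) ∈ W₁
      · rw [alphaFun_eq_zero_of_right φ ψ w (hψ w h1)]; simp
      by_cases h2 : (w : G) ∈ W₂
      · rw [alphaFun_eq_zero_of_left φ ψ w (hφ w h2)]; simp
      rw [hθV w h1 h2, zero_mul]
    simp [this]
  have hfun : (fun g => 1 - χ φ g - χ ψ g + χ (φ * ψ) g) = χ 1 - χ φ - χ ψ + χ (φ * ψ) := by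
    funext g
    simp [hχ.map_one]
  rw [hind, hfun, classInner_add_right, classInner_sub_right, classInner_sub_right] at h0
  linear_combination h0

end Cfsg.Agent.Lib.Helper25
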