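import Cfsg.Agent.Lib.Helper25.CyclicTIUnique
import Cfsg.Agent.Lib.Helper75.GaloisTwist
import Cfsg.Agent.Lib.Helper75.GaloisNorm

set_option autoImplicit false
set_option linter.unusedSectionVars false

/-!
Galois equivariance of the cyclic TI family: `σ (χ ω g) = χ (ω ^ k) g` when `σ` raises the
`|G|`-th roots of unity to the `k`-th power.
-/

namespace Cfsg.Agent.Lib.Helper25

open Cfsg
open scoped ComplexConjugate

section General

theorem pow_inj_of_coprime {M : Type*} [Monoid M] {x y : M} {N k : ℕ} (hx : x ^ N = 1)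
    (hy : y ^ N = 1) (hk : Nat.Coprime k N) (h : x ^ k = y ^ k) : x = y := by
  rcases Nat.lt_or_ge 1 N with hN | hN
  · obtain ⟨m, -, hm⟩ := Nat.exists_mul_mod_eq_one_of_coprime hk hN
    have key : ∀ z : M, z ^ N = 1 → z ^ (k * m) = z := by
      intro z hz
      rw [← Nat.mod_add_div (k * m) N, hm, pow_add, pow_mul, hz, one_pow, mul_one, pow_one]
    rw [← key x hx, ← key y hy, pow_mul, pow_mul, h]
  · interval_cases N
    · have : k = 1 := by simpa using hk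
      rw [this, pow_one, pow_one] at h
      exact h
    · rw [pow_one] at hx hy
      rw [hx, hy]

variable {G : Type*} [Group G] [Fintype G]

theorem ringEquiv_extendByZero (τ : ℂ ≃+* ℂ) (H : Subgroup G) (θ : H → ℂ) (y : G) :
    τ (extendByZero H θ y) = extendByZero H (fun h => τ (θ h)) y := by
  by_cases hy : y ∈ H
  · rw [extendByZero_of_mem H θ hy, extendByZero_of_mem H _ hy]
  · rw [extendByZero_of_not_mem H θ hy, extendByZero_of_not_mem H _ hy, map_zero]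

theorem ringEquiv_indFun (τ : ℂ ≃+* ℂ) (H : Subgroup G) (θ : H → ℂ) (g : G) :
    τ (indFun H θ g) = indFun H (fun h => τ (θ h)) g := by
  rw [indFun_apply, indFun_apply, map_mul, map_inv₀, map_natCast, map_sum]
  congr 1
  apply Finset.sum_congr rfl
  intro x _
  exact ringEquiv_extendByZero τ H θ _

theorem ringEquiv_pm_one (τ : ℂ ≃+* ℂ) {ε : ℂ} (h : ε = 1 ∨ ε = -1) : τ ε = ε := by
  rcases h with rfl | rfl
  · exact map_one τ
  · rw [map_neg, map_one]

/-- Galois twisting preserves inner products of signed irreducible characters. -/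
theorem classInner_ringEquiv_signed (τ : ℂ ≃+* ℂ) {α β : G → ℂ}
    (hα : IsIrrCharacter G α ∨ IsIrrCharacter G (-α))
    (hβ : IsIrrCharacter G β ∨ IsIrrCharacter G (-β)) :
    classInner (fun g => τ (α g)) (fun g => τ (β g)) = classInner α β := by
  classical
  obtain ⟨ε, μ, hε, hμ, rfl⟩ := signed_irr hα
  obtain ⟨ε₁, μ₁, hε₁, hμ₁, rfl⟩ := signed_irr hβ
  have e1 : (fun g => τ ((ε • μ) g)) = ε • (fun g => τ (μ g)) := by
    funext g
    simp only [Pi.smul_apply, smul_eq_mul, map_mul, ringEquiv_pm_one τ hε]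
  have e2 : (fun g => τ ((ε₁ • μ₁) g)) = ε₁ • (fun g => τ (μ₁ g)) := by
    funext g
    simp only [Pi.smul_apply, smul_eq_mul, map_mul, ringEquiv_pm_one τ hε₁]
  rw [e1, e2, classInner_signed_irr (Cfsg.Agent.Lib.Helper75.isIrrCharacter_ringEquiv_comp τ hμ)
    (Cfsg.Agent.Lib.Helper75.isIrrCharacter_ringEquiv_comp τ hμ₁), classInner_signed_irr hμ hμ₁]
  have hiff : ((fun g => τ (μ g)) = fun g => τ (μ₁ g)) ↔ μ = μ₁ := by
    constructor
    · intro h
      funext g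
      exact τ.injective (congrFun h g)
    · rintro rfl; rfl
  by_cases h : μ = μ₁
  · rw [if_pos h, if_pos (hiff.mpr h)]
  · rw [if_neg h, if_neg (fun h' => h (hiff.mp h'))]

theorem signed_ringEquiv (τ : ℂ ≃+* ℂ) {α : G → ℂ}
    (hα : IsIrrCharacter G α ∨ IsIrrCharacter G (-α)) :
    IsIrrCharacter G (fun g => τ (α g)) ∨ IsIrrCharacter G (-(fun g => τ (α g))) := by
  rcases hα with h | h
  · left
    exact Cfsg.Agent.Lib.Helper75.isIrrCharacter_ringEquiv_comp τ h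
  · right
    have := Cfsg.Agent.Lib.Helper75.isIrrCharacter_ringEquiv_comp τ h
    have e : (fun g => τ ((-α) g)) = -(fun g => τ (α g)) := by
      funext g
      simp
    rwa [e] at this

/-- A ring automorphism acting as the `k`-th power on `N`-th roots of unity sends the value of a
signed irreducible character at `g` to its value at `g ^ k`. -/
theorem signed_ringEquiv_eq_pow (τ : ℂ ≃+* ℂ) (N k : ℕ)
    (hτ : ∀ μ : ℂ, μ ^ N = 1 → τ μ = μ ^ k) {α : G → ℂ}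
    (hα : IsIrrCharacter G α ∨ IsIrrCharacter G (-α)) (g : G) (hg : g ^ N = 1) :
    τ (α g) = α (g ^ k) := by
  rcases hα with h | h
  · obtain ⟨n, ρ, -, rfl⟩ := h
    exact Cfsg.Agent.Lib.Helper75.ringEquiv_character_eq_pow ρ τ N k hτ g hg
  · obtain ⟨n, ρ, -, hρ⟩ := h
    have := Cfsg.Agent.Lib.Helper75.ringEquiv_character_eq_pow ρ τ N k hτ g hg
    rw [hρ] at this
    simp only [Pi.neg_apply, map_neg] at this
    exact neg_injective this

theorem signed_isIntegral {α : G → ℂ}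
    (hα : IsIrrCharacter G α ∨ IsIrrCharacter G (-α)) (g : G) : IsIntegral ℤ (α g) := by
  rcases hα with h | h
  · exact Cfsg.Agent.Lib.Helper3.IsCharacter.isIntegral
      (Cfsg.Agent.Lib.Helper3.IsIrrCharacter.isCharacter h) g
  · have := Cfsg.Agent.Lib.Helper3.IsCharacter.isIntegral
      (Cfsg.Agent.Lib.Helper3.IsIrrCharacter.isCharacter h) g
    have e : α g = -((-α) g) := by simp
    rw [e]
    exact this.neg

end General

section Twist

variable {G : Type*} [Group G] [Fintype G] {W₁ W₂ : Subgroup G}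

theorem hom_pow_card_eq_one (ω : ↥(W₁ ⊔ W₂) →* ℂˣ) (w : ↥(W₁ ⊔ W₂)) :
    (ω w) ^ Nat.card G = 1 := by
  rw [← map_pow]
  have : w ^ Nat.card G = 1 := by
    apply Subtype.ext
    rw [Subgroup.coe_pow, Subgroup.coe_one]
    exact pow_card_eq_one'
  rw [this, map_one]

theorem hom_val_pow_card_eq_one (ω : ↥(W₁ ⊔ W₂) →* ℂˣ) (w : ↥(W₁ ⊔ W₂)) :
    ((ω w : ℂˣ) : ℂ) ^ Nat.card G = 1 := by
  rw [← Units.val_pow_eq_pow_val, hom_pow_card_eq_one, Units.val_one]

theorem hom_pow_injective {k : ℕ} (hk : Nat.Coprime k (Nat.card G))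
    {ω ω' : ↥(W₁ ⊔ W₂) →* ℂˣ} (h : ω ^ k = ω' ^ k) : ω = ω' := by
  ext w
  have h1 := DFunLike.congr_fun h w
  rw [MonoidHom.pow_apply, MonoidHom.pow_apply] at h1
  rw [pow_inj_of_coprime (hom_pow_card_eq_one ω w) (hom_pow_card_eq_one ω' w) hk h1]

/-- The Galois twist of a cyclic TI family is again a cyclic TI family. -/
theorem cyclicTI_twist (χ : (↥(W₁ ⊔ W₂) →* ℂˣ) → (G → ℂ)) (hχ : IsCyclicTIFamily W₁ W₂ χ)
    (σ : ℂ ≃+* ℂ) (k : ℕ) (hk : Nat.Coprime k (Nat.card G))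
    (hσ : ∀ μ : ℂ, μ ^ Nat.card G = 1 → σ μ = μ ^ k) :
    IsCyclicTIFamily W₁ W₂ (fun ω g => σ.symm (χ (ω ^ k) g)) := by
  classical
  have hsymm : ∀ (ω : ↥(W₁ ⊔ W₂) →* ℂˣ) (w : ↥(W₁ ⊔ W₂)),
      σ.symm (((ω ^ k) w : ℂˣ) : ℂ) = ((ω w : ℂˣ) : ℂ) := by
    intro ω w
    rw [MonoidHom.pow_apply, Units.val_pow_eq_pow_val, ← hσ _ (hom_val_pow_card_eq_one ω w),
      RingEquiv.symm_apply_apply]
  refine ⟨?_, ?_, ?_, ?_, ?_⟩
  · intro ω
    exact signed_ringEquiv σ.symm (hχ.irr_or_neg (ω ^ k))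
  · intro ω ω'
    rw [classInner_ringEquiv_signed σ.symm (hχ.irr_or_neg _) (hχ.irr_or_neg _), hχ.orthonormal]
    by_cases h : ω = ω'
    · rw [if_pos h, if_pos (by rw [h])]
    · rw [if_neg h, if_neg (fun h' => h (hom_pow_injective hk h'))]
  · have : (1 : ↥(W₁ ⊔ W₂) →* ℂˣ) ^ k = 1 := by
      ext w
      rw [MonoidHom.pow_apply]
      simp
    funext g
    show σ.symm (χ ((1 : ↥(W₁ ⊔ W₂) →* ℂˣ) ^ k) g) = 1
    rw [this, hχ.map_one, map_one]
  · intro ω w hw₁ hw₂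
    show σ.symm (χ (ω ^ k) w) = _
    rw [hχ.eq_on (ω ^ k) w hw₁ hw₂, hsymm]
  · intro φ ψ hφ hψ hφ₂ hψ₁
    have hφk : φ ^ k ≠ 1 := by
      intro h
      apply hφ
      apply hom_pow_injective hk
      rw [h]
      ext w
      rw [MonoidHom.pow_apply]
      simp
    have hψk : ψ ^ k ≠ 1 := by
      intro h
      apply hψ
      apply hom_pow_injective hk
      rw [h]
      ext w
      rw [MonoidHom.pow_apply]
      simp
    have h1 := hχ.induced_eq (φ ^ k) (ψ ^ k) hφk hψk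
      (fun w hw => by rw [MonoidHom.pow_apply, hφ₂ w hw, one_pow])
      (fun w hw => by rw [MonoidHom.pow_apply, hψ₁ w hw, one_pow])
    have hmul : φ ^ k * ψ ^ k = (φ * ψ) ^ k := by
      ext w
      rw [MonoidHom.mul_apply, MonoidHom.pow_apply, MonoidHom.pow_apply, MonoidHom.pow_apply,
        MonoidHom.mul_apply, mul_pow]
    funext g
    have h2 := congrArg σ.symm (congrFun h1 g)
    rw [ringEquiv_indFun] at h2
    have e : (fun w : ↥(W₁ ⊔ W₂) => σ.symm (1 - (((φ ^ k) w : ℂˣ) : ℂ) - (((ψ ^ k) w : ℂˣ) : ℂ) +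
        (((φ ^ k) w : ℂˣ) : ℂ) * (((ψ ^ k) w : ℂˣ) : ℂ))) =
        fun w => 1 - ((φ w : ℂˣ) : ℂ) - ((ψ w : ℂˣ) : ℂ) + ((φ w : ℂˣ) : ℂ) * ((ψ w : ℂˣ) : ℂ) := by
      funext w
      rw [map_add, map_sub, map_sub, map_mul, map_one, hsymm, hsymm]
    rw [e] at h2
    rw [h2, hmul]
    simp only [map_add, map_sub, map_one]

/-- Galois equivariance of the cyclic TI family. -/
theorem cyclicTI_galois (hW : IsSelfNormalizingCyclic W₁ W₂) (hodd : Odd (Nat.card ↥(W₁ ⊔ W₂)))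
    (χ : (↥(W₁ ⊔ W₂) →* ℂˣ) → (G → ℂ)) (hχ : IsCyclicTIFamily W₁ W₂ χ)
    (σ : ℂ ≃+* ℂ) (k : ℕ) (hk : Nat.Coprime k (Nat.card G))
    (hσ : ∀ μ : ℂ, μ ^ Nat.card G = 1 → σ μ = μ ^ k) (ω : ↥(W₁ ⊔ W₂) →* ℂˣ) (g : G) :
    σ (χ ω g) = χ (ω ^ k) g := by
  have h := cyclicTI_unique hW hodd χ _ hχ (cyclicTI_twist χ hχ σ k hk hσ)
  have h2 : σ.symm (χ (ω ^ k) g) = χ ω g := congrFun (congrFun h ω) g
  rw [← h2, RingEquiv.apply_symm_apply]

end Twist

theorem exists_coprime_lift (N a b j : ℕ) (hN : 0 < N) (ha : a ∣ N) (hb : b ∣ N)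
    (hab : Nat.Coprime a b) (hj : Nat.Coprime j N) :
    ∃ k, Nat.Coprime k N ∧ k ≡ j [MOD a] ∧ k ≡ 1 [MOD b] := by
  have : NeZero N := ⟨hN.ne'⟩
  have hdvd : a * b ∣ N := Nat.Coprime.mul_dvd_of_dvd_of_dvd hab ha hb
  obtain ⟨k₀, hk₀a, hk₀b⟩ := Nat.chineseRemainder hab j 1
  have hc : Nat.Coprime k₀ (a * b) := by
    apply Nat.Coprime.mul_right
    · have := hk₀a.gcd_eq
      unfold Nat.Coprime
      rw [this]
      exact Nat.Coprime.coprime_dvd_right ha hj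
    · have := hk₀b.gcd_eq
      unfold Nat.Coprime
      rw [this]
      simp
  obtain ⟨u, hu⟩ := ZMod.unitsMap_surjective hdvd (ZMod.unitOfCoprime k₀ hc)
  refine ⟨(u : ZMod N).val, ZMod.val_coe_unit_coprime u, ?_, ?_⟩
  all_goals
    have h1 : (((u : ZMod N).val : ℕ) : ZMod (a * b)) = (k₀ : ZMod (a * b)) := by
      rw [ZMod.natCast_val, ← ZMod.unitsMap_val hdvd, hu, ZMod.coe_unitOfCoprime]
    have h2 := (ZMod.natCast_eq_natCast_iff _ _ _).mp h1
  · exact (h2.of_dvd (Dvd.intro _ rfl)).trans hk₀a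
  · exact (h2.of_dvd (Dvd.intro_left _ rfl)).trans hk₀b

end Cfsg.Agent.Lib.Helper25
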