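import Cfsg.Agent.Lib.Helper25.SncDual
import Cfsg.Agent.Lib.Helper25.CyclicTI
import Cfsg.Agent.Lib.Helper25.CharUtil
import Cfsg.Agent.Lib.Helper25.SelfNormCyclic

set_option autoImplicit false

/-!
Uniqueness of the cyclic TI family attached to a self-normalising cyclic pair of odd order.
-/

namespace Cfsg.Agent.Lib.Helper25

open Cfsg
open scoped ComplexConjugate

section Signed

variable {G : Type*} [Group G] [Fintype G]

theorem pm_one_ne_zero {ε : ℂ} (h : ε = 1 ∨ ε = -1) : ε ≠ 0 := by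
  rcases h with rfl | rfl <;> norm_num

theorem conj_pm_one {ε : ℂ} (h : ε = 1 ∨ ε = -1) : conj ε = ε := by
  rcases h with rfl | rfl <;> simp

/-- Among pairwise orthogonal signed irreducibles, a signed irreducible meets at most one. -/
theorem signed_orth_of_ne_zero {α β γ : G → ℂ}
    (hα : IsIrrCharacter G α ∨ IsIrrCharacter G (-α))
    (hβ : IsIrrCharacter G β ∨ IsIrrCharacter G (-β))
    (hγ : IsIrrCharacter G γ ∨ IsIrrCharacter G (-γ))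
    (hβγ : classInner β γ = 0) (hαβ : classInner α β ≠ 0) : classInner α γ = 0 := by
  classical
  obtain ⟨ε, μ, hε, hμ, rfl⟩ := signed_irr hα
  obtain ⟨ε₁, μ₁, hε₁, hμ₁, rfl⟩ := signed_irr hβ
  obtain ⟨ε₂, μ₂, hε₂, hμ₂, rfl⟩ := signed_irr hγ
  rw [classInner_signed_irr hμ hμ₁] at hαβ
  rw [classInner_signed_irr hμ₁ hμ₂] at hβγ
  rw [classInner_signed_irr hμ hμ₂]
  have h1 : μ = μ₁ := by
    by_contra h
    rw [if_neg h, mul_zero] at hαβ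
    exact hαβ rfl
  have h2 : μ₁ ≠ μ₂ := by
    intro h
    rw [if_pos h, mul_one, conj_pm_one hε₂] at hβγ
    rcases mul_eq_zero.mp hβγ with h | h
    · exact pm_one_ne_zero hε₁ h
    · exact pm_one_ne_zero hε₂ h
  rw [h1, if_neg h2, mul_zero]

theorem signed_eq_of_inner_eq_one {α β : G → ℂ}
    (hα : IsIrrCharacter G α ∨ IsIrrCharacter G (-α))
    (hβ : IsIrrCharacter G β ∨ IsIrrCharacter G (-β))
    (h : classInner α β = 1) : α = β := by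
  classical
  obtain ⟨ε, μ, hε, hμ, rfl⟩ := signed_irr hα
  obtain ⟨ε₁, μ₁, hε₁, hμ₁, rfl⟩ := signed_irr hβ
  rw [classInner_signed_irr hμ hμ₁] at h
  have h1 : μ = μ₁ := by
    by_contra h'
    rw [if_neg h', mul_zero] at h
    exact zero_ne_one h
  rw [if_pos h1, mul_one, conj_pm_one hε₁] at h
  subst h1
  rcases hε with rfl | rfl <;> rcases hε₁ with rfl | rfl
  · rfl
  · norm_num at h
  · norm_num at h
  · rfl

theorem signed_inner_cases {α β : G → ℂ}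
    (hα : IsIrrCharacter G α ∨ IsIrrCharacter G (-α))
    (hβ : IsIrrCharacter G β ∨ IsIrrCharacter G (-β)) :
    classInner α β = 0 ∨ classInner α β = 1 ∨ classInner α β = -1 := by
  classical
  obtain ⟨ε, μ, hε, hμ, rfl⟩ := signed_irr hα
  obtain ⟨ε₁, μ₁, hε₁, hμ₁, rfl⟩ := signed_irr hβ
  rw [classInner_signed_irr hμ hμ₁, conj_pm_one hε₁]
  by_cases h : μ = μ₁
  · rw [if_pos h, mul_one]
    rcases hε with rfl | rfl <;> rcases hε₁ with rfl | rfl <;> norm_num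
  · rw [if_neg h, mul_zero]
    left; rfl

open Classical in
/-- Abstract uniqueness step: two orthonormal families of signed irreducibles with the same
"triangle sums" through `i` agree at `i`. -/
theorem signed_family_unique_at {I : Type*} (χ χ' : I → (G → ℂ))
    (hχs : ∀ a, IsIrrCharacter G (χ a) ∨ IsIrrCharacter G (-χ a))
    (hχ's : ∀ a, IsIrrCharacter G (χ' a) ∨ IsIrrCharacter G (-χ' a))
    (hχo : ∀ a b, classInner (χ a) (χ b) = if a = b then 1 else 0)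
    (hχ'o : ∀ a b, classInner (χ' a) (χ' b) = if a = b then 1 else 0)
    (i j k j' k' : I) (hij : i ≠ j) (hik : i ≠ k) (hij' : i ≠ j') (hik' : i ≠ k')
    (hjj' : j ≠ j') (hjk' : j ≠ k') (hkj' : k ≠ j') (hkk' : k ≠ k')
    (h1 : χ i + χ j - χ k = χ' i + χ' j - χ' k)
    (h2 : χ i + χ j' - χ k' = χ' i + χ' j' - χ' k') : χ' i = χ i := by
  have e1 : classInner (χ' i) (χ i) + classInner (χ' i) (χ j) - classInner (χ' i) (χ k) = 1 := by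
    rw [← classInner_add_right, ← classInner_sub_right, h1, classInner_sub_right,
      classInner_add_right, hχ'o, hχ'o, hχ'o, if_pos rfl, if_neg hij, if_neg hik]
    ring
  have e2 : classInner (χ' i) (χ i) + classInner (χ' i) (χ j') - classInner (χ' i) (χ k') = 1 := by
    rw [← classInner_add_right, ← classInner_sub_right, h2, classInner_sub_right,
      classInner_add_right, hχ'o, hχ'o, hχ'o, if_pos rfl, if_neg hij', if_neg hik']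
    ring
  have orth : ∀ a b, a ≠ b → classInner (χ a) (χ b) = 0 := fun a b hab => by
    rw [hχo, if_neg hab]
  by_cases hc : classInner (χ' i) (χ i) = 0
  · exfalso
    rw [hc, zero_add] at e1 e2
    have hjk : classInner (χ' i) (χ j) ≠ 0 ∨ classInner (χ' i) (χ k) ≠ 0 := by
      by_contra hcon
      push Not at hcon
      rw [hcon.1, hcon.2] at e1
      norm_num at e1
    have hjk' : classInner (χ' i) (χ j') ≠ 0 ∨ classInner (χ' i) (χ k') ≠ 0 := by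
      by_contra hcon
      push Not at hcon
      rw [hcon.1, hcon.2] at e2
      norm_num at e2
    rcases hjk with h | h <;> rcases hjk' with h' | h'
    · exact h' (signed_orth_of_ne_zero (hχ's i) (hχs j) (hχs j') (orth j j' hjj') h)
    · exact h' (signed_orth_of_ne_zero (hχ's i) (hχs j) (hχs k') (orth j k' hjk') h)
    · exact h' (signed_orth_of_ne_zero (hχ's i) (hχs k) (hχs j') (orth k j' hkj') h)
    · exact h' (signed_orth_of_ne_zero (hχ's i) (hχs k) (hχs k') (orth k k' hkk') h)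
  · have hj := signed_orth_of_ne_zero (hχ's i) (hχs i) (hχs j) (orth i j hij) hc
    have hk := signed_orth_of_ne_zero (hχ's i) (hχs i) (hχs k) (orth i k hik) hc
    rw [hj, hk, add_zero, sub_zero] at e1
    exact signed_eq_of_inner_eq_one (hχ's i) (hχs i) e1

end Signed

section Unique

variable {G : Type*} [Group G] [Fintype G] {W₁ W₂ : Subgroup G}

theorem hom_eq_one_of_trivial (hW : IsSelfNormalizingCyclic W₁ W₂) (ω : ↥(W₁ ⊔ W₂) →* ℂˣ)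
    (h₁ : ∀ w : ↥(W₁ ⊔ W₂), (w : G) ∈ W₁ → ω w = 1)
    (h₂ : ∀ w : ↥(W₁ ⊔ W₂), (w : G) ∈ W₂ → ω w = 1) : ω = 1 := by
  ext w
  obtain ⟨y₁, hy₁, y₂, hy₂, hy⟩ := snc_decomp hW w w.2
  have e : w = (⟨y₁, Subgroup.mem_sup_left hy₁⟩ : ↥(W₁ ⊔ W₂)) *
      ⟨y₂, Subgroup.mem_sup_right hy₂⟩ := Subtype.ext hy
  rw [e, map_mul, h₁ _ hy₁, h₂ _ hy₂]
  simp

/-- The dual of `W = W₁ × W₂` decomposes accordingly; there are at least two nontrivial characters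
of each kind when `|W|` is odd. -/
theorem snc_dual_facts (hW : IsSelfNormalizingCyclic W₁ W₂) (hodd : Odd (Nat.card ↥(W₁ ⊔ W₂))) :
    (∀ ω : ↥(W₁ ⊔ W₂) →* ℂˣ, ∃ φ ψ : ↥(W₁ ⊔ W₂) →* ℂˣ,
      (∀ w : ↥(W₁ ⊔ W₂), (w : G) ∈ W₂ → φ w = 1) ∧
      (∀ w : ↥(W₁ ⊔ W₂), (w : G) ∈ W₁ → ψ w = 1) ∧ ω = φ * ψ) ∧
    (∃ φ φ' : ↥(W₁ ⊔ W₂) →* ℂˣ, φ ≠ 1 ∧ φ' ≠ 1 ∧ φ ≠ φ' ∧
      (∀ w : ↥(W₁ ⊔ W₂), (w : G) ∈ W₂ → φ w = 1) ∧
      (∀ w : ↥(W₁ ⊔ W₂), (w : G) ∈ W₂ → φ' w = 1)) ∧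
    (∃ ψ ψ' : ↥(W₁ ⊔ W₂) →* ℂˣ, ψ ≠ 1 ∧ ψ' ≠ 1 ∧ ψ ≠ ψ' ∧
      (∀ w : ↥(W₁ ⊔ W₂), (w : G) ∈ W₁ → ψ w = 1) ∧
      (∀ w : ↥(W₁ ⊔ W₂), (w : G) ∈ W₁ → ψ' w = 1)) := by
  classical
  have hcyc := hW.2.2.2.2.1
  let _ : CommGroup ↥(W₁ ⊔ W₂) := IsCyclic.commGroup
  set K₁ : Subgroup ↥(W₁ ⊔ W₂) := W₁.subgroupOf (W₁ ⊔ W₂) with hK₁
  set K₂ : Subgroup ↥(W₁ ⊔ W₂) := W₂.subgroupOf (W₁ ⊔ W₂) with hK₂
  have hK₁card : Nat.card K₁ = Nat.card W₁ :=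
    Nat.card_congr (Subgroup.subgroupOfEquivOfLe (le_sup_left : W₁ ≤ W₁ ⊔ W₂)).toEquiv
  have hK₂card : Nat.card K₂ = Nat.card W₂ :=
    Nat.card_congr (Subgroup.subgroupOfEquivOfLe (le_sup_right : W₂ ≤ W₁ ⊔ W₂)).toEquiv
  have hcard : Nat.card ↥(W₁ ⊔ W₂) = Nat.card K₁ * Nat.card K₂ := by
    rw [hK₁card, hK₂card]; exact snc_card hW
  have hsup : K₁ ⊔ K₂ = ⊤ := by
    rw [eq_top_iff]
    intro w _
    obtain ⟨y₁, h1, y₂, h2, hy⟩ := snc_decomp hW w w.2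
    have e : w = (⟨y₁, Subgroup.mem_sup_left h1⟩ : ↥(W₁ ⊔ W₂)) *
        ⟨y₂, Subgroup.mem_sup_right h2⟩ := Subtype.ext hy
    rw [e]
    exact (K₁ ⊔ K₂).mul_mem (Subgroup.mem_sup_left (Subgroup.mem_subgroupOf.mpr h1))
      (Subgroup.mem_sup_right (Subgroup.mem_subgroupOf.mpr h2))
  have hbij := dual_mul_bijective K₁ K₂ hsup hcard
  have : Fintype (annih K₁) := Fintype.ofFinite _
  have : Fintype (annih K₂) := Fintype.ofFinite _
  have hc₂ : Fintype.card (annih K₂) = Nat.card W₁ := by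
    rw [← Nat.card_eq_fintype_card, card_annih_right K₁ K₂ hcard, hK₁card]
  have hc₁ : Fintype.card (annih K₁) = Nat.card W₂ := by
    rw [← Nat.card_eq_fintype_card, card_annih_left K₁ K₂ hcard, hK₂card]
  have hodd' := hodd
  rw [snc_card hW] at hodd'
  obtain ⟨ho1, ho2⟩ := Nat.odd_mul.mp hodd'
  have hW₁ne : Nat.card W₁ ≠ 1 := fun h => hW.1 (Subgroup.card_eq_one.mp h)
  have hW₂ne : Nat.card W₂ ≠ 1 := fun h => hW.2.1 (Subgroup.card_eq_one.mp h)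
  have h3₁ : 3 ≤ Nat.card W₁ := by
    obtain ⟨k, hk⟩ := ho1
    omega
  have h3₂ : 3 ≤ Nat.card W₂ := by
    obtain ⟨k, hk⟩ := ho2
    omega
  have two : ∀ (S : Subgroup (↥(W₁ ⊔ W₂) →* ℂˣ)) [Fintype S], 3 ≤ Fintype.card S →
      ∃ a b : ↥(W₁ ⊔ W₂) →* ℂˣ, a ≠ 1 ∧ b ≠ 1 ∧ a ≠ b ∧ a ∈ S ∧ b ∈ S := by
    intro S _ hS
    have hcard2 : 1 < ((Finset.univ : Finset S).erase 1).card := by
      rw [Finset.card_erase_of_mem (Finset.mem_univ _), Finset.card_univ]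
      omega
    obtain ⟨a, ha, b, hb, hab⟩ := Finset.one_lt_card.mp hcard2
    refine ⟨a, b, ?_, ?_, ?_, a.2, b.2⟩
    · intro h
      exact (Finset.mem_erase.mp ha).1 (Subtype.ext h)
    · intro h
      exact (Finset.mem_erase.mp hb).1 (Subtype.ext h)
    · intro h
      exact hab (Subtype.ext h)
  refine ⟨?_, ?_, ?_⟩
  · intro ω
    obtain ⟨⟨φ, ψ⟩, rfl⟩ := hbij.2 ω
    exact ⟨φ, ψ, fun w hw => φ.2 w (Subgroup.mem_subgroupOf.mpr hw),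
      fun w hw => ψ.2 w (Subgroup.mem_subgroupOf.mpr hw), rfl⟩
  · obtain ⟨a, b, ha, hb, hab, haS, hbS⟩ := two (annih K₂) (by rw [hc₂]; exact h3₁)
    exact ⟨a, b, ha, hb, hab, fun w hw => haS w (Subgroup.mem_subgroupOf.mpr hw),
      fun w hw => hbS w (Subgroup.mem_subgroupOf.mpr hw)⟩
  · obtain ⟨a, b, ha, hb, hab, haS, hbS⟩ := two (annih K₁) (by rw [hc₁]; exact h3₂)
    exact ⟨a, b, ha, hb, hab, fun w hw => haS w (Subgroup.mem_subgroupOf.mpr hw),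
      fun w hw => hbS w (Subgroup.mem_subgroupOf.mpr hw)⟩

end Unique

section Unique2

variable {G : Type*} [Group G] [Fintype G] {W₁ W₂ : Subgroup G}

theorem cyclicTI_triangle (χ χ' : (↥(W₁ ⊔ W₂) →* ℂˣ) → (G → ℂ))
    (hχ : IsCyclicTIFamily W₁ W₂ χ) (hχ' : IsCyclicTIFamily W₁ W₂ χ')
    (φ ψ : ↥(W₁ ⊔ W₂) →* ℂˣ)
    (hφ : ∀ w : ↥(W₁ ⊔ W₂), (w : G) ∈ W₂ → φ w = 1)
    (hψ : ∀ w : ↥(W₁ ⊔ W₂), (w : G) ∈ W₁ → ψ w = 1) :
    χ φ + χ ψ - χ (φ * ψ) = χ' φ + χ' ψ - χ' (φ * ψ) := by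
  have h1 := cyclicTI_induced_eq W₁ W₂ χ hχ φ ψ hφ hψ
  have h2 := cyclicTI_induced_eq W₁ W₂ χ' hχ' φ ψ hφ hψ
  rw [h1] at h2
  funext g
  have := congrFun h2 g
  simp only [Pi.add_apply, Pi.sub_apply]
  linear_combination -this

/-- Uniqueness of the cyclic TI family. -/
theorem cyclicTI_unique (hW : IsSelfNormalizingCyclic W₁ W₂) (hodd : Odd (Nat.card ↥(W₁ ⊔ W₂)))
    (χ χ' : (↥(W₁ ⊔ W₂) →* ℂˣ) → (G → ℂ))
    (hχ : IsCyclicTIFamily W₁ W₂ χ) (hχ' : IsCyclicTIFamily W₁ W₂ χ') : χ' = χ := by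
  classical
  obtain ⟨hdec, ⟨φ₁, φ₂, hφ₁, hφ₂, hφ₁₂, hφ₁t, hφ₂t⟩, ⟨ψ₁, ψ₂, hψ₁, hψ₂, hψ₁₂, hψ₁t, hψ₂t⟩⟩ :=
    snc_dual_facts hW hodd
  -- characters trivial on both factors are trivial
  have triv := hom_eq_one_of_trivial hW
  -- left characters
  have hleft : ∀ φ : ↥(W₁ ⊔ W₂) →* ℂˣ, (∀ w : ↥(W₁ ⊔ W₂), (w : G) ∈ W₂ → φ w = 1) →
      χ' φ = χ φ := by
    intro φ hφ
    by_cases hφ1 : φ = 1
    · rw [hφ1, hχ.map_one, hχ'.map_one]
    have ne1 : ∀ ψ : ↥(W₁ ⊔ W₂) →* ℂˣ, (∀ w : ↥(W₁ ⊔ W₂), (w : G) ∈ W₁ → ψ w = 1) → ψ ≠ 1 →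
        φ ≠ ψ ∧ φ ≠ φ * ψ := by
      intro ψ hψ hψ1
      constructor
      · intro h
        apply hφ1
        exact triv φ (fun w hw => by rw [h]; exact hψ w hw) hφ
      · intro h
        apply hψ1
        ext w
        have := DFunLike.congr_fun h w
        rw [MonoidHom.mul_apply] at this
        have h2 : φ w * 1 = φ w * ψ w := by rw [mul_one]; exact this
        rw [← mul_left_cancel h2]
        rfl
    have ne2 : ∀ ψ ψ' : ↥(W₁ ⊔ W₂) →* ℂˣ, (∀ w : ↥(W₁ ⊔ W₂), (w : G) ∈ W₁ → ψ w = 1) →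
        (∀ w : ↥(W₁ ⊔ W₂), (w : G) ∈ W₁ → ψ' w = 1) → ψ ≠ φ * ψ' := by
      intro ψ ψ' hψ hψ' h
      apply hφ1
      apply triv φ _ hφ
      intro w hw
      have := DFunLike.congr_fun h w
      rw [MonoidHom.mul_apply, hψ w hw, hψ' w hw, mul_one] at this
      exact this.symm
    obtain ⟨n1, n2⟩ := ne1 ψ₁ hψ₁t hψ₁
    obtain ⟨n3, n4⟩ := ne1 ψ₂ hψ₂t hψ₂
    apply signed_family_unique_at χ χ' hχ.irr_or_neg hχ'.irr_or_neg hχ.orthonormal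
      hχ'.orthonormal φ ψ₁ (φ * ψ₁) ψ₂ (φ * ψ₂) n1 n2 n3 n4 hψ₁₂ (ne2 ψ₁ ψ₂ hψ₁t hψ₂t)
      (fun h => ne2 ψ₂ ψ₁ hψ₂t hψ₁t h.symm)
      (fun h => hψ₁₂ (by
        ext w
        have := DFunLike.congr_fun h w
        rw [MonoidHom.mul_apply, MonoidHom.mul_apply] at this
        rw [mul_left_cancel this]))
    · exact cyclicTI_triangle χ χ' hχ hχ' φ ψ₁ hφ hψ₁t
    · exact cyclicTI_triangle χ χ' hχ hχ' φ ψ₂ hφ hψ₂t
  -- right characters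
  have hright : ∀ ψ : ↥(W₁ ⊔ W₂) →* ℂˣ, (∀ w : ↥(W₁ ⊔ W₂), (w : G) ∈ W₁ → ψ w = 1) →
      χ' ψ = χ ψ := by
    intro ψ hψ
    by_cases hψ1 : ψ = 1
    · rw [hψ1, hχ.map_one, hχ'.map_one]
    have ne1 : ∀ φ : ↥(W₁ ⊔ W₂) →* ℂˣ, (∀ w : ↥(W₁ ⊔ W₂), (w : G) ∈ W₂ → φ w = 1) → φ ≠ 1 →
        ψ ≠ φ ∧ ψ ≠ φ * ψ := by
      intro φ hφ hφ1
      constructor
      · intro h
        apply hψ1
        exact triv ψ hψ (fun w hw => by rw [h]; exact hφ w hw)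
      · intro h
        apply hφ1
        ext w
        have := DFunLike.congr_fun h w
        rw [MonoidHom.mul_apply] at this
        have h2 : 1 * ψ w = φ w * ψ w := by rw [one_mul]; exact this
        rw [← mul_right_cancel h2]
        rfl
    have ne2 : ∀ φ φ' : ↥(W₁ ⊔ W₂) →* ℂˣ, (∀ w : ↥(W₁ ⊔ W₂), (w : G) ∈ W₂ → φ w = 1) →
        (∀ w : ↥(W₁ ⊔ W₂), (w : G) ∈ W₂ → φ' w = 1) → φ ≠ φ' * ψ := by
      intro φ φ' hφ hφ' h
      apply hψ1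
      apply triv ψ hψ
      intro w hw
      have := DFunLike.congr_fun h w
      rw [MonoidHom.mul_apply, hφ w hw, hφ' w hw, one_mul] at this
      exact this.symm
    obtain ⟨n1, n2⟩ := ne1 φ₁ hφ₁t hφ₁
    obtain ⟨n3, n4⟩ := ne1 φ₂ hφ₂t hφ₂
    apply signed_family_unique_at χ χ' hχ.irr_or_neg hχ'.irr_or_neg hχ.orthonormal
      hχ'.orthonormal ψ φ₁ (φ₁ * ψ) φ₂ (φ₂ * ψ) n1 n2 n3 n4 hφ₁₂ (ne2 φ₁ φ₂ hφ₁t hφ₂t)
      (fun h => ne2 φ₂ φ₁ hφ₂t hφ₁t h.symm)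
      (fun h => hφ₁₂ (by
        ext w
        have := DFunLike.congr_fun h w
        rw [MonoidHom.mul_apply, MonoidHom.mul_apply] at this
        rw [mul_right_cancel this]))
    · have := cyclicTI_triangle χ χ' hχ hχ' φ₁ ψ hφ₁t hψ
      rw [add_comm (χ φ₁), add_comm (χ' φ₁)] at this
      exact this
    · have := cyclicTI_triangle χ χ' hχ hχ' φ₂ ψ hφ₂t hψ
      rw [add_comm (χ φ₂), add_comm (χ' φ₂)] at this
      exact this
  funext ω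
  obtain ⟨φ, ψ, hφ, hψ, rfl⟩ := hdec ω
  have h := cyclicTI_triangle χ χ' hχ hχ' φ ψ hφ hψ
  rw [hleft φ hφ, hright ψ hψ] at h
  have := sub_right_injective h
  exact this.symm

end Unique2

end Cfsg.Agent.Lib.Helper25
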