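import Cfsg.Agent.S1498
import Cfsg.Agent.S1499
import Cfsg.Agent.Lib.Helper25.Ind

set_option autoImplicit false

/-!
The Dade isometry: well-definedness, and the counting lemma
`|L| ∑_g F g = |G| ∑_{a ∈ A, u ∈ H a} |H a|⁻¹ F (a u)` for class functions `F` of `G` supported on
the conjugates of the cosets `a H(a)`.
-/

namespace Cfsg.Agent.Lib.Helper25

open Cfsg
open scoped ComplexConjugate Pointwise

variable {G : Type*} [Group G] {A : Set G} {L : Subgroup G} {H : G → Subgroup G}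

/-- `g` is conjugate into some coset `a H(a)`, `a ∈ A`. -/
def InDade (A : Set G) (L : Subgroup G) (H : G → Subgroup G) (g : G) : Prop :=
  ∃ a : ↥L, (a : G) ∈ A ∧ ∃ x : G, ∃ u ∈ H (a : G), x * g * x⁻¹ = (a : G) * u

theorem inDade_conj (g y : G) : InDade A L H (y * g * y⁻¹) ↔ InDade A L H g := by
  constructor
  · rintro ⟨a, ha, x, u, hu, h⟩
    refine ⟨a, ha, x * y, u, hu, ?_⟩
    rw [← h]; group
  · rintro ⟨a, ha, x, u, hu, h⟩
    refine ⟨a, ha, x * y⁻¹, u, hu, ?_⟩
    rw [← h]; group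

/-- The power trick: a conjugation between elements of two Dade cosets conjugates the
`A`-parts and the `H`-parts. -/
theorem dade_conj_eq [Finite G] (hD : DadeHypothesis A L H) {a b : G} (ha : a ∈ A) (hb : b ∈ A)
    {u v z : G} (hu : u ∈ H a) (hv : v ∈ H b) (h : z * (a * u) * z⁻¹ = b * v) :
    z * a * z⁻¹ = b ∧ z * u * z⁻¹ = v := by
  obtain ⟨k, hka, hkb, _, _⟩ := Cfsg.Agent.S1499.exists_exponent hD ha hb
  have h1 : z * a * z⁻¹ = b := by
    have := congrArg (fun t => t ^ k) h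
    beta_reduce at this
    rw [Cfsg.Agent.S1499.conj_pow, hka u hu, hkb v hv] at this
    exact this
  refine ⟨h1, ?_⟩
  have e : z * (a * u) * z⁻¹ = (z * a * z⁻¹) * (z * u * z⁻¹) := by group
  rw [e, h1] at h
  exact mul_left_cancel h

theorem dadeIsometry_of_not_inDade (α : L → ℂ) (g : G) (hg : ¬ InDade A L H g) :
    dadeIsometry A L H α g = 0 := by
  have hg' : ¬ ∃ a : ↥L, (a : G) ∈ A ∧ ∃ x : G, ∃ u ∈ H (a : G), x * g * x⁻¹ = (a : G) * u := hg
  unfold dadeIsometry
  rw [dif_neg hg']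

/-- Well-definedness of the Dade map on class functions of `L`. -/
theorem dadeIsometry_eq [Finite G] (hD : DadeHypothesis A L H) (α : L → ℂ)
    (hα : IsClassFunction L α) (a : L) (ha : (a : G) ∈ A) (x u g : G) (hu : u ∈ H (a : G))
    (h : x * g * x⁻¹ = (a : G) * u) : dadeIsometry A L H α g = α a := by
  have hex : ∃ a : ↥L, (a : G) ∈ A ∧ ∃ x : G, ∃ u ∈ H (a : G), x * g * x⁻¹ = (a : G) * u :=
    ⟨a, ha, x, u, hu, h⟩
  unfold dadeIsometry
  rw [dif_pos hex]
  obtain ⟨ha', x', u', hu', h'⟩ := Classical.choose_spec hex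
  set a' := Classical.choose hex with ha'_def
  have hz : (x * x'⁻¹) * ((a' : G) * u') * (x * x'⁻¹)⁻¹ = (a : G) * u := by
    rw [← h', ← h]; group
  obtain ⟨hz1, -⟩ := dade_conj_eq hD ha' ha hu' hu hz
  obtain ⟨y, hy, hya⟩ := hD.fusion a' ha' (x * x'⁻¹) (by rw [hz1]; exact ha)
  have e : a = ⟨y, hy⟩ * a' * (⟨y, hy⟩ : L)⁻¹ := by
    apply Subtype.ext
    simp only [Subgroup.coe_mul, Subgroup.coe_inv]
    rw [hya, hz1]
  rw [e, hα]

theorem dadeIsometry_isClassFunction [Finite G] (hD : DadeHypothesis A L H) (α : L → ℂ)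
    (hα : IsClassFunction L α) : IsClassFunction G (dadeIsometry A L H α) := by
  intro g y
  by_cases hg : InDade A L H g
  · obtain ⟨a, ha, x, u, hu, h⟩ := hg
    rw [dadeIsometry_eq hD α hα a ha x u g hu h]
    apply dadeIsometry_eq hD α hα a ha (x * y⁻¹) u _ hu
    rw [← h]; group
  · rw [dadeIsometry_of_not_inDade α g hg]
    apply dadeIsometry_of_not_inDade
    rwa [inDade_conj]

section Count

variable [Fintype G]

open Classical in
/-- The finite set of Dade pairs `(a, u)`, `a ∈ A`, `u ∈ H a`. -/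
noncomputable def dadePairs (A : Set G) (H : G → Subgroup G) : Finset (G × G) :=
  Finset.univ.filter (fun p : G × G => p.1 ∈ A ∧ p.2 ∈ H p.1)

theorem mem_dadePairs (p : G × G) : p ∈ dadePairs A H ↔ p.1 ∈ A ∧ p.2 ∈ H p.1 := by
  unfold dadePairs; simp

theorem card_filter_mul (hD : DadeHypothesis A L H) {a₀ : G} (ha₀ : a₀ ∈ A) (x₀ : G)
    [DecidablePred (fun x : G => ∃ y ∈ L, ∃ h ∈ H a₀, x * x₀⁻¹ = y * h)] :
    (Finset.univ.filter (fun x : G => ∃ y ∈ L, ∃ h ∈ H a₀, x * x₀⁻¹ = y * h)).card =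
      Nat.card L * Nat.card (H a₀) := by
  rw [← Nat.card_prod, ← Fintype.card_subtype, ← Nat.card_eq_fintype_card]
  symm
  apply Nat.card_congr
  refine Equiv.ofBijective (fun yh : L × H a₀ => ⟨(yh.1 : G) * yh.2 * x₀,
    ⟨yh.1, yh.1.2, yh.2, yh.2.2, by group⟩⟩) ⟨?_, ?_⟩
  · rintro ⟨y, h⟩ ⟨y', h'⟩ heq
    have heq' : (y : G) * h * x₀ = y' * h' * x₀ := congrArg Subtype.val heq
    have h1 : (y : G) * h = y' * h' := mul_right_cancel heq'
    have h2 : (y' : G)⁻¹ * y = h' * (h : G)⁻¹ := by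
      calc (y' : G)⁻¹ * y = (y' : G)⁻¹ * (y * h) * (h : G)⁻¹ := by group
        _ = (y' : G)⁻¹ * (y' * h') * (h : G)⁻¹ := by rw [h1]
        _ = _ := by group
    have hmem : (h' : G) * (h : G)⁻¹ ∈ H a₀ ⊓ (L ⊓ Subgroup.centralizer ({a₀} : Set G)) := by
      refine ⟨(H a₀).mul_mem h'.2 ((H a₀).inv_mem h.2), ?_, ?_⟩
      · rw [← h2]; exact L.mul_mem (L.inv_mem y'.2) y.2
      · exact hD.le_centralizer a₀ ha₀ ((H a₀).mul_mem h'.2 ((H a₀).inv_mem h.2))
    rw [hD.inf_eq_bot a₀ ha₀, Subgroup.mem_bot] at hmem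
    have hh : (h' : G) = h := mul_inv_eq_one.mp hmem
    have hy : (y : G) = y' := by
      rw [hh] at h1
      exact mul_right_cancel h1
    exact Prod.ext (Subtype.ext hy) (Subtype.ext hh.symm)
  · rintro ⟨x, y, hy, h, hh, hx⟩
    refine ⟨(⟨y, hy⟩, ⟨h, hh⟩), Subtype.ext ?_⟩
    simp only
    rw [← hx]; group

theorem dade_fiber_count {K : Type*} [Field K] [CharZero K] [DecidableEq G]
    (hD : DadeHypothesis A L H) (g : G)
    (hg : InDade A L H g) :
    ∑ x : G, ∑ p ∈ dadePairs A H,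
      (if x * g * x⁻¹ = p.1 * p.2 then ((Nat.card (H p.1) : K))⁻¹ else 0) = (Nat.card L : K) := by
  classical
  obtain ⟨a₀, ha₀, x₀, u₀, hu₀, h₀⟩ := hg
  have hinner : ∀ x : G, ∑ p ∈ dadePairs A H,
      (if x * g * x⁻¹ = p.1 * p.2 then ((Nat.card (H p.1) : K))⁻¹ else 0) =
      if (∃ y ∈ L, ∃ h ∈ H (a₀ : G), x * x₀⁻¹ = y * h) then ((Nat.card (H (a₀ : G)) : K))⁻¹
        else 0 := by
    intro x
    set z := x * x₀⁻¹ with hz
    have hxg : x * g * x⁻¹ = z * ((a₀ : G) * u₀) * z⁻¹ := by rw [← h₀, hz]; group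
    rw [hxg]
    split_ifs with hcond
    · obtain ⟨y, hy, h, hh, hzyh⟩ := hcond
      have hha : h * (a₀ : G) = a₀ * h :=
        (Cfsg.Agent.S1499.mem_centralizer_singleton (a₀ : G) h).mp (hD.le_centralizer a₀ ha₀ hh)
      have e1 : z * (a₀ : G) * z⁻¹ = y * a₀ * y⁻¹ := by
        rw [hzyh]
        calc y * h * (a₀ : G) * (y * h)⁻¹ = y * (h * a₀) * h⁻¹ * y⁻¹ := by group
          _ = y * (a₀ * h) * h⁻¹ * y⁻¹ := by rw [hha]
          _ = _ := by group
      set a₁ := y * (a₀ : G) * y⁻¹ with ha₁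
      have ha₁A : a₁ ∈ A := hD.conj_mem y hy a₀ ha₀
      have hHa₁ : H a₁ = (H a₀).map (MulAut.conj y).toMonoidHom :=
        Cfsg.Agent.S1498.result A L H hD a₀ ha₀ y hy
      set u₁ := z * u₀ * z⁻¹ with hu₁
      have hu₁H : u₁ ∈ H a₁ := by
        rw [hHa₁]
        refine ⟨h * u₀ * h⁻¹, (H a₀).mul_mem ((H a₀).mul_mem hh hu₀) ((H a₀).inv_mem hh), ?_⟩
        simp only [MulEquiv.coe_toMonoidHom, MulAut.conj_apply]
        rw [hu₁, hzyh]; group
      have hp₁ : (a₁, u₁) ∈ dadePairs A H := (mem_dadePairs _).mpr ⟨ha₁A, hu₁H⟩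
      rw [Finset.sum_eq_single_of_mem (a₁, u₁) hp₁]
      · have e2 : z * ((a₀ : G) * u₀) * z⁻¹ = a₁ * u₁ := by rw [← e1, hu₁]; group
        rw [if_pos e2]
        have hcard : Nat.card (H a₁) = Nat.card (H (a₀ : G)) := by
          rw [hHa₁]; exact Subgroup.card_map_of_injective (MulAut.conj y).injective
        simp only [hcard]
      · intro p hp hne
        rw [if_neg]
        intro hcon
        obtain ⟨hpA, hpH⟩ := (mem_dadePairs p).mp hp
        obtain ⟨q1, q2⟩ := dade_conj_eq hD ha₀ hpA hu₀ hpH hcon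
        apply hne
        apply Prod.ext
        · simp only; rw [← q1, e1]
        · simp only; rw [← q2]
    · apply Finset.sum_eq_zero
      intro p hp
      rw [if_neg]
      intro hcon
      apply hcond
      obtain ⟨hpA, hpH⟩ := (mem_dadePairs p).mp hp
      obtain ⟨q1, q2⟩ := dade_conj_eq hD ha₀ hpA hu₀ hpH hcon
      obtain ⟨y, hy, hya⟩ := hD.fusion a₀ ha₀ z (by rw [q1]; exact hpA)
      set c := y⁻¹ * z with hc
      have hcC : c ∈ Subgroup.centralizer ({(a₀ : G)} : Set G) := by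
        rw [Cfsg.Agent.S1499.mem_centralizer_singleton]
        have e : z * (a₀ : G) = y * a₀ * y⁻¹ * z := by
          rw [hya]; group
        calc c * (a₀ : G) = y⁻¹ * (z * a₀) := by rw [hc]; group
          _ = y⁻¹ * (y * a₀ * y⁻¹ * z) := by rw [e]
          _ = a₀ * c := by rw [hc]; group
      rw [← hD.sup_eq a₀ ha₀, sup_comm] at hcC
      have hnorm : L ⊓ Subgroup.centralizer ({(a₀ : G)} : Set G) ≤
          Subgroup.normalizer ((H (a₀ : G) : Subgroup G) : Set G) := by
        intro l hl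
        rw [Subgroup.mem_set_normalizer_iff]
        intro n
        constructor
        · intro hn; exact hD.conj_mem_H a₀ ha₀ l hl.2 n hn
        · intro hn
          have := hD.conj_mem_H a₀ ha₀ l⁻¹ (inv_mem hl.2) _ hn
          have e : l⁻¹ * (l * n * l⁻¹) * l⁻¹⁻¹ = n := by group
          rwa [e] at this
      have hset := Subgroup.coe_mul_of_left_le_normalizer_right _ _ hnorm
      have hcmem : c ∈ ((L ⊓ Subgroup.centralizer ({(a₀ : G)} : Set G) : Subgroup G) : Set G) *
          (H (a₀ : G) : Set G) := by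
        rw [← hset]; exact hcC
      obtain ⟨l, hl, h, hh, hlh⟩ := Set.mem_mul.mp hcmem
      refine ⟨y * l, L.mul_mem hy hl.1, h, hh, ?_⟩
      rw [mul_assoc, hlh, hc]; group
  simp only [hinner]
  rw [← Finset.sum_filter, Finset.sum_const, card_filter_mul hD ha₀ x₀, nsmul_eq_mul]
  have hne : (Nat.card (H (a₀ : G)) : K) ≠ 0 := by
    exact_mod_cast Nat.card_pos.ne'
  push_cast
  field_simp

/-- The Dade counting lemma. -/
theorem dade_count {K : Type*} [Field K] [CharZero K] (hD : DadeHypothesis A L H) (F : G → K)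
    (hF : ∀ g x, F (x * g * x⁻¹) = F g) (hF0 : ∀ g, ¬ InDade A L H g → F g = 0) :
    (Nat.card L : K) * ∑ g, F g =
      (Nat.card G : K) * ∑ p ∈ dadePairs A H, ((Nat.card (H p.1) : K))⁻¹ * F (p.1 * p.2) := by
  classical
  have h1 : (Nat.card L : K) * ∑ g, F g = ∑ g, F g * ∑ x : G, ∑ p ∈ dadePairs A H,
      (if x * g * x⁻¹ = p.1 * p.2 then ((Nat.card (H p.1) : K))⁻¹ else 0) := by
    rw [Finset.mul_sum]
    apply Finset.sum_congr rfl
    intro g _
    by_cases hg : InDade A L H g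
    · rw [dade_fiber_count (K := K) hD g hg, mul_comm]
    · rw [hF0 g hg]; simp
  rw [h1]
  have h2 : ∀ g, F g * ∑ x : G, ∑ p ∈ dadePairs A H,
      (if x * g * x⁻¹ = p.1 * p.2 then ((Nat.card (H p.1) : K))⁻¹ else 0) =
      ∑ x : G, ∑ p ∈ dadePairs A H,
        (if x * g * x⁻¹ = p.1 * p.2 then ((Nat.card (H p.1) : K))⁻¹ * F g else 0) := by
    intro g
    rw [Finset.mul_sum]
    apply Finset.sum_congr rfl; intro x _
    rw [Finset.mul_sum]
    apply Finset.sum_congr rfl; intro p _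
    split_ifs <;> ring
  simp only [h2]
  rw [Finset.sum_comm]
  have h3 : ∀ x : G, ∑ g : G, ∑ p ∈ dadePairs A H,
      (if x * g * x⁻¹ = p.1 * p.2 then ((Nat.card (H p.1) : K))⁻¹ * F g else 0) =
      ∑ p ∈ dadePairs A H, ((Nat.card (H p.1) : K))⁻¹ * F (p.1 * p.2) := by
    intro x
    rw [Finset.sum_comm]
    apply Finset.sum_congr rfl; intro p _
    rw [Finset.sum_eq_single (x⁻¹ * (p.1 * p.2) * x)]
    · rw [if_pos (by group)]
      congr 1
      have := hF (p.1 * p.2) x⁻¹
      rw [inv_inv] at this; exact this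
    · intro g _ hne
      rw [if_neg]
      intro hcon; apply hne; rw [← hcon]; group
    · intro h; exact absurd (Finset.mem_univ _) h
  simp only [h3]
  rw [Finset.sum_const, Finset.card_univ, nsmul_eq_mul, Nat.card_eq_fintype_card]

/-- A sum over `G` of a function vanishing off `L` is a sum over `L`. -/
theorem sum_eq_sum_subgroup {K : Type*} [AddCommMonoid K] (L : Subgroup G) [Fintype L]
    (f : G → K) (h : ∀ a, a ∉ L → f a = 0) : ∑ a : G, f a = ∑ a : L, f a := by
  classical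
  rw [← Finset.sum_subset (Finset.subset_univ (Finset.univ.filter (· ∈ L)))
    (fun a _ ha => h a (by simpa using ha))]
  exact Finset.sum_subtype _ (by simp) f

open Classical in
/-- Sums over Dade pairs as iterated sums. -/
theorem sum_dadePairs {K : Type*} [AddCommMonoid K] (hD : DadeHypothesis A L H) [Fintype L]
    (f : G → G → K) :
    ∑ p ∈ dadePairs A H, f p.1 p.2 =
      ∑ a : L, if (a : G) ∈ A then ∑ u : G, (if u ∈ H (a : G) then f a u else 0) else 0 := by
  unfold dadePairs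
  rw [Finset.sum_filter, Fintype.sum_prod_type]
  have h1 : ∀ a : G, (∑ u : G, if a ∈ A ∧ u ∈ H a then f a u else 0) =
      if a ∈ A then ∑ u : G, (if u ∈ H a then f a u else 0) else 0 := by
    intro a
    split_ifs with h <;> simp [h]
  simp only [h1]
  rw [sum_eq_sum_subgroup L _ (fun a ha => if_neg (fun h => ha (hD.subset h)))]

open Classical in
theorem finsum_mem_subgroup_eq {K : Type*} [AddCommMonoid K] (S : Subgroup G) (f : G → K) :
    ∑ᶠ u ∈ (S : Set G), f u = ∑ u : G, if u ∈ S then f u else 0 := by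
  rw [finsum_mem_def, finsum_eq_sum_of_fintype]
  apply Finset.sum_congr rfl
  intro u _
  rw [Set.indicator_apply]
  rfl

open Classical in
theorem sum_ite_mem_const {K : Type*} [Semiring K] (S : Subgroup G) (c : K) :
    (∑ u : G, if u ∈ S then c else 0) = (Nat.card S : K) * c := by
  rw [← Finset.sum_filter, Finset.sum_const, nsmul_eq_mul]
  congr 2
  rw [Nat.card_eq_fintype_card, Fintype.card_subtype]

/-- The Dade isometry formula (ii): `⟨α^τ, χ⟩_G = ⟨α, ψ⟩_L`. -/
theorem dade_inner_eq (hD : DadeHypothesis A L H) [Fintype L] (α : L → ℂ)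
    (hα : IsClassFunction L α) (hαA : ∀ x : L, (x : G) ∉ A → α x = 0)
    (χ : G → ℂ) (ψ : L → ℂ) (hχ : IsClassFunction G χ)
    (hψ : ∀ a : L, (a : G) ∈ A → ψ a = (Nat.card (H a) : ℂ)⁻¹ * ∑ᶠ u ∈ (H a : Set G), χ (a * u)) :
    classInner (dadeIsometry A L H α) χ = classInner α ψ := by
  classical
  have hcls := dadeIsometry_isClassFunction hD α hα
  have hcount := dade_count (K := ℂ) hD (fun g => dadeIsometry A L H α g * conj (χ g))
    (by intro g x; rw [hcls g x, hχ g x])
    (by intro g hg; rw [dadeIsometry_of_not_inDade α g hg, zero_mul])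
  rw [sum_dadePairs hD (fun a u => ((Nat.card (H a) : ℂ))⁻¹ *
    (dadeIsometry A L H α (a * u) * conj (χ (a * u))))] at hcount
  have hterm : ∀ a : L, (if (a : G) ∈ A then ∑ u : G, (if u ∈ H (a : G) then
      ((Nat.card (H (a : G)) : ℂ))⁻¹ * (dadeIsometry A L H α ((a : G) * u) * conj (χ ((a : G) * u)))
      else 0) else 0) = α a * conj (ψ a) := by
    intro a
    split_ifs with ha
    · rw [hψ a ha, finsum_mem_subgroup_eq, map_mul, map_inv₀, Complex.conj_natCast, map_sum,
        Finset.mul_sum, Finset.mul_sum]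
      apply Finset.sum_congr rfl
      intro u _
      split_ifs with hu
      · rw [dadeIsometry_eq hD α hα a ha 1 u _ hu (by group)]
        ring
      · simp
    · rw [hαA a ha, zero_mul]
  simp only [hterm] at hcount
  rw [classInner_def, classInner_def]
  have hG : (Nat.card G : ℂ) ≠ 0 := card_ne_zero_complex
  have hL : (Nat.card L : ℂ) ≠ 0 := card_ne_zero_complex
  field_simp
  linear_combination hcount

end Count

end Cfsg.Agent.Lib.Helper25
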