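import Cfsg.Agent.Lib.Helper25.Dade
import Cfsg.Agent.Lib.Helper25.CoprimeAvg
import Cfsg.Agent.Lib.Helper25.Coherence
import Cfsg.Agent.Lib.Helper3.Complete

set_option autoImplicit false
set_option linter.unusedSectionVars false

/-!
The expansion of the Dade isometry as an alternating sum, over the nonempty subsets `B` of `A`, of
characters induced from the subgroups `H(B) N_L(B)`; consequence: the Dade image of a generalized
character is a generalized character.
-/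

namespace Cfsg.Agent.Lib.Helper25

open Cfsg
open scoped ComplexConjugate

section Basic

variable {G : Type*} [Group G]

open Classical in
/-- Conjugation of a finite subset. -/
noncomputable def cj (x : G) (B : Finset G) : Finset G := B.image (fun g => x * g * x⁻¹)

theorem mem_cj {x : G} {B : Finset G} {g : G} : g ∈ cj x B ↔ x⁻¹ * g * x ∈ B := by
  classical
  unfold cj
  rw [Finset.mem_image]
  constructor
  · rintro ⟨b, hb, rfl⟩
    have : x⁻¹ * (x * b * x⁻¹) * x = b := by group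
    rwa [this]
  · intro h
    exact ⟨_, h, by group⟩

theorem cj_one (B : Finset G) : cj 1 B = B := by
  ext g
  rw [mem_cj]
  simp

theorem cj_mul (x y : G) (B : Finset G) : cj (x * y) B = cj x (cj y B) := by
  ext g
  rw [mem_cj, mem_cj, mem_cj]
  have : (x * y)⁻¹ * g * (x * y) = y⁻¹ * (x⁻¹ * g * x) * y := by group
  rw [this]

theorem cj_inv_cj (x : G) (B : Finset G) : cj x⁻¹ (cj x B) = B := by
  rw [← cj_mul, inv_mul_cancel, cj_one]

theorem card_cj (x : G) (B : Finset G) : (cj x B).card = B.card := by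
  classical
  unfold cj
  apply Finset.card_image_of_injective
  intro a b h
  simpa using h

theorem cj_nonempty {x : G} {B : Finset G} (h : B.Nonempty) : (cj x B).Nonempty := by
  classical
  unfold cj
  exact h.image _

theorem conj_mem_cj {x : G} {B : Finset G} {b : G} (hb : b ∈ B) : x * b * x⁻¹ ∈ cj x B := by
  rw [mem_cj]
  have : x⁻¹ * (x * b * x⁻¹) * x = b := by group
  rwa [this]

theorem cj_singleton (x a : G) : cj x {a} = {x * a * x⁻¹} := by
  classical
  unfold cj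
  simp

theorem cj_insert (x a : G) (B : Finset G) [DecidableEq G] :
    cj x (insert a B) = insert (x * a * x⁻¹) (cj x B) := by
  ext g
  rw [mem_cj, Finset.mem_insert, Finset.mem_insert, mem_cj]
  constructor
  · rintro (h | h)
    · left; rw [← h]; group
    · right; exact h
  · rintro (h | h)
    · left; rw [h]; group
    · right; exact h

/-- The intersection of the `H b`, `b ∈ B`. -/
def HB (H : G → Subgroup G) (B : Finset G) : Subgroup G := ⨅ b ∈ B, H b

theorem mem_HB {H : G → Subgroup G} {B : Finset G} {h : G} : h ∈ HB H B ↔ ∀ b ∈ B, h ∈ H b := by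
  simp [HB, Subgroup.mem_iInf]

/-- The setwise stabiliser of `B` in `L`. -/
def NB (L : Subgroup G) (B : Finset G) : Subgroup G where
  carrier := {x | x ∈ L ∧ cj x B = B}
  one_mem' := ⟨L.one_mem, cj_one B⟩
  mul_mem' := by
    rintro x y ⟨hx, hxB⟩ ⟨hy, hyB⟩
    exact ⟨L.mul_mem hx hy, by rw [cj_mul, hyB, hxB]⟩
  inv_mem' := by
    rintro x ⟨hx, hxB⟩
    refine ⟨L.inv_mem hx, ?_⟩
    conv_lhs => rw [← hxB]
    exact cj_inv_cj x B

theorem mem_NB {L : Subgroup G} {B : Finset G} {x : G} : x ∈ NB L B ↔ x ∈ L ∧ cj x B = B :=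
  Iff.rfl

end Basic

section DadeFacts

variable {G : Type*} [Group G] [Finite G] {A : Set G} {L : Subgroup G} {H : G → Subgroup G}

/-- Elements of `C_G(b)` of order prime to `|C_L(b)|` lie in `H b`. -/
theorem mem_H_of_coprime (hD : DadeHypothesis A L H) {b : G} (hb : b ∈ A) {w : G}
    (hwC : w ∈ Subgroup.centralizer ({b} : Set G))
    (hco : Nat.Coprime (orderOf w) (Nat.card ↥(L ⊓ Subgroup.centralizer ({b} : Set G)))) :
    w ∈ H b := by
  set K := L ⊓ Subgroup.centralizer ({b} : Set G) with hK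
  have hKn : ∀ c ∈ K, ∀ n ∈ H b, c * n * c⁻¹ ∈ H b := fun c hc n hn =>
    hD.conj_mem_H b hb c hc.2 n hn
  have hKle : K ≤ Subgroup.normalizer (H b : Set G) := Subgroup.le_normalizer_iff.mpr hKn
  have hset := Subgroup.coe_mul_of_right_le_normalizer_left (H b) K hKle
  have hwsup : w ∈ H b ⊔ K := by
    rw [hD.sup_eq b hb]; exact hwC
  have hw' : w ∈ ((H b ⊔ K : Subgroup G) : Set G) := hwsup
  rw [hset] at hw'
  obtain ⟨h, hh, l, hl, hhl⟩ := hw'
  simp only at hhl
  obtain ⟨k, hk1, hk0⟩ := Nat.chineseRemainder hco 1 0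
  have hwk : w ^ k = w := by
    have := (pow_eq_pow_iff_modEq (x := w)).mpr hk1
    rwa [pow_one] at this
  have hlk : l ^ k = 1 := by
    have h1 : k ≡ 0 [MOD orderOf l] := hk0.of_dvd (Subgroup.orderOf_dvd_natCard _ hl)
    have := (pow_eq_pow_iff_modEq (x := l)).mpr h1
    rwa [pow_zero] at this
  obtain ⟨h', hh', he⟩ := Cfsg.Agent.S1498.mul_pow_mem (H b) K hKn h l hh hl k
  rw [hhl, hwk, hlk, mul_one] at he
  rw [he]; exact hh'

/-- Equivariance of `H` under `L`. -/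
theorem conj_mem_H_iff (hD : DadeHypothesis A L H) {a : G} (ha : a ∈ A) {x : G} (hx : x ∈ L)
    {u : G} : x * u * x⁻¹ ∈ H (x * a * x⁻¹) ↔ u ∈ H a := by
  rw [Cfsg.Agent.S1498.result A L H hD a ha x hx]
  constructor
  · rintro ⟨v, hv, hvu⟩
    simp only [MulEquiv.coe_toMonoidHom, MulAut.conj_apply] at hvu
    have : v = u := by
      have h1 : x * v * x⁻¹ = x * u * x⁻¹ := hvu
      have h2 := mul_right_cancel h1
      exact mul_left_cancel h2
    rwa [← this]
  · intro hu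
    exact ⟨u, hu, by simp⟩

theorem conj_mem_HB (hD : DadeHypothesis A L H) {B : Finset G} (hB : ∀ b ∈ B, b ∈ A) {x : G}
    (hx : x ∈ L) {h : G} (hh : h ∈ HB H B) : x * h * x⁻¹ ∈ HB H (cj x B) := by
  rw [mem_HB]
  intro b' hb'
  rw [mem_cj] at hb'
  have hb'A := hB _ hb'
  have e : b' = x * (x⁻¹ * b' * x) * x⁻¹ := by group
  rw [e, conj_mem_H_iff hD hb'A hx]
  exact mem_HB.mp hh _ hb'

theorem NB_conj_mem_HB (hD : DadeHypothesis A L H) {B : Finset G} (hB : ∀ b ∈ B, b ∈ A) {x : G}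
    (hx : x ∈ NB L B) {h : G} (hh : h ∈ HB H B) : x * h * x⁻¹ ∈ HB H B := by
  have := conj_mem_HB hD hB hx.1 hh
  rwa [hx.2] at this

theorem NB_le_normalizer_HB (hD : DadeHypothesis A L H) {B : Finset G} (hB : ∀ b ∈ B, b ∈ A) :
    NB L B ≤ Subgroup.normalizer (HB H B : Set G) := by
  intro x hx
  rw [Subgroup.mem_set_normalizer_iff]
  intro h
  constructor
  · intro hh
    exact NB_conj_mem_HB hD hB hx hh
  · intro hh
    have := NB_conj_mem_HB hD hB ((NB L B).inv_mem hx) hh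
    have e : x⁻¹ * (x * h * x⁻¹) * x⁻¹⁻¹ = h := by group
    rwa [e] at this

theorem HB_inf_L (hD : DadeHypothesis A L H) {B : Finset G} (hB : ∀ b ∈ B, b ∈ A)
    (hne : B.Nonempty) {h : G} (hh : h ∈ HB H B) (hl : h ∈ L) : h = 1 := by
  obtain ⟨b, hb⟩ := hne
  have h1 : h ∈ H b := mem_HB.mp hh b hb
  have h2 : h ∈ H b ⊓ (L ⊓ Subgroup.centralizer ({b} : Set G)) :=
    ⟨h1, hl, hD.le_centralizer b (hB b hb) h1⟩
  rw [hD.inf_eq_bot b (hB b hb)] at h2
  exact h2

theorem orderOf_coprime_card_HB (hD : DadeHypothesis A L H) {B : Finset G}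
    (hB : ∀ b ∈ B, b ∈ A) (hne : B.Nonempty) {a : G} (ha : a ∈ A) :
    Nat.Coprime (orderOf a) (Nat.card (HB H B)) := by
  obtain ⟨b, hb⟩ := hne
  have h1 : HB H B ≤ H b := fun h hh => mem_HB.mp hh b hb
  have h2 : Nat.card (HB H B) ∣ Nat.card (H b) := Subgroup.card_dvd_of_le h1
  have h3 : orderOf a ∣ Nat.card ↥(L ⊓ Subgroup.centralizer ({a} : Set G)) :=
    Subgroup.orderOf_dvd_natCard _ (Cfsg.Agent.S1499.a_mem hD ha)
  have h4 := hD.coprime b (hB b hb) a ha
  exact (Nat.Coprime.coprime_dvd_left h2 (Nat.Coprime.coprime_dvd_right h3 h4)).symm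

/-- `C_{H(B)}(a) = H(B ∪ {a})`. -/
theorem mem_HB_insert_iff [DecidableEq G] (hD : DadeHypothesis A L H) {B : Finset G}
    (hB : ∀ b ∈ B, b ∈ A) (hne : B.Nonempty) {a : G} (ha : a ∈ A) {c : G} :
    c ∈ HB H (insert a B) ↔ c ∈ HB H B ∧ c * a = a * c := by
  rw [mem_HB, mem_HB]
  constructor
  · intro h
    refine ⟨fun b hb => h b (Finset.mem_insert_of_mem hb), ?_⟩
    have h1 := hD.le_centralizer a ha (h a (Finset.mem_insert_self a B))
    exact (Cfsg.Agent.S1499.mem_centralizer_singleton a c).mp h1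
  · rintro ⟨h1, h2⟩ b hb
    rcases Finset.mem_insert.mp hb with rfl | hb
    · apply mem_H_of_coprime hD ha ((Cfsg.Agent.S1499.mem_centralizer_singleton _ c).mpr h2)
      obtain ⟨b', hb'⟩ := hne
      have h3 : orderOf c ∣ Nat.card (H b') :=
        Subgroup.orderOf_dvd_natCard _ (h1 b' hb')
      exact Nat.Coprime.coprime_dvd_left h3 (hD.coprime b' (hB b' hb') _ ha)
    · exact h1 b hb

end DadeFacts

section Semidirect

variable {G : Type*} [Group G] [Finite G] {A : Set G} {L : Subgroup G} {H : G → Subgroup G}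

/-- The subgroup `N_L(B) H(B)`. -/
def MB (hD : DadeHypothesis A L H) (B : Finset G) (hB : ∀ b ∈ B, b ∈ A) : Subgroup G where
  carrier := {m | ∃ l ∈ NB L B, ∃ h ∈ HB H B, m = l * h}
  one_mem' := ⟨1, (NB L B).one_mem, 1, (HB H B).one_mem, by simp⟩
  mul_mem' := by
    rintro _ _ ⟨l₁, hl₁, h₁, hh₁, rfl⟩ ⟨l₂, hl₂, h₂, hh₂, rfl⟩
    refine ⟨l₁ * l₂, (NB L B).mul_mem hl₁ hl₂, l₂⁻¹ * h₁ * l₂ * h₂, ?_, by group⟩
    apply (HB H B).mul_mem _ hh₂
    have := NB_conj_mem_HB hD hB ((NB L B).inv_mem hl₂) hh₁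
    rwa [inv_inv] at this
  inv_mem' := by
    rintro _ ⟨l, hl, h, hh, rfl⟩
    exact ⟨l⁻¹, (NB L B).inv_mem hl, l * h⁻¹ * l⁻¹,
      NB_conj_mem_HB hD hB hl ((HB H B).inv_mem hh), by group⟩

theorem mem_MB (hD : DadeHypothesis A L H) {B : Finset G} (hB : ∀ b ∈ B, b ∈ A) {m : G} :
    m ∈ MB hD B hB ↔ ∃ l ∈ NB L B, ∃ h ∈ HB H B, m = l * h := Iff.rfl

/-- Uniqueness of the decomposition `m = l h`. -/
theorem MB_decomp_unique (hD : DadeHypothesis A L H) {B : Finset G} (hB : ∀ b ∈ B, b ∈ A)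
    (hne : B.Nonempty) {l₁ l₂ h₁ h₂ : G} (hl₁ : l₁ ∈ NB L B) (hl₂ : l₂ ∈ NB L B)
    (hh₁ : h₁ ∈ HB H B) (hh₂ : h₂ ∈ HB H B) (h : l₁ * h₁ = l₂ * h₂) : l₁ = l₂ ∧ h₁ = h₂ := by
  have e : l₂⁻¹ * l₁ = h₂ * h₁⁻¹ := by
    calc l₂⁻¹ * l₁ = l₂⁻¹ * (l₁ * h₁) * h₁⁻¹ := by group
      _ = l₂⁻¹ * (l₂ * h₂) * h₁⁻¹ := by rw [h]
      _ = h₂ * h₁⁻¹ := by group
  have h1 : h₂ * h₁⁻¹ = 1 := by
    apply HB_inf_L hD hB hne ((HB H B).mul_mem hh₂ ((HB H B).inv_mem hh₁))
    rw [← e]
    exact L.mul_mem (L.inv_mem hl₂.1) hl₁.1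
  have h2 : l₁ = l₂ := by
    rw [h1] at e
    have : l₁ = l₂ * (l₂⁻¹ * l₁) := by group
    rw [this, e, mul_one]
  refine ⟨h2, ?_⟩
  have : h₂ = h₁ := by
    have := mul_inv_eq_one.mp h1
    exact this
  exact this.symm

/-- The projection `N_L(B) H(B) → L`. -/
noncomputable def phiB (hD : DadeHypothesis A L H) (B : Finset G) (hB : ∀ b ∈ B, b ∈ A)
    (hne : B.Nonempty) : ↥(MB hD B hB) →* ↥L where
  toFun m := ⟨Classical.choose m.2, (Classical.choose_spec m.2).1.1⟩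
  map_one' := by
    apply Subtype.ext
    show Classical.choose (1 : ↥(MB hD B hB)).2 = 1
    obtain ⟨hl, h, hh, he⟩ := Classical.choose_spec (1 : ↥(MB hD B hB)).2
    have he' : (1 : G) * 1 = Classical.choose (1 : ↥(MB hD B hB)).2 * h := by
      rw [one_mul]; exact he
    exact ((MB_decomp_unique hD hB hne (NB L B).one_mem hl (HB H B).one_mem hh he').1).symm
  map_mul' := by
    intro m₁ m₂
    apply Subtype.ext
    show Classical.choose (m₁ * m₂).2 = Classical.choose m₁.2 * Classical.choose m₂.2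
    obtain ⟨hl, h, hh, he⟩ := Classical.choose_spec (m₁ * m₂).2
    obtain ⟨hl₁, h₁, hh₁, he₁⟩ := Classical.choose_spec m₁.2
    obtain ⟨hl₂, h₂, hh₂, he₂⟩ := Classical.choose_spec m₂.2
    set l := Classical.choose (m₁ * m₂).2
    set l₁ := Classical.choose m₁.2
    set l₂ := Classical.choose m₂.2
    have e : l * h = (l₁ * l₂) * (l₂⁻¹ * h₁ * l₂ * h₂) := by
      rw [← he, Subgroup.coe_mul, he₁, he₂]
      group
    have hmem : l₂⁻¹ * h₁ * l₂ * h₂ ∈ HB H B := by
      apply (HB H B).mul_mem _ hh₂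
      have := NB_conj_mem_HB hD hB ((NB L B).inv_mem hl₂) hh₁
      rwa [inv_inv] at this
    exact (MB_decomp_unique hD hB hne hl ((NB L B).mul_mem hl₁ hl₂) hh hmem e).1

theorem phiB_mul (hD : DadeHypothesis A L H) {B : Finset G} (hB : ∀ b ∈ B, b ∈ A)
    (hne : B.Nonempty) {l h : G} (hl : l ∈ NB L B) (hh : h ∈ HB H B)
    (hm : l * h ∈ MB hD B hB) : ((phiB hD B hB hne ⟨l * h, hm⟩ : ↥L) : G) = l := by
  show Classical.choose (⟨l * h, hm⟩ : ↥(MB hD B hB)).2 = l
  obtain ⟨hl', h', hh', he⟩ := Classical.choose_spec (⟨l * h, hm⟩ : ↥(MB hD B hB)).2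
  exact ((MB_decomp_unique hD hB hne hl hl' hh hh' he).1).symm

end Semidirect

end Cfsg.Agent.Lib.Helper25
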