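import Cfsg.Agent.Lib.Helper25.DadeExp
import Cfsg.Agent.Lib.Helper25.CharUtil
import Cfsg.Agent.Lib.Helper25.NormTwo

set_option autoImplicit false
set_option linter.unusedSectionVars false

/-!
Second part of the expansion of the Dade isometry: characters composed with homomorphisms,
sums over orbits, averages over `H(B)`.
-/

namespace Cfsg.Agent.Lib.Helper25

open Cfsg
open scoped ComplexConjugate

section CharComp

variable {M : Type*} {L : Type*} [Group M] [Group L]

theorem isCharacter_comp (φ : M →* L) {α : L → ℂ} (h : IsCharacter L α) :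
    IsCharacter M (fun m => α (φ m)) := by
  obtain ⟨n, ρ, rfl⟩ := h
  exact ⟨n, ρ.comp φ, rfl⟩

theorem genChar_comp (φ : M →* L) {α : L → ℂ} (h : IsGeneralizedCharacter L α) :
    IsGeneralizedCharacter M (fun m => α (φ m)) := by
  obtain ⟨χ, ψ, hχ, hψ, rfl⟩ := h
  exact ⟨_, _, isCharacter_comp φ hχ, isCharacter_comp φ hψ, rfl⟩

end CharComp

section OrbitSum

/-- A sum of a function that is constant on the classes of an equivalence relation, such that
(class size) × (value) is an integer, is an integer. -/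
theorem orbit_sum_int {T : Type*} (R : Setoid T) [DecidableRel R.r] (X : Finset T) (f : T → ℂ)
    (hinv : ∀ B ∈ X, ∀ B' ∈ X, R.r B' B → f B' = f B)
    (hint : ∀ B ∈ X, ∃ z : ℤ, ((X.filter (fun B' => R.r B' B)).card : ℂ) * f B = (z : ℂ)) :
    ∃ z : ℤ, ∑ B ∈ X, f B = (z : ℂ) := by
  classical
  rw [Finset.sum_partition R]
  have key : ∀ q ∈ X.image (Quotient.mk R), ∃ z : ℤ,
      ∑ y ∈ X.filter (fun y => Quotient.mk R y = q), f y = (z : ℂ) := by
    intro q hq
    obtain ⟨B, hB, rfl⟩ := Finset.mem_image.mp hq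
    obtain ⟨z, hz⟩ := hint B hB
    refine ⟨z, ?_⟩
    rw [← hz]
    have e : X.filter (fun y => Quotient.mk R y = Quotient.mk R B) =
        X.filter (fun B' => R.r B' B) := by
      apply Finset.filter_congr
      intro y _
      exact Quotient.eq
    rw [e, Finset.sum_congr rfl (g := fun _ => f B), Finset.sum_const, nsmul_eq_mul]
    intro y hy
    rw [Finset.mem_filter] at hy
    exact hinv B hB y hy.1 hy.2
  choose! z hz using key
  refine ⟨∑ q ∈ X.image (Quotient.mk R), z q, ?_⟩
  rw [Int.cast_sum]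
  exact Finset.sum_congr rfl hz

end OrbitSum

section Orbit

variable {G : Type*} [Group G]

/-- `L`-conjugacy of finite subsets. -/
def cjSetoid (L : Subgroup G) : Setoid (Finset G) where
  r B B' := ∃ x ∈ L, cj x B = B'
  iseqv := ⟨fun B => ⟨1, L.one_mem, cj_one B⟩,
    fun ⟨x, hx, h⟩ => ⟨x⁻¹, L.inv_mem hx, by rw [← h, cj_inv_cj]⟩,
    fun ⟨x, hx, h⟩ ⟨y, hy, h'⟩ => ⟨y * x, L.mul_mem hy hx, by rw [cj_mul, h, h']⟩⟩

theorem cjSetoid_r {L : Subgroup G} {B B' : Finset G} :
    (cjSetoid L).r B B' ↔ ∃ x ∈ L, cj x B = B' := Iff.rfl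

theorem card_filter_mem_subgroup [Fintype G] (S : Subgroup G) [DecidablePred (· ∈ S)] :
    (Finset.univ.filter (· ∈ S)).card = Nat.card S := by
  rw [Nat.card_eq_fintype_card, Fintype.card_subtype]

/-- Orbit–stabiliser for the conjugation action of `L` on finite subsets. -/
theorem card_orbit_mul_card_NB [Fintype G] (L : Subgroup G) (X : Finset (Finset G))
    (hX : ∀ x ∈ L, ∀ B ∈ X, cj x B ∈ X) (B : Finset G) (hB : B ∈ X)
    [DecidablePred (fun B' => (cjSetoid L).r B' B)] :
    (X.filter (fun B' => (cjSetoid L).r B' B)).card * Nat.card (NB L B) = Nat.card L := by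
  classical
  set O := X.filter (fun B' => (cjSetoid L).r B' B) with hO
  set FL := Finset.univ.filter (· ∈ L) with hFL
  have hmaps : (FL : Set G).MapsTo (fun x => cj x B) O := by
    intro x hx
    have hxL : x ∈ L := by simpa [hFL] using hx
    show cj x B ∈ O
    rw [hO, Finset.mem_filter]
    exact ⟨hX x hxL B hB, x⁻¹, L.inv_mem hxL, cj_inv_cj x B⟩
  have h1 := Finset.card_eq_sum_card_fiberwise hmaps
  have h2 : ∀ B' ∈ O, (FL.filter (fun x => cj x B = B')).card = Nat.card (NB L B) := by
    intro B' hB'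
    rw [hO, Finset.mem_filter] at hB'
    obtain ⟨-, x₀, hx₀, hx₀B⟩ := hB'
    rw [← card_filter_mem_subgroup (NB L B)]
    apply Finset.card_nbij' (fun x => x₀ * x) (fun y => x₀⁻¹ * y)
    · intro x hx
      rw [Finset.mem_coe, Finset.mem_filter, hFL, Finset.mem_filter] at hx
      rw [Finset.mem_coe, Finset.mem_filter]
      exact ⟨Finset.mem_univ _, L.mul_mem hx₀ hx.1.2, by rw [cj_mul, hx.2, hx₀B]⟩
    · intro y hy
      rw [Finset.mem_coe, Finset.mem_filter] at hy
      rw [Finset.mem_coe, Finset.mem_filter, hFL, Finset.mem_filter]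
      refine ⟨⟨Finset.mem_univ _, L.mul_mem (L.inv_mem hx₀) hy.2.1⟩, ?_⟩
      rw [cj_mul, hy.2.2, ← hx₀B, cj_inv_cj]
    · intro x _; simp
    · intro y _; simp
  rw [Finset.sum_congr rfl h2, Finset.sum_const, smul_eq_mul, card_filter_mem_subgroup] at h1
  exact h1.symm

end Orbit

section Avg

variable {G : Type*} [Group G] [Fintype G] {A : Set G} {L : Subgroup G} {H : G → Subgroup G}

/-- The average of `χ` over the coset `a H(B)`. -/
noncomputable def avg (H : G → Subgroup G) (χ : G → ℂ) (B : Finset G) (a : G) : ℂ :=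
  (Nat.card (HB H B) : ℂ)⁻¹ * ∑ᶠ u ∈ (HB H B : Set G), χ (a * u)

theorem HB_singleton (H : G → Subgroup G) (a : G) : HB H {a} = H a := by
  ext h
  rw [mem_HB]
  simp

theorem avg_singleton (H : G → Subgroup G) (χ : G → ℂ) (a g : G) :
    avg H χ {a} g = (Nat.card (H a) : ℂ)⁻¹ * ∑ᶠ u ∈ (H a : Set G), χ (g * u) := by
  unfold avg
  rw [HB_singleton]

theorem finsum_mem_subgroup_eq_filter (S : Subgroup G) [DecidablePred (· ∈ S)] (f : G → ℂ) :
    ∑ᶠ u ∈ (S : Set G), f u = ∑ u ∈ Finset.univ.filter (· ∈ S), f u := by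
  rw [finsum_mem_subgroup_eq, Finset.sum_filter]
  apply Finset.sum_congr rfl
  intro u _
  congr

theorem finsum_mem_subgroup_eq_subtype (S : Subgroup G) [Fintype S] (f : G → ℂ) :
    ∑ᶠ u ∈ (S : Set G), f u = ∑ u : S, f u := by
  classical
  rw [finsum_mem_subgroup_eq_filter]
  exact Finset.sum_subtype _ (by simp) f

/-- `avg` at `B ∪ {a}` equals `avg` at `B`, evaluated at `a`. -/
theorem avg_insert [DecidableEq G] (hD : DadeHypothesis A L H) {χ : G → ℂ}
    (hχ : IsClassFunction G χ) {B : Finset G}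
    (hB : ∀ b ∈ B, b ∈ A) (hne : B.Nonempty) {a : G} (ha : a ∈ A) (haB : cj a B = B) :
    avg H χ (insert a B) a = avg H χ B a := by
  classical
  unfold avg
  rw [finsum_mem_subgroup_eq_filter, finsum_mem_subgroup_eq_filter]
  have haN : a ∈ Subgroup.normalizer (HB H B : Set G) :=
    NB_le_normalizer_HB hD hB ⟨hD.subset ha, haB⟩
  have hcop := orderOf_coprime_card_HB hD hB hne ha
  have hav := coprime_average (HB H B) a haN (orderOf a) (pow_orderOf_eq_one a) hcop χ
    (fun k _ g => hχ g k)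
  have hF : Finset.univ.filter (fun c : G => c ∈ HB H B ∧ c * a = a * c) =
      Finset.univ.filter (· ∈ HB H (insert a B)) := by
    apply Finset.filter_congr
    intro c _
    exact (mem_HB_insert_iff hD hB hne ha).symm
  rw [hF, card_filter_mem_subgroup, card_filter_mem_subgroup] at hav
  have h1 : (Nat.card (HB H (insert a B)) : ℂ) ≠ 0 := by
    exact_mod_cast Nat.card_pos.ne'
  have h2 : (Nat.card (HB H B) : ℂ) ≠ 0 := by
    exact_mod_cast Nat.card_pos.ne'
  field_simp
  rw [mul_comm, ← hav, mul_comm]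

end Avg

section Telescope

variable {G : Type*} [Group G] [Fintype G] {A : Set G} {L : Subgroup G} {H : G → Subgroup G}

open Classical in
/-- The nonempty subsets of `A`. -/
noncomputable def PA (A : Set G) : Finset (Finset G) :=
  Finset.univ.filter (fun B : Finset G => (∀ b ∈ B, b ∈ A) ∧ B.Nonempty)

theorem mem_PA {B : Finset G} : B ∈ PA A ↔ (∀ b ∈ B, b ∈ A) ∧ B.Nonempty := by
  unfold PA
  simp

/-- The sign `(-1)^(|B|+1)`. -/
def eps (B : Finset G) : ℂ := (-1 : ℂ) ^ (B.card + 1)

theorem eps_singleton (a : G) : eps ({a} : Finset G) = 1 := by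
  unfold eps
  simp

theorem eps_insert [DecidableEq G] {a : G} {B : Finset G} (h : a ∉ B) :
    eps (insert a B) = - eps B := by
  unfold eps
  rw [Finset.card_insert_of_notMem h, pow_succ]
  ring

theorem eps_cj (x : G) (B : Finset G) : eps (cj x B) = eps B := by
  unfold eps
  rw [card_cj]

theorem conj_eps (B : Finset G) : conj (eps B) = eps B := by
  unfold eps
  simp

theorem eps_int (B : Finset G) : ∃ z : ℤ, eps B = (z : ℂ) :=
  ⟨(-1) ^ (B.card + 1), by unfold eps; push_cast; rfl⟩

theorem cj_self_erase [DecidableEq G] (a : G) (B : Finset G) :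
    cj a (B.erase a) = (cj a B).erase a := by
  ext g
  rw [mem_cj, Finset.mem_erase, Finset.mem_erase, mem_cj]
  constructor
  · rintro ⟨h1, h2⟩
    refine ⟨?_, h2⟩
    rintro rfl
    apply h1
    group
  · rintro ⟨h1, h2⟩
    refine ⟨?_, h2⟩
    intro h
    apply h1
    have : g = a * (a⁻¹ * g * a) * a⁻¹ := by group
    rw [this, h]
    group

theorem cj_self_insert [DecidableEq G] (a : G) (B : Finset G) :
    cj a (insert a B) = insert a (cj a B) := by
  rw [cj_insert]
  congr 1
  group

theorem eps_avg_cancel [DecidableEq G] (hD : DadeHypothesis A L H) {χ : G → ℂ}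
    (hχ : IsClassFunction G χ) {B : Finset G}
    (hB : ∀ b ∈ B, b ∈ A) (hne : B.Nonempty) {a : G} (ha : a ∈ A) (haB : cj a B = B)
    (hnot : a ∉ B) :
    eps (insert a B) * avg H χ (insert a B) a + eps B * avg H χ B a = 0 := by
  rw [eps_insert hnot, avg_insert hD hχ hB hne ha haB]
  ring

open Classical in
/-- Telescoping: the alternating sum over the `a`-stable nonempty subsets of `A` of the averages
collapses to the single term `B = {a}`. -/
theorem sum_eps_avg (hD : DadeHypothesis A L H) {χ : G → ℂ} (hχ : IsClassFunction G χ) {a : G}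
    (ha : a ∈ A) :
    ∑ B ∈ PA A, (if cj a B = B then eps B * avg H χ B a else 0) = avg H χ {a} a := by
  have hmem : ({a} : Finset G) ∈ PA A := by
    rw [mem_PA]
    exact ⟨fun b hb => by rw [Finset.mem_singleton.mp hb]; exact ha, Finset.singleton_nonempty a⟩
  rw [← Finset.add_sum_erase _ _ hmem]
  have hfix : cj a ({a} : Finset G) = {a} := by
    rw [cj_singleton]; congr 1; group
  rw [if_pos hfix, eps_singleton, one_mul]
  have hzero : ∑ B ∈ (PA A).erase {a}, (if cj a B = B then eps B * avg H χ B a else 0) = 0 := by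
    rw [← Finset.sum_filter]
    have hs : ∀ B : Finset G, B ∈ ((PA A).erase {a}).filter (fun B => cj a B = B) ↔
        (B ≠ {a} ∧ (∀ b ∈ B, b ∈ A) ∧ B.Nonempty) ∧ cj a B = B := by
      intro B
      rw [Finset.mem_filter, Finset.mem_erase, mem_PA]
    have g_mem : ∀ B ∈ ((PA A).erase {a}).filter (fun B => cj a B = B),
        (if a ∈ B then B.erase a else insert a B) ∈
          ((PA A).erase {a}).filter (fun B => cj a B = B) := by
      intro B hB
      rw [hs] at hB ⊢
      obtain ⟨⟨h1, h2, h3⟩, h4⟩ := hB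
      by_cases haB : a ∈ B
      · rw [if_pos haB]
        refine ⟨⟨?_, ?_, ?_⟩, ?_⟩
        · intro h
          have : a ∈ B.erase a := by rw [h]; exact Finset.mem_singleton_self a
          exact (Finset.notMem_erase a B) this
        · intro b hb
          exact h2 b (Finset.mem_of_mem_erase hb)
        · rw [Finset.nonempty_iff_ne_empty]
          intro h
          rcases (Finset.erase_eq_empty_iff B a).mp h with h | h
          · exact (Finset.nonempty_iff_ne_empty.mp h3) h
          · exact h1 h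
        · rw [cj_self_erase, h4]
      · rw [if_neg haB]
        refine ⟨⟨?_, ?_, ?_⟩, ?_⟩
        · intro h
          obtain ⟨b, hb⟩ := h3
          have : b ∈ ({a} : Finset G) := by rw [← h]; exact Finset.mem_insert_of_mem hb
          rw [Finset.mem_singleton] at this
          rw [this] at hb
          exact haB hb
        · intro b hb
          rcases Finset.mem_insert.mp hb with rfl | hb
          · exact ha
          · exact h2 b hb
        · exact Finset.insert_nonempty a B
        · rw [cj_self_insert, h4]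
    refine Finset.sum_involution (fun B _ => if a ∈ B then B.erase a else insert a B)
      ?_ ?_ g_mem ?_
    · intro B hB
      have hgB := g_mem B hB
      rw [hs] at hB hgB
      obtain ⟨⟨h1, h2, h3⟩, h4⟩ := hB
      by_cases haB : a ∈ B
      · simp only [if_pos haB] at hgB ⊢
        obtain ⟨⟨h1', h2', h3'⟩, h4'⟩ := hgB
        have := eps_avg_cancel hD hχ h2' h3' ha h4' (Finset.notMem_erase a B)
        rw [Finset.insert_erase haB] at this
        exact this
      · simp only [if_neg haB]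
        have := eps_avg_cancel hD hχ h2 h3 ha h4 haB
        rw [add_comm]
        exact this
    · intro B _ _
      by_cases haB : a ∈ B
      · simp only [if_pos haB]
        intro h
        have : a ∈ B.erase a := by rw [h]; exact haB
        exact (Finset.notMem_erase a B) this
      · simp only [if_neg haB]
        intro h
        apply haB
        rw [← h]
        exact Finset.mem_insert_self a B
    · intro B _
      by_cases haB : a ∈ B
      · simp only [if_pos haB]
        rw [if_neg (Finset.notMem_erase a B)]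
        exact Finset.insert_erase haB
      · simp only [if_neg haB]
        rw [if_pos (Finset.mem_insert_self a B)]
        exact Finset.erase_insert haB
  rw [hzero, add_zero]

end Telescope

section Expansion

variable {G : Type*} [Group G] [Fintype G] {A : Set G} {L : Subgroup G} {H : G → Subgroup G}

open Classical in
/-- `|L|` times the contribution of `B` to `⟨α^τ, χ⟩`. -/
noncomputable def Jt (L : Subgroup G) [Fintype L] (H : G → Subgroup G) (α : L → ℂ) (χ : G → ℂ)
    (B : Finset G) : ℂ :=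
  ∑ a : L, if cj (a : G) B = B then α a * conj (avg H χ B a) else 0

/-- The expansion of `⟨α^τ, χ⟩` as an alternating sum over the nonempty subsets of `A`. -/
theorem dade_inner_expansion (hD : DadeHypothesis A L H) [Fintype L] (α : L → ℂ)
    (hα : IsClassFunction L α) (hαA : ∀ x : L, (x : G) ∉ A → α x = 0)
    (χ : G → ℂ) (hχ : IsClassFunction G χ) :
    classInner (dadeIsometry A L H α) χ =
      (Nat.card L : ℂ)⁻¹ * ∑ B ∈ PA A, eps B * Jt L H α χ B := by
  classical
  set ψ : L → ℂ := fun a => ∑ B ∈ PA A, if cj (a : G) B = B then eps B * avg H χ B a else 0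
    with hψ
  have h1 := dade_inner_eq hD α hα hαA χ ψ hχ (by
    intro a ha
    rw [hψ]
    beta_reduce
    rw [sum_eps_avg hD hχ ha, avg_singleton])
  rw [h1, classInner_def]
  congr 1
  have h2 : ∀ a : L, α a * conj (ψ a) =
      ∑ B ∈ PA A, eps B * (if cj (a : G) B = B then α a * conj (avg H χ B a) else 0) := by
    intro a
    rw [hψ]
    beta_reduce
    rw [map_sum, Finset.mul_sum]
    apply Finset.sum_congr rfl
    intro B _
    by_cases h : cj (a : G) B = B
    · rw [if_pos h, if_pos h, map_mul, conj_eps]; ring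
    · rw [if_neg h, if_neg h, map_zero, mul_zero, mul_zero]
  rw [Finset.sum_congr rfl (fun a _ => h2 a), Finset.sum_comm]
  apply Finset.sum_congr rfl
  intro B _
  unfold Jt
  rw [Finset.mul_sum]

end Expansion

section Invariance

variable {G : Type*} [Group G] [Fintype G] {A : Set G} {L : Subgroup G} {H : G → Subgroup G}

theorem cj_subset_A (hD : DadeHypothesis A L H) {B : Finset G} (hB : ∀ b ∈ B, b ∈ A) {x : G}
    (hx : x ∈ L) : ∀ b ∈ cj x B, b ∈ A := by
  intro b hb
  rw [mem_cj] at hb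
  have := hD.conj_mem x hx _ (hB _ hb)
  have e : x * (x⁻¹ * b * x) * x⁻¹ = b := by group
  rwa [e] at this

theorem cj_mem_PA (hD : DadeHypothesis A L H) {B : Finset G} (hB : B ∈ PA A) {x : G}
    (hx : x ∈ L) : cj x B ∈ PA A := by
  rw [mem_PA] at hB ⊢
  exact ⟨cj_subset_A hD hB.1 hx, cj_nonempty hB.2⟩

theorem cj_injective (x : G) {B B' : Finset G} (h : cj x B = cj x B') : B = B' := by
  rw [← cj_inv_cj x B, h, cj_inv_cj]

open Classical in
theorem sum_HB_cj (hD : DadeHypothesis A L H) {B : Finset G} (hB : ∀ b ∈ B, b ∈ A) {x : G}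
    (hx : x ∈ L) (f : G → ℂ) :
    ∑ u ∈ Finset.univ.filter (· ∈ HB H (cj x B)), f u =
      ∑ v ∈ Finset.univ.filter (· ∈ HB H B), f (x * v * x⁻¹) := by
  apply Finset.sum_nbij' (fun u => x⁻¹ * u * x) (fun v => x * v * x⁻¹)
  · intro u hu
    rw [Finset.mem_filter] at hu ⊢
    refine ⟨Finset.mem_univ _, ?_⟩
    have := conj_mem_HB hD (cj_subset_A hD hB hx) (L.inv_mem hx) hu.2
    rwa [cj_inv_cj, inv_inv] at this
  · intro v hv
    rw [Finset.mem_filter] at hv ⊢
    exact ⟨Finset.mem_univ _, conj_mem_HB hD hB hx hv.2⟩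
  · intro u _; group
  · intro v _; group
  · intro u _
    congr 1
    group

theorem card_HB_cj (hD : DadeHypothesis A L H) {B : Finset G} (hB : ∀ b ∈ B, b ∈ A) {x : G}
    (hx : x ∈ L) : Nat.card (HB H (cj x B)) = Nat.card (HB H B) := by
  classical
  have h := sum_HB_cj hD hB hx (fun _ => (1 : ℂ))
  rw [Finset.sum_const, Finset.sum_const, card_filter_mem_subgroup, card_filter_mem_subgroup,
    nsmul_eq_mul, nsmul_eq_mul, mul_one, mul_one] at h
  exact_mod_cast h

theorem avg_cj (hD : DadeHypothesis A L H) {χ : G → ℂ} (hχ : IsClassFunction G χ)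
    {B : Finset G} (hB : ∀ b ∈ B, b ∈ A) {x : G} (hx : x ∈ L) (a : G) :
    avg H χ (cj x B) (x * a * x⁻¹) = avg H χ B a := by
  classical
  unfold avg
  rw [card_HB_cj hD hB hx, finsum_mem_subgroup_eq_filter, finsum_mem_subgroup_eq_filter,
    sum_HB_cj hD hB hx]
  congr 1
  apply Finset.sum_congr rfl
  intro v _
  have e : x * a * x⁻¹ * (x * v * x⁻¹) = x * (a * v) * x⁻¹ := by group
  rw [e, hχ]

theorem Jt_cj (hD : DadeHypothesis A L H) [Fintype L] {α : L → ℂ} (hα : IsClassFunction L α)
    {χ : G → ℂ} (hχ : IsClassFunction G χ) {B : Finset G} (hB : ∀ b ∈ B, b ∈ A) {x : G}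
    (hx : x ∈ L) : Jt L H α χ (cj x B) = Jt L H α χ B := by
  classical
  unfold Jt
  symm
  apply Fintype.sum_equiv (MulAut.conj (⟨x, hx⟩ : L)).toEquiv
  intro a
  have e1 : ((MulAut.conj (⟨x, hx⟩ : L)).toEquiv a : L) = ⟨x, hx⟩ * a * ⟨x, hx⟩⁻¹ := rfl
  have e2 : (((MulAut.conj (⟨x, hx⟩ : L)).toEquiv a : L) : G) = x * a * x⁻¹ := rfl
  have e3 : cj (x * (a : G) * x⁻¹) (cj x B) = cj x B ↔ cj (a : G) B = B := by
    rw [← cj_mul]
    have : x * (a : G) * x⁻¹ * x = x * a := by group
    rw [this, cj_mul]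
    constructor
    · intro h; exact cj_injective x h
    · intro h; rw [h]
  rw [e2, avg_cj hD hχ hB hx, e1, hα]
  by_cases h : cj (a : G) B = B
  · rw [if_pos h, if_pos (e3.mpr h)]
  · rw [if_neg h, if_neg (fun h' => h (e3.mp h'))]

end Invariance

section Local

variable {G : Type*} [Group G] [Fintype G] {A : Set G} {L : Subgroup G} {H : G → Subgroup G}

/-- `N_L(B) × H(B) ≃ N_L(B) H(B)`. -/
noncomputable def MBEquiv (hD : DadeHypothesis A L H) (B : Finset G) (hB : ∀ b ∈ B, b ∈ A)
    (hne : B.Nonempty) : ↥(NB L B) × ↥(HB H B) ≃ ↥(MB hD B hB) :=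
  Equiv.ofBijective
    (fun p => ⟨(p.1 : G) * (p.2 : G), ⟨p.1, p.1.2, p.2, p.2.2, rfl⟩⟩)
    ⟨by
      intro p q h
      have h' : (p.1 : G) * (p.2 : G) = (q.1 : G) * (q.2 : G) := congrArg Subtype.val h
      obtain ⟨h1, h2⟩ := MB_decomp_unique hD hB hne p.1.2 q.1.2 p.2.2 q.2.2 h'
      exact Prod.ext (Subtype.ext h1) (Subtype.ext h2),
    by
      rintro ⟨m, l, hl, h, hh, rfl⟩
      exact ⟨(⟨l, hl⟩, ⟨h, hh⟩), rfl⟩⟩

theorem MBEquiv_coe (hD : DadeHypothesis A L H) (B : Finset G) (hB : ∀ b ∈ B, b ∈ A)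
    (hne : B.Nonempty) (p : ↥(NB L B) × ↥(HB H B)) :
    ((MBEquiv hD B hB hne p : ↥(MB hD B hB)) : G) = (p.1 : G) * (p.2 : G) := rfl

theorem phiB_MBEquiv (hD : DadeHypothesis A L H) (B : Finset G) (hB : ∀ b ∈ B, b ∈ A)
    (hne : B.Nonempty) (p : ↥(NB L B) × ↥(HB H B)) :
    phiB hD B hB hne (MBEquiv hD B hB hne p) = ⟨(p.1 : G), p.1.2.1⟩ := by
  apply Subtype.ext
  exact phiB_mul hD hB hne p.1.2 p.2.2 _

theorem card_MB (hD : DadeHypothesis A L H) (B : Finset G) (hB : ∀ b ∈ B, b ∈ A)
    (hne : B.Nonempty) :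
    Nat.card ↥(MB hD B hB) = Nat.card (NB L B) * Nat.card (HB H B) := by
  rw [← Nat.card_prod]
  exact (Nat.card_congr (MBEquiv hD B hB hne)).symm

/-- `Jt` as a sum over `N_L(B)`. -/
theorem Jt_eq_sum_NB [Fintype L] (α : L → ℂ) (χ : G → ℂ) (B : Finset G) [Fintype ↥(NB L B)] :
    Jt L H α χ B = ∑ l : ↥(NB L B), α ⟨(l : G), l.2.1⟩ * conj (avg H χ B (l : G)) := by
  classical
  unfold Jt
  rw [← Finset.sum_filter]
  refine Finset.sum_bij'
    (fun (a : L) ha => (⟨(a : G), mem_NB.mpr ⟨a.2, (Finset.mem_filter.mp ha).2⟩⟩ : ↥(NB L B)))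
    (fun (l : ↥(NB L B)) _ => (⟨(l : G), (mem_NB.mp l.2).1⟩ : L)) ?_ ?_ ?_ ?_ ?_
  · intro a ha; exact Finset.mem_univ _
  · intro l _
    rw [Finset.mem_filter]
    exact ⟨Finset.mem_univ _, (mem_NB.mp l.2).2⟩
  · intro a ha; rfl
  · intro l _; rfl
  · intro a ha; rfl

/-- `Jt B = |N_L(B)| ⟨α ∘ φ_B, χ|_{M(B)}⟩`. -/
theorem Jt_eq_card_mul_inner (hD : DadeHypothesis A L H) [Fintype L] (α : L → ℂ) (χ : G → ℂ)
    (B : Finset G) (hB : ∀ b ∈ B, b ∈ A) (hne : B.Nonempty) [Fintype ↥(MB hD B hB)] :
    Jt L H α χ B = (Nat.card (NB L B) : ℂ) *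
      classInner (fun m : ↥(MB hD B hB) => α (phiB hD B hB hne m)) (fun m => χ (m : G)) := by
  classical
  have : Fintype ↥(NB L B) := Fintype.ofFinite _
  have : Fintype ↥(HB H B) := Fintype.ofFinite _
  rw [Jt_eq_sum_NB, classInner_def, card_MB hD B hB hne]
  rw [← Equiv.sum_comp (MBEquiv hD B hB hne), Fintype.sum_prod_type]
  have hN : (Nat.card (NB L B) : ℂ) ≠ 0 := by exact_mod_cast Nat.card_pos.ne'
  have hH : (Nat.card (HB H B) : ℂ) ≠ 0 := by exact_mod_cast Nat.card_pos.ne'
  push_cast
  rw [← mul_assoc, mul_inv, ← mul_assoc, mul_inv_cancel₀ hN, one_mul, Finset.mul_sum]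
  apply Finset.sum_congr rfl
  intro l _
  have h1 : ∀ h : ↥(HB H B), α (phiB hD B hB hne (MBEquiv hD B hB hne (l, h))) *
      conj (χ ((MBEquiv hD B hB hne (l, h) : ↥(MB hD B hB)) : G)) =
      α ⟨(l : G), l.2.1⟩ * conj (χ ((l : G) * (h : G))) := by
    intro h
    rw [phiB_MBEquiv, MBEquiv_coe]
  rw [Finset.sum_congr rfl (fun h _ => h1 h), ← Finset.mul_sum]
  unfold avg
  rw [finsum_mem_subgroup_eq_subtype, map_mul, map_inv₀, Complex.conj_natCast, map_sum]
  ring

end Local

section Final

variable {G : Type*} [Group G] [Fintype G] {A : Set G} {L : Subgroup G} {H : G → Subgroup G}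

/-- A class function whose inner products with the irreducible characters are integers is a
generalized character. -/
theorem genChar_of_classInner_int {f : G → ℂ} (hf : IsClassFunction G f)
    (h : ∀ ψ : IrrCharacter G, ∃ z : ℤ, classInner f (ψ : G → ℂ) = (z : ℂ)) :
    IsGeneralizedCharacter G f := by
  classical
  have : Finite (IrrCharacter G) := Cfsg.Agent.Lib.Helper3.irrCharacter_finite
  have : Fintype (IrrCharacter G) := Fintype.ofFinite _
  choose c hc using h
  rw [Cfsg.Agent.Lib.Helper3.classFunction_eq_sum hf]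
  apply genChar_sum
  intro ψ _
  rw [hc ψ]
  exact genChar_intCast_smul
    (genChar_of_char (Cfsg.Agent.Lib.Helper3.IsIrrCharacter.isCharacter ψ.2)) _

/-- The inner product of the Dade image of a generalized character with a character is an
integer. -/
theorem dade_inner_int (hD : DadeHypothesis A L H) [Fintype L] (α : L → ℂ)
    (hα : IsGeneralizedCharacter L α) (hαA : ∀ x : L, (x : G) ∉ A → α x = 0)
    (χ : G → ℂ) (hχ : IsCharacter G χ) :
    ∃ z : ℤ, classInner (dadeIsometry A L H α) χ = (z : ℂ) := by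
  classical
  have hαcf : IsClassFunction L α := IsGeneralizedCharacter.isClassFunction hα
  have hχcf : IsClassFunction G χ := Cfsg.Agent.Lib.Helper3.IsCharacter.isClassFunction hχ
  rw [dade_inner_expansion hD α hαcf hαA χ hχcf, Finset.mul_sum]
  apply orbit_sum_int (cjSetoid L) (PA A)
  · intro B hB B' hB' hr
    obtain ⟨x, hx, rfl⟩ := hr
    rw [eps_cj, Jt_cj hD hαcf hχcf (mem_PA.mp hB').1 hx]
  · intro B hB
    have hB1 := (mem_PA.mp hB).1
    have hB2 := (mem_PA.mp hB).2
    have : Fintype ↥(MB hD B hB1) := Fintype.ofFinite _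
    obtain ⟨zI, hzI⟩ := classInner_genChar_int
      (genChar_comp (phiB hD B hB1 hB2) hα)
      (genChar_of_char (isCharacter_comp (MB hD B hB1).subtype hχ))
    obtain ⟨ze, hze⟩ := eps_int B
    refine ⟨ze * zI, ?_⟩
    have hcard := card_orbit_mul_card_NB L (PA A) (fun x hx B hB => cj_mem_PA hD hB hx) B hB
    have hcard' : (((PA A).filter (fun B' => (cjSetoid L).r B' B)).card : ℂ) *
        (Nat.card (NB L B) : ℂ) = (Nat.card L : ℂ) := by exact_mod_cast hcard
    have hL : (Nat.card L : ℂ) ≠ 0 := by exact_mod_cast Nat.card_pos.ne'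
    rw [Jt_eq_card_mul_inner hD α χ B hB1 hB2]
    have hI : classInner (fun m : ↥(MB hD B hB1) => α (phiB hD B hB1 hB2 m))
        (fun m => χ (m : G)) = (zI : ℂ) := hzI
    rw [hI, hze]
    push_cast
    calc _ = ((((PA A).filter (fun B' => (cjSetoid L).r B' B)).card : ℂ) *
        (Nat.card (NB L B) : ℂ)) * (Nat.card L : ℂ)⁻¹ * ((ze : ℂ) * (zI : ℂ)) := by ring
      _ = (ze : ℂ) * (zI : ℂ) := by rw [hcard', mul_inv_cancel₀ hL, one_mul]

/-- The Dade image of a generalized character supported on `A` is a generalized character. -/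
theorem dade_genChar (hD : DadeHypothesis A L H) [Fintype L] (α : L → ℂ)
    (hα : IsGeneralizedCharacter L α) (hαA : ∀ x : L, (x : G) ∉ A → α x = 0) :
    IsGeneralizedCharacter G (dadeIsometry A L H α) := by
  apply genChar_of_classInner_int
  · exact dadeIsometry_isClassFunction hD α (IsGeneralizedCharacter.isClassFunction hα)
  · intro ψ
    exact dade_inner_int hD α hα hαA _ (Cfsg.Agent.Lib.Helper3.IsIrrCharacter.isCharacter ψ.2)

end Final

end Cfsg.Agent.Lib.Helper25
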