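import Mathlib

/-!
# E6G-FIELD (E6g mini-hive, S2406): elementary facts on a generator of `K^×`, `|K| = q^2`
-/

set_option autoImplicit false
set_option linter.unusedVariables false
set_option linter.unusedSimpArgs false
set_option linter.unusedSectionVars false

namespace Cfsg.Agent.Lib.Helper72.E6g

theorem e6gfield_orderOf {K : Type*} [Field K] [Fintype K] {q : ℕ}
    (hK : Fintype.card K = q ^ 2)
    (z : K) (hz0 : z ≠ 0) (hgen : ∀ t : K, t ≠ 0 → ∃ m : ℕ, t = z ^ m) :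
    orderOf z = q ^ 2 - 1 := by
  classical
  set u : Kˣ := Units.mk0 z hz0 with hu
  have h1 : ∀ t : Kˣ, t ∈ Subgroup.zpowers u := by
    intro t
    obtain ⟨m, hm⟩ := hgen (t : K) t.ne_zero
    refine ⟨(m : ℤ), ?_⟩
    apply Units.ext
    simp [hu, hm]
  have h2 : orderOf u = Nat.card Kˣ := orderOf_eq_card_of_forall_mem_zpowers h1
  have h3 : orderOf z = orderOf u := by
    have := orderOf_units (y := u)
    rw [← this]
    simp [hu]
  rw [h3, h2, Nat.card_eq_fintype_card, Fintype.card_units, hK]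

/-- E6G-FIELD. -/
theorem field_facts {K : Type*} [Field K] [Fintype K] {q : ℕ} (hq : 2 ≤ q) (hK : Fintype.card K = q ^ 2)
    (z : K) (hz0 : z ≠ 0) (hgen : ∀ t : K, t ≠ 0 → ∃ m : ℕ, t = z ^ m) :
    z ≠ 1 ∧ z ^ 2 ≠ 1 ∧ (∀ t : K, t ≠ 0 → ∃ m : ℕ, t = (z⁻¹) ^ m) ∧
      (∀ v : K, v ≠ 0 → v ^ q = v → ∃ m : ℕ, v = ((z * z ^ q)⁻¹) ^ m) := by
  have hord := e6gfield_orderOf hK z hz0 hgen
  have hq2 : 4 ≤ q ^ 2 := by nlinarith
  have hord3 : 3 ≤ orderOf z := by omega
  refine ⟨?_, ?_, ?_, ?_⟩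
  · intro h1
    rw [h1, orderOf_one] at hord3
    omega
  · intro h2
    have := Nat.le_of_dvd (by norm_num) (orderOf_dvd_of_pow_eq_one h2)
    omega
  · intro t ht
    obtain ⟨m, hm⟩ := hgen t⁻¹ (inv_ne_zero ht)
    refine ⟨m, ?_⟩
    rw [inv_pow, ← hm, inv_inv]
  · intro v hv hvq
    obtain ⟨m, hm⟩ := hgen v⁻¹ (inv_ne_zero hv)
    have h1 : (v⁻¹) ^ q = v⁻¹ := by rw [inv_pow, hvq]
    rw [hm, ← pow_mul] at h1
    -- z^(m*q) = z^m
    have h2 : z ^ (m * (q - 1)) = 1 := by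
      have h3 : z ^ (m * q) = z ^ (m * (q - 1)) * z ^ m := by
        rw [← pow_add]
        congr 1
        have : m * q = m * (q - 1) + m := by
          have : q = (q - 1) + 1 := by omega
          conv_lhs => rw [this]
          ring
        exact this
      rw [h3] at h1
      have hzm : z ^ m ≠ 0 := pow_ne_zero _ hz0
      have h4 : z ^ (m * (q - 1)) * z ^ m = 1 * z ^ m := by rw [h1, one_mul]
      exact mul_right_cancel₀ hzm h4
    have h5 : orderOf z ∣ m * (q - 1) := orderOf_dvd_of_pow_eq_one h2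
    rw [hord] at h5
    have h6 : q ^ 2 - 1 = (q + 1) * (q - 1) := by
      have : 1 ≤ q := by omega
      zify [this, Nat.one_le_pow 2 q this]
      ring
    rw [h6] at h5
    have h7 : (q + 1) ∣ m := Nat.dvd_of_mul_dvd_mul_right (by omega) h5
    obtain ⟨j, hj⟩ := h7
    refine ⟨j, ?_⟩
    have h8 : v⁻¹ = (z * z ^ q) ^ j := by
      rw [hm, hj, pow_mul]
      congr 1
      rw [pow_succ]
      ring
    rw [inv_pow, ← h8, inv_inv]

end Cfsg.Agent.Lib.Helper72.E6g
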