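import Mathlib
import Cfsg.Prelude.Def_GeometricClasses

/-! # S5958 FO-1 (COUNT), helper25 for helper6 -/

set_option autoImplicit false

namespace Cfsg.Agent.Lib.Helper6.EqD

open Module

section transport
variable {F : Type*} [Field F] {V V' : Type*} [AddCommGroup V] [Module F V]
  [AddCommGroup V'] [Module F V']

lemma fo1_indep_map {ι : Type*} (e : V ≃ₗ[F] V') {D : ι → Submodule F V} (h : iSupIndep D) :
    iSupIndep (fun i => (D i).map (e : V →ₗ[F] V')) := by
  have := h.map_orderIso (Submodule.orderIsoMapComap e)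
  exact this

lemma fo1_iSup_map {ι : Type*} (e : V ≃ₗ[F] V') {D : ι → Submodule F V} (h : iSup D = ⊤) :
    (⨆ i, (D i).map (e : V →ₗ[F] V')) = ⊤ := by
  rw [← Submodule.map_iSup, h, Submodule.map_top, LinearEquiv.range]

/-- the span description of a submodule with a basis -/
lemma fo1_eq_span {κ : Type*} (W : Submodule F V) (b : Basis κ F W) :
    W = Submodule.span F (Set.range fun j => ((b j : W) : V)) := by
  have h1 : Submodule.map W.subtype ⊤ = W := by simp
  have h2 : (Set.range fun j => ((b j : W) : V)) = W.subtype '' Set.range b := by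
    rw [← Set.range_comp]; rfl
  rw [h2, ← Submodule.map_span, b.span_eq, h1]

/-- `GL(V)` is transitive on decompositions of a given shape -/
lemma fo1_exists_equiv [FiniteDimensional F V] {t a : ℕ} {D D' : Fin t → Submodule F V}
    (hD : ∀ i, finrank F (D i) = a) (hD' : ∀ i, finrank F (D' i) = a)
    (iD : iSupIndep D) (iD' : iSupIndep D') (tD : iSup D = ⊤) (tD' : iSup D' = ⊤) :
    ∃ g : V ≃ₗ[F] V, ∀ i, (D i).map (g : V →ₗ[F] V) = D' i := by
  classical
  have I := DirectSum.isInternal_submodule_of_iSupIndep_of_iSup_eq_top iD tD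
  have I' := DirectSum.isInternal_submodule_of_iSupIndep_of_iSup_eq_top iD' tD'
  let b : ∀ i, Basis (Fin a) F (D i) := fun i => Module.finBasisOfFinrankEq F (D i) (hD i)
  let b' : ∀ i, Basis (Fin a) F (D' i) := fun i => Module.finBasisOfFinrankEq F (D' i) (hD' i)
  let B := I.collectedBasis b
  let B' := I'.collectedBasis b'
  refine ⟨B.equiv B' (Equiv.refl _), fun i => ?_⟩
  have key : ∀ j, (B.equiv B' (Equiv.refl _)) ((b i j : D i) : V) = ((b' i j : D' i) : V) := by
    intro j
    have h1 : ((b i j : D i) : V) = B ⟨i, j⟩ := by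
      simp [B, DirectSum.IsInternal.collectedBasis_coe]
    have h2 : ((b' i j : D' i) : V) = B' ⟨i, j⟩ := by
      simp [B', DirectSum.IsInternal.collectedBasis_coe]
    rw [h1, h2, Basis.equiv_apply]; rfl
  conv_lhs => rw [fo1_eq_span (D i) (b i)]
  conv_rhs => rw [fo1_eq_span (D' i) (b' i)]
  rw [Submodule.map_span, ← Set.range_comp]
  congr 1
  ext v
  simp only [Set.mem_range, Function.comp_apply]
  constructor
  · rintro ⟨j, rfl⟩; exact ⟨j, (key j).symm⟩
  · rintro ⟨j, rfl⟩; exact ⟨j, key j⟩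

end transport

section count
variable {F : Type*} [Field F] {n a t : ℕ}

/-- the action of `GL(V)` on ordered decompositions -/
@[reducible] noncomputable def fo1_act : MulAction ((Fin n → F) ≃ₗ[F] (Fin n → F))
    {D : Fin t → Submodule F (Fin n → F) // Cfsg.Geo.IsMDecomposition a D} where
  smul g D := ⟨fun i => (D.1 i).map (g : (Fin n → F) →ₗ[F] (Fin n → F)),
    ⟨D.2.two_le, D.2.pos, fun i => by rw [LinearEquiv.finrank_map_eq]; exact D.2.finrank_eq i,
      fo1_indep_map g D.2.indep, fo1_iSup_map g D.2.iSup_eq_top⟩⟩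
  one_smul D := by
    apply Subtype.ext
    funext i
    change (D.1 i).map ((1 : (Fin n → F) ≃ₗ[F] (Fin n → F)) : (Fin n → F) →ₗ[F] (Fin n → F)) = D.1 i
    exact Submodule.map_id _
  mul_smul g h D := by
    apply Subtype.ext
    funext i
    change (D.1 i).map ((g * h : (Fin n → F) ≃ₗ[F] (Fin n → F)) : (Fin n → F) →ₗ[F] (Fin n → F)) =
      ((D.1 i).map (h : (Fin n → F) →ₗ[F] (Fin n → F))).map (g : (Fin n → F) →ₗ[F] (Fin n → F))
    rw [← Submodule.map_comp]
    rfl

lemma fo1_card_dvd [Fintype F]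
    (D₀ : {D : Fin t → Submodule F (Fin n → F) // Cfsg.Geo.IsMDecomposition a D}) :
    Nat.card {D : Fin t → Submodule F (Fin n → F) // Cfsg.Geo.IsMDecomposition a D} ∣
      Nat.card ((Fin n → F) ≃ₗ[F] (Fin n → F)) := by
  let _ := @fo1_act F _ n a t
  have htrans : MulAction.orbit ((Fin n → F) ≃ₗ[F] (Fin n → F)) D₀ = Set.univ := by
    ext D
    simp only [Set.mem_univ, iff_true]
    obtain ⟨g, hg⟩ := fo1_exists_equiv D₀.2.finrank_eq D.2.finrank_eq D₀.2.indep D.2.indep
      D₀.2.iSup_eq_top D.2.iSup_eq_top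
    refine ⟨g, ?_⟩
    apply Subtype.ext
    funext i
    exact hg i
  have e := MulAction.orbitEquivQuotientStabilizer ((Fin n → F) ≃ₗ[F] (Fin n → F)) D₀
  have h1 : Nat.card {D : Fin t → Submodule F (Fin n → F) // Cfsg.Geo.IsMDecomposition a D} =
      Nat.card (MulAction.orbit ((Fin n → F) ≃ₗ[F] (Fin n → F)) D₀) := by
    rw [htrans]
    exact (Nat.card_congr (Equiv.Set.univ _)).symm
  rw [h1, Nat.card_congr e]
  exact Subgroup.card_quotient_dvd_card _

/-- the free action of `Perm (Fin t)` on ordered decompositions -/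
@[reducible] noncomputable def fo1_permAct : MulAction (Equiv.Perm (Fin t))
    {D : Fin t → Submodule F (Fin n → F) // Cfsg.Geo.IsMDecomposition a D} where
  smul σ D := ⟨fun i => D.1 (σ.symm i),
    ⟨D.2.two_le, D.2.pos, fun i => D.2.finrank_eq _,
      D.2.indep.comp σ.symm.injective, by
        have := Equiv.iSup_comp (g := D.1) σ.symm
        rw [this]; exact D.2.iSup_eq_top⟩⟩
  one_smul D := by
    apply Subtype.ext
    funext i
    rfl
  mul_smul g h D := by
    apply Subtype.ext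
    funext i
    rfl

lemma fo1_factorial_dvd :
    Nat.factorial t ∣
      Nat.card {D : Fin t → Submodule F (Fin n → F) // Cfsg.Geo.IsMDecomposition a D} := by
  let _ := @fo1_permAct F _ n a t
  have hfree : ∀ D : {D : Fin t → Submodule F (Fin n → F) // Cfsg.Geo.IsMDecomposition a D},
      MulAction.stabilizer (Equiv.Perm (Fin t)) D = ⊥ := by
    intro D
    rw [eq_bot_iff]
    intro σ hσ
    rw [MulAction.mem_stabilizer_iff] at hσ
    rw [Subgroup.mem_bot]
    have hinj : Function.Injective D.1 := by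
      apply D.2.indep.injective
      intro i hi
      have := D.2.finrank_eq i
      rw [hi, finrank_bot] at this
      have := D.2.pos
      omega
    have h1 : ∀ i, D.1 (σ.symm i) = D.1 i := by
      intro i
      have := congrArg (fun E => E.1 i) hσ
      exact this
    ext i
    have h2 : σ.symm (σ i) = σ i := hinj (h1 (σ i))
    rw [Equiv.symm_apply_apply] at h2
    simp [← h2]
  have e := MulAction.selfEquivOrbitsQuotientProd hfree
  rw [Nat.card_congr e, Nat.card_prod, Nat.card_perm, Nat.card_fin]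
  exact Dvd.intro_left _ rfl

/-- the coordinate decomposition of `Fin t → W` -/
lemma fo1_std (W : Type*) [AddCommGroup W] [Module F W] :
    iSupIndep (fun i : Fin t => LinearMap.range (LinearMap.single F (fun _ : Fin t => W) i)) ∧
    (⨆ i : Fin t, LinearMap.range (LinearMap.single F (fun _ : Fin t => W) i)) = ⊤ := by
  refine ⟨?_, LinearMap.iSup_range_single F (fun _ : Fin t => W)⟩
  rw [iSupIndep_def]
  intro i
  rw [Submodule.disjoint_def]
  intro x hx hx'
  have h1 := LinearMap.iSup_range_single_le_iInf_ker_proj F (fun _ : Fin t => W) {j | j ≠ i} {i}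
    (by rw [Set.disjoint_singleton_right]; simp)
  have h2 : x ∈ ⨆ j ∈ ({j | j ≠ i} : Set (Fin t)),
      LinearMap.range (LinearMap.single F (fun _ : Fin t => W) j) := hx'
  have h3 := h1 h2
  simp only [Set.mem_singleton_iff, iInf_iInf_eq_left, LinearMap.mem_ker, LinearMap.proj_apply] at h3
  obtain ⟨w, rfl⟩ := hx
  simp only [LinearMap.coe_single, Pi.single_eq_same] at h3
  rw [h3]
  simp

lemma fo1_exists (hat : n = a * t) (ha : 1 ≤ a) (ht : 2 ≤ t) :
    Nonempty {D : Fin t → Submodule F (Fin n → F) // Cfsg.Geo.IsMDecomposition a D} := by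
  obtain ⟨h1, h2⟩ := @fo1_std F _ t (Fin a → F) _ _
  have hfr : finrank F (Fin t → Fin a → F) = finrank F (Fin n → F) := by
    rw [Module.finrank_pi_fintype, Module.finrank_fin_fun, hat]
    simp [Nat.mul_comm]
  let e : (Fin t → Fin a → F) ≃ₗ[F] (Fin n → F) := LinearEquiv.ofFinrankEq _ _ hfr
  refine ⟨⟨fun i => (LinearMap.range (LinearMap.single F (fun _ : Fin t => Fin a → F) i)).map
    (e : (Fin t → Fin a → F) →ₗ[F] (Fin n → F)), ⟨ht, ha, fun i => ?_, fo1_indep_map e h1,
      fo1_iSup_map e h2⟩⟩⟩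
  rw [LinearEquiv.finrank_map_eq, LinearMap.finrank_range_of_inj]
  · simp
  · intro x y hxy
    have := congrFun hxy i
    simpa using this

end count

/-- `r ∣ q^s - 1` iff the order of `q` divides `s` -/
lemma fo1_orderOf_dvd {r : ℕ} [hr : Fact r.Prime] (q : ℕ) (hq : 0 < q) (s : ℕ) :
    orderOf ((q : ℕ) : ZMod r) ∣ s ↔ r ∣ q ^ s - 1 := by
  rw [orderOf_dvd_iff_pow_eq_one]
  have : ((q : ℕ) : ZMod r) ^ s = 1 ↔ ((q ^ s : ℕ) : ZMod r) = ((1 : ℕ) : ZMod r) := by simp
  rw [this, ZMod.natCast_eq_natCast_iff, Nat.ModEq.comm, Nat.modEq_iff_dvd' (Nat.pow_pos hq)]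

/-! ## FO-1 (COUNT) -/
theorem order_le_of_dvd_card_dec {F : Type*} [Field F] [Fintype F] {p : ℕ} [Fact p.Prime] [CharP F p]
    (n a t : ℕ) (hat : n = a * t) (ha : 1 ≤ a) (ht : 2 ≤ t) (r : ℕ) [Fact r.Prime] (hrp : r ≠ p)
    (hΩ : r ∣ Nat.card {D : Fin t → Submodule F (Fin n → F) // Cfsg.Geo.IsMDecomposition a D} /
      Nat.factorial t) :
    orderOf ((Fintype.card F : ℕ) : ZMod r) ≤ n := by
  have hr : r.Prime := Fact.out
  have hp : p.Prime := Fact.out
  obtain ⟨D₀⟩ := @fo1_exists F _ n a t hat ha ht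
  have h1 := fo1_card_dvd D₀
  have h2 := @fo1_factorial_dvd F _ n a t
  have h3 : r ∣ Nat.card {D : Fin t → Submodule F (Fin n → F) // Cfsg.Geo.IsMDecomposition a D} := by
    obtain ⟨m, hm⟩ := h2
    rw [hm, Nat.mul_div_cancel_left _ (Nat.factorial_pos t)] at hΩ
    rw [hm]
    exact Dvd.dvd.mul_left hΩ _
  have h4 : r ∣ Nat.card ((Fin n → F) ≃ₗ[F] (Fin n → F)) := h3.trans h1
  have h5 : Nat.card ((Fin n → F) ≃ₗ[F] (Fin n → F)) = Nat.card (GL (Fin n) F) := by
    refine Nat.card_congr ?_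
    exact ((LinearMap.GeneralLinearGroup.generalLinearEquiv F (Fin n → F)).symm.trans
      (Matrix.GeneralLinearGroup.toLin (n := Fin n) (R := F)).symm).toEquiv
  rw [h5, Matrix.card_GL_field] at h4
  obtain ⟨i, -, hi⟩ := (Prime.dvd_finsetProd_iff (Nat.prime_iff.mp hr) _).mp h4
  obtain ⟨k, -, hk⟩ := FiniteField.card F p
  have hq : 0 < Fintype.card F := Fintype.card_pos
  have hnotq : ¬ r ∣ Fintype.card F ^ (i : ℕ) := by
    intro h
    have := hr.dvd_of_dvd_pow h
    rw [hk] at this
    have := hr.dvd_of_dvd_pow this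
    exact hrp ((Nat.prime_dvd_prime_iff_eq hr hp).mp this)
  have hfac : Fintype.card F ^ n - Fintype.card F ^ (i : ℕ) =
      Fintype.card F ^ (i : ℕ) * (Fintype.card F ^ (n - (i : ℕ)) - 1) := by
    rw [Nat.mul_sub, mul_one, ← pow_add, Nat.add_sub_cancel' i.2.le]
  rw [hfac] at hi
  have h6 : r ∣ Fintype.card F ^ (n - (i : ℕ)) - 1 :=
    (hr.dvd_mul.mp hi).resolve_left hnotq
  have h7 := (fo1_orderOf_dvd (r := r) (Fintype.card F) hq (n - (i : ℕ))).mpr h6
  have h8 : 0 < n - (i : ℕ) := Nat.sub_pos_of_lt i.2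
  exact (Nat.le_of_dvd h8 h7).trans (Nat.sub_le _ _)

end Cfsg.Agent.Lib.Helper6.EqD
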