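import Mathlib
import Cfsg.Prelude.Def_GeometricClasses
import Cfsg.Agent.Lib.Helper81.EsDefs

/-! # Es hive (S5877, helper81): leaves ES-N4 `r_dvd_n`, ES-N5 `exists_prim` (helper25) -/

set_option autoImplicit false
set_option linter.style.haveILetI false
set_option linter.unusedVariables false
set_option linter.unusedSectionVars false

namespace Cfsg.Agent.Lib.Helper81.Es

open scoped MatrixGroups

variable {F : Type*} [Field F] {n : ℕ}

/-- a primitive `r`-th root of unity `ζ` with `ζ ^ n = 1`, from a non-trivial commutator in `R` -/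
theorem n4_exists_root {r : ℕ} {R : Subgroup (GL (Fin n) F)} (hS : Setup r R) :
    ∃ ζ : F, IsPrimitiveRoot ζ r ∧ ζ ^ n = 1 := by
  obtain ⟨x, hx, y, hy, hxy⟩ := hS.prim
  obtain ⟨ζ, hζr, hζ⟩ := hS.comm x hx y hy
  have hζ1 : ζ ≠ 1 := by
    intro h
    apply hxy
    apply Units.ext
    rw [hζ, h, one_smul]
    rfl
  have hord : orderOf ζ = r := by
    have h1 : orderOf ζ ∣ r := orderOf_dvd_of_pow_eq_one hζr
    rcases (Nat.dvd_prime hS.prime).mp h1 with h2 | h2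
    · exact absurd (orderOf_eq_one_iff.mp h2) hζ1
    · exact h2
  refine ⟨ζ, hord ▸ IsPrimitiveRoot.orderOf ζ, ?_⟩
  have hdet : Matrix.GeneralLinearGroup.det (cm x y) = 1 := by
    unfold cm
    rw [map_mul, map_mul, map_mul, map_inv, map_inv]
    rw [mul_comm (Matrix.GeneralLinearGroup.det x) _, mul_inv_cancel_right, mul_inv_cancel]
  have h2 : ((cm x y : GL (Fin n) F) : Matrix (Fin n) (Fin n) F).det = 1 := by
    have := congrArg (fun u : Fˣ => (u : F)) hdet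
    simpa using this
  rw [hζ, Matrix.det_smul, Matrix.det_one, mul_one, Fintype.card_fin] at h2
  exact h2

/-- ES-N4 : `r ∣ n` -/
theorem r_dvd_n {r : ℕ} {R : Subgroup (GL (Fin n) F)} (hS : Setup r R) : r ∣ n := by
  obtain ⟨ζ, hζ, hn⟩ := n4_exists_root hS
  exact hζ.dvd_of_pow_eq_one n hn

/-- ES-N5 : a primitive `r`-th root of unity -/
theorem exists_prim {r : ℕ} {R : Subgroup (GL (Fin n) F)} (hS : Setup r R) :
    ∃ ζ : F, ζ ≠ 1 ∧ ζ ^ r = 1 ∧ ∀ ξ : F, ξ ^ r = 1 → ∃ s : ℕ, ξ = ζ ^ s := by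
  obtain ⟨ζ, hζ, -⟩ := n4_exists_root hS
  haveI : NeZero r := ⟨hS.prime.ne_zero⟩
  refine ⟨ζ, hζ.ne_one hS.prime.one_lt, hζ.pow_eq_one, fun ξ hξ => ?_⟩
  obtain ⟨i, -, hi⟩ := hζ.eq_pow_of_pow_eq_one hξ
  exact ⟨i, hi.symm⟩

end Cfsg.Agent.Lib.Helper81.Es
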