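import Cfsg.Agent.Lib.Helper25.Coherence

set_option autoImplicit false
set_option linter.unusedSectionVars false
set_option linter.style.haveILetI false

namespace Cfsg.Agent.Lib.Helper25

open Cfsg
open scoped ComplexConjugate

section ExtensionDeg

variable {L : Type*} [Group L] [Fintype L] {G : Type*} [Group G] [Fintype G]

omit [Fintype L] in
/-- Members of `zspan S` take at `1` an integer multiple of the minimal degree. -/
theorem zspan_apply_one_deg {S : Set (L → ℂ)} {d : ℂ}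
    (hdeg : ∀ χ ∈ S, ∃ a : ℤ, χ 1 = (a : ℂ) * d) {f : L → ℂ}
    (hf : f ∈ zspan S) : ∃ k : ℤ, f 1 = (k : ℂ) * d := by
  induction hf using Submodule.span_induction with
  | mem x hx => exact hdeg x hx
  | zero => exact ⟨0, by simp⟩
  | add x y _ _ hx hy =>
    obtain ⟨a, ha⟩ := hx
    obtain ⟨b, hb⟩ := hy
    exact ⟨a + b, by rw [Pi.add_apply, ha, hb]; push_cast; ring⟩
  | smul n x _ hx =>
    obtain ⟨a, ha⟩ := hx
    exact ⟨n * a, by rw [Pi.smul_apply, ha]; simp; ring⟩

omit [Fintype L] in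
theorem sub_smul_mem_zspanOn_deg {S : Set (L → ℂ)} {d : ℂ} (hd : d ≠ 0)
    (hdeg : ∀ χ ∈ S, ∃ a : ℤ, χ 1 = (a : ℂ) * d)
    {χ₁ : L → ℂ} (hχ₁ : χ₁ ∈ S) (hχ₁d : χ₁ 1 = d) {f : L → ℂ} (hf : f ∈ zspan S) :
    f - (f 1 / d) • χ₁ ∈ zspanOn S ({1}ᶜ : Set L) := by
  obtain ⟨k, hk⟩ := zspan_apply_one_deg hdeg hf
  have hm : f 1 / d = (k : ℂ) := by
    rw [hk]
    field_simp
  rw [mem_zspanOn_one]
  constructor
  · rw [hm, Int.cast_smul_eq_zsmul]
    exact zspan_sub hf (zspan_zsmul (subset_zspan hχ₁) k)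
  · rw [Pi.sub_apply, Pi.smul_apply, hχ₁d, smul_eq_mul]
    field_simp
    ring

/-- One-vector extension with unequal degrees: all degrees are integer multiples of the degree
`d` of `χ₁`. -/
theorem exists_extension_of_vector_deg {S : Set (L → ℂ)} {τ : (L → ℂ) → (G → ℂ)} {d : ℂ}
    (hd : d ≠ 0) {χ₁ : L → ℂ} (hχ₁ : χ₁ ∈ S) (hχ₁d : χ₁ 1 = d)
    (hdeg : ∀ χ ∈ S, ∃ a : ℤ, χ 1 = (a : ℂ) * d)
    (hiso : IsLinearIsometryOn (zspanOn S ({1}ᶜ : Set L)) τ)
    (a₁ : G → ℂ) (ha₁ : IsGeneralizedCharacter G a₁)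
    (hn : classInner a₁ a₁ = classInner χ₁ χ₁)
    (h1 : ∀ χ ∈ S, classInner a₁ (τ (χ - (χ 1 / d) • χ₁)) =
      classInner χ₁ (χ - (χ 1 / d) • χ₁))
    (h2 : ∀ χ ∈ S, classInner (τ (χ - (χ 1 / d) • χ₁)) a₁ =
      classInner (χ - (χ 1 / d) • χ₁) χ₁) :
    ∃ τ₁ : (L → ℂ) → (G → ℂ), IsLinearIsometryOn (zspan S) τ₁ ∧
      ∀ α ∈ zspanOn S ({1}ᶜ : Set L), τ₁ α = τ α := by
  set Z₀ := zspanOn S ({1}ᶜ : Set L) with hZ₀
  have hτ0 : τ 0 = 0 := isometryOn_map_zero hiso zspanOn_zero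
  have hmem : ∀ f ∈ zspan S, f - (f 1 / d) • χ₁ ∈ Z₀ :=
    fun f hf => sub_smul_mem_zspanOn_deg hd hdeg hχ₁ hχ₁d hf
  -- the key compatibility, by span induction
  have key : ∀ f ∈ zspan S,
      classInner a₁ (τ (f - (f 1 / d) • χ₁)) = classInner χ₁ (f - (f 1 / d) • χ₁) ∧
      classInner (τ (f - (f 1 / d) • χ₁)) a₁ = classInner (f - (f 1 / d) • χ₁) χ₁ := by
    intro f hf
    induction hf using Submodule.span_induction with
    | mem x hx => exact ⟨h1 x hx, h2 x hx⟩
    | zero =>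
      have e : (0 : L → ℂ) - ((0 : L → ℂ) 1 / d) • χ₁ = 0 := by simp
      rw [e, hτ0]
      simp [classInner_zero_left, classInner_zero_right]
    | add x y hx hy ihx ihy =>
      have e : (x + y) - ((x + y) 1 / d) • χ₁ =
          (x - (x 1 / d) • χ₁) + (y - (y 1 / d) • χ₁) := by
        rw [Pi.add_apply, add_div, add_smul]
        abel
      rw [e, hiso.1 _ (hmem x hx) _ (hmem y hy), classInner_add_right, classInner_add_right,
        classInner_add_left, classInner_add_left, ihx.1, ihx.2, ihy.1, ihy.2]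
      exact ⟨rfl, rfl⟩
    | smul n x hx ihx =>
      have e : (n • x) - ((n • x) 1 / d) • χ₁ = n • (x - (x 1 / d) • χ₁) := by
        rw [Pi.smul_apply, smul_sub]
        congr 1
        rw [← Int.cast_smul_eq_zsmul ℂ n (x 1), smul_eq_mul, mul_div_assoc, mul_smul,
          Int.cast_smul_eq_zsmul]
      rw [e, hiso.2.1 _ (hmem x hx) n, ← Int.cast_smul_eq_zsmul ℂ n (τ _),
        ← Int.cast_smul_eq_zsmul ℂ n (x - _), classInner_smul_right, classInner_smul_right,
        classInner_smul_left, classInner_smul_left, ihx.1, ihx.2]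
      exact ⟨rfl, rfl⟩
  refine ⟨fun f => τ (f - (f 1 / d) • χ₁) + (f 1 / d) • a₁, ⟨?_, ?_, ?_, ?_⟩, ?_⟩
  · -- additivity
    intro f hf g hg
    have e : (f + g) - ((f + g) 1 / d) • χ₁ =
        (f - (f 1 / d) • χ₁) + (g - (g 1 / d) • χ₁) := by
      rw [Pi.add_apply, add_div, add_smul]
      abel
    show τ ((f + g) - ((f + g) 1 / d) • χ₁) + ((f + g) 1 / d) • a₁ = _
    rw [e, hiso.1 _ (hmem f hf) _ (hmem g hg), Pi.add_apply, add_div, add_smul]
    exact add_add_add_comm _ _ _ _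
  · -- integer scalars
    intro f hf n
    have e : (n • f) - ((n • f) 1 / d) • χ₁ = n • (f - (f 1 / d) • χ₁) := by
      rw [Pi.smul_apply, smul_sub]
      congr 1
      rw [← Int.cast_smul_eq_zsmul ℂ n (f 1), smul_eq_mul, mul_div_assoc, mul_smul,
        Int.cast_smul_eq_zsmul]
    show τ ((n • f) - ((n • f) 1 / d) • χ₁) + ((n • f) 1 / d) • a₁ = _
    rw [e, hiso.2.1 _ (hmem f hf) n, smul_add]
    congr 1
    rw [Pi.smul_apply, ← Int.cast_smul_eq_zsmul ℂ n (f 1), smul_eq_mul, mul_div_assoc, mul_smul,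
      Int.cast_smul_eq_zsmul]
  · -- isometry
    intro f hf g hg
    show classInner (τ (f - (f 1 / d) • χ₁) + (f 1 / d) • a₁)
      (τ (g - (g 1 / d) • χ₁) + (g 1 / d) • a₁) = classInner f g
    have ef : f = (f - (f 1 / d) • χ₁) + (f 1 / d) • χ₁ := by abel
    have eg : g = (g - (g 1 / d) • χ₁) + (g 1 / d) • χ₁ := by abel
    conv_rhs => rw [ef, eg]
    rw [classInner_add_left, classInner_add_right, classInner_add_right,
      classInner_add_left, classInner_add_right, classInner_add_right,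
      hiso.2.2.1 _ (hmem f hf) _ (hmem g hg),
      classInner_smul_right, classInner_smul_left, classInner_smul_left, classInner_smul_right,
      classInner_smul_right, classInner_smul_left, classInner_smul_left, classInner_smul_right,
      (key f hf).2, (key g hg).1, hn]
  · -- values are generalized characters
    intro f hf
    obtain ⟨k, hk⟩ := zspan_apply_one_deg hdeg hf
    have hm : f 1 / d = (k : ℂ) := by
      rw [hk]
      field_simp
    show IsGeneralizedCharacter G (τ (f - (f 1 / d) • χ₁) + (f 1 / d) • a₁)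
    apply genChar_add (hiso.2.2.2 _ (hmem f hf))
    rw [hm]
    exact genChar_intCast_smul ha₁ k
  · -- agreement
    intro f hf
    have hf1 : f 1 = 0 := (mem_zspanOn_one.mp hf).2
    show τ (f - (f 1 / d) • χ₁) + (f 1 / d) • a₁ = τ f
    rw [hf1, zero_div, zero_smul, zero_smul, sub_zero, add_zero]

end ExtensionDeg

end Cfsg.Agent.Lib.Helper25
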