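import Cfsg.Agent.Lib.Helper25.SibleyFrob

set_option autoImplicit false
set_option linter.unusedSectionVars false
set_option linter.style.haveILetI false

namespace Cfsg.Agent.Lib.Helper25

open Cfsg

section FeitSibley2

variable {G : Type*} [Group G]

/-- A subgroup containing the centralisers of its non-identity elements has order coprime to
its index in any finite overgroup. -/
theorem coprime_card_index_of_centralizer (K L : Subgroup G) [Finite L] (hKL : K ≤ L)
    (hC : ∀ k ∈ K, k ≠ 1 → Subgroup.centralizer ({k} : Set G) ≤ K) :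
    (Nat.card K).Coprime (K.subgroupOf L).index := by
  have hcard : Nat.card (K.subgroupOf L) = Nat.card K :=
    Nat.card_congr (Subgroup.subgroupOfEquivOfLe hKL).toEquiv
  rw [← hcard]
  apply frobC_coprime (K.subgroupOf L)
  intro k hk hk1 x hxk
  rw [Subgroup.mem_subgroupOf]
  apply hC (k : G) (Subgroup.mem_subgroupOf.mp hk) (fun h => hk1 (Subtype.ext h))
  rw [Subgroup.mem_centralizer_iff]
  intro y hy
  rw [Set.mem_singleton_iff] at hy
  rw [hy]
  exact (congrArg Subtype.val hxk).symm

/-- A non-trivial `p`-subgroup containing the centralisers of its non-identity elements is a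
Sylow `p`-subgroup. -/
theorem card_eq_sylow_of_centralizer_le [Finite G] (p : ℕ) [Fact p.Prime] (K : Subgroup G)
    (hK1 : K ≠ ⊥) (hp : IsPGroup p K)
    (hC : ∀ k ∈ K, k ≠ 1 → Subgroup.centralizer ({k} : Set G) ≤ K) :
    Nat.card K = p ^ (Nat.card G).factorization p := by
  classical
  obtain ⟨T, hKT⟩ := hp.exists_le_sylow
  obtain ⟨k, hkK, hk1⟩ : ∃ k ∈ K, k ≠ 1 := by
    by_contra hall
    push Not at hall
    exact hK1 (eq_bot_iff.mpr (fun k hk => by rw [Subgroup.mem_bot]; exact hall k hk))
  haveI : Nontrivial (T : Subgroup G) :=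
    ⟨⟨⟨k, hKT hkK⟩, 1, fun h => hk1 (congrArg Subtype.val h)⟩⟩
  have hcen : Nontrivial (Subgroup.center (T : Subgroup G)) := T.isPGroup'.center_nontrivial
  obtain ⟨z, hz1⟩ := exists_ne (1 : Subgroup.center (T : Subgroup G))
  have hzc : ∀ t ∈ (T : Subgroup G), t * ((z : (T : Subgroup G)) : G) =
      ((z : (T : Subgroup G)) : G) * t := by
    intro t ht
    have := Subgroup.mem_center_iff.mp z.2 ⟨t, ht⟩
    exact congrArg Subtype.val this
  have hzG1 : ((z : (T : Subgroup G)) : G) ≠ 1 := by
    intro h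
    apply hz1
    apply Subtype.ext
    apply Subtype.ext
    exact h
  have hzK : ((z : (T : Subgroup G)) : G) ∈ K := by
    apply hC k hkK hk1
    rw [Subgroup.mem_centralizer_iff]
    intro y hy
    rw [Set.mem_singleton_iff] at hy
    rw [hy]
    exact hzc k (hKT hkK)
  have hTK : (T : Subgroup G) ≤ K := by
    intro t ht
    apply hC _ hzK hzG1
    rw [Subgroup.mem_centralizer_iff]
    intro y hy
    rw [Set.mem_singleton_iff] at hy
    rw [hy]
    exact (hzc t ht).symm
  have hKeq : K = (T : Subgroup G) := le_antisymm hKT hTK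
  rw [hKeq]
  exact T.card_eq_multiplicity

theorem pow_two_lt_of_odd (j e : ℕ) (he : Odd e) (he2 : 2 ≤ e) (h : 2 ^ j ≤ 4 * e ^ 2 + 1) :
    2 ^ j < 4 * e ^ 2 := by
  by_contra hge
  push Not at hge
  rcases Nat.eq_zero_or_pos j with hj | hj
  · rw [hj, pow_zero] at hge
    nlinarith
  have heven : Even (2 ^ j) := (Nat.even_pow' hj.ne').mpr even_two
  have hne : 2 ^ j ≠ 4 * e ^ 2 + 1 := by
    intro h1
    rw [h1] at heven
    have : ¬ Even (4 * e ^ 2 + 1) := by
      rw [Nat.not_even_iff_odd]
      exact ⟨2 * e ^ 2, by ring⟩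
    exact this heven
  have heq : 2 ^ j = 4 * e ^ 2 := by omega
  have hdvd : e ∣ 2 ^ j := by
    rw [heq]
    exact Dvd.intro_left (4 * e) (by ring)
  obtain ⟨i, -, hi⟩ := (Nat.dvd_prime_pow Nat.prime_two).mp hdvd
  rcases Nat.eq_zero_or_pos i with hi0 | hi0
  · rw [hi0, pow_zero] at hi
    omega
  · have : Even e := by
      rw [hi]
      exact (Nat.even_pow' hi0.ne').mpr even_two
    exact (Nat.not_even_iff_odd.mpr he) this

end FeitSibley2

end Cfsg.Agent.Lib.Helper25
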