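import Mathlib
import Cfsg.Agent.Lib.Helper83.FpDefs

/-!
# FP-PP (Fp hive, S2276): the cycle type of a `p`-element consists of powers `p ^ i`, `i ≥ 1`
-/

set_option autoImplicit false
set_option linter.unusedSimpArgs false
set_option linter.unusedVariables false

namespace Cfsg.Agent.Lib.Helper83.Fp

open Equiv

/-- FP-PP. -/
theorem pp_cycleType : PPStmt := by
  unfold PPStmt
  intro p hp n U hU x hx
  obtain ⟨k, hk⟩ := hU
  have hdvd : x ∣ orderOf U := Equiv.Perm.dvd_of_mem_cycleType hx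
  have h2 : 2 ≤ x := Equiv.Perm.two_le_of_mem_cycleType hx
  rw [hk] at hdvd
  obtain ⟨i, _, hi⟩ := (Nat.dvd_prime_pow hp).1 hdvd
  refine ⟨i, ?_, hi⟩
  rcases Nat.eq_zero_or_pos i with h0 | h0
  · subst h0
    simp at hi
    omega
  · exact h0

end Cfsg.Agent.Lib.Helper83.Fp
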