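import Mathlib
import Cfsg.Agent.Lib.Helper83.FpDefs

/-!
# FP-SYM (Fp hive, S2276): `Good` is symmetric up to conjugation
-/

set_option autoImplicit false
set_option linter.unusedSimpArgs false
set_option linter.unusedVariables false

namespace Cfsg.Agent.Lib.Helper83.Fp

open Equiv

/-- orders of `a * b` and `b * a` agree (they are conjugate). -/
theorem fpsym_orderOf_mul_comm {G : Type*} [Group G] (a b : G) :
    orderOf (a * b) = orderOf (b * a) := by
  have h : b * a = (MulAut.conj a⁻¹) (a * b) := by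
    simp [MulAut.conj_apply, mul_assoc]
  rw [h, MulEquiv.orderOf_eq]

/-- order is invariant under conjugation. -/
theorem fpsym_orderOf_conj {G : Type*} [Group G] (g a : G) :
    orderOf (g * a * g⁻¹) = orderOf a := by
  have h : g * a * g⁻¹ = (MulAut.conj g) a := by
    simp [MulAut.conj_apply]
  rw [h, MulEquiv.orderOf_eq]

/-- the closure of a conjugated pair is the image of the closure under conjugation. -/
theorem fpsym_closure_conj {G : Type*} [Group G] (g a b : G) :
    Subgroup.closure ({g * a * g⁻¹, g * b * g⁻¹} : Set G) =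
      (Subgroup.closure ({a, b} : Set G)).map (MulAut.conj g).toMonoidHom := by
  rw [MonoidHom.map_closure]
  congr 1
  rw [Set.image_pair]
  simp [MulAut.conj_apply]

/-- solvability passes to the conjugated closure. -/
theorem fpsym_solvable_conj {G : Type*} [Group G] (g a b : G)
    (h : Group.IsSolvable (Subgroup.closure ({a, b} : Set G))) :
    Group.IsSolvable (Subgroup.closure ({g * a * g⁻¹, g * b * g⁻¹} : Set G)) := by
  rw [fpsym_closure_conj]
  exact Group.isSolvable_of_surjective
    (f := (MulAut.conj g).toMonoidHom.subgroupMap (Subgroup.closure ({a, b} : Set G)))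
    (MonoidHom.subgroupMap_surjective _ _)

/-- FP-SYM. -/
theorem good_symm : SymStmt := by
  unfold SymStmt
  intro p n U W g hG
  obtain ⟨h1, h2⟩ := hG
  refine ⟨?_, ?_⟩
  · intro hk
    apply h1
    obtain ⟨k, hk⟩ := hk
    refine ⟨k, ?_⟩
    rw [← hk]
    -- W * (g U g⁻¹) ~ (g U g⁻¹) * W = g (U * g⁻¹ W g) g⁻¹
    rw [fpsym_orderOf_mul_comm W (g * U * g⁻¹)]
    have : g * U * g⁻¹ * W = g * (U * (g⁻¹ * W * g⁻¹⁻¹)) * g⁻¹ := by
      simp [mul_assoc]
    rw [this, fpsym_orderOf_conj]
  · intro hs
    apply h2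
    have h3 := fpsym_solvable_conj g U (g⁻¹ * W * g⁻¹⁻¹) hs
    have e1 : g * (g⁻¹ * W * g⁻¹⁻¹) * g⁻¹ = W := by
      simp [mul_assoc]
    rw [e1] at h3
    have e2 : ({W, g * U * g⁻¹} : Set (Perm (Fin n))) = {g * U * g⁻¹, W} := Set.pair_comm _ _
    rw [e2]
    exact h3

end Cfsg.Agent.Lib.Helper83.Fp
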