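import Mathlib
import Cfsg.Agent.Lib.Helper83.FpDefs

/-!
# FP-T4 (Fp hive, S2276): the commutator of two permutations whose supports meet in one point
is a 3-cycle
-/

set_option autoImplicit false
set_option linter.unusedSimpArgs false
set_option linter.unusedVariables false

namespace Cfsg.Agent.Lib.Helper83.Fp

open Equiv

/-- the values of the commutator. -/
theorem fpt4_values {α : Type*} [DecidableEq α] [Fintype α] (x y : Perm α) (q : α)
    (h : x.support ∩ y.support = {q}) :
    x q ≠ q ∧ y q ≠ q ∧ x q ≠ y q ∧
    (x * y * x⁻¹ * y⁻¹) q = x q ∧ (x * y * x⁻¹ * y⁻¹) (x q) = y q ∧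
    (x * y * x⁻¹ * y⁻¹) (y q) = q ∧
    ∀ z, z ≠ q → z ≠ x q → z ≠ y q → (x * y * x⁻¹ * y⁻¹) z = z := by
  have hqmem : q ∈ x.support ∩ y.support := by rw [h]; exact Finset.mem_singleton_self q
  have hqx : x q ≠ q := by
    have := (Finset.mem_inter.1 hqmem).1
    exact Equiv.Perm.mem_support.1 this
  have hqy : y q ≠ q := by
    have := (Finset.mem_inter.1 hqmem).2
    exact Equiv.Perm.mem_support.1 this
  have hboth : ∀ w, x w ≠ w → y w ≠ w → w = q := by
    intro w h1 h2
    have : w ∈ x.support ∩ y.support :=
      Finset.mem_inter.2 ⟨Equiv.Perm.mem_support.2 h1, Equiv.Perm.mem_support.2 h2⟩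
    rw [h] at this
    exact Finset.mem_singleton.1 this
  have hxy : ∀ w, w ≠ q → x w ≠ w → y w = w := by
    intro w hw h1
    by_contra h2
    exact hw (hboth w h1 h2)
  have hyx : ∀ w, w ≠ q → y w ≠ w → x w = w := by
    intro w hw h1
    by_contra h2
    exact hw (hboth w h2 h1)
  -- inverse versions
  have hxinv : ∀ w, x w = w → x⁻¹ w = w := by
    intro w hw
    rw [Equiv.Perm.inv_eq_iff_eq]; exact hw.symm
  have hyinv : ∀ w, y w = w → y⁻¹ w = w := by
    intro w hw
    rw [Equiv.Perm.inv_eq_iff_eq]; exact hw.symm
  have hne : x q ≠ y q := by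
    intro he
    have h1 : x (x q) ≠ x q := fun h' => hqx (x.injective h')
    have h2 : y (x q) ≠ x q := by
      rw [he]
      exact fun h' => hqy (y.injective h')
    exact hqx (hboth (x q) h1 h2)
  refine ⟨hqx, hqy, hne, ?_, ?_, ?_, ?_⟩
  · -- c q = x q
    simp only [Equiv.Perm.mul_apply]
    set a := y⁻¹ q with ha
    have hya : y a = q := by rw [ha]; simp
    have haq : a ≠ q := by
      intro h'
      rw [h'] at hya
      exact hqy hya
    have hya' : y a ≠ a := by rw [hya]; exact fun h' => haq h'.symm
    have hxa : x a = a := hyx a haq hya'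
    rw [hxinv a hxa, hya]
  · -- c (x q) = y q
    simp only [Equiv.Perm.mul_apply]
    have h1 : x (x q) ≠ x q := fun h' => hqx (x.injective h')
    have h2 : y (x q) = x q := hxy (x q) hqx h1
    rw [hyinv _ h2]
    have h3 : x⁻¹ (x q) = q := by simp
    rw [h3]
    have h4 : y (y q) ≠ y q := fun h' => hqy (y.injective h')
    exact hyx (y q) hqy h4
  · -- c (y q) = q
    simp only [Equiv.Perm.mul_apply]
    have h3 : y⁻¹ (y q) = q := by simp
    rw [h3]
    set b := x⁻¹ q with hb
    have hxb : x b = q := by rw [hb]; simp
    have hbq : b ≠ q := by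
      intro h'
      rw [h'] at hxb
      exact hqx hxb
    have hxb' : x b ≠ b := by rw [hxb]; exact fun h' => hbq h'.symm
    have hyb : y b = b := hxy b hbq hxb'
    rw [hyb, hxb]
  · intro z hzq hzx hzy
    simp only [Equiv.Perm.mul_apply]
    by_cases hyz : y z = z
    · rw [hyinv z hyz]
      by_cases hxz : x z = z
      · rw [hxinv z hxz, hyz, hxz]
      · set b := x⁻¹ z with hb
        have hxb : x b = z := by rw [hb]; simp
        have hbq : b ≠ q := by
          intro h'
          rw [h'] at hxb
          exact hzx hxb.symm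
        have hxb' : x b ≠ b := by
          intro h'
          rw [hxb] at h'
          rw [← h'] at hxb
          exact hxz hxb
        have hyb : y b = b := hxy b hbq hxb'
        rw [hyb, hxb]
    · have hxz : x z = z := hyx z hzq hyz
      set a := y⁻¹ z with ha
      have hya : y a = z := by rw [ha]; simp
      have haq : a ≠ q := by
        intro h'
        rw [h'] at hya
        exact hzy hya.symm
      have hya' : y a ≠ a := by
        intro h'
        rw [hya] at h'
        rw [← h'] at hya
        exact hyz hya
      have hxa : x a = a := hyx a haq hya'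
      rw [hxinv a hxa, hya, hxz]

/-- FP-T4. -/
theorem comm_three_cycle : CommStmt := by
  unfold CommStmt
  intro m x y q h
  obtain ⟨hqx, hqy, hne, c1, c2, c3, c4⟩ := fpt4_values x y q h
  have hsupp : (x * y * x⁻¹ * y⁻¹).support = {q, x q, y q} := by
    ext z
    rw [Equiv.Perm.mem_support]
    simp only [Finset.mem_insert, Finset.mem_singleton]
    constructor
    · intro hz
      by_contra hcon
      push Not at hcon
      exact hz (c4 z hcon.1 hcon.2.1 hcon.2.2)
    · rintro (rfl | rfl | rfl)
      · rw [c1]; exact hqx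
      · rw [c2]; exact fun h' => hne h'.symm
      · rw [c3]; exact fun h' => hqy h'.symm
  refine ⟨?_, hsupp⟩
  rw [← card_support_eq_three_iff, hsupp]
  rw [Finset.card_insert_of_notMem, Finset.card_insert_of_notMem, Finset.card_singleton]
  · simp only [Finset.mem_singleton]; exact hne
  · simp only [Finset.mem_insert, Finset.mem_singleton]
    rintro (h' | h')
    · exact hqx h'.symm
    · exact hqy h'.symm

end Cfsg.Agent.Lib.Helper83.Fp
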