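import Mathlib
import Cfsg.Agent.Lib.Helper1.Carter1

set_option autoImplicit false
set_option linter.unusedSectionVars false
set_option linter.style.haveILetI false

/-!
Group-theoretic lemmas for PF 6.3: Frobenius-like quotients, nilpotent groups with cyclic
abelianization, primes dividing the order of a nilpotent group, intermediate normal subgroups.
-/

namespace Cfsg.Agent.Lib.Helper25

open scoped commutatorElement

section FrobCount

/-- In a finite group `Q` with an abelian normal subgroup `Kb` containing the centralizers of its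
nonidentity elements, `|Q : Kb|` divides `|Nb| - 1` for every normal subgroup `Nb ≤ Kb` of `Q`. -/
theorem frob_index_dvd_card_sub_one {Q : Type*} [Group Q] [Finite Q] (Kb Nb : Subgroup Q)
    [hNn : Nb.Normal] (hNK : Nb ≤ Kb)
    (hab : ∀ a ∈ Kb, ∀ b ∈ Kb, a * b = b * a)
    (hF : ∀ k ∈ Kb, k ≠ 1 → ∀ x : Q, x * k = k * x → x ∈ Kb) :
    Kb.index ∣ Nat.card Nb - 1 := by
  classical
  have : Fintype Q := Fintype.ofFinite Q
  have : Fintype (ConjAct Q) := Fintype.ofFinite _
  have : Fintype Nb := Fintype.ofFinite _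
  have : Fintype Kb := Fintype.ofFinite _
  have : Fintype (MulAction.orbitRel.Quotient (ConjAct Q) Nb) := Fintype.ofFinite _
  have hB := MulAction.sum_card_fixedBy_eq_card_orbits_mul_card_group (ConjAct Q) Nb
  have hsmul : ∀ (g : ConjAct Q) (n : Nb), ((g • n : Nb) : Q) =
      ConjAct.ofConjAct g * (n : Q) * (ConjAct.ofConjAct g)⁻¹ := by
    intro g n
    show g • (n : Q) = _
    rw [ConjAct.smul_def]
  have h1 : ∀ g : ConjAct Q, ConjAct.ofConjAct g ∈ Kb →
      Fintype.card (MulAction.fixedBy Nb g) = Fintype.card Nb := by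
    intro g hg
    apply Fintype.card_of_subtype Finset.univ
    intro n
    simp only [Finset.mem_univ, true_iff, MulAction.mem_fixedBy]
    apply Subtype.ext
    rw [hsmul, hab _ hg _ (hNK n.2), mul_assoc, mul_inv_cancel, mul_one]
  have h2 : ∀ g : ConjAct Q, ConjAct.ofConjAct g ∉ Kb →
      Fintype.card (MulAction.fixedBy Nb g) = 1 := by
    intro g hg
    rw [Fintype.card_eq_one_iff]
    refine ⟨⟨1, ?_⟩, ?_⟩
    · rw [MulAction.mem_fixedBy]
      exact smul_one g
    · rintro ⟨n, hn⟩
      apply Subtype.ext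
      rw [MulAction.mem_fixedBy] at hn
      have hn' := congrArg Subtype.val hn
      rw [hsmul] at hn'
      by_contra hne
      have hne' : (n : Q) ≠ 1 := fun h => hne (Subtype.ext h)
      apply hg
      apply hF _ (hNK n.2) hne'
      calc ConjAct.ofConjAct g * (n : Q)
          = ConjAct.ofConjAct g * (n : Q) * (ConjAct.ofConjAct g)⁻¹ * ConjAct.ofConjAct g := by
            group
        _ = (n : Q) * ConjAct.ofConjAct g := by rw [hn']
  have hsum : ∑ g : ConjAct Q, Fintype.card (MulAction.fixedBy Nb g) =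
      Fintype.card Kb * Fintype.card Nb + (Fintype.card Q - Fintype.card Kb) := by
    have e : ∀ g : ConjAct Q, Fintype.card (MulAction.fixedBy Nb g) =
        if ConjAct.ofConjAct g ∈ Kb then Fintype.card Nb else 1 := by
      intro g
      by_cases hg : ConjAct.ofConjAct g ∈ Kb
      · rw [if_pos hg, h1 g hg]
      · rw [if_neg hg, h2 g hg]
    have e' : ∑ g : ConjAct Q, Fintype.card (MulAction.fixedBy Nb g) =
        ∑ x : Q, (if x ∈ Kb then Fintype.card Nb else 1) :=
      Fintype.sum_equiv ConjAct.ofConjAct.toEquiv _ _ (fun g => e g)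
    rw [e']
    rw [Finset.sum_ite, Finset.sum_const, Finset.sum_const, smul_eq_mul, smul_eq_mul, mul_one]
    have c1 : (Finset.univ.filter (fun x : Q => x ∈ Kb)).card = Fintype.card Kb := by
      rw [Fintype.card_subtype]
    have c2 : (Finset.univ.filter (fun x : Q => x ∉ Kb)).card = Fintype.card Q - Fintype.card Kb := by
      have := Finset.card_filter_add_card_filter_not (s := (Finset.univ : Finset Q))
        (fun x : Q => x ∈ Kb)
      rw [c1, Finset.card_univ] at this
      omega
    rw [c1, c2]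
  rw [hsum] at hB
  have hcard : Fintype.card (ConjAct Q) = Fintype.card Q := by
    rw [← Nat.card_eq_fintype_card, ← Nat.card_eq_fintype_card]
    exact Nat.card_congr ConjAct.toConjAct.symm.toEquiv
  rw [hcard] at hB
  have hidx : Fintype.card Q = Kb.index * Fintype.card Kb := by
    rw [← Nat.card_eq_fintype_card, ← Nat.card_eq_fintype_card, mul_comm]
    exact (Subgroup.card_mul_index Kb).symm
  set c := Fintype.card (MulAction.orbitRel.Quotient (ConjAct Q) Nb) with hc
  have hcpos : 0 < c := Fintype.card_pos_iff.mpr ⟨Quotient.mk'' 1⟩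
  set k := Fintype.card Kb with hk
  have hkpos : 0 < k := Fintype.card_pos
  set n := Fintype.card Nb with hn
  have hnpos : 0 < n := Fintype.card_pos
  set e := Kb.index with he
  have hle : k ≤ Fintype.card Q := by rw [hidx]; exact Nat.le_mul_of_pos_left _ (Nat.pos_of_ne_zero Subgroup.index_ne_zero_of_finite)
  rw [Nat.card_eq_fintype_card]
  rw [hidx] at hB hle
  -- k * n + (e * k - k) = c * (e * k)
  have h3 : k * (n - 1) = k * ((c - 1) * e) := by
    have hn1 : n = (n - 1) + 1 := by omega
    have hc1 : c = (c - 1) + 1 := by omega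
    have : k * n + e * k = c * (e * k) + k := by omega
    rw [hn1, hc1] at this
    have h4 : k * (n - 1) + k + e * k = k * ((c - 1) * e) + e * k + k := by
      calc k * (n - 1) + k + e * k = k * (n - 1 + 1) + e * k := by ring
        _ = (c - 1 + 1) * (e * k) + k := this
        _ = _ := by ring
    omega
  have h5 := Nat.eq_of_mul_eq_mul_left hkpos h3
  exact ⟨c - 1, by rw [h5, mul_comm]⟩

/-- Transfer to a group `L` with normal subgroups `H₁ ≤ N ≤ K`, `K/H₁` abelian and `L/H₁`
Frobenius-like with kernel `K/H₁`: `|L : K|` divides `|N : H₁| - 1`. -/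
theorem frob_index_dvd_relIndex_sub_one {L : Type*} [Group L] [Finite L] (K H₁ N : Subgroup L)
    [hH₁ : H₁.Normal] [hN : N.Normal] (hH₁K : H₁ ≤ K) (hNK : N ≤ K)
    (hcomm : ⁅K, K⁆ ≤ H₁)
    (hfrob : ∀ k ∈ K, k ∉ H₁ → ∀ x : L, x * k * x⁻¹ * k⁻¹ ∈ H₁ → x ∈ K) :
    K.index ∣ H₁.relIndex N - 1 := by
  have hsurj : Function.Surjective (QuotientGroup.mk' H₁) := QuotientGroup.mk'_surjective H₁
  have hNn : (N.map (QuotientGroup.mk' H₁)).Normal := hN.map _ hsurj
  have h := frob_index_dvd_card_sub_one (K.map (QuotientGroup.mk' H₁)) (N.map (QuotientGroup.mk' H₁))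
    (Subgroup.map_mono hNK) ?_ ?_
  · rw [Subgroup.index_map_eq _ hsurj (by rw [QuotientGroup.ker_mk']; exact hH₁K)] at h
    have e := Subgroup.relIndex_ker (K := N) (QuotientGroup.mk' H₁)
    rw [QuotientGroup.ker_mk'] at e
    rw [e]
    exact h
  · rintro _ ⟨a, ha, rfl⟩ _ ⟨b, hb, rfl⟩
    rw [← map_mul, ← map_mul]
    have : a * b * (b * a)⁻¹ ∈ H₁ := by
      apply hcomm
      have := Subgroup.commutator_mem_commutator ha hb
      rw [commutatorElement_def] at this
      have e : a * b * (b * a)⁻¹ = a * b * a⁻¹ * b⁻¹ := by group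
      rw [e]; exact this
    have h2 : (QuotientGroup.mk' H₁) (a * b * (b * a)⁻¹) = 1 :=
      (QuotientGroup.eq_one_iff _).mpr this
    rw [map_mul, map_inv, mul_inv_eq_one] at h2
    exact h2
  · rintro _ ⟨k, hk, rfl⟩ hk1 x hx
    obtain ⟨x, rfl⟩ := hsurj x
    have hkH : k ∉ H₁ := by
      intro hk'
      apply hk1
      exact (QuotientGroup.eq_one_iff _).mpr hk'
    refine ⟨x, hfrob k hk hkH x ?_, rfl⟩
    rw [← map_mul, ← map_mul] at hx
    have h2 : (QuotientGroup.mk' H₁) (x * k * x⁻¹ * k⁻¹) = 1 := by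
      rw [map_mul, map_mul, map_inv, map_inv, hx, map_mul]
      group
    exact (QuotientGroup.eq_one_iff _).mp h2

end FrobCount

section NilLemmas

/-- A nilpotent group with cyclic abelianization is commutative. -/
theorem comm_of_nilpotent_of_cyclic_abelianization (G : Type*) [Group G] [hn : Group.IsNilpotent G] :
    IsCyclic (Abelianization G) → ∀ a b : G, a * b = b * a := by
  refine Group.nilpotent_center_quotient_ind
    (P := fun G _ _ => IsCyclic (Abelianization G) → ∀ a b : G, a * b = b * a) G ?_ ?_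
  · intro G _ _ _ a b
    rw [Subsingleton.elim a b]
  · intro G _ _ ih hc
    have hsurj : Function.Surjective (Abelianization.map (QuotientGroup.mk' (Subgroup.center G))) := by
      intro y
      obtain ⟨q, rfl⟩ := QuotientGroup.mk'_surjective _ y
      obtain ⟨g, rfl⟩ := QuotientGroup.mk'_surjective _ q
      exact ⟨Abelianization.of g, by rw [Abelianization.map_of]; rfl⟩
    have hc' : IsCyclic (Abelianization (G ⧸ Subgroup.center G)) :=
      isCyclic_of_surjective _ hsurj
    have hcomm := ih hc'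
    let _ : CommGroup (G ⧸ Subgroup.center G) :=
      { (inferInstance : Group (G ⧸ Subgroup.center G)) with mul_comm := hcomm }
    have hsurj2 : Function.Surjective
        (Abelianization.lift (QuotientGroup.mk' (Subgroup.center G))) := by
      intro q
      obtain ⟨g, rfl⟩ := QuotientGroup.mk'_surjective _ q
      exact ⟨Abelianization.of g, by simp⟩
    have hcyc : IsCyclic (G ⧸ Subgroup.center G) := isCyclic_of_surjective _ hsurj2
    have := MonoidHom.isMulCommutative_of_isCyclic_of_ker_le_center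
      (QuotientGroup.mk' (Subgroup.center G)) (by rw [QuotientGroup.ker_mk'])
    exact fun a b => mul_comm' a b

/-- In a finite nilpotent group, every prime dividing the order divides the index of some normal
subgroup containing the commutator subgroup. -/
theorem exists_normal_abelian_quotient_of_prime_dvd (G : Type*) [Group G] [Finite G]
    [hn : Group.IsNilpotent G] (q : ℕ) [hq : Fact q.Prime] (hdvd : q ∣ Nat.card G) :
    ∃ N : Subgroup G, N.Normal ∧ commutator G ≤ N ∧ q ∣ N.index := by
  obtain ⟨P⟩ : Nonempty (Sylow q G) := inferInstance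
  have h3 : ∀ (p : ℕ) (_ : Fact p.Prime) (P : Sylow p G), (P : Subgroup G).Normal :=
    ((Group.isNilpotent_of_finite_tfae (G := G)).out 0 3).mp hn
  have hPn : (P : Subgroup G).Normal := h3 q hq P
  obtain ⟨H, hH⟩ := Subgroup.exists_right_complement'_of_coprime (P.card_coprime_index)
  have hHcard : Nat.card H = (P : Subgroup G).index := hH.symm.index_eq_card.symm
  have hHidx : H.index = Nat.card (P : Subgroup G) := hH.index_eq_card
  have hHn : H.Normal := by
    apply Cfsg.Agent.Lib.Helper1.normal_of_hall_of_isNilpotent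
    rw [hHcard, hHidx]
    exact P.card_coprime_index.symm
  -- G ⧸ H is a nontrivial q-group
  obtain ⟨k, hk⟩ := P.2.exists_card_eq
  have hkpos : k ≠ 0 := by
    intro h0
    rw [h0, pow_zero] at hk
    have := P.not_dvd_index
    apply this
    have h1 := Subgroup.card_mul_index (P : Subgroup G)
    rw [hk, one_mul] at h1
    rw [h1]
    exact hdvd
  have hQcard : Nat.card (G ⧸ H) = q ^ k := by
    rw [← Subgroup.index_eq_card, hHidx, hk]
  have hQp : IsPGroup q (G ⧸ H) := IsPGroup.of_card hQcard
  have hQnil : Group.IsNilpotent (G ⧸ H) := hQp.isNilpotent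
  have hQnt : Nontrivial (G ⧸ H) := by
    rw [← Finite.one_lt_card_iff_nontrivial, hQcard]
    exact Nat.one_lt_pow hkpos hq.out.one_lt
  have hlt := Group.IsSolvable.commutator_lt_top_of_nontrivial (G ⧸ H)
  refine ⟨(commutator (G ⧸ H)).comap (QuotientGroup.mk' H), inferInstance, ?_, ?_⟩
  · rw [commutator_def, Subgroup.commutator_le]
    intro a _ b _
    rw [Subgroup.mem_comap, map_commutatorElement]
    exact Subgroup.commutator_mem_commutator (Subgroup.mem_top _) (Subgroup.mem_top _)
  · rw [Subgroup.index_comap_of_surjective _ (QuotientGroup.mk'_surjective H)]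
    have hd : (commutator (G ⧸ H)).index ∣ q ^ k := by
      rw [← hQcard]
      exact Subgroup.index_dvd_card _
    obtain ⟨i, -, hi⟩ := (Nat.dvd_prime_pow hq.out).mp hd
    have hi0 : i ≠ 0 := by
      intro h0
      rw [h0, pow_zero, Subgroup.index_eq_one] at hi
      exact hlt.ne hi
    rw [hi]
    exact dvd_pow_self q hi0

end NilLemmas

section Intermediate

variable {L : Type*} [Group L] [Finite L]

/-- If `K/H₁` is abelian and its order is neither `1` nor a prime power, some normal subgroup of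
`L` lies strictly between `H₁` and `K`. -/
theorem exists_intermediate_of_not_prime_pow (K H₁ : Subgroup L) [hK : K.Normal] [hH₁ : H₁.Normal]
    (hH₁K : H₁ ≤ K) (hcomm : ⁅K, K⁆ ≤ H₁) (hne1 : H₁.relIndex K ≠ 1)
    (hnpp : ¬ ∃ p j : ℕ, p.Prime ∧ H₁.relIndex K = p ^ j) :
    ∃ N : Subgroup L, N.Normal ∧ H₁ < N ∧ N < K := by
  have hsurj : Function.Surjective (QuotientGroup.mk' H₁) := QuotientGroup.mk'_surjective H₁
  have hKbn : (K.map (QuotientGroup.mk' H₁)).Normal := hK.map _ hsurj
  have hcard : Nat.card (K.map (QuotientGroup.mk' H₁)) = H₁.relIndex K := by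
    have e := Subgroup.relIndex_ker (K := K) (QuotientGroup.mk' H₁)
    rw [QuotientGroup.ker_mk'] at e
    exact e.symm
  obtain ⟨p, hp, hpdvd⟩ := Nat.exists_prime_and_dvd hne1
  have : Fact p.Prime := ⟨hp⟩
  rw [← hcard] at hpdvd
  obtain ⟨P⟩ : Nonempty (Sylow p (K.map (QuotientGroup.mk' H₁))) := inferInstance
  -- commutativity of Kb
  have hab : ∀ a b : K.map (QuotientGroup.mk' H₁), a * b = b * a := by
    rintro ⟨_, a, ha, rfl⟩ ⟨_, b, hb, rfl⟩
    apply Subtype.ext
    show (QuotientGroup.mk' H₁) a * (QuotientGroup.mk' H₁) b =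
      (QuotientGroup.mk' H₁) b * (QuotientGroup.mk' H₁) a
    rw [← map_mul, ← map_mul]
    have : a * b * (b * a)⁻¹ ∈ H₁ := by
      apply hcomm
      have := Subgroup.commutator_mem_commutator ha hb
      rw [commutatorElement_def] at this
      have e : a * b * (b * a)⁻¹ = a * b * a⁻¹ * b⁻¹ := by group
      rw [e]; exact this
    have h2 : (QuotientGroup.mk' H₁) (a * b * (b * a)⁻¹) = 1 :=
      (QuotientGroup.eq_one_iff _).mpr this
    rw [map_mul, map_inv, mul_inv_eq_one] at h2
    exact h2
  have hPn : (P : Subgroup (K.map (QuotientGroup.mk' H₁))).Normal := by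
    refine ⟨fun n hn g => ?_⟩
    have : g * n * g⁻¹ = n := by rw [hab g n, mul_assoc, mul_inv_cancel, mul_one]
    rw [this]; exact hn
  have hPc : (P : Subgroup (K.map (QuotientGroup.mk' H₁))).Characteristic :=
    P.characteristic_of_normal hPn
  have hNbn : ((P : Subgroup (K.map (QuotientGroup.mk' H₁))).map
      (K.map (QuotientGroup.mk' H₁)).subtype).Normal :=
    ConjAct.normal_of_characteristic_of_normal
  set Nb := (P : Subgroup (K.map (QuotientGroup.mk' H₁))).map
      (K.map (QuotientGroup.mk' H₁)).subtype with hNb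
  have hNbK : Nb ≤ K.map (QuotientGroup.mk' H₁) := by
    rintro _ ⟨y, -, rfl⟩
    exact y.2
  have hmapcomap : (Nb.comap (QuotientGroup.mk' H₁)).map (QuotientGroup.mk' H₁) = Nb :=
    Subgroup.map_comap_eq_self_of_surjective hsurj Nb
  have hH₁N : H₁ ≤ Nb.comap (QuotientGroup.mk' H₁) := by
    intro x hx
    rw [Subgroup.mem_comap]
    have : (QuotientGroup.mk' H₁) x = 1 := (QuotientGroup.eq_one_iff x).mpr hx
    rw [this]
    exact Nb.one_mem
  have hNK : Nb.comap (QuotientGroup.mk' H₁) ≤ K := by
    intro x hx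
    obtain ⟨k, hk, hkx⟩ := hNbK hx
    have h1 : k⁻¹ * x ∈ H₁ := by
      rw [← QuotientGroup.eq_one_iff]
      show (QuotientGroup.mk' H₁) (k⁻¹ * x) = 1
      rw [map_mul, map_inv, hkx, inv_mul_cancel]
    have : x = k * (k⁻¹ * x) := by group
    rw [this]
    exact K.mul_mem hk (hH₁K h1)
  refine ⟨Nb.comap (QuotientGroup.mk' H₁), inferInstance, lt_of_le_of_ne hH₁N ?_,
    lt_of_le_of_ne hNK ?_⟩
  · intro h
    have h1 : Nb = ⊥ := by
      rw [← hmapcomap, ← h]
      apply (Subgroup.map_eq_bot_iff _).mpr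
      rw [QuotientGroup.ker_mk']
    have h2 : (P : Subgroup (K.map (QuotientGroup.mk' H₁))) = ⊥ := by
      rw [hNb] at h1
      exact (Subgroup.map_eq_bot_iff_of_injective _ (Subgroup.subtype_injective _)).mp h1
    exact P.ne_bot_of_dvd_card hpdvd h2
  · intro h
    have h1 : Nb = K.map (QuotientGroup.mk' H₁) := by
      rw [← hmapcomap, h]
    have h2 : (P : Subgroup (K.map (QuotientGroup.mk' H₁))) = ⊤ := by
      rw [eq_top_iff]
      intro y _
      have hy : (y : L ⧸ H₁) ∈ Nb := by rw [h1]; exact y.2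
      obtain ⟨y', hy', hyy⟩ := hy
      have : y' = y := Subtype.ext hyy
      rw [← this]; exact hy'
    obtain ⟨k, hk⟩ := P.2.exists_card_eq
    apply hnpp
    refine ⟨p, k, hp, ?_⟩
    rw [← hcard, ← hk, h2, Subgroup.card_top]

end Intermediate

section QuotKM

variable {L : Type*} [Group L] [Finite L]

/-- Preimages of subgroups containing the commutator subgroup of `K/M` contain `K'M`. -/
theorem sup_subgroupOf_le_comap (K M : Subgroup L) (hMK : M ≤ K) [(M.subgroupOf K).Normal]
    (N : Subgroup (↥K ⧸ M.subgroupOf K)) (hN : commutator (↥K ⧸ M.subgroupOf K) ≤ N) :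
    (⁅K, K⁆ ⊔ M).subgroupOf K ≤ N.comap (QuotientGroup.mk' (M.subgroupOf K)) := by
  have h1 : ⁅K, K⁆ ⊔ M ≤ (N.comap (QuotientGroup.mk' (M.subgroupOf K))).map K.subtype := by
    apply sup_le
    · rw [Subgroup.commutator_le]
      intro a ha b hb
      refine ⟨⁅(⟨a, ha⟩ : K), (⟨b, hb⟩ : K)⁆, ?_, rfl⟩
      rw [SetLike.mem_coe, Subgroup.mem_comap, map_commutatorElement]
      apply hN
      rw [commutator_def]
      exact Subgroup.commutator_mem_commutator (Subgroup.mem_top _) (Subgroup.mem_top _)
    · intro m hm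
      refine ⟨⟨m, hMK hm⟩, ?_, rfl⟩
      rw [SetLike.mem_coe, Subgroup.mem_comap]
      have : (QuotientGroup.mk' (M.subgroupOf K)) ⟨m, hMK hm⟩ = 1 := by
        rw [← MonoidHom.mem_ker, QuotientGroup.ker_mk']
        exact hm
      rw [this]
      exact N.one_mem
  intro x hx
  obtain ⟨y, hy, hyx⟩ := h1 hx
  have : y = x := Subtype.ext hyx
  rw [← this]
  exact hy

/-- For nilpotent `K/M`, the primes dividing `|K : M|` divide `|K : K'M|`. -/
theorem prime_dvd_relIndex_commutator_sup (K M : Subgroup L) (hMK : M ≤ K)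
    [(M.subgroupOf K).Normal] (hnil : Group.IsNilpotent (↥K ⧸ M.subgroupOf K))
    (q : ℕ) (hq : q.Prime) (hdvd : q ∣ M.relIndex K) : q ∣ (⁅K, K⁆ ⊔ M).relIndex K := by
  have : Fact q.Prime := ⟨hq⟩
  have hcard : Nat.card (↥K ⧸ M.subgroupOf K) = M.relIndex K :=
    (Subgroup.index_eq_card (M.subgroupOf K)).symm
  rw [← hcard] at hdvd
  obtain ⟨N, hNn, hN, hqN⟩ := exists_normal_abelian_quotient_of_prime_dvd _ q hdvd
  have h1 := sup_subgroupOf_le_comap K M hMK N hN
  have h2 := Subgroup.index_dvd_of_le h1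
  rw [Subgroup.index_comap_of_surjective _ (QuotientGroup.mk'_surjective _)] at h2
  exact hqN.trans h2

/-- For nilpotent `K/M` with `|K : K'M|` prime, `K' ≤ M`. -/
theorem commutator_le_of_relIndex_prime (K M : Subgroup L) (hMK : M ≤ K)
    [(M.subgroupOf K).Normal] [hn : ((⁅K, K⁆ ⊔ M).subgroupOf K).Normal]
    (hnil : Group.IsNilpotent (↥K ⧸ M.subgroupOf K))
    (p : ℕ) (hp : p.Prime) (hidx : (⁅K, K⁆ ⊔ M).relIndex K = p) : ⁅K, K⁆ ≤ M := by
  have : Fact p.Prime := ⟨hp⟩
  have hker := sup_subgroupOf_le_comap K M hMK (commutator (↥K ⧸ M.subgroupOf K)) le_rfl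
  have hcyc0 : IsCyclic (↥K ⧸ (⁅K, K⁆ ⊔ M).subgroupOf K) := by
    apply isCyclic_of_prime_card (p := p)
    rw [← Subgroup.index_eq_card]
    exact hidx
  let f : (↥K ⧸ (⁅K, K⁆ ⊔ M).subgroupOf K) →* Abelianization (↥K ⧸ M.subgroupOf K) :=
    QuotientGroup.lift _ (Abelianization.of.comp (QuotientGroup.mk' (M.subgroupOf K))) (by
      intro x hx
      have := hker hx
      rw [Subgroup.mem_comap, ← Abelianization.ker_of] at this
      exact this)
  have hf : Function.Surjective f := by
    intro y
    obtain ⟨q, rfl⟩ := QuotientGroup.mk'_surjective _ y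
    obtain ⟨k, rfl⟩ := QuotientGroup.mk'_surjective _ q
    exact ⟨QuotientGroup.mk' _ k, rfl⟩
  have hcyc : IsCyclic (Abelianization (↥K ⧸ M.subgroupOf K)) := isCyclic_of_surjective f hf
  have hcomm := comm_of_nilpotent_of_cyclic_abelianization _ hcyc
  rw [Subgroup.commutator_le]
  intro a ha b hb
  have h1 : (QuotientGroup.mk' (M.subgroupOf K)) ⁅(⟨a, ha⟩ : K), (⟨b, hb⟩ : K)⁆ = 1 := by
    rw [map_commutatorElement, commutatorElement_eq_one_iff_commute]
    exact hcomm _ _
  rw [← MonoidHom.mem_ker, QuotientGroup.ker_mk'] at h1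
  exact h1

end QuotKM

end Cfsg.Agent.Lib.Helper25
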