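import Cfsg.Agent.Lib.Helper25.TypeP2
import Cfsg.Agent.Lib.Helper3.OddOrder

set_option autoImplicit false
set_option linter.unusedSectionVars false
set_option linter.style.haveILetI false

/-!
Structure of a Frobenius group `L = K ⋊ W` (fixed-point-free action of `W` on `K`).
-/

namespace Cfsg.Agent.Lib.Helper25

open Cfsg

section FrobStruct

variable {L : Type*} [Group L] [Fintype L] (K W : Subgroup L) [hK : K.Normal]

/-- the map `y ↦ y⁻¹ w y w⁻¹` is injective on `K` for `1 ≠ w ∈ W` -/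
theorem frob_comm_map_injective
    (hfpf : ∀ w ∈ W, w ≠ 1 → ∀ k ∈ K, w * k = k * w → k = 1)
    {w : L} (hw : w ∈ W) (hw1 : w ≠ 1) {y y' : L} (hy : y ∈ K) (hy' : y' ∈ K)
    (h : y⁻¹ * w * y * w⁻¹ = y'⁻¹ * w * y' * w⁻¹) : y = y' := by
  have h1 : y⁻¹ * w * y = y'⁻¹ * w * y' := mul_right_cancel h
  have h2 : w * (y' * y⁻¹) = (y' * y⁻¹) * w := by
    calc w * (y' * y⁻¹) = y' * (y'⁻¹ * w * y') * y⁻¹ := by group
      _ = y' * (y⁻¹ * w * y) * y⁻¹ := by rw [h1]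
      _ = (y' * y⁻¹) * w := by group
  have h3 := hfpf w hw hw1 (y' * y⁻¹) (K.mul_mem hy' (K.inv_mem hy)) h2
  have : y' = y := by
    calc y' = (y' * y⁻¹) * y := by group
      _ = y := by rw [h3, one_mul]
  exact this.symm

/-- the map `y ↦ y⁻¹ w y w⁻¹` is surjective on every normal subgroup `N ≤ K` -/
theorem frob_comm_map_surjective (N : Subgroup L) [hN : N.Normal] (hNK : N ≤ K)
    (hfpf : ∀ w ∈ W, w ≠ 1 → ∀ k ∈ K, w * k = k * w → k = 1)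
    {w : L} (hw : w ∈ W) (hw1 : w ≠ 1) (c : L) (hc : c ∈ N) :
    ∃ y ∈ N, y⁻¹ * w * y * w⁻¹ = c := by
  have hmem : ∀ y : N, (y : L)⁻¹ * w * (y : L) * w⁻¹ ∈ N := by
    intro y
    have : (y : L)⁻¹ * w * (y : L) * w⁻¹ = (y : L)⁻¹ * (w * (y : L) * w⁻¹) := by group
    rw [this]
    exact N.mul_mem (N.inv_mem y.2) (hN.conj_mem _ y.2 w)
  let f : N → N := fun y => ⟨(y : L)⁻¹ * w * (y : L) * w⁻¹, hmem y⟩
  have hinj : Function.Injective f := by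
    intro y y' h
    apply Subtype.ext
    exact frob_comm_map_injective K W hfpf hw hw1 (hNK y.2) (hNK y'.2) (congrArg Subtype.val h)
  have hsurj : Function.Surjective f := Finite.injective_iff_surjective.mp hinj
  obtain ⟨y, hy⟩ := hsurj ⟨c, hc⟩
  exact ⟨y, y.2, congrArg Subtype.val hy⟩

/-- every element outside `K` is `K`-conjugate to a non-identity element of `W` -/
theorem frob_conj_to_compl (hsup : K ⊔ W = ⊤)
    (hfpf : ∀ w ∈ W, w ≠ 1 → ∀ k ∈ K, w * k = k * w → k = 1)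
    {x : L} (hx : x ∉ K) : ∃ y ∈ K, ∃ w ∈ W, w ≠ 1 ∧ x = y⁻¹ * w * y := by
  obtain ⟨k, hk, w, hw, rfl⟩ := typeP_decomp K W hsup x
  have hw1 : w ≠ 1 := by
    rintro rfl
    exact hx (by simpa using hk)
  obtain ⟨y, hy, hyk⟩ := frob_comm_map_surjective K W K le_rfl hfpf hw hw1 k hk
  refine ⟨y, hy, w, hw, hw1, ?_⟩
  rw [← hyk]; group

/-- elements outside `K` have trivial centralizer in `K` -/
theorem frob_cent_trivial (hsup : K ⊔ W = ⊤)
    (hfpf : ∀ w ∈ W, w ≠ 1 → ∀ k ∈ K, w * k = k * w → k = 1)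
    {x : L} (hx : x ∉ K) {k : L} (hk : k ∈ K) (hxk : x * k = k * x) : k = 1 := by
  obtain ⟨y, hy, w, hw, hw1, rfl⟩ := frob_conj_to_compl K W hsup hfpf hx
  have h1 : w * (y * k * y⁻¹) = (y * k * y⁻¹) * w := by
    calc w * (y * k * y⁻¹) = y * ((y⁻¹ * w * y) * k) * y⁻¹ := by group
      _ = y * (k * (y⁻¹ * w * y)) * y⁻¹ := by rw [hxk]
      _ = (y * k * y⁻¹) * w := by group
  have h2 := hfpf w hw hw1 _ (hK.conj_mem k hk y) h1
  calc k = y⁻¹ * (y * k * y⁻¹) * y := by group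
    _ = 1 := by rw [h2]; group

/-- the quotient by a normal subgroup `N ≤ K` is again a Frobenius group -/
theorem frob_quot (hsup : K ⊔ W = ⊤)
    (hfpf : ∀ w ∈ W, w ≠ 1 → ∀ k ∈ K, w * k = k * w → k = 1)
    (N : Subgroup L) [hN : N.Normal] (hNK : N ≤ K)
    {k : L} (hk : k ∈ K) (hkN : k ∉ N) (x : L) (hx : x * k * x⁻¹ * k⁻¹ ∈ N) : x ∈ K := by
  by_contra hxK
  obtain ⟨y, hy, w, hw, hw1, rfl⟩ := frob_conj_to_compl K W hsup hfpf hxK
  set k' := y * k * y⁻¹ with hk'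
  have hk'K : k' ∈ K := hK.conj_mem k hk y
  have h1 : w * k' * w⁻¹ * k'⁻¹ ∈ N := by
    have : w * k' * w⁻¹ * k'⁻¹ = y * ((y⁻¹ * w * y) * k * (y⁻¹ * w * y)⁻¹ * k⁻¹) * y⁻¹ := by
      rw [hk']; group
    rw [this]
    exact hN.conj_mem _ hx y
  have h2 : (k'⁻¹)⁻¹ * w * k'⁻¹ * w⁻¹ ∈ N := by
    have : (k'⁻¹)⁻¹ * w * k'⁻¹ * w⁻¹ = (w * k' * w⁻¹ * k'⁻¹)⁻¹ := by group
    rw [this]
    exact N.inv_mem h1
  obtain ⟨u, hu, hu2⟩ := frob_comm_map_surjective K W N hNK hfpf hw hw1 _ h2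
  have h3 : u = k'⁻¹ :=
    frob_comm_map_injective K W hfpf hw hw1 (hNK hu) (K.inv_mem hk'K) hu2
  have h4 : k' ∈ N := by
    have : k' = u⁻¹ := by rw [h3, inv_inv]
    rw [this]; exact N.inv_mem hu
  apply hkN
  have : k = y⁻¹ * k' * y⁻¹⁻¹ := by rw [hk']; group
  rw [this]
  exact hN.conj_mem _ h4 y⁻¹

end FrobStruct

end Cfsg.Agent.Lib.Helper25
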