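import Cfsg.Agent.Lib.Helper25.FrobStruct

set_option autoImplicit false
set_option linter.unusedSectionVars false
set_option linter.style.haveILetI false

namespace Cfsg.Agent.Lib.Helper25

open Cfsg

/-- A free action of a finite group on a finite set: the order of the group divides the
size of the set. -/
theorem card_dvd_of_free {A X : Type*} [Group A] [Finite A] [Finite X] [MulAction A X]
    (hfree : ∀ (a : A) (x : X), a • x = x → a = 1) : Nat.card A ∣ Nat.card X := by
  have hstab : ∀ b : X, MulAction.stabilizer A b = ⊥ := by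
    intro b
    ext a
    rw [MulAction.mem_stabilizer_iff, Subgroup.mem_bot]
    exact ⟨hfree a b, fun h => by rw [h, one_smul]⟩
  have e := MulAction.selfEquivOrbitsQuotientProd hstab
  rw [Nat.card_congr e, Nat.card_prod]
  exact Dvd.intro_left _ rfl

section FrobCount

variable {L : Type*} [Group L] [Fintype L] (K W : Subgroup L) [hK : K.Normal]

/-- conjugation action of `W` on the non-identity elements of a normal subgroup `N` -/
@[reducible] def conjActionOn (N : Subgroup L) [hN : N.Normal] :
    MulAction W {n : L // n ∈ N ∧ n ≠ 1} where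
  smul a x := ⟨(a : L) * x.1 * (a : L)⁻¹, hN.conj_mem _ x.2.1 _, fun h => x.2.2 (by
    have h1 : x.1 = (a : L)⁻¹ * ((a : L) * x.1 * (a : L)⁻¹) * (a : L) := by group
    rw [h1, h]; group)⟩
  one_smul x := by
    apply Subtype.ext
    show ((1 : W) : L) * x.1 * ((1 : W) : L)⁻¹ = x.1
    simp
  mul_smul a b x := by
    apply Subtype.ext
    show ((a * b : W) : L) * x.1 * ((a * b : W) : L)⁻¹ =
      (a : L) * ((b : L) * x.1 * (b : L)⁻¹) * (a : L)⁻¹
    simp [mul_assoc]

/-- `|W|` divides `|N| - 1` for every normal subgroup `N ≤ K` -/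
theorem frob_dvd_card_sub_one
    (hfpf : ∀ w ∈ W, w ≠ 1 → ∀ k ∈ K, w * k = k * w → k = 1)
    (N : Subgroup L) [hN : N.Normal] (hNK : N ≤ K) : Nat.card W ∣ Nat.card N - 1 := by
  classical
  letI := conjActionOn W N
  have hfree : ∀ (a : W) (x : {n : L // n ∈ N ∧ n ≠ 1}), a • x = x → a = 1 := by
    intro a x h
    by_contra ha
    have ha1 : (a : L) ≠ 1 := fun h' => ha (Subtype.ext h')
    have h1 : (a : L) * x.1 * (a : L)⁻¹ = x.1 := congrArg Subtype.val h
    have h2 : (a : L) * x.1 = x.1 * (a : L) := by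
      calc (a : L) * x.1 = ((a : L) * x.1 * (a : L)⁻¹) * (a : L) := by group
        _ = x.1 * (a : L) := by rw [h1]
    exact x.2.2 (hfpf a a.2 ha1 x.1 (hNK x.2.1) h2)
  have h := card_dvd_of_free hfree
  have hcard : Nat.card {n : L // n ∈ N ∧ n ≠ 1} = Nat.card N - 1 := by
    have e : {n : L // n ∈ N ∧ n ≠ 1} ≃ {n : N // n ≠ 1} :=
      { toFun := fun x => ⟨⟨x.1, x.2.1⟩, fun h => x.2.2 (congrArg Subtype.val h)⟩
        invFun := fun x => ⟨x.1.1, x.1.2, fun h => x.2 (Subtype.ext h)⟩
        left_inv := fun x => rfl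
        right_inv := fun x => rfl }
    rw [Nat.card_congr e, Nat.card_eq_fintype_card, Nat.card_eq_fintype_card,
      Fintype.card_subtype_compl, Fintype.card_subtype_eq]
  rwa [hcard] at h

theorem frob_coprime
    (hfpf : ∀ w ∈ W, w ≠ 1 → ∀ k ∈ K, w * k = k * w → k = 1) :
    (Nat.card W).Coprime (Nat.card K) := by
  have h := frob_dvd_card_sub_one K W hfpf K le_rfl
  have hpos : 0 < Nat.card K := Nat.card_pos
  obtain ⟨c, hc⟩ := h
  have h1 : Nat.card K = Nat.card W * c + 1 := by omega
  rw [h1]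
  simp

end FrobCount

end Cfsg.Agent.Lib.Helper25
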