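import Mathlib
import Cfsg.Agent.Lib.Helper37.FusDefs
import Cfsg.Agent.Lib.Helper40.Darboux

/-! # Fus hive (S2720/S2721, helper37): leaf FUS-B `det_of_commute_similitude` (helper25) -/

set_option autoImplicit false

namespace Cfsg.Agent.Lib.Helper37.Fus

open Module Matrix

variable {F : Type*} [Field F] {V : Type*} [AddCommGroup V] [Module F V]

/-- a similitude (multiplier `μ`) of a nondegenerate alternating form on a space of dimension `2N`
has determinant `μ ^ N` -/
theorem fusB_det_of_alt [FiniteDimensional F V] (ω : LinearMap.BilinForm F V) (halt : ω.IsAlt)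
    (hnd : ω.Nondegenerate) (c : V →ₗ[F] V) (μ : F) (hμ : μ ≠ 0)
    (hc : ∀ u v, ω (c u) (c v) = μ * ω u v) (N : ℕ) (hN : finrank F V = 2 * N) :
    LinearMap.det c = μ ^ N := by
  classical
  obtain ⟨b, hb⟩ := Cfsg.Agent.Lib.Helper40.Darboux.darboux_basis N V ω halt hnd hN
  set C := LinearMap.toMatrix b b c with hC
  have hcomp : ω.comp c c = μ • ω := by
    ext u w
    simp only [LinearMap.BilinForm.comp_apply, LinearMap.smul_apply, smul_eq_mul]
    exact hc u w
  have h1 := LinearMap.BilinForm.toMatrix_comp b b ω c c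
  rw [hcomp, map_smul, hb, Cfsg.Agent.Lib.Helper40.Darboux.gramJ_eq] at h1
  have h2 : Cᵀ * Matrix.J (Fin N) F * C = μ • Matrix.J (Fin N) F := by
    rw [← hC] at h1
    have h3 : Cᵀ * -Matrix.J (Fin N) F * C = -(Cᵀ * Matrix.J (Fin N) F * C) := by
      rw [Matrix.mul_neg, Matrix.neg_mul]
    rw [h3, smul_neg] at h1
    exact (neg_injective h1).symm
  set D' : Matrix (Fin N ⊕ Fin N) (Fin N ⊕ Fin N) F :=
    Matrix.fromBlocks (μ⁻¹ • (1 : Matrix (Fin N) (Fin N) F)) 0 0 1 with hD'
  have hDJ : D'ᵀ * Matrix.J (Fin N) F * D' = μ⁻¹ • Matrix.J (Fin N) F := by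
    rw [hD']
    unfold Matrix.J
    rw [Matrix.fromBlocks_transpose, Matrix.fromBlocks_multiply, Matrix.fromBlocks_multiply,
      Matrix.fromBlocks_smul]
    congr 1 <;> simp
  have hmem : C * D' ∈ Matrix.symplecticGroup (Fin N) F := by
    rw [SymplecticGroup.mem_iff']
    rw [Matrix.transpose_mul]
    calc D'ᵀ * Cᵀ * Matrix.J (Fin N) F * (C * D')
        = D'ᵀ * (Cᵀ * Matrix.J (Fin N) F * C) * D' := by
          simp only [Matrix.mul_assoc]
      _ = μ • (D'ᵀ * Matrix.J (Fin N) F * D') := by
          rw [h2, Matrix.mul_smul, Matrix.smul_mul]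
      _ = Matrix.J (Fin N) F := by
          rw [hDJ, smul_smul, mul_inv_cancel₀ hμ, one_smul]
  have hdet := SymplecticGroup.det_eq_one hmem
  rw [Matrix.det_mul] at hdet
  have hdD : D'.det = (μ⁻¹) ^ N := by
    rw [hD', Matrix.det_fromBlocks_zero₂₁, Matrix.det_one, mul_one, Matrix.det_smul, Matrix.det_one,
      mul_one, Fintype.card_fin]
  rw [hdD] at hdet
  rw [← LinearMap.det_toMatrix b, ← hC]
  have hμN : μ ^ N ≠ 0 := pow_ne_zero _ hμ
  rw [inv_pow] at hdet
  field_simp at hdet
  exact hdet

/-- FUS-B -/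
theorem det_of_commute_similitude [FiniteDimensional F V] (h2 : (2 : F) ≠ 0)
    (B : LinearMap.BilinForm F V)
    (hs : ∀ u v, B u v = B v u) (hnd : ∀ u, (∀ v, B u v = 0) → u = 0)
    (a : V →ₗ[F] V) (ha : ∀ u v, B (a u) (a v) = B u v) (n : ℕ) (hodd : Odd n)
    (han : a ^ n = 1) (hfix : ∀ v, a v = v → v = 0)
    (c : V →ₗ[F] V) (μ : F) (hμ : μ ≠ 0) (hc : ∀ u v, B (c u) (c v) = μ * B u v) (hca : c * a = a * c)
    (N : ℕ) (hN : Module.finrank F V = 2 * N) :
    LinearMap.det c = μ ^ N := by
  obtain ⟨k, hk⟩ := hodd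
  -- the inverse of `a`
  set a' : V →ₗ[F] V := a ^ (2 * k) with ha'
  have haa' : a * a' = 1 := by
    rw [ha', ← pow_succ', ← hk, han]
  have ha'a : a' * a = 1 := by
    rw [ha', ← pow_succ, ← hk, han]
  have haa'v : ∀ v, a (a' v) = v := fun v => by
    have := congrArg (fun f : V →ₗ[F] V => f v) haa'
    simpa using this
  have ha'av : ∀ v, a' (a v) = v := fun v => by
    have := congrArg (fun f : V →ₗ[F] V => f v) ha'a
    simpa using this
  -- adjoints
  have hadj1 : ∀ u w, B (a u) w = B u (a' w) := by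
    intro u w
    rw [← ha u (a' w), haa'v]
  have hadj2 : ∀ u w, B (a' u) w = B u (a w) := by
    intro u w
    rw [← ha (a' u) w, haa'v]
  -- `c` commutes with `a'`
  have hca' : c * a' = a' * c := by
    have h1 : Commute c a := hca
    exact (h1.pow_right (2 * k))
  set E : V →ₗ[F] V := a - a' with hE
  have hEinj : ∀ v, E v = 0 → v = 0 := by
    intro v hv
    have h1 : a v = a' v := by
      rw [hE, LinearMap.sub_apply, sub_eq_zero] at hv
      exact hv
    have h2 : a (a v) = v := by rw [h1, haa'v]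
    have h3 : ∀ j : ℕ, (a ^ (2 * j)) v = v := by
      intro j
      induction j with
      | zero => simp
      | succ j ih =>
        rw [show 2 * (j + 1) = 2 * j + 2 by ring, pow_add, Module.End.mul_apply, pow_two,
          Module.End.mul_apply, h2, ih]
    apply hfix
    have h4 : (a ^ n) v = v := by rw [han]; rfl
    rw [hk, pow_succ, Module.End.mul_apply] at h4
    have h5 := h3 k
    have h6 : (a ^ (2 * k)) (a v) = a v := by
      have h7 : a ^ (2 * k) * a = a * a ^ (2 * k) := by rw [← pow_succ, ← pow_succ']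
      rw [← Module.End.mul_apply, h7, Module.End.mul_apply, h5]
    rw [h6] at h4
    exact h4
  have hEskew : ∀ u w, B (E u) w = - B u (E w) := by
    intro u w
    rw [hE, LinearMap.sub_apply, LinearMap.sub_apply, map_sub, LinearMap.sub_apply, map_sub, hadj1,
      hadj2]
    ring
  have hEc : ∀ u, E (c u) = c (E u) := by
    intro u
    have h1 : a (c u) = c (a u) := by
      have := congrArg (fun f : V →ₗ[F] V => f u) hca
      simpa using this.symm
    have h2 : a' (c u) = c (a' u) := by
      have := congrArg (fun f : V →ₗ[F] V => f u) hca'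
      simpa using this.symm
    rw [hE, LinearMap.sub_apply, LinearMap.sub_apply, h1, h2, map_sub]
  set ω : LinearMap.BilinForm F V := B.comp E LinearMap.id with hω
  have hωa : ∀ u w, ω u w = B (E u) w := by
    intro u w
    rw [hω, LinearMap.BilinForm.comp_apply]
    rfl
  have halt : ω.IsAlt := by
    intro u
    have h1 : B (E u) u = - B (E u) u := by
      nth_rewrite 1 [hEskew u u]
      rw [hs u (E u)]
    have h3 : (2 : F) * B (E u) u = 0 := by linear_combination h1
    rw [hωa]
    rcases mul_eq_zero.mp h3 with h4 | h4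
    · exact absurd h4 h2
    · exact h4
  have hanti : ∀ u w, ω u w = - ω w u := fun u w => by rw [halt.neg_eq]
  have hsepL : ∀ u, (∀ w, ω u w = 0) → u = 0 := by
    intro u hu
    apply hEinj
    apply hnd
    intro w
    rw [← hωa]
    exact hu w
  have hωnd : ω.Nondegenerate := by
    refine ⟨hsepL, ?_⟩
    intro w hw
    apply hsepL
    intro u
    rw [hanti, hw, neg_zero]
  have hωc : ∀ u w, ω (c u) (c w) = μ * ω u w := by
    intro u w
    rw [hωa, hωa, hEc, hc]
  exact fusB_det_of_alt ω halt hωnd c μ hμ hωc N hN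

end Cfsg.Agent.Lib.Helper37.Fus
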