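import Mathlib
import Cfsg.Agent.Lib.Helper43.FwDefs

/-!
# FW-RHO (Fw hive, S3211): a fused involution gives an element swapping `j` and `t₀`
-/

set_option autoImplicit false
set_option linter.unusedVariables false
set_option linter.unusedSimpArgs false
set_option linter.unusedSectionVars false

namespace Cfsg.Agent.Lib.Helper43.Fw

variable {G : Type*} [Group G] {L₁ L₂ : Subgroup G} {j n : G}

/-- FW-RHO (abstract; paper proof (3)): a swapping element. -/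
theorem exists_rho (t₀ : G) (ht₀ : t₀ * j = j * t₀) (ht₀j : t₀ ≠ j) (hjj : j * j = 1) (hj1 : j ≠ 1)
    (hconj : ∀ s ∈ Subgroup.centralizer ({j} : Set G), s * s = 1 → s ≠ 1 → s ≠ j →
      ∃ c ∈ Subgroup.centralizer ({j} : Set G), c * s * c⁻¹ = t₀)
    (g : G) (hcomm : Commute j (g * j * g⁻¹)) (hne : g * j * g⁻¹ ≠ j) :
    ∃ ρ : G, ρ * j * ρ⁻¹ = t₀ ∧ ρ * t₀ * ρ⁻¹ = j := by
  have htC : g * j * g⁻¹ ∈ Subgroup.centralizer ({j} : Set G) := by
    rw [Subgroup.mem_centralizer_iff]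
    intro h hh
    rw [Set.mem_singleton_iff] at hh
    rw [hh]; exact hcomm.eq
  have htt : (g * j * g⁻¹) * (g * j * g⁻¹) = 1 := by
    calc (g * j * g⁻¹) * (g * j * g⁻¹) = g * (j * j) * g⁻¹ := by group
      _ = 1 := by rw [hjj]; group
  have ht1 : g * j * g⁻¹ ≠ 1 := by
    intro h1
    apply hj1
    calc j = g⁻¹ * (g * j * g⁻¹) * g := by group
      _ = 1 := by rw [h1]; group
  obtain ⟨c, hcC, hc⟩ := hconj _ htC htt ht1 hne
  obtain ⟨g', hg'⟩ : ∃ g' : G, g' = c * g := ⟨_, rfl⟩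
  have hg'j : g' * j * g'⁻¹ = t₀ := by
    rw [← hc, hg']; group
  have hj' : j = g'⁻¹ * t₀ * g' := by rw [← hg'j]; group
  -- s := g'⁻¹ j g'
  have hsC : g'⁻¹ * j * g' ∈ Subgroup.centralizer ({j} : Set G) := by
    rw [Subgroup.mem_centralizer_iff]
    intro h hh
    rw [Set.mem_singleton_iff] at hh
    rw [hh]
    calc j * (g'⁻¹ * j * g') = (g'⁻¹ * t₀ * g') * (g'⁻¹ * j * g') :=
          congrArg (fun x => x * (g'⁻¹ * j * g')) hj'
      _ = g'⁻¹ * (t₀ * j) * g' := by group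
      _ = g'⁻¹ * (j * t₀) * g' := by rw [ht₀]
      _ = (g'⁻¹ * j * g') * (g'⁻¹ * t₀ * g') := by group
      _ = (g'⁻¹ * j * g') * j := congrArg (fun x => (g'⁻¹ * j * g') * x) hj'.symm
  have hss : (g'⁻¹ * j * g') * (g'⁻¹ * j * g') = 1 := by
    calc (g'⁻¹ * j * g') * (g'⁻¹ * j * g') = g'⁻¹ * (j * j) * g' := by group
      _ = 1 := by rw [hjj]; group
  have hs1 : g'⁻¹ * j * g' ≠ 1 := by
    intro h1
    apply hj1
    calc j = g' * (g'⁻¹ * j * g') * g'⁻¹ := by group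
      _ = 1 := by rw [h1]; group
  have hsj : g'⁻¹ * j * g' ≠ j := by
    intro h1
    apply ht₀j
    calc t₀ = g' * j * g'⁻¹ := hg'j.symm
      _ = g' * (g'⁻¹ * j * g') * g'⁻¹ := by rw [h1]
      _ = j := by group
  obtain ⟨c', hc'C, hc'⟩ := hconj _ hsC hss hs1 hsj
  have hc'j : j * c' = c' * j := by
    rw [Subgroup.mem_centralizer_iff] at hc'C
    exact hc'C j rfl
  refine ⟨g' * c'⁻¹, ?_, ?_⟩
  · calc g' * c'⁻¹ * j * (g' * c'⁻¹)⁻¹ = g' * (c'⁻¹ * (j * c')) * g'⁻¹ := by group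
      _ = g' * (c'⁻¹ * (c' * j)) * g'⁻¹ := by rw [hc'j]
      _ = g' * j * g'⁻¹ := by group
      _ = t₀ := hg'j
  · calc g' * c'⁻¹ * t₀ * (g' * c'⁻¹)⁻¹
        = g' * c'⁻¹ * (c' * (g'⁻¹ * j * g') * c'⁻¹) * (g' * c'⁻¹)⁻¹ := by rw [hc']
      _ = j := by group

end Cfsg.Agent.Lib.Helper43.Fw
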