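import Mathlib

/-!
# G2Z-PROD (G2z hive, S4279): `|L1 ⊔ L2| * 2 = |L1| * |L2|` for elementwise commuting subgroups
meeting in a subgroup of order 2
-/

set_option autoImplicit false
set_option linter.unusedVariables false
set_option linter.unusedSimpArgs false
set_option linter.unusedSectionVars false

namespace Cfsg.Agent.Lib.Helper37.G2z

/-- the product map `L1 × L2 → G` of two elementwise commuting subgroups -/
noncomputable def g2zprod_hom {G : Type*} [Group G] (L1 L2 : Subgroup G)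
    (hcomm : ∀ x ∈ L1, ∀ y ∈ L2, x * y = y * x) : ↥L1 × ↥L2 →* G :=
  MonoidHom.noncommCoprod L1.subtype L2.subtype
    (fun m n => show Commute (L1.subtype m) (L2.subtype n) from hcomm m m.2 n n.2)

theorem g2zprod_hom_apply {G : Type*} [Group G] (L1 L2 : Subgroup G)
    (hcomm : ∀ x ∈ L1, ∀ y ∈ L2, x * y = y * x) (p : ↥L1 × ↥L2) :
    g2zprod_hom L1 L2 hcomm p = (p.1 : G) * (p.2 : G) := rfl

theorem g2zprod_range {G : Type*} [Group G] (L1 L2 : Subgroup G)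
    (hcomm : ∀ x ∈ L1, ∀ y ∈ L2, x * y = y * x) :
    (g2zprod_hom L1 L2 hcomm).range = L1 ⊔ L2 := by
  unfold g2zprod_hom
  rw [MonoidHom.noncommCoprod_range, Subgroup.range_subtype, Subgroup.range_subtype]

theorem g2zprod_ker_fst {G : Type*} [Group G] (L1 L2 : Subgroup G)
    (hcomm : ∀ x ∈ L1, ∀ y ∈ L2, x * y = y * x) (p : ↥L1 × ↥L2)
    (hp : p ∈ (g2zprod_hom L1 L2 hcomm).ker) : (p.2 : G) = (p.1 : G)⁻¹ := by
  rw [MonoidHom.mem_ker, g2zprod_hom_apply] at hp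
  exact eq_inv_of_mul_eq_one_right hp

/-- the kernel of the product map is in bijection with `L1 ⊓ L2` -/
noncomputable def g2zprod_kerEquiv {G : Type*} [Group G] (L1 L2 : Subgroup G)
    (hcomm : ∀ x ∈ L1, ∀ y ∈ L2, x * y = y * x) :
    ↥(L1 ⊓ L2) ≃ ↥(g2zprod_hom L1 L2 hcomm).ker where
  toFun z := ⟨(⟨(z : G), (Subgroup.mem_inf.1 z.2).1⟩,
      ⟨(z : G)⁻¹, L2.inv_mem (Subgroup.mem_inf.1 z.2).2⟩), by
    rw [MonoidHom.mem_ker, g2zprod_hom_apply]
    exact mul_inv_cancel _⟩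
  invFun p := ⟨((p : ↥L1 × ↥L2).1 : G), Subgroup.mem_inf.2 ⟨(p : ↥L1 × ↥L2).1.2, by
    have h1 := g2zprod_ker_fst L1 L2 hcomm p p.2
    have h2 : (((p : ↥L1 × ↥L2).1 : ↥L1) : G) = (((p : ↥L1 × ↥L2).2 : ↥L2) : G)⁻¹ := by
      rw [h1, inv_inv]
    rw [h2]
    exact L2.inv_mem (p : ↥L1 × ↥L2).2.2⟩⟩
  left_inv z := by
    apply Subtype.ext
    rfl
  right_inv p := by
    have h1 := g2zprod_ker_fst L1 L2 hcomm p p.2
    apply Subtype.ext
    apply Prod.ext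
    · apply Subtype.ext
      rfl
    · apply Subtype.ext
      exact h1.symm

/-- G2Z-PROD -/
theorem card_sup_commute {G : Type*} [Group G] [Finite G] (L1 L2 : Subgroup G)
    (hcomm : ∀ x ∈ L1, ∀ y ∈ L2, x * y = y * x) (h2 : Nat.card ↥(L1 ⊓ L2) = 2) :
    Nat.card ↥(L1 ⊔ L2) * 2 = Nat.card ↥L1 * Nat.card ↥L2 := by
  have h3 : Nat.card ↥(g2zprod_hom L1 L2 hcomm).ker = 2 := by
    rw [← Nat.card_congr (g2zprod_kerEquiv L1 L2 hcomm), h2]
  have h4 := Subgroup.card_mul_index (g2zprod_hom L1 L2 hcomm).ker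
  rw [Subgroup.index_ker, g2zprod_range, h3, Nat.card_prod] at h4
  rw [← h4, mul_comm]

end Cfsg.Agent.Lib.Helper37.G2z
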