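import Mathlib.Data.Complex.Basic
import Mathlib.Data.Fintype.Prod
import Mathlib.Data.Fintype.Card
import Mathlib.Algebra.BigOperators.Group.Finset.Basic
import Mathlib.Algebra.Order.BigOperators.Group.Finset
import Mathlib.Tactic.Ring
import Mathlib.Tactic.Linarith
import Mathlib.Data.Fintype.BigOperators
import Mathlib.Tactic.LinearCombination
import Mathlib.Algebra.BigOperators.Group.Finset.Piecewise
import Mathlib.Algebra.BigOperators.Ring.Finset

set_option autoImplicit false

/-!
A combinatorial lemma on matrices of the form `M i j = r i + c j` with few non-zero entries.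
-/

namespace Cfsg.Agent.Lib.Helper25

open Finset

variable {R C : Type*} [Fintype R] [Fintype C] [DecidableEq R] [DecidableEq C]

/-- The number of non-zero entries as a sum over rows. -/
theorem grid_card_eq_sum_rows (M : R → C → ℂ) :
    (univ.filter (fun p : R × C => M p.1 p.2 ≠ 0)).card =
      ∑ i : R, (univ.filter (fun j : C => M i j ≠ 0)).card := by
  rw [Finset.card_filter, Fintype.sum_prod_type]
  apply Finset.sum_congr rfl
  intro i _
  rw [Finset.card_filter]

/-- The number of non-zero entries as a sum over columns. -/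
theorem grid_card_eq_sum_cols (M : R → C → ℂ) :
    (univ.filter (fun p : R × C => M p.1 p.2 ≠ 0)).card =
      ∑ j : C, (univ.filter (fun i : R => M i j ≠ 0)).card := by
  rw [Finset.card_filter, Fintype.sum_prod_type_right]
  apply Finset.sum_congr rfl
  intro j _
  rw [Finset.card_filter]

theorem grid_lemma (r : R → ℂ) (c : C → ℂ) (hm : Fintype.card R + 2 ≤ Fintype.card C)
    (hN : (univ.filter (fun p : R × C => r p.1 + c p.2 ≠ 0)).card < 2 * Fintype.card R) :
    (∀ i j, r i + c j = 0) ∨ (∃ (j₀ : C) (a : ℂ), ∀ i j, r i + c j = if j = j₀ then a else 0) ∨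
      (∃ (i₀ : R) (a : ℂ), ∀ i j, r i + c j = if i = i₀ then a else 0) := by
  set m₁ := Fintype.card R with hm₁
  set m₂ := Fintype.card C with hm₂
  by_cases hA : ∃ i₀, ∀ j, r i₀ + c j = 0
  · -- a zero row: rows are constant
    obtain ⟨i₀, hi₀⟩ := hA
    have hM : ∀ i j, r i + c j = r i - r i₀ := by
      intro i j
      have := hi₀ j
      linear_combination this
    by_cases hS : ∃ i₁, r i₁ - r i₀ ≠ 0
    · obtain ⟨i₁, hi₁⟩ := hS
      have huniq : ∀ i, r i - r i₀ ≠ 0 → i = i₁ := by
        intro i hi
        by_contra hne
        have hsub : ({i, i₁} : Finset R) ×ˢ (univ : Finset C) ⊆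
            univ.filter (fun p : R × C => r p.1 + c p.2 ≠ 0) := by
          intro p hp
          rw [Finset.mem_product] at hp
          simp only [mem_filter, mem_univ, true_and]
          rw [hM]
          rcases Finset.mem_insert.mp hp.1 with h | h
          · rw [h]; exact hi
          · rw [Finset.mem_singleton.mp h]; exact hi₁
        have hcard := Finset.card_le_card hsub
        rw [Finset.card_product, Finset.card_pair hne, Finset.card_univ] at hcard
        omega
      right; right
      refine ⟨i₁, r i₁ - r i₀, ?_⟩
      intro i j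
      rw [hM]
      split_ifs with h
      · rw [h]
      · by_contra hne
        exact h (huniq i hne)
    · left
      push Not at hS
      intro i j
      rw [hM, hS]
  by_cases hB : ∃ j₀, ∀ i, r i + c j₀ = 0
  · obtain ⟨j₀, hj₀⟩ := hB
    have hM : ∀ i j, r i + c j = c j - c j₀ := by
      intro i j
      have := hj₀ i
      linear_combination this
    by_cases hS : ∃ j₁, c j₁ - c j₀ ≠ 0
    · obtain ⟨j₁, hj₁⟩ := hS
      have huniq : ∀ j, c j - c j₀ ≠ 0 → j = j₁ := by
        intro j hj
        by_contra hne
        have hsub : (univ : Finset R) ×ˢ ({j, j₁} : Finset C) ⊆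
            univ.filter (fun p : R × C => r p.1 + c p.2 ≠ 0) := by
          intro p hp
          rw [Finset.mem_product] at hp
          simp only [mem_filter, mem_univ, true_and]
          rw [hM]
          rcases Finset.mem_insert.mp hp.2 with h | h
          · rw [h]; exact hj
          · rw [Finset.mem_singleton.mp h]; exact hj₁
        have hcard := Finset.card_le_card hsub
        rw [Finset.card_product, Finset.card_pair hne, Finset.card_univ] at hcard
        omega
      right; left
      refine ⟨j₁, c j₁ - c j₀, ?_⟩
      intro i j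
      rw [hM]
      split_ifs with h
      · rw [h]
      · by_contra hne
        exact h (huniq j hne)
    · left
      push Not at hS
      intro i j
      rw [hM, hS]
  -- no zero row, no zero column: contradiction
  exfalso
  push Not at hA hB
  rw [grid_card_eq_sum_rows (fun i j => r i + c j)] at hN
  by_cases h2 : ∀ i, 2 ≤ (univ.filter (fun j : C => r i + c j ≠ 0)).card
  · have : ∑ _i : R, 2 ≤ ∑ i : R, (univ.filter (fun j : C => r i + c j ≠ 0)).card :=
      Finset.sum_le_sum (fun i _ => h2 i)
    rw [Finset.sum_const, Finset.card_univ, smul_eq_mul] at this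
    omega
  · push Not at h2
    obtain ⟨i₀, hi₀⟩ := h2
    obtain ⟨j₁, hj₁⟩ := hA i₀
    have hrow : univ.filter (fun j : C => r i₀ + c j ≠ 0) = {j₁} := by
      have hmem : j₁ ∈ univ.filter (fun j : C => r i₀ + c j ≠ 0) := by simp [hj₁]
      have hc1 : (univ.filter (fun j : C => r i₀ + c j ≠ 0)).card = 1 := by
        have := Finset.card_pos.mpr ⟨j₁, hmem⟩
        omega
      obtain ⟨x, hx⟩ := Finset.card_eq_one.mp hc1
      rw [hx] at hmem ⊢
      rw [Finset.mem_singleton.mp hmem]
    have hzero : ∀ j, j ≠ j₁ → r i₀ + c j = 0 := by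
      intro j hj
      by_contra hne
      have : j ∈ univ.filter (fun j : C => r i₀ + c j ≠ 0) := by simp [hne]
      rw [hrow] at this
      exact hj (Finset.mem_singleton.mp this)
    have hC2 : 1 < Fintype.card C := by omega
    obtain ⟨j₂, hj₂⟩ := Fintype.exists_ne_of_one_lt_card hC2 j₁
    obtain ⟨i₁, hi₁⟩ := hB j₂
    have hrow1 : ∀ j, j ≠ j₁ → r i₁ + c j ≠ 0 := by
      intro j hj
      have e1 := hzero j hj
      have e2 := hzero j₂ hj₂
      have : r i₁ + c j = r i₁ + c j₂ := by linear_combination e1 - e2
      rw [this]; exact hi₁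
    have hn1 : m₂ - 1 ≤ (univ.filter (fun j : C => r i₁ + c j ≠ 0)).card := by
      have hsub : univ.erase j₁ ⊆ univ.filter (fun j : C => r i₁ + c j ≠ 0) := by
        intro j hj
        simp only [mem_filter, mem_univ, true_and]
        exact hrow1 j (Finset.ne_of_mem_erase hj)
      have := Finset.card_le_card hsub
      rw [Finset.card_erase_of_mem (Finset.mem_univ _), Finset.card_univ] at this
      exact this
    have hrest : ∀ i, 1 ≤ (univ.filter (fun j : C => r i + c j ≠ 0)).card := by
      intro i
      obtain ⟨j, hj⟩ := hA i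
      exact Finset.card_pos.mpr ⟨j, by simp [hj]⟩
    have hsum : (m₂ - 1) + (m₁ - 1) ≤ ∑ i : R, (univ.filter (fun j : C => r i + c j ≠ 0)).card := by
      rw [← Finset.add_sum_erase _ _ (Finset.mem_univ i₁)]
      apply Nat.add_le_add hn1
      have : ∑ _i ∈ (univ : Finset R).erase i₁, 1 ≤
          ∑ i ∈ (univ : Finset R).erase i₁, (univ.filter (fun j : C => r i + c j ≠ 0)).card :=
        Finset.sum_le_sum (fun i _ => hrest i)
      rw [Finset.sum_const, Finset.card_erase_of_mem (Finset.mem_univ _), Finset.card_univ,
        smul_eq_mul, mul_one] at this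
      exact this
    omega

end Cfsg.Agent.Lib.Helper25
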