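import Cfsg.Agent.Lib.Helper37.GtDefs

/-!
# GT-REL2-4 (Gt hive, S2734): the commutator relations `[y_s(u), y_4(t)]` of `G₂` inside `O₈⁺(F)`
(GENERATED from the `chevG2.commTerms` table by helper25's script.)
-/

set_option autoImplicit false
set_option linter.unusedSectionVars false
set_option linter.unusedVariables false
set_option linter.unusedSimpArgs false
set_option linter.unnecessarySeqFocus false
set_option linter.unreachableTactic false
set_option linter.unusedTactic false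
set_option maxHeartbeats 1600000

namespace Cfsg.Agent.Lib.Helper37.Gt

open Matrix Module QuadraticMap
open Cfsg.Agent.Lib.Helper8 Cfsg.Agent.Lib.Helper13 Cfsg.Agent.Lib.Helper37 Cfsg.Agent.Lib.Helper37.D4O8

variable {F : Type*} [Field F]

theorem rel2_4_s0 (t u : F) :
    (Yn 0 u)⁻¹ * (Yn 4 t)⁻¹ * Yn 0 u * Yn 4 t = wprodY (Cfsg.Lie.chevG2.commWord F 4 0 t u) := by
  have h : Cfsg.Lie.chevG2.commTerms 4 0 = [] := by decide
  unfold wprodY Cfsg.Lie.ChevalleyDatum.commWord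
  rw [h]
  simp only [List.map_nil, List.prod_nil]
  simp only [Yn_0, Yn_4, _root_.mul_inv_rev, X_inv]
  apply reflElt_ext
  intro x
  simp only [act_mul, act_one]
  simp only [act_X0, act_X5, act_X10, act_X11]
  apply ext8 <;> simp <;> ring

theorem rel2_4_s1 (t u : F) :
    (Yn 1 u)⁻¹ * (Yn 4 t)⁻¹ * Yn 1 u * Yn 4 t = wprodY (Cfsg.Lie.chevG2.commWord F 4 1 t u) := by
  have h : Cfsg.Lie.chevG2.commTerms 4 1 = [] := by decide
  unfold wprodY Cfsg.Lie.ChevalleyDatum.commWord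
  rw [h]
  simp only [List.map_nil, List.prod_nil]
  simp only [Yn_1, Yn_4, _root_.mul_inv_rev, X_inv]
  apply reflElt_ext
  intro x
  simp only [act_mul, act_one]
  simp only [act_X1, act_X5, act_X10, act_X11]
  apply ext8 <;> simp <;> ring

theorem rel2_4_s2 (t u : F) :
    (Yn 2 u)⁻¹ * (Yn 4 t)⁻¹ * Yn 2 u * Yn 4 t = wprodY (Cfsg.Lie.chevG2.commWord F 4 2 t u) := by
  have h : Cfsg.Lie.chevG2.commTerms 4 2 = [(1, -3, 1, 1)] := by decide
  unfold wprodY Cfsg.Lie.ChevalleyDatum.commWord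
  rw [h]
  simp only [List.map_cons, List.map_nil, List.prod_cons, List.prod_nil, mul_one]
  simp only [Yn_1, Yn_2, Yn_4, _root_.mul_inv_rev, X_inv]
  apply reflElt_ext
  intro x
  simp only [act_mul, act_one]
  simp only [act_X1, act_X2, act_X3, act_X5, act_X6, act_X10, act_X11]
  apply ext8 <;> simp <;> ring

theorem rel2_4_s3 (t u : F) :
    (Yn 3 u)⁻¹ * (Yn 4 t)⁻¹ * Yn 3 u * Yn 4 t = wprodY (Cfsg.Lie.chevG2.commWord F 4 3 t u) := by
  have h : Cfsg.Lie.chevG2.commTerms 4 3 = [(2, 2, 1, 1), (1, -3, 2, 1), (0, 3, 1, 2)] := by decide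
  unfold wprodY Cfsg.Lie.ChevalleyDatum.commWord
  rw [h]
  simp only [List.map_cons, List.map_nil, List.prod_cons, List.prod_nil, mul_one]
  simp only [Yn_0, Yn_1, Yn_2, Yn_3, Yn_4, _root_.mul_inv_rev, X_inv]
  apply reflElt_ext
  intro x
  simp only [act_mul, act_one]
  simp only [act_X0, act_X1, act_X2, act_X3, act_X4, act_X5, act_X6, act_X7, act_X8, act_X10, act_X11]
  apply ext8 <;> simp <;> ring

theorem rel2_4_s5 (t u : F) :
    (Yn 5 u)⁻¹ * (Yn 4 t)⁻¹ * Yn 5 u * Yn 4 t = wprodY (Cfsg.Lie.chevG2.commWord F 4 5 t u) := by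
  have h : Cfsg.Lie.chevG2.commTerms 4 5 = [(3, 1, 1, 1), (2, 1, 2, 1), (1, -1, 3, 1), (0, 1, 3, 2)] := by decide
  unfold wprodY Cfsg.Lie.ChevalleyDatum.commWord
  rw [h]
  simp only [List.map_cons, List.map_nil, List.prod_cons, List.prod_nil, mul_one]
  simp only [Yn_0, Yn_1, Yn_2, Yn_3, Yn_4, Yn_5, _root_.mul_inv_rev, X_inv]
  apply reflElt_ext
  intro x
  simp only [act_mul, act_one]
  simp only [act_X0, act_X1, act_X2, act_X3, act_X4, act_X5, act_X6, act_X7, act_X8, act_X9, act_X10, act_X11]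
  apply ext8 <;> simp <;> ring

theorem rel2_4_s6 (t u : F) :
    (Yn 6 u)⁻¹ * (Yn 4 t)⁻¹ * Yn 6 u * Yn 4 t = wprodY (Cfsg.Lie.chevG2.commWord F 4 6 t u) := by
  have h : Cfsg.Lie.chevG2.commTerms 4 6 = [] := by decide
  unfold wprodY Cfsg.Lie.ChevalleyDatum.commWord
  rw [h]
  simp only [List.map_nil, List.prod_nil]
  simp only [Yn_4, Yn_6, _root_.mul_inv_rev, X_inv]
  apply reflElt_ext
  intro x
  simp only [act_mul, act_one]
  simp only [act_X5, act_X10, act_X11, act_X14]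
  apply ext8 <;> simp <;> ring

theorem rel2_4_s8 (t u : F) :
    (Yn 8 u)⁻¹ * (Yn 4 t)⁻¹ * Yn 8 u * Yn 4 t = wprodY (Cfsg.Lie.chevG2.commWord F 4 8 t u) := by
  have h : Cfsg.Lie.chevG2.commTerms 4 8 = [(6, -3, 1, 1)] := by decide
  unfold wprodY Cfsg.Lie.ChevalleyDatum.commWord
  rw [h]
  simp only [List.map_cons, List.map_nil, List.prod_cons, List.prod_nil, mul_one]
  simp only [Yn_4, Yn_6, Yn_8, _root_.mul_inv_rev, X_inv]
  apply reflElt_ext
  intro x
  simp only [act_mul, act_one]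
  simp only [act_X5, act_X10, act_X11, act_X14, act_X15, act_X16, act_X19]
  apply ext8 <;> simp <;> ring

theorem rel2_4_s9 (t u : F) :
    (Yn 9 u)⁻¹ * (Yn 4 t)⁻¹ * Yn 9 u * Yn 4 t = wprodY (Cfsg.Lie.chevG2.commWord F 4 9 t u) := by
  have h : Cfsg.Lie.chevG2.commTerms 4 9 = [(8, -2, 1, 1), (6, 3, 2, 1), (11, -3, 1, 2)] := by decide
  unfold wprodY Cfsg.Lie.ChevalleyDatum.commWord
  rw [h]
  simp only [List.map_cons, List.map_nil, List.prod_cons, List.prod_nil, mul_one]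
  simp only [Yn_4, Yn_6, Yn_8, Yn_9, Yn_11, _root_.mul_inv_rev, X_inv]
  apply reflElt_ext
  intro x
  simp only [act_mul, act_one]
  simp only [act_X5, act_X10, act_X11, act_X14, act_X15, act_X16, act_X17, act_X19, act_X20, act_X21, act_X23]
  apply ext8 <;> simp <;> ring

theorem rel2_4_s10 (t u : F) :
    (Yn 10 u)⁻¹ * (Yn 4 t)⁻¹ * Yn 10 u * Yn 4 t = wprodY (Cfsg.Lie.chevG2.commWord F 4 10 t u) := by
  have h : Cfsg.Lie.chevG2.commTerms 4 10 = [(9, 1, 1, 1), (8, -1, 2, 1), (6, 1, 3, 1), (11, -1, 3, 2)] := by decide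
  unfold wprodY Cfsg.Lie.ChevalleyDatum.commWord
  rw [h]
  simp only [List.map_cons, List.map_nil, List.prod_cons, List.prod_nil, mul_one]
  simp only [Yn_4, Yn_6, Yn_8, Yn_9, Yn_10, Yn_11, _root_.mul_inv_rev, X_inv]
  apply reflElt_ext
  intro x
  simp only [act_mul, act_one]
  simp only [act_X5, act_X10, act_X11, act_X14, act_X15, act_X16, act_X17, act_X19, act_X20, act_X21, act_X22, act_X23]
  apply ext8 <;> simp <;> ring

theorem rel2_4_s11 (t u : F) :
    (Yn 11 u)⁻¹ * (Yn 4 t)⁻¹ * Yn 11 u * Yn 4 t = wprodY (Cfsg.Lie.chevG2.commWord F 4 11 t u) := by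
  have h : Cfsg.Lie.chevG2.commTerms 4 11 = [] := by decide
  unfold wprodY Cfsg.Lie.ChevalleyDatum.commWord
  rw [h]
  simp only [List.map_nil, List.prod_nil]
  simp only [Yn_4, Yn_11, _root_.mul_inv_rev, X_inv]
  apply reflElt_ext
  intro x
  simp only [act_mul, act_one]
  simp only [act_X5, act_X10, act_X11, act_X23]
  apply ext8 <;> simp <;> ring

/-- GT-REL2-4. -/
theorem rel2_4 (s : ℕ) (hs : s < 12) (h1 : s ≠ 4) (h2 : s ≠ 7) (t u : F) :
    (Yn s u)⁻¹ * (Yn 4 t)⁻¹ * Yn s u * Yn 4 t = wprodY (Cfsg.Lie.chevG2.commWord F 4 s t u) := by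
  interval_cases s
  · exact rel2_4_s0 t u
  · exact rel2_4_s1 t u
  · exact rel2_4_s2 t u
  · exact rel2_4_s3 t u
  · exact absurd rfl h1
  · exact rel2_4_s5 t u
  · exact rel2_4_s6 t u
  · exact absurd rfl h2
  · exact rel2_4_s8 t u
  · exact rel2_4_s9 t u
  · exact rel2_4_s10 t u
  · exact rel2_4_s11 t u

end Cfsg.Agent.Lib.Helper37.Gt
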