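import Cfsg.Agent.Lib.Helper25.KerSum
import Cfsg.Agent.Lib.Helper3.Induced
import Cfsg.Agent.S1486

set_option autoImplicit false
set_option linter.unusedSectionVars false

/-!
Characters of `L` induced from irreducible characters of a normal subgroup `K`: norms, fibres of
the induction map, and the sum `∑ φ(1)²/‖φ‖²` over a set of induced characters.
-/

namespace Cfsg.Agent.Lib.Helper25

open Cfsg
open scoped ComplexConjugate

section IndIrr

variable {L : Type*} [Group L] [Fintype L] (K : Subgroup L) [hK : K.Normal]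

theorem indIrr_isCharacter (θ : IrrCharacter K) : IsCharacter L (indFun K (θ : K → ℂ)) :=
  Cfsg.Agent.Lib.Helper3.isCharacter_indFun K (Cfsg.Agent.Lib.Helper3.IsIrrCharacter.isCharacter θ.2)

theorem indIrr_apply_one (θ : K → ℂ) : indFun K θ 1 = (K.index : ℂ) * θ 1 :=
  Cfsg.Agent.Lib.Helper75.indFun_apply_one K θ

theorem index_ne_zero_complex : (K.index : ℂ) ≠ 0 := by
  have : K.index ≠ 0 := Subgroup.index_ne_zero_of_finite
  exact_mod_cast this

theorem irr_degree_ne_zero (θ : IrrCharacter K) : (θ : K → ℂ) 1 ≠ 0 := by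
  obtain ⟨n, hn, h⟩ := irr_degree θ.2
  rw [h]
  exact_mod_cast hn.ne'

/-- Characters of `K` with the same induced character have the same degree. -/
theorem degree_eq_of_ind_eq {θ θ' : K → ℂ} (h : indFun K θ' = indFun K θ) : θ' 1 = θ 1 := by
  have h1 := congrFun h 1
  rw [indIrr_apply_one, indIrr_apply_one] at h1
  exact mul_left_cancel₀ (index_ne_zero_complex K) h1

open Classical in
/-- Two induced characters are equal or orthogonal. -/
theorem classInner_ind_ind (θ θ' : IrrCharacter K) :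
    classInner (indFun K (θ : K → ℂ)) (indFun K (θ' : K → ℂ)) =
      if indFun K (θ' : K → ℂ) = indFun K (θ : K → ℂ) then
        classInner (indFun K (θ : K → ℂ)) (indFun K (θ : K → ℂ)) else 0 := by
  obtain ⟨h1, h2⟩ := Cfsg.Agent.S1486.result K (θ : K → ℂ) (θ' : K → ℂ) θ.2 θ'.2
  by_cases hex : ∃ g : L, (θ' : K → ℂ) = fun h : K => (θ : K → ℂ) ⟨g * h * g⁻¹, hK.conj_mem h h.2 g⟩
  · have := h1 hex
    rw [if_pos this, this]
  · have h3 := h2 hex
    have hne : indFun K (θ' : K → ℂ) ≠ indFun K (θ : K → ℂ) := by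
      intro h
      rw [h] at h3
      have hn := Cfsg.Agent.S0193.result K (θ : K → ℂ) θ.2
      rw [h3, mul_zero] at hn
      have hpos : 0 < Nat.card {g : L // ∀ h : K, (θ : K → ℂ) ⟨g * h * g⁻¹, hK.conj_mem h h.2 g⟩ =
          (θ : K → ℂ) h} := by
        apply Nat.card_pos_iff.mpr
        refine ⟨⟨⟨1, ?_⟩⟩, inferInstance⟩
        intro h
        have e : (⟨1 * (h : L) * 1⁻¹, hK.conj_mem h h.2 1⟩ : K) = h := by
          apply Subtype.ext
          simp
        rw [e]
      have : (Nat.card {g : L // ∀ h : K, (θ : K → ℂ) ⟨g * h * g⁻¹, hK.conj_mem h h.2 g⟩ =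
          (θ : K → ℂ) h} : ℂ) ≠ 0 := by exact_mod_cast hpos.ne'
      exact this hn.symm
    rw [if_neg hne, ← classInner_conj_symm, h3, map_zero]

end IndIrr

section IndIrr2

variable {L : Type*} [Group L] [Fintype L] (K : Subgroup L) [hK : K.Normal]

theorem sum_classInner_ind_mul_degree [Fintype (IrrCharacter K)] (θ : IrrCharacter K) :
    ∑ θ' : IrrCharacter K, classInner (indFun K (θ : K → ℂ)) (indFun K (θ' : K → ℂ)) *
      (θ' : K → ℂ) 1 = (K.index : ℂ) * (θ : K → ℂ) 1 := by
  have : Fintype K := Fintype.ofFinite _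
  have hcf := indFun_isClassFunction K (θ : K → ℂ)
  have hres : IsClassFunction K (fun k : K => indFun K (θ : K → ℂ) k) := by
    intro g h
    exact hcf g h
  have h1 := classFunction_apply_one hres
  rw [Subgroup.coe_one, indIrr_apply_one] at h1
  rw [h1]
  apply Finset.sum_congr rfl
  intro θ' _
  rw [frobenius_reciprocity' K (θ' : K → ℂ) _ hcf]

open Classical in
/-- `‖Ind θ‖² · #{θ' | Ind θ' = Ind θ} = |L : K|`. -/
theorem norm_mul_card_fibre [Fintype (IrrCharacter K)] (θ : IrrCharacter K) :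
    classInner (indFun K (θ : K → ℂ)) (indFun K (θ : K → ℂ)) *
      ((Finset.univ.filter (fun θ' : IrrCharacter K =>
        indFun K (θ' : K → ℂ) = indFun K (θ : K → ℂ))).card : ℂ) = (K.index : ℂ) := by
  have h := sum_classInner_ind_mul_degree K θ
  have h2 : ∀ θ' : IrrCharacter K,
      classInner (indFun K (θ : K → ℂ)) (indFun K (θ' : K → ℂ)) * (θ' : K → ℂ) 1 =
      if indFun K (θ' : K → ℂ) = indFun K (θ : K → ℂ) then
        classInner (indFun K (θ : K → ℂ)) (indFun K (θ : K → ℂ)) * (θ : K → ℂ) 1 else 0 := by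
    intro θ'
    rw [classInner_ind_ind]
    by_cases hh : indFun K (θ' : K → ℂ) = indFun K (θ : K → ℂ)
    · rw [if_pos hh, if_pos hh, degree_eq_of_ind_eq K hh]
    · rw [if_neg hh, if_neg hh, zero_mul]
  rw [Finset.sum_congr rfl (fun θ' _ => h2 θ'), ← Finset.sum_filter, Finset.sum_const,
    nsmul_eq_mul] at h
  have hd := irr_degree_ne_zero K θ
  apply mul_right_cancel₀ hd
  rw [← h]
  ring

end IndIrr2

end Cfsg.Agent.Lib.Helper25
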