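import Cfsg.Agent.Lib.Helper15.Gallagher
import Cfsg.Agent.Lib.Helper75.CliffordCorr
import Cfsg.Agent.Lib.Helper25.CharUtil

set_option autoImplicit false
set_option linter.unusedSectionVars false

/-!
The sum of the squares of the degrees of the irreducible characters whose kernel contains a normal
subgroup `N` is the index of `N`.
-/

namespace Cfsg.Agent.Lib.Helper25

open Cfsg
open scoped ComplexConjugate

section KerSum

variable {K : Type*} [Group K] [Fintype K]

/-- Evaluating the expansion of a class function at `1`. -/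
theorem classFunction_apply_one [Fintype (IrrCharacter K)] {f : K → ℂ} (hf : IsClassFunction K f) :
    f 1 = ∑ θ : IrrCharacter K, classInner f (θ : K → ℂ) * (θ : K → ℂ) 1 := by
  have h := congrFun (Cfsg.Agent.Lib.Helper3.classFunction_eq_sum hf) 1
  rw [Finset.sum_apply] at h
  rw [h]
  apply Finset.sum_congr rfl
  intro θ _
  rw [Pi.smul_apply, smul_eq_mul]

theorem conj_degree {θ : K → ℂ} (hθ : IsCharacter K θ) : conj (θ 1) = θ 1 := by
  obtain ⟨n, hn⟩ := char_degree hθ
  rw [hn, Complex.conj_natCast]

/-- Multiplicity of the trivial character of a normal subgroup in an irreducible character. -/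
theorem classInner_one_restrict (N : Subgroup K) [N.Normal] [Fintype N] {θ : K → ℂ}
    (hθ : IsIrrCharacter K θ) [Decidable (∀ a : N, θ a = θ 1)] :
    classInner (fun _ : N => (1 : ℂ)) (fun n : N => θ n) =
      if (∀ a : N, θ a = θ 1) then θ 1 else 0 := by
  have hN0 : (Nat.card N : ℂ) ≠ 0 := by exact_mod_cast Nat.card_pos.ne'
  rw [classInner_def]
  by_cases h : ∀ a : N, θ a = θ 1
  · rw [if_pos h]
    have : ∀ n : N, (1 : ℂ) * conj (θ n) = θ 1 := by
      intro n
      rw [one_mul, h n, conj_degree (Cfsg.Agent.Lib.Helper3.IsIrrCharacter.isCharacter hθ)]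
    rw [Finset.sum_congr rfl (fun n _ => this n), Finset.sum_const, Finset.card_univ,
      nsmul_eq_mul, ← Nat.card_eq_fintype_card, ← mul_assoc, inv_mul_cancel₀ hN0, one_mul]
  · rw [if_neg h]
    rcases Cfsg.Agent.Lib.Helper15.coset_sum_irr N hθ with h1 | h1
    · exfalso
      apply h
      intro a
      have := h1 a 1
      rwa [mul_one] at this
    · have h2 := h1 1
      simp only [mul_one] at h2
      have : ∑ n : N, (1 : ℂ) * conj (θ n) = conj (∑ n : N, θ n) := by
        rw [map_sum]
        apply Finset.sum_congr rfl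
        intro n _
        rw [one_mul]
      rw [this, h2, map_zero, mul_zero]

open Classical in
/-- The sum of `θ(1)²` over the irreducible characters `θ` with `N ≤ ker θ` equals `|K : N|`. -/
theorem sum_sq_degree_kernel (N : Subgroup K) [N.Normal] [Fintype (IrrCharacter K)] :
    ∑ θ ∈ Finset.univ.filter (fun θ : IrrCharacter K => ∀ a : N, (θ : K → ℂ) a = (θ : K → ℂ) 1),
      ((θ : K → ℂ) 1) ^ 2 = (N.index : ℂ) := by
  have : Fintype N := Fintype.ofFinite _
  have hf := indFun_isClassFunction N (fun _ : N => (1 : ℂ))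
  have h1 := classFunction_apply_one hf
  rw [Cfsg.Agent.Lib.Helper75.indFun_apply_one, mul_one] at h1
  rw [h1, Finset.sum_filter]
  apply Finset.sum_congr rfl
  intro θ _
  have hcf := Cfsg.Agent.Lib.Helper3.IsCharacter.isClassFunction
    (Cfsg.Agent.Lib.Helper3.IsIrrCharacter.isCharacter θ.2)
  rw [frobenius_reciprocity N _ _ hcf, classInner_one_restrict N θ.2]
  by_cases h : ∀ a : N, (θ : K → ℂ) a = (θ : K → ℂ) 1
  · rw [if_pos h, if_pos h]; ring
  · rw [if_neg h, if_neg h, zero_mul]

end KerSum

end Cfsg.Agent.Lib.Helper25
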