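import Mathlib
import Cfsg.Agent.Lib.Helper45.LtCore

/-! # Lt hive (helper45, S2363), leaf LT-G2 (helper25): the order of `G₂(q)`. -/

set_option autoImplicit false
set_option linter.unusedSimpArgs false
set_option linter.unusedVariables false

namespace Cfsg.Agent.Lib.Helper45.Lt

/-- one step of the product bound -/
theorem g2_step {q a b X Y : ℕ} (hq : 1 ≤ q) (hX : X < q ^ a) (hY : Y ≤ q ^ b) :
    X * Y < q ^ (a + b) := by
  rw [pow_add]
  exact Nat.mul_lt_mul_of_lt_of_le hX hY (pow_pos hq _)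

theorem g2_lt {q : ℕ} (hq : 1 ≤ q) (a : ℕ) : q ^ a - 1 < q ^ a :=
  Nat.sub_lt (pow_pos hq _) Nat.one_pos

theorem g2_le (q a : ℕ) : q ^ a - 1 ≤ q ^ a := Nat.sub_le _ _

/-- LT-G2 -/
theorem lt_g2 {p f g : ℕ} (hp : p.Prime) (hf : 1 ≤ f) (hg : 0 < g)
    (hcard : g = (p ^ f) ^ 6 * ((p ^ f) ^ 2 - 1) * ((p ^ f) ^ 6 - 1)) :
    g < p ^ (3 * g.factorization p) ∧ g ^ 3 < p ^ (8 * g.factorization p) := by
  have hq1 : 1 ≤ p ^ f := pow_pos hp.pos f
  have hM : ((p ^ f) ^ 2 - 1) * ((p ^ f) ^ 6 - 1) < 1 * (p ^ f) ^ (6 + 2) := by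
    rw [one_mul]
    have h := g2_step (a := 2) (b := 6) hq1 (g2_lt hq1 2) (g2_le _ 6)
    exact h
  have key := lt_core (p := p) (f := f) (N := 6) (l := 2) (g := g) (d := 1)
    (M := ((p ^ f) ^ 2 - 1) * ((p ^ f) ^ 6 - 1))
    hp hf hg (by rw [hcard, one_mul, mul_assoc]) hp.not_dvd_one
    (lt_not_dvd_mul hp (lt_not_dvd_sub_one hp hf (by norm_num))
      (lt_not_dvd_sub_one hp hf (by norm_num))) hM (by norm_num)
  exact ⟨key.2.1, key.2.2 (by norm_num)⟩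

end Cfsg.Agent.Lib.Helper45.Lt
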