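import Mathlib
import Cfsg.Agent.Lib.Helper45.LtCore
import Cfsg.Agent.Lib.Helper25.LtG2

/-! # Lt hive (helper45, S2363), leaf LT-F4 (helper25): the order of `F₄(q)`. -/

set_option autoImplicit false
set_option linter.unusedSimpArgs false
set_option linter.unusedVariables false

namespace Cfsg.Agent.Lib.Helper45.Lt

/-- LT-F4 -/
theorem lt_f4 {p f g : ℕ} (hp : p.Prime) (hf : 1 ≤ f) (hg : 0 < g)
    (hcard : g = (p ^ f) ^ 24 * ((p ^ f) ^ 2 - 1) * ((p ^ f) ^ 6 - 1) * ((p ^ f) ^ 8 - 1) *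
      ((p ^ f) ^ 12 - 1)) :
    g < p ^ (3 * g.factorization p) ∧ g ^ 3 < p ^ (8 * g.factorization p) := by
  have hq1 : 1 ≤ p ^ f := pow_pos hp.pos f
  have hM : ((p ^ f) ^ 2 - 1) * ((p ^ f) ^ 6 - 1) * ((p ^ f) ^ 8 - 1) * ((p ^ f) ^ 12 - 1) <
      1 * (p ^ f) ^ (24 + 4) := by
    rw [one_mul]
    have h := g2_step (a := 2 + 6 + 8) (b := 12) hq1 (g2_step (a := 2 + 6) (b := 8) hq1
      (g2_step (a := 2) (b := 6) hq1 (g2_lt hq1 2) (g2_le _ 6)) (g2_le _ 8)) (g2_le _ 12)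
    exact h
  have key := lt_core (p := p) (f := f) (N := 24) (l := 4) (g := g) (d := 1)
    (M := ((p ^ f) ^ 2 - 1) * ((p ^ f) ^ 6 - 1) * ((p ^ f) ^ 8 - 1) * ((p ^ f) ^ 12 - 1))
    hp hf hg (by rw [hcard, one_mul]; ring) hp.not_dvd_one
    (lt_not_dvd_mul hp (lt_not_dvd_mul hp (lt_not_dvd_mul hp
      (lt_not_dvd_sub_one hp hf (by norm_num)) (lt_not_dvd_sub_one hp hf (by norm_num)))
      (lt_not_dvd_sub_one hp hf (by norm_num))) (lt_not_dvd_sub_one hp hf (by norm_num)))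
    hM (by norm_num)
  exact ⟨key.2.1, key.2.2 (by norm_num)⟩

end Cfsg.Agent.Lib.Helper45.Lt
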