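import Mathlib
import Cfsg.Agent.Lib.Helper45.LtCore

/-! # Lt hive (helper45, S2363), leaf LT-PPLUS (helper25): the order of `PΩ⁺_{2m}(q)`. -/

set_option autoImplicit false
set_option linter.unusedSimpArgs false
set_option linter.unusedVariables false

namespace Cfsg.Agent.Lib.Helper45.Lt

theorem pplus_sum (n : ℕ) : ∑ i ∈ Finset.range n, 2 * (i + 1) = n * (n + 1) := by
  induction n with
  | zero => simp
  | succ n ih =>
    rw [Finset.sum_range_succ, ih]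
    ring

/-- LT-PPLUS -/
theorem lt_pplus {p f m g : ℕ} (hp : p.Prime) (hf : 1 ≤ f) (hm : 4 ≤ m) (hg : 0 < g)
    (hcard : Nat.gcd 4 ((p ^ f) ^ m - 1) * g = (p ^ f) ^ (m * (m - 1)) * ((p ^ f) ^ m - 1) *
      ∏ i ∈ Finset.range (m - 1), ((p ^ f) ^ (2 * (i + 1)) - 1)) :
    g < p ^ (3 * g.factorization p) ∧ g ^ 3 < p ^ (8 * g.factorization p) := by
  obtain ⟨n, rfl⟩ : ∃ n, m = n + 1 := ⟨m - 1, by omega⟩
  rw [Nat.add_sub_cancel] at hcard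
  have hq1 : 1 ≤ p ^ f := pow_pos hp.pos f
  have hd0 : 0 < Nat.gcd 4 ((p ^ f) ^ (n + 1) - 1) := Nat.gcd_pos_of_pos_left _ (by norm_num)
  have hpm : ¬ p ∣ (p ^ f) ^ (n + 1) - 1 := lt_not_dvd_sub_one hp hf (by omega)
  have hpprod : ¬ p ∣ ∏ i ∈ Finset.range n, ((p ^ f) ^ (2 * (i + 1)) - 1) :=
    lt_not_dvd_prod hp _ _ (fun i _ => lt_not_dvd_sub_one hp hf (by omega))
  have hle := lt_prod_sub_one_le hq1 (Finset.range n) (fun i => 2 * (i + 1))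
  rw [pplus_sum] at hle
  have hlt : (p ^ f) ^ (n + 1) - 1 < (p ^ f) ^ (n + 1) := Nat.sub_lt (pow_pos hq1 _) Nat.one_pos
  have hM : ((p ^ f) ^ (n + 1) - 1) * ∏ i ∈ Finset.range n, ((p ^ f) ^ (2 * (i + 1)) - 1) <
      Nat.gcd 4 ((p ^ f) ^ (n + 1) - 1) * (p ^ f) ^ ((n + 1) * n + (n + 1)) := by
    calc ((p ^ f) ^ (n + 1) - 1) * ∏ i ∈ Finset.range n, ((p ^ f) ^ (2 * (i + 1)) - 1)
        ≤ ((p ^ f) ^ (n + 1) - 1) * (p ^ f) ^ (n * (n + 1)) := Nat.mul_le_mul_left _ hle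
      _ < (p ^ f) ^ (n + 1) * (p ^ f) ^ (n * (n + 1)) :=
          Nat.mul_lt_mul_of_pos_right hlt (pow_pos hq1 _)
      _ = 1 * (p ^ f) ^ ((n + 1) * n + (n + 1)) := by
          rw [← pow_add, one_mul]
          congr 1
          ring
      _ ≤ Nat.gcd 4 ((p ^ f) ^ (n + 1) - 1) * (p ^ f) ^ ((n + 1) * n + (n + 1)) :=
          Nat.mul_le_mul_right _ hd0
  have hl : n + 1 ≤ (n + 1) * n := by nlinarith
  have key := lt_core (p := p) (f := f) (N := (n + 1) * n) (l := n + 1) (g := g)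
    (d := Nat.gcd 4 ((p ^ f) ^ (n + 1) - 1))
    (M := ((p ^ f) ^ (n + 1) - 1) * ∏ i ∈ Finset.range n, ((p ^ f) ^ (2 * (i + 1)) - 1))
    hp hf hg (by rw [hcard, mul_assoc])
    (lt_not_dvd_of_dvd (Nat.gcd_dvd_right _ _) hpm) (lt_not_dvd_mul hp hpm hpprod) hM hl
  exact ⟨key.2.1, key.2.2 (by nlinarith)⟩

end Cfsg.Agent.Lib.Helper45.Lt
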