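import Mathlib
import Cfsg.Agent.Lib.Helper37.MBalDefs
import Cfsg.Agent.Lib.Helper21.SupNormalizer

/-!
# S2733 hive, leaf MB-NC (`nc_odd`): the normal closure of an odd-order normal subgroup of a
normal subgroup has odd order.
-/

set_option autoImplicit false

namespace Cfsg.Agent.Lib.Helper37.MBal

/-- the join of two odd-order subgroups of `R`, the second one normalized by `R`, is odd. -/
theorem nc_sup {G : Type*} [Group G] (R : Subgroup G) [Finite ↥R] (Y1 Y2 : Subgroup G)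
    (h1 : Y1 ≤ R) (h2 : Y2 ≤ R) (n2 : ∀ r ∈ R, ∀ y ∈ Y2, r * y * r⁻¹ ∈ Y2)
    (o1 : Odd (Nat.card ↥Y1)) (o2 : Odd (Nat.card ↥Y2)) : Odd (Nat.card ↥(Y1 ⊔ Y2)) := by
  have hn : Y1.subgroupOf R ≤
      Subgroup.normalizer ((Y2.subgroupOf R : Subgroup ↥R) : Set ↥R) := by
    intro r _
    rw [Subgroup.mem_normalizer_iff]
    intro y
    simp only [Subgroup.mem_subgroupOf, Subgroup.coe_mul, Subgroup.coe_inv]
    constructor
    · intro hy
      exact n2 r r.2 y hy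
    · intro hy
      have := n2 (r : G)⁻¹ (R.inv_mem r.2) _ hy
      simpa [mul_assoc] using this
  have hd := Cfsg.Agent.Lib.Helper21.card_sup_dvd (X := Y2.subgroupOf R) (Y := Y1.subgroupOf R) hn
  rw [← Subgroup.subgroupOf_sup h2 h1] at hd
  have e12 : Nat.card ↥((Y2 ⊔ Y1).subgroupOf R) = Nat.card ↥(Y2 ⊔ Y1) :=
    Nat.card_congr (Subgroup.subgroupOfEquivOfLe (sup_le h2 h1)).toEquiv
  have e1 : Nat.card ↥(Y1.subgroupOf R) = Nat.card ↥Y1 :=
    Nat.card_congr (Subgroup.subgroupOfEquivOfLe h1).toEquiv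
  have e2 : Nat.card ↥(Y2.subgroupOf R) = Nat.card ↥Y2 :=
    Nat.card_congr (Subgroup.subgroupOfEquivOfLe h2).toEquiv
  rw [e12, e1, e2, sup_comm] at hd
  exact Odd.of_dvd_nat (o2.mul o1) hd

/-- (MB-NC, pure group theory) normal closure of an odd-order normal subgroup of a normal
subgroup: `R ⊴ C`, `X ⊴ R`, `|X|` odd. Then the subgroup generated by the `C`-conjugates of `X`
has odd order (a product of normal odd-order subgroups of `R`). -/
theorem nc_odd {G : Type*} [Group G] (C R X : Subgroup G) [Finite ↥C] (hRC : R ≤ C)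
    (hRn : ∀ c ∈ C, ∀ r ∈ R, c * r * c⁻¹ ∈ R) (hXR : X ≤ R)
    (hXn : ∀ r ∈ R, ∀ x ∈ X, r * x * r⁻¹ ∈ X) (hodd : Odd (Nat.card ↥X)) :
    ∃ N : Subgroup G, X ≤ N ∧ N ≤ R ∧ (∀ c ∈ C, ∀ n ∈ N, c * n * c⁻¹ ∈ N) ∧
      Odd (Nat.card ↥N) := by
  classical
  haveI : Finite ↥R := Finite.of_injective (Subgroup.inclusion hRC) (Subgroup.inclusion_injective hRC)
  haveI : Fintype ↥C := Fintype.ofFinite _
  let Xc : ↥C → Subgroup G := fun c => X.map (MulAut.conj (c : G)).toMonoidHom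
  have hXcR : ∀ c : ↥C, Xc c ≤ R := by
    intro c y hy
    obtain ⟨x, hx, rfl⟩ := hy
    simp only [MulEquiv.coe_toMonoidHom, MulAut.conj_apply]
    exact hRn c c.2 x (hXR hx)
  have hXcn : ∀ c : ↥C, ∀ r ∈ R, ∀ y ∈ Xc c, r * y * r⁻¹ ∈ Xc c := by
    intro c r hr y hy
    obtain ⟨x, hx, rfl⟩ := hy
    simp only [MulEquiv.coe_toMonoidHom, MulAut.conj_apply]
    have hr' : (c : G)⁻¹ * r * ((c : G)⁻¹)⁻¹ ∈ R := hRn _ (C.inv_mem c.2) r hr
    refine ⟨((c : G)⁻¹ * r * ((c : G)⁻¹)⁻¹) * x * ((c : G)⁻¹ * r * ((c : G)⁻¹)⁻¹)⁻¹,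
      hXn _ hr' x hx, ?_⟩
    simp only [MulEquiv.coe_toMonoidHom, MulAut.conj_apply]
    group
  have hXcodd : ∀ c : ↥C, Odd (Nat.card ↥(Xc c)) := by
    intro c
    have : Nat.card ↥(Xc c) = Nat.card ↥X :=
      (Nat.card_congr (X.equivMapOfInjective _ (MulAut.conj (c : G)).injective).toEquiv).symm
    rw [this]; exact hodd
  refine ⟨⨆ c : ↥C, Xc c, ?_, ?_, ?_, ?_⟩
  · refine le_trans ?_ (le_iSup Xc 1)
    intro x hx
    exact ⟨x, hx, by simp⟩
  · exact iSup_le hXcR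
  · intro c hc n hn
    have hmap : (⨆ c : ↥C, Xc c).map (MulAut.conj c).toMonoidHom ≤ ⨆ c : ↥C, Xc c := by
      rw [Subgroup.map_iSup]
      refine iSup_le fun d => ?_
      refine le_trans ?_ (le_iSup Xc (⟨c, hc⟩ * d))
      intro y hy
      obtain ⟨z, ⟨x, hx, rfl⟩, rfl⟩ := hy
      refine ⟨x, hx, ?_⟩
      simp only [MulEquiv.coe_toMonoidHom, MulAut.conj_apply, Subgroup.coe_mul]
      group
    apply hmap
    exact ⟨n, hn, by simp⟩
  · rw [← Finset.sup_univ_eq_iSup]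
    have key : (Finset.univ.sup Xc ≤ R ∧ (∀ r ∈ R, ∀ y ∈ Finset.univ.sup Xc, r * y * r⁻¹ ∈ Finset.univ.sup Xc)) ∧
        Odd (Nat.card ↥(Finset.univ.sup Xc)) := by
      refine Finset.sup_induction
        (p := fun Y : Subgroup G => (Y ≤ R ∧ (∀ r ∈ R, ∀ y ∈ Y, r * y * r⁻¹ ∈ Y)) ∧
          Odd (Nat.card ↥Y)) ?_ ?_ ?_
      · refine ⟨⟨bot_le, ?_⟩, ?_⟩
        · intro r _ y hy
          rw [Subgroup.mem_bot] at hy ⊢
          rw [hy]; group
        · rw [Subgroup.card_bot]; exact odd_one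
      · rintro Y1 ⟨⟨h1, n1⟩, o1⟩ Y2 ⟨⟨h2, n2⟩, o2⟩
        refine ⟨⟨sup_le h1 h2, ?_⟩, nc_sup R Y1 Y2 h1 h2 n2 o1 o2⟩
        intro r hr y hy
        have hmap : (Y1 ⊔ Y2).map (MulAut.conj r).toMonoidHom ≤ Y1 ⊔ Y2 := by
          rw [Subgroup.map_sup]
          refine sup_le_sup ?_ ?_
          · rintro _ ⟨z, hz, rfl⟩
            simpa using n1 r hr z hz
          · rintro _ ⟨z, hz, rfl⟩
            simpa using n2 r hr z hz
        apply hmap
        exact ⟨y, hy, by simp⟩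
      · intro c _
        exact ⟨⟨hXcR c, hXcn c⟩, hXcodd c⟩
    exact key.2

end Cfsg.Agent.Lib.Helper37.MBal
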