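import Mathlib
import Cfsg.Agent.Lib.Helper37.MBalDefs
import Cfsg.Agent.Lib.Helper25.MBalNC

/-!
# S2733 hive, leaf MB-G2S (`odd_normal_sqrt`)

Odd-order subgroups of the centralizer of a self-adjoint `g` with `g² = lam` (a non-square),
normalized by the part of the centralizer inside a normal subgroup `O'` of the isometry group,
are trivial.  `V` is made a vector space over `K' = K[√lam] = QuadraticAlgebra K lam 0` through
`g`, and `horth` is applied over `K'`.
-/

set_option autoImplicit false
set_option linter.style.haveILetI false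
set_option linter.unusedSectionVars false
set_option linter.unusedVariables false

namespace Cfsg.Agent.Lib.Helper37.MBal

universe u v

section core

variable {K : Type u} [Field K] [Finite K] {V : Type v} [AddCommGroup V] [Module K V]
  [FiniteDimensional K V]
variable {K' : Type u} [Field K'] [Algebra K K'] [Module K' V] [IsScalarTower K K' V]

theorem g2s_rs_mul (f h : V ≃ₗ[K'] V) :
    (f * h).restrictScalars K = f.restrictScalars K * h.restrictScalars K := by
  ext v; rfl

theorem g2s_rs_one : (1 : V ≃ₗ[K'] V).restrictScalars K = 1 := by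
  ext v; rfl

theorem g2s_rs_inv (f : V ≃ₗ[K'] V) :
    (f⁻¹).restrictScalars K = (f.restrictScalars K)⁻¹ := by
  ext v; rfl

theorem g2s_rs_pow (f : V ≃ₗ[K'] V) (k : ℕ) :
    (f ^ k).restrictScalars K = (f.restrictScalars K) ^ k := by
  induction k with
  | zero => simp [g2s_rs_one]
  | succ k ih => rw [pow_succ, pow_succ, g2s_rs_mul, ih]

theorem g2s_rs_inj {f h : V ≃ₗ[K'] V} (e : f.restrictScalars K = h.restrictScalars K) :
    f = h := by
  ext v
  have := congrArg (fun e : V ≃ₗ[K] V => e v) e
  exact this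

/-- the abstract core: everything is stated over an abstract quadratic extension `K'` acting on
`V` through `g`. -/
theorem g2s_core (h2 : (2 : K) ≠ 0) (hV : Nontrivial V)
    (B : LinearMap.BilinForm K V) (B' : LinearMap.BilinForm K' V)
    (hO : OrthQ K' V B') (g : V →ₗ[K] V)
    (hsm : ∀ z : K', ∃ a b : K, ∀ v : V, z • v = a • v + b • g v)
    (hω : ∃ ω : K', ∀ v : V, ω • v = g v)
    (hBB' : ∀ f : V ≃ₗ[K'] V,
      (∀ u w, B' (f u) (f w) = B' u w) ↔ (∀ u w, B (f u) (f w) = B u w))
    (O' : Subgroup (V ≃ₗ[K] V))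
    (hO'n : ∀ h : V ≃ₗ[K] V, (∀ u w, B (h u) (h w) = B u w) → ∀ f ∈ O', h * f * h⁻¹ ∈ O')
    (X : Subgroup (V ≃ₗ[K] V)) (hXO : X ≤ O')
    (hXi : ∀ f ∈ X, ∀ u w, B (f u) (f w) = B u w) (hXg : ∀ f ∈ X, ∀ v, f (g v) = g (f v))
    (hXn : ∀ y ∈ O', (∀ u w, B (y u) (y w) = B u w) → (∀ v, y (g v) = g (y v)) →
      ∀ f ∈ X, y * f * y⁻¹ ∈ X)
    (hodd : ∀ f ∈ X, ∃ k : ℕ, Odd k ∧ f ^ k = 1) : X = ⊥ := by
  classical
  haveI : Finite V := Module.finite_of_finite K
  haveI : Finite (V ≃ₗ[K] V) :=
    Finite.of_injective (fun f => (f : V → V)) DFunLike.coe_injective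
  obtain ⟨ω, hω⟩ := hω
  -- the centralizer of `g` in the isometry group
  let C : Subgroup (V ≃ₗ[K] V) :=
    { carrier := {y | (∀ u w, B (y u) (y w) = B u w) ∧ ∀ v, y (g v) = g (y v)}
      mul_mem' := by
        rintro a b ⟨ha1, ha2⟩ ⟨hb1, hb2⟩
        refine ⟨fun u w => ?_, fun v => ?_⟩
        · rw [LinearEquiv.mul_apply, LinearEquiv.mul_apply, ha1, hb1]
        · rw [LinearEquiv.mul_apply, LinearEquiv.mul_apply, hb2, ha2]
      one_mem' := ⟨fun u w => rfl, fun v => rfl⟩
      inv_mem' := by
        rintro a ⟨ha1, ha2⟩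
        refine ⟨fun u w => ?_, fun v => ?_⟩
        · have := ha1 (a⁻¹ u) (a⁻¹ w)
          rw [← LinearEquiv.mul_apply, ← LinearEquiv.mul_apply, mul_inv_cancel] at this
          exact this.symm
        · apply a.injective
          rw [ha2, ← LinearEquiv.mul_apply, ← LinearEquiv.mul_apply, mul_inv_cancel]
          rfl }
  have hCmem : ∀ y : V ≃ₗ[K] V, y ∈ C ↔
      ((∀ u w, B (y u) (y w) = B u w) ∧ ∀ v, y (g v) = g (y v)) := fun y => Iff.rfl
  have hoddX : Odd (Nat.card ↥X) := by
    rw [← Nat.not_even_iff_odd, even_iff_two_dvd]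
    intro h2dvd
    obtain ⟨x, hx⟩ := exists_prime_orderOf_dvd_card' (G := ↥X) 2 h2dvd
    obtain ⟨k, hk, hxk⟩ := hodd x x.2
    have hxk' : x ^ k = 1 := by
      apply Subtype.ext
      rw [Subgroup.coe_pow, hxk]; rfl
    have hd : 2 ∣ k := by
      rw [← hx]; exact orderOf_dvd_of_pow_eq_one hxk'
    exact (Nat.not_even_iff_odd.mpr hk) (even_iff_two_dvd.mpr hd)
  obtain ⟨N, hXN, hNR, hNC, hNodd⟩ := nc_odd C (C ⊓ O') X inf_le_left
    (by
      intro c hc r hr
      refine ⟨C.mul_mem (C.mul_mem hc hr.1) (C.inv_mem hc), ?_⟩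
      exact hO'n c ((hCmem c).1 hc).1 r hr.2)
    (by
      intro x hx
      exact ⟨(hCmem x).2 ⟨hXi x hx, hXg x hx⟩, hXO hx⟩)
    (by
      intro r hr x hx
      exact hXn r hr.2 ((hCmem r).1 hr.1).1 ((hCmem r).1 hr.1).2 x hx)
    hoddX
  -- every `K'`-linear map commutes with `g`
  have hcomm : ∀ (f : V ≃ₗ[K'] V) (v : V), f (g v) = g (f v) := by
    intro f v
    rw [← hω, ← hω, map_smul]
  -- the group `N` over `K'`
  let N' : Subgroup (V ≃ₗ[K'] V) :=
    { carrier := {h | h.restrictScalars K ∈ N}
      mul_mem' := by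
        intro a b ha hb
        show (a * b).restrictScalars K ∈ N
        rw [g2s_rs_mul]; exact N.mul_mem ha hb
      one_mem' := by
        show (1 : V ≃ₗ[K'] V).restrictScalars K ∈ N
        rw [g2s_rs_one]; exact N.one_mem
      inv_mem' := by
        intro a ha
        show (a⁻¹).restrictScalars K ∈ N
        rw [g2s_rs_inv]; exact N.inv_mem ha }
  have hN'mem : ∀ h : V ≃ₗ[K'] V, h ∈ N' ↔ h.restrictScalars K ∈ N := fun h => Iff.rfl
  have key := hO N'
    (by
      intro f hf
      rw [hBB' f]
      have := ((hCmem _).1 (hNR ((hN'mem f).1 hf)).1).1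
      exact this)
    (by
      intro h hh f hf
      rw [hN'mem, g2s_rs_mul, g2s_rs_mul, g2s_rs_inv]
      apply hNC _ _ _ ((hN'mem f).1 hf)
      rw [hCmem]
      exact ⟨(hBB' h).1 hh, fun v => hcomm h v⟩)
    (by
      intro f hf
      refine ⟨Nat.card ↥N, hNodd, Or.inl ?_⟩
      apply g2s_rs_inj (K := K)
      rw [g2s_rs_pow, g2s_rs_one]
      have := pow_card_eq_one' (G := ↥N) (x := ⟨f.restrictScalars K, (hN'mem f).1 hf⟩)
      have := congrArg (Subtype.val) this
      rw [Subgroup.coe_pow] at this
      exact this)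
  -- conclusion
  rw [eq_bot_iff]
  intro x hx
  rw [Subgroup.mem_bot]
  -- `x` as a `K'`-linear equivalence
  let x' : V ≃ₗ[K'] V :=
    { toFun := x
      invFun := x.symm
      map_add' := x.map_add
      map_smul' := by
        intro z v
        obtain ⟨a, b, h⟩ := hsm z
        rw [RingHom.id_apply, h, h, map_add, map_smul, map_smul, hXg x hx]
      left_inv := x.left_inv
      right_inv := x.right_inv }
  have hx'rs : x'.restrictScalars K = x := by
    ext v; rfl
  have hx'N : x' ∈ N' := by
    rw [hN'mem, hx'rs]; exact hXN hx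
  rcases key x' hx'N with h1 | hneg
  · rw [← hx'rs, h1, g2s_rs_one]
  · exfalso
    have hxv : ∀ v, x v = -v := by
      intro v
      have := congrArg (fun e : V ≃ₗ[K'] V => e v) hneg
      simpa [x'] using this
    have hxx : x * x = 1 := by
      ext v
      rw [LinearEquiv.mul_apply, hxv, hxv, neg_neg]; rfl
    obtain ⟨k, hk, hxk⟩ := hodd x hx
    obtain ⟨m, rfl⟩ := hk
    have hx1 : x = 1 := by
      rw [pow_succ, pow_mul, pow_two, hxx, one_pow, one_mul] at hxk
      exact hxk
    obtain ⟨v, hv⟩ := exists_ne (0 : V)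
    have h1 : x v = v := by rw [hx1]; rfl
    rw [hxv] at h1
    have h3 : (2 : K) • v = 0 := by
      rw [two_smul]
      nth_rewrite 1 [← h1]
      exact neg_add_cancel v
    rcases smul_eq_zero.mp h3 with h | h
    · exact h2 h
    · exact hv h

end core

section inst

variable {K : Type u} [Field K] {V : Type v} [AddCommGroup V] [Module K V]

/-- the `K[√lam]`-module structure on `V` given by `g` with `g² = lam`. -/
@[reducible] def g2sModule (g : V →ₗ[K] V) (lam : K) (hg : ∀ v, g (g v) = lam • v) :
    Module (QuadraticAlgebra K lam 0) V where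
  smul z v := z.re • v + z.im • g v
  one_smul v := by
    show (1 : K) • v + (0 : K) • g v = v
    rw [one_smul, zero_smul, add_zero]
  mul_smul z w v := by
    show (z * w).re • v + (z * w).im • g v =
      z.re • (w.re • v + w.im • g v) + z.im • g (w.re • v + w.im • g v)
    simp only [QuadraticAlgebra.re_mul, QuadraticAlgebra.im_mul, map_add, map_smul, hg]
    module
  smul_zero z := by
    show z.re • (0 : V) + z.im • g 0 = 0
    simp
  smul_add z v w := by
    show z.re • (v + w) + z.im • g (v + w) = (z.re • v + z.im • g v) + (z.re • w + z.im • g w)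
    simp only [map_add, smul_add]
    abel
  add_smul z w v := by
    show (z + w).re • v + (z + w).im • g v = (z.re • v + z.im • g v) + (w.re • v + w.im • g v)
    simp only [QuadraticAlgebra.re_add, QuadraticAlgebra.im_add, add_smul]
    abel
  zero_smul v := by
    show (0 : K) • v + (0 : K) • g v = 0
    rw [zero_smul, zero_smul, add_zero]

theorem g2s_smul_def (g : V →ₗ[K] V) (lam : K) (hg : ∀ v, g (g v) = lam • v)
    (z : QuadraticAlgebra K lam 0) (v : V) :
    letI := g2sModule g lam hg
    z • v = z.re • v + z.im • g v := rfl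

theorem g2s_tower (g : V →ₗ[K] V) (lam : K) (hg : ∀ v, g (g v) = lam • v) :
    letI := g2sModule g lam hg
    IsScalarTower K (QuadraticAlgebra K lam 0) V := by
  letI := g2sModule g lam hg
  refine ⟨fun k z v => ?_⟩
  rw [g2s_smul_def, g2s_smul_def]
  simp only [QuadraticAlgebra.re_smul, QuadraticAlgebra.im_smul, smul_eq_mul, smul_add, mul_smul]

end inst

section invol

variable {K : Type u} [Field K] [Finite K] {V : Type v} [AddCommGroup V] [Module K V]
  [FiniteDimensional K V]

/-- (MB-G2S) the same for the centralizer of a self-adjoint `g` with `g² = lam`, `lam` a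
non-square: `V` becomes a vector space over `K' = K[√lam]` (e.g. `QuadraticAlgebra K lam 0`,
acting through `g`), `B' x y = B x y + (B x (g y) / lam) √lam` is a nondegenerate symmetric
`K'`-bilinear form whose isometries are the isometries of `B` commuting with `g`;
`finrank K' V = finrank K V / 2 ≥ 3`; apply `nc_odd` and `horth` over `K'`. -/
theorem odd_normal_sqrt (h2 : (2 : K) ≠ 0) (B : LinearMap.BilinForm K V) (hs : B.IsSymm)
    (hnd : B.Nondegenerate)
    (horth : ∀ (K' : Type u) [Field K'] [Finite K'] [Module K' V] [FiniteDimensional K' V]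
      (B' : LinearMap.BilinForm K' V), (2 : K') ≠ 0 → B'.IsSymm → B'.Nondegenerate →
      3 ≤ Module.finrank K' V → OrthQ K' V B')
    (g : V →ₗ[K] V) (lam : K) (hlam : ¬ IsSquare lam) (hg : ∀ v, g (g v) = lam • v)
    (hadj : ∀ x y, B (g x) y = B x (g y)) (hdim : 6 ≤ Module.finrank K V)
    (O' : Subgroup (V ≃ₗ[K] V))
    (hO'n : ∀ h : V ≃ₗ[K] V, (∀ u w, B (h u) (h w) = B u w) → ∀ f ∈ O', h * f * h⁻¹ ∈ O')
    (X : Subgroup (V ≃ₗ[K] V)) (hXO : X ≤ O')
    (hXi : ∀ f ∈ X, ∀ u w, B (f u) (f w) = B u w) (hXg : ∀ f ∈ X, ∀ v, f (g v) = g (f v))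
    (hXn : ∀ y ∈ O', (∀ u w, B (y u) (y w) = B u w) → (∀ v, y (g v) = g (y v)) →
      ∀ f ∈ X, y * f * y⁻¹ ∈ X)
    (hodd : ∀ f ∈ X, ∃ k : ℕ, Odd k ∧ f ^ k = 1) : X = ⊥ := by
  have hlam0 : lam ≠ 0 := by
    intro h
    exact hlam (h ▸ ⟨0, by simp⟩)
  haveI : Fact (∀ r : K, r ^ 2 ≠ lam + 0 * r) :=
    ⟨fun r h => hlam ⟨r, by rw [zero_mul, add_zero] at h; rw [← h, pow_two]⟩⟩
  letI := g2sModule g lam hg
  haveI := g2s_tower g lam hg
  haveI : Finite (QuadraticAlgebra K lam 0) :=
    Finite.of_equiv _ (QuadraticAlgebra.equivProd lam 0).symm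
  haveI : FiniteDimensional (QuadraticAlgebra K lam 0) V :=
    Module.Finite.of_restrictScalars_finite K (QuadraticAlgebra K lam 0) V
  have hV : Nontrivial V :=
    Module.nontrivial_of_finrank_pos (R := K) (lt_of_lt_of_le (by norm_num) hdim)
  have hsmul : ∀ (z : QuadraticAlgebra K lam 0) (v : V), z • v = z.re • v + z.im • g v :=
    fun z v => rfl
  -- the form over `K'`
  let B' : LinearMap.BilinForm (QuadraticAlgebra K lam 0) V :=
    LinearMap.mk₂ (QuadraticAlgebra K lam 0) (fun x y => ⟨B x y, B x (g y) / lam⟩)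
      (by
        intro x₁ x₂ y
        ext
        · simp
        · simp [add_div])
      (by
        intro c x y
        rw [hsmul]
        ext
        · simp only [map_add, map_smul, LinearMap.add_apply, LinearMap.smul_apply, smul_eq_mul,
            QuadraticAlgebra.re_mul, hadj]
          field_simp
        · simp only [map_add, map_smul, LinearMap.add_apply, LinearMap.smul_apply, smul_eq_mul,
            QuadraticAlgebra.im_mul, hadj, hg]
          field_simp
          ring)
      (by
        intro x y₁ y₂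
        ext
        · simp
        · simp [add_div])
      (by
        intro c x y
        rw [hsmul]
        ext
        · simp only [map_add, map_smul, smul_eq_mul, QuadraticAlgebra.re_mul]
          field_simp
        · simp only [map_add, map_smul, smul_eq_mul, QuadraticAlgebra.im_mul, hg]
          field_simp
          ring)
  have hB'app : ∀ x y, B' x y = ⟨B x y, B x (g y) / lam⟩ := fun x y => rfl
  have h2' : (2 : QuadraticAlgebra K lam 0) ≠ 0 := by
    intro h
    have := congrArg QuadraticAlgebra.re h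
    rw [QuadraticAlgebra.re_ofNat, QuadraticAlgebra.re_zero] at this
    exact h2 this
  have hs' : B'.IsSymm := by
    refine ⟨fun x y => ?_⟩
    rw [hB'app, hB'app]
    ext
    · exact hs.eq x y
    · show B x (g y) / lam = B y (g x) / lam
      rw [← hadj x y, hs.eq (g x) y]
  have hnd' : B'.Nondegenerate := by
    have hl : ∀ x : V, (∀ y : V, B' x y = 0) → x = 0 := by
      intro x hx
      apply hnd.1 x
      intro y
      have := congrArg QuadraticAlgebra.re (hx y)
      rw [hB'app] at this
      exact this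
    refine ⟨hl, ?_⟩
    intro y hy
    apply hl y
    intro x
    rw [hs'.eq y x]
    exact hy x
  have hdim' : 3 ≤ Module.finrank (QuadraticAlgebra K lam 0) V := by
    have h1 := Module.finrank_mul_finrank K (QuadraticAlgebra K lam 0) V
    rw [QuadraticAlgebra.finrank_eq_two] at h1
    omega
  have hBB' : ∀ f : V ≃ₗ[QuadraticAlgebra K lam 0] V,
      (∀ u w, B' (f u) (f w) = B' u w) ↔ (∀ u w, B (f u) (f w) = B u w) := by
    intro f
    have hfg : ∀ v, f (g v) = g (f v) := by
      intro v
      have h1 : (⟨0, 1⟩ : QuadraticAlgebra K lam 0) • v = g v := by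
        rw [hsmul]; simp
      have h2 : (⟨0, 1⟩ : QuadraticAlgebra K lam 0) • f v = g (f v) := by
        rw [hsmul]; simp
      rw [← h1, map_smul, h2]
    constructor
    · intro h u w
      have := congrArg QuadraticAlgebra.re (h u w)
      rw [hB'app, hB'app] at this
      exact this
    · intro h u w
      rw [hB'app, hB'app]
      ext
      · exact h u w
      · show B (f u) (g (f w)) / lam = B u (g w) / lam
        rw [← hfg, h]
  exact g2s_core (K' := QuadraticAlgebra K lam 0) h2 hV B B'
    (horth (QuadraticAlgebra K lam 0) B' h2' hs' hnd' hdim') g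
    (fun z => ⟨z.re, z.im, fun v => rfl⟩)
    ⟨⟨0, 1⟩, fun v => by rw [hsmul]; simp⟩
    hBB' O' hO'n X hXO hXi hXg hXn hodd

end invol

end Cfsg.Agent.Lib.Helper37.MBal
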