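import Mathlib
import Cfsg.Prelude.Def_CaseTheorems
import Cfsg.Prelude.Def_Transfer

/-!
# MC0 (Mc hive, S1305): from `¬ PRankLE 2 1 K` an elementary abelian 2-subgroup of order at least 4
-/

set_option autoImplicit false
set_option linter.unusedVariables false
set_option linter.unusedSimpArgs false
set_option linter.unusedSectionVars false

open Cfsg Subgroup

namespace Cfsg.Agent.Lib.Helper22.Mc

universe u

/-- MC0. From `¬ PRankLE 2 1 K`: an elementary abelian 2-subgroup of `K` of order at least 4;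
in particular `K` has even order and is not commutative-of-exponent-2-and-small. -/
theorem mc0 {G : Type u} [Group G] [Finite G] (K : Subgroup G) (hrk : ¬ PRankLE 2 1 ↥K) :
    Even (Nat.card K) ∧ ∃ A : Subgroup G, A ≤ K ∧ IsElementaryAbelian 2 A ∧ 4 ≤ Nat.card A := by
  classical
  unfold PRankLE at hrk
  simp only [not_forall] at hrk
  obtain ⟨A', hcomm, hexp, hcard⟩ := hrk
  have hcard' : 2 < Nat.card ↥A' := by
    have : ¬ Nat.card ↥A' ≤ 2 := by simpa using hcard
    omega
  have : Fact (Nat.Prime 2) := ⟨Nat.prime_two⟩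
  have hp : IsPGroup 2 ↥A' := by
    intro g
    refine ⟨1, ?_⟩
    apply Subtype.ext
    have := hexp g g.2
    simpa using this
  obtain ⟨n, hn⟩ := hp.exists_card_eq
  have hn2 : 2 ≤ n := by
    by_contra hlt
    have h01 : n = 0 ∨ n = 1 := by omega
    rcases h01 with rfl | rfl
    · rw [hn] at hcard'; norm_num at hcard'
    · rw [hn] at hcard'; norm_num at hcard'
  have h4 : 4 ≤ Nat.card ↥A' := by
    rw [hn]
    calc 4 = 2 ^ 2 := by norm_num
      _ ≤ 2 ^ n := Nat.pow_le_pow_right (by norm_num) hn2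
  have hev : Even (Nat.card ↥K) := by
    have h1 : Nat.card ↥A' ∣ Nat.card ↥K := Subgroup.card_subgroup_dvd_card A'
    have h2 : 2 ∣ Nat.card ↥A' := by
      rw [hn]
      exact dvd_pow_self 2 (by omega)
    exact even_iff_two_dvd.2 (h2.trans h1)
  refine ⟨hev, A'.map K.subtype, ?_, ⟨?_, ?_⟩, ?_⟩
  · rintro _ ⟨x, _, rfl⟩
    exact x.2
  · have : IsMulCommutative ↥A' := hcomm
    exact Subgroup.map_isMulCommutative A' K.subtype
  · rintro _ ⟨x, hx, rfl⟩
    have := hexp x hx
    have h3 := congrArg (fun y : ↥K => (y : G)) this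
    simpa using h3
  · rw [Nat.card_congr (A'.equivMapOfInjective K.subtype K.subtype_injective).symm.toEquiv]
    exact h4

end Cfsg.Agent.Lib.Helper22.Mc
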