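import Mathlib
import Cfsg.Prelude.Def_Local

/-!
# MC4a (Mc hive, S1305): a nonabelian subgroup of the layer fails to centralize some component
-/

set_option autoImplicit false
set_option linter.unusedVariables false
set_option linter.unusedSimpArgs false
set_option linter.unusedSectionVars false

open Cfsg Subgroup

namespace Cfsg.Agent.Lib.Helper22.Mc

universe u

/-- MC4a. A nonabelian subgroup of the layer fails to centralize some component. -/
theorem mc4a {X : Type u} [Group X] [Finite X] (K : Subgroup X) (hKL : K ≤ layer X)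
    (hKna : ∃ k₁ ∈ K, ∃ k₂ ∈ K, k₁ * k₂ ≠ k₂ * k₁) :
    ∃ J : Subgroup X, IsComponent J ∧ ¬ (∀ k ∈ K, ∀ x ∈ J, k * x = x * k) := by
  by_contra hcon
  have hall : ∀ J : Subgroup X, IsComponent J → ∀ k ∈ K, ∀ x ∈ J, k * x = x * k := by
    intro J hJ
    by_contra h
    exact hcon ⟨J, hJ, h⟩
  obtain ⟨k₁, hk₁, k₂, hk₂, hne⟩ := hKna
  have hle : layer X ≤ centralizer ({k₁} : Set X) := by
    unfold layer
    apply sSup_le
    intro J hJ x hx
    rw [Subgroup.mem_centralizer_iff]
    intro y hy
    rw [Set.mem_singleton_iff] at hy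
    rw [hy]
    exact hall J hJ k₁ hk₁ x hx
  have h2 := hle (hKL hk₂)
  rw [Subgroup.mem_centralizer_iff] at h2
  exact hne (h2 k₁ rfl)

end Cfsg.Agent.Lib.Helper22.Mc
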