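import Mathlib

/-!
# N57-STAB (N57 hive, S1957): the stability-group lemma
-/

set_option autoImplicit false
set_option linter.unusedVariables false
set_option linter.unusedSimpArgs false
set_option linter.unusedSectionVars false

namespace Cfsg.Agent.Lib.Helper84.N57

variable {G : Type*} [Group G] [Finite G]

omit [Finite G] in
theorem n57stab_normalizer_of_conj (N A : Subgroup G)
    (h : ∀ n ∈ N, ∀ a ∈ A, n * a * n⁻¹ ∈ A) : N ≤ Subgroup.normalizer (A : Set G) := by
  intro n hn
  rw [Subgroup.mem_normalizer_iff]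
  intro a
  constructor
  · exact h n hn a
  · intro ha
    have h1 := h n⁻¹ (N.inv_mem hn) _ ha
    have h2 : n⁻¹ * (n * a * n⁻¹) * n⁻¹⁻¹ = a := by group
    rwa [h2] at h1

/-- the subgroup of elements of `N` acting on `Q` by multiplication with `1` or `v` -/
def n57stab_A (N Q : Subgroup G) (hNQ : N ≤ Subgroup.normalizer (Q : Set G))
    (v : G) (hv2 : v * v = 1) (hvZ : ∀ h ∈ N, h * v = v * h) : Subgroup G where
  carrier := {h | h ∈ N ∧ ∀ q ∈ Q, h * q * h⁻¹ = q ∨ h * q * h⁻¹ = v * q}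
  one_mem' := ⟨N.one_mem, fun q _ => Or.inl (by group)⟩
  mul_mem' := by
    rintro a b ⟨haN, ha⟩ ⟨hbN, hb⟩
    refine ⟨N.mul_mem haN hbN, ?_⟩
    intro q hq
    have e : a * b * q * (a * b)⁻¹ = a * (b * q * b⁻¹) * a⁻¹ := by group
    rw [e]
    rcases hb q hq with h1 | h1
    · rw [h1]; exact ha q hq
    · rw [h1]
      have e2 : a * (v * q) * a⁻¹ = (a * v) * q * a⁻¹ := by group
      rw [e2, hvZ a haN]
      have e3 : v * a * q * a⁻¹ = v * (a * q * a⁻¹) := by group
      rw [e3]
      rcases ha q hq with h2 | h2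
      · rw [h2]; exact Or.inr rfl
      · rw [h2]
        left
        rw [← mul_assoc, hv2, one_mul]
  inv_mem' := by
    rintro a ⟨haN, ha⟩
    refine ⟨N.inv_mem haN, ?_⟩
    intro q hq
    -- q' := a⁻¹ q a ∈ Q
    have hq' : a⁻¹ * q * a ∈ Q := by
      have h1 := hNQ (N.inv_mem haN)
      rw [Subgroup.mem_normalizer_iff] at h1
      have h2 := (h1 q).1 hq
      rwa [inv_inv] at h2
    have e : a * (a⁻¹ * q * a) * a⁻¹ = q := by group
    rw [inv_inv]
    rcases ha _ hq' with h1 | h1
    · rw [e] at h1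
      left; exact h1.symm
    · rw [e] at h1
      -- q = v * q'  =>  q' = v * q
      right
      have h3 : v * q = a⁻¹ * q * a := by
        calc v * q = v * (v * (a⁻¹ * q * a)) := congrArg (fun x => v * x) h1
          _ = (v * v) * (a⁻¹ * q * a) := by group
          _ = a⁻¹ * q * a := by rw [hv2, one_mul]
      exact h3.symm

omit [Finite G] in
theorem n57stab_mem_A (N Q : Subgroup G) (hNQ : N ≤ Subgroup.normalizer (Q : Set G))
    (v : G) (hv2 : v * v = 1) (hvZ : ∀ h ∈ N, h * v = v * h) (h : G) :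
    h ∈ n57stab_A N Q hNQ v hv2 hvZ ↔
      h ∈ N ∧ ∀ q ∈ Q, h * q * h⁻¹ = q ∨ h * q * h⁻¹ = v * q := Iff.rfl

/-- N57-STAB: stability-group lemma. -/
theorem stab (N Q V : Subgroup G) (hQN : Q ≤ N) (hQ2 : IsPGroup 2 ↥Q)
    (hNQ : N ≤ Subgroup.normalizer (Q : Set G))
    (hchar : ∀ h ∈ N, (∀ q ∈ Q, h * q = q * h) → h ∈ Q)
    (hmax : ∀ A : Subgroup G, A ≤ N → IsPGroup 2 ↥A → N ≤ Subgroup.normalizer (A : Set G) → A ≤ Q)
    (v : G) (hv1 : v ≠ 1) (hv2 : v * v = 1) (hvN : v ∈ N) (hvZ : ∀ h ∈ N, h * v = v * h)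
    (hVN : V ≤ N) (hV4 : Nat.card ↥V = 4) (hvV : v ∈ V) (hQV : Q ≤ Subgroup.normalizer (V : Set G)) :
    V ≤ Q := by
  classical
  -- Step 1: v ∈ Q
  have hvQ : v ∈ Q := by
    have hz : Subgroup.zpowers v ≤ Q := by
      apply hmax
      · rw [Subgroup.zpowers_le]; exact hvN
      · apply IsPGroup.of_card (n := 1)
        rw [Nat.card_zpowers, orderOf_eq_prime (by rw [pow_two]; exact hv2) hv1]
        norm_num
      · apply n57stab_normalizer_of_conj
        intro n hn a ha
        obtain ⟨k, rfl⟩ := ha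
        have hc : Commute n v := hvZ n hn
        have hc2 : Commute n (v ^ k) := hc.zpow_right k
        have e : n * v ^ k * n⁻¹ = v ^ k := by
          rw [hc2.eq, mul_assoc, mul_inv_cancel, mul_one]
        rw [e]
        exact ⟨k, rfl⟩
    exact hz (Subgroup.mem_zpowers v)
  -- commutators of V with Q lie in V ⊓ Q
  have hcomm : ∀ w ∈ V, ∀ q ∈ Q, w * q * w⁻¹ * q⁻¹ ∈ V ⊓ Q := by
    intro w hw q hq
    refine Subgroup.mem_inf.2 ⟨?_, ?_⟩
    · have h1 := hQV hq
      rw [Subgroup.mem_normalizer_iff] at h1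
      have h2 := (h1 w⁻¹).1 (V.inv_mem hw)
      have e : w * q * w⁻¹ * q⁻¹ = w * (q * w⁻¹ * q⁻¹) := by group
      rw [e]
      exact V.mul_mem hw h2
    · have h1 := hNQ (hVN hw)
      rw [Subgroup.mem_normalizer_iff] at h1
      have h2 := (h1 q).1 hq
      exact Q.mul_mem h2 (Q.inv_mem hq)
  -- the order of V ⊓ Q
  have hdvd : Nat.card ↥(V ⊓ Q) ∣ 4 := by
    rw [← hV4]; exact Subgroup.card_dvd_of_le inf_le_left
  have hvB : v ∈ V ⊓ Q := Subgroup.mem_inf.2 ⟨hvV, hvQ⟩
  have hcases : Nat.card ↥(V ⊓ Q) = 1 ∨ Nat.card ↥(V ⊓ Q) = 2 ∨ Nat.card ↥(V ⊓ Q) = 4 := by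
    have hle : Nat.card ↥(V ⊓ Q) ≤ 4 := Nat.le_of_dvd (by norm_num) hdvd
    have hpos : 0 < Nat.card ↥(V ⊓ Q) := Nat.card_pos
    interval_cases h : Nat.card ↥(V ⊓ Q) <;> simp_all
  rcases hcases with h1 | h2 | h4
  · -- impossible: v ≠ 1 in a trivial group
    exfalso
    have hbot : V ⊓ Q = ⊥ := Subgroup.card_eq_one.1 h1
    rw [hbot, Subgroup.mem_bot] at hvB
    exact hv1 hvB
  · -- V ⊓ Q = {1, v}
    have helts : ∀ x ∈ V ⊓ Q, x = 1 ∨ x = v := by
      intro x hx
      obtain ⟨y0, hy0, hy0u⟩ := (Nat.card_eq_two_iff' (1 : ↥(V ⊓ Q))).1 h2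
      by_cases hx1 : x = 1
      · exact Or.inl hx1
      · right
        have hxv : (⟨x, hx⟩ : ↥(V ⊓ Q)) = y0 := hy0u _ (by
          intro h; apply hx1; exact congrArg Subtype.val h)
        have hvv : (⟨v, hvB⟩ : ↥(V ⊓ Q)) = y0 := hy0u _ (by
          intro h; apply hv1; exact congrArg Subtype.val h)
        have := hxv.trans hvv.symm
        exact congrArg Subtype.val this
    -- V ≤ A
    have hVA : V ≤ n57stab_A N Q hNQ v hv2 hvZ := by
      intro w hw
      rw [n57stab_mem_A]
      refine ⟨hVN hw, ?_⟩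
      intro q hq
      rcases helts _ (hcomm w hw q hq) with h | h
      · left
        have e : w * q * w⁻¹ = (w * q * w⁻¹ * q⁻¹) * q := by group
        rw [e, h, one_mul]
      · right
        have e : w * q * w⁻¹ = (w * q * w⁻¹ * q⁻¹) * q := by group
        rw [e, h]
    -- A ≤ Q
    have hAQ : n57stab_A N Q hNQ v hv2 hvZ ≤ Q := by
      apply hmax
      · intro a ha; exact ha.1
      · -- 2-group
        intro a
        obtain ⟨a, haN, ha⟩ := a
        -- a*a centralizes Q
        have hsq : a * a ∈ Q := by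
          apply hchar _ (N.mul_mem haN haN)
          intro q hq
          have e : a * a * q = (a * (a * q * a⁻¹) * a⁻¹) * (a * a) := by group
          have hconj2 : a * (a * q * a⁻¹) * a⁻¹ = q := by
            rcases ha q hq with h | h
            · rw [h]; exact h
            · rw [h]
              calc a * (v * q) * a⁻¹ = (a * v) * q * a⁻¹ := by group
                _ = v * a * q * a⁻¹ := by rw [hvZ a haN]
                _ = v * (a * q * a⁻¹) := by group
                _ = v * (v * q) := by rw [h]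
                _ = q := by rw [← mul_assoc, hv2, one_mul]
          rw [e, hconj2]
        obtain ⟨k, hk⟩ := hQ2 ⟨a * a, hsq⟩
        refine ⟨k + 1, ?_⟩
        apply Subtype.ext
        have hk' : (a * a) ^ 2 ^ k = 1 := by
          have := congrArg Subtype.val hk
          simpa using this
        show a ^ 2 ^ (k + 1) = 1
        rw [pow_succ, mul_comm, pow_mul, pow_two]
        exact hk'
      · apply n57stab_normalizer_of_conj
        intro n hn a ha
        rw [n57stab_mem_A] at ha ⊢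
        obtain ⟨haN, ha⟩ := ha
        refine ⟨N.mul_mem (N.mul_mem hn haN) (N.inv_mem hn), ?_⟩
        intro q hq
        have hq'' : n⁻¹ * q * n ∈ Q := by
          have h1 := hNQ (N.inv_mem hn)
          rw [Subgroup.mem_normalizer_iff] at h1
          have h2 := (h1 q).1 hq
          rwa [inv_inv] at h2
        have e : n * a * n⁻¹ * q * (n * a * n⁻¹)⁻¹ = n * (a * (n⁻¹ * q * n) * a⁻¹) * n⁻¹ := by group
        rw [e]
        rcases ha _ hq'' with h | h
        · left; rw [h]; group
        · right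
          rw [h]
          have e2 : n * (v * (n⁻¹ * q * n)) * n⁻¹ = (n * v) * n⁻¹ * q := by group
          rw [e2, hvZ n hn]
          group
    exact hVA.trans hAQ
  · -- V ⊓ Q = V
    have heq : V ⊓ Q = V := by
      apply Subgroup.eq_of_le_of_card_ge inf_le_left
      rw [h4, hV4]
    rw [← heq]
    exact inf_le_right

end Cfsg.Agent.Lib.Helper84.N57
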