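import Mathlib
import Cfsg.Prelude.Def_ClassicalGeometry
import Cfsg.Agent.Lib.Helper4.NdDefs

/-! # Nd hive (S5956, helper4): leaf ND-C `good_of_sq` (helper25) -/

set_option autoImplicit false
open Matrix
open Cfsg.Agent.Lib.Helper99 (Nd dker sympB)

namespace Cfsg.Agent.Lib.Helper4.NdH

universe u v

variable {F : Type u} [Field F] {V : Type v} [AddCommGroup V] [Module F V]

theorem ndc_anti (B : V →ₗ[F] V →ₗ[F] F) (hB : Alt B) (x y : V) : B x y = - B y x := by
  have h := hB (x + y)
  simp only [map_add, LinearMap.add_apply] at h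
  linear_combination h - hB x - hB y

/-- a hyperbolic pair spans a nondegenerate plane -/
theorem ndc_plane (B : V →ₗ[F] V →ₗ[F] F) (hB : Alt B) (v w : V) (hvw : B v w ≠ 0) :
    Module.finrank F (Submodule.span F ({v, w} : Set V)) = 2 ∧
      Nd B (Submodule.span F ({v, w} : Set V)) := by
  have hwv : B w v = - B v w := ndc_anti B hB w v
  constructor
  · have hli : LinearIndependent F ![v, w] := by
      rw [LinearIndependent.pair_iff]
      intro s t hst
      have h1 := congrArg (fun x => B v x) hst
      have h2 := congrArg (fun x => B w x) hst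
      simp only [map_add, map_smul, smul_eq_mul, map_zero, hB v, hB w, hwv] at h1 h2
      constructor
      · have : s * B v w = 0 := by linear_combination -h2
        exact (mul_eq_zero.mp this).resolve_right hvw
      · have : t * B v w = 0 := by linear_combination h1
        exact (mul_eq_zero.mp this).resolve_right hvw
    have hr : Set.range ![v, w] = ({v, w} : Set V) := by
      ext x
      simp [eq_comm, or_comm]
    have := finrank_span_eq_card hli
    rw [hr] at this
    simpa using this
  · intro x hx hx0
    obtain ⟨a, b, rfl⟩ := Submodule.mem_span_pair.mp hx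
    have h1 := hx0 w (Submodule.subset_span (by simp))
    have h2 := hx0 v (Submodule.subset_span (by simp))
    simp only [map_add, map_smul, LinearMap.add_apply, LinearMap.smul_apply, smul_eq_mul, hB v, hB w,
      hwv] at h1 h2
    have ha : a = 0 := by
      have : a * B v w = 0 := by linear_combination h1
      exact (mul_eq_zero.mp this).resolve_right hvw
    have hb : b = 0 := by
      have : b * B v w = 0 := by linear_combination -h2
      exact (mul_eq_zero.mp this).resolve_right hvw
    rw [ha, hb, zero_smul, zero_smul, add_zero]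

/-- projection onto a hyperbolic plane -/
theorem ndc_decomp (B : V →ₗ[F] V →ₗ[F] F) (hB : Alt B) (v w : V) (hvw : B v w ≠ 0) (x : V) :
    ∃ p ∈ Submodule.span F ({v, w} : Set V), x - p ∈ orth B (Submodule.span F ({v, w} : Set V)) := by
  have hwv : B w v = - B v w := ndc_anti B hB w v
  refine ⟨(-(B w x) / B v w) • v + (B v x / B v w) • w,
    Submodule.mem_span_pair.mpr ⟨_, _, rfl⟩, ?_⟩
  rw [mem_orth]
  intro q hq
  obtain ⟨a, b, rfl⟩ := Submodule.mem_span_pair.mp hq
  simp only [map_add, map_smul, map_sub, LinearMap.add_apply, LinearMap.smul_apply, smul_eq_mul, hB v,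
    hB w, hwv]
  field_simp
  ring

/-- an invariant hyperbolic pair inside a nonzero invariant nondegenerate subspace -/
theorem ndc_exists_pair (h2 : (2 : F) ≠ 0) (B : V →ₗ[F] V →ₗ[F] F) (hB : Alt B)
    (g : V →ₗ[F] V) (hg : Isom B g) (z : F) (hz : ∀ v, g (g v) = z • v)
    (X : Submodule F V) (hXi : Inv g X) (hXn : Nd B X) (hX0 : X ≠ ⊥) :
    ∃ v ∈ X, ∃ w ∈ X, B v w ≠ 0 ∧ g v ∈ Submodule.span F ({v, w} : Set V) ∧
      g w ∈ Submodule.span F ({v, w} : Set V) := by
  obtain ⟨u, huX, hu0⟩ := Submodule.exists_mem_ne_zero_of_ne_bot hX0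
  have hy : ∃ y ∈ X, B u y ≠ 0 := by
    by_contra hcon
    push Not at hcon
    exact hu0 (hXn u huX hcon)
  obtain ⟨y, hyX, huy⟩ := hy
  have hzz : z * z = 1 := by
    have h1 : B (g (g u)) (g (g y)) = B u y := by rw [hg, hg]
    rw [hz, hz, map_smul, map_smul, LinearMap.smul_apply, smul_eq_mul, smul_eq_mul] at h1
    have h3 : (z * z - 1) * B u y = 0 := by linear_combination h1
    rcases mul_eq_zero.mp h3 with h4 | h4
    · linear_combination h4
    · exact absurd h4 huy
  have hz1 : z = 1 ∨ z = -1 := by
    have h3 : (z - 1) * (z + 1) = 0 := by linear_combination hzz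
    rcases mul_eq_zero.mp h3 with h4 | h4
    · left; linear_combination h4
    · right; linear_combination h4
  rcases hz1 with rfl | rfl
  · -- `g² = 1`: eigenvectors
    have hgg : ∀ v, g (g v) = v := fun v => by rw [hz, one_smul]
    have hp : ∀ x, g (x + g x) = x + g x := fun x => by rw [map_add, hgg, add_comm]
    have hm : ∀ x, g (x - g x) = -(x - g x) := fun x => by rw [map_sub, hgg, neg_sub]
    have hcross : ∀ a b, g a = a → g b = -b → B a b = 0 := by
      intro a b ha hb
      have h1 : B (g a) (g b) = B a b := hg a b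
      rw [ha, hb, map_neg] at h1
      have h3 : (2 : F) * B a b = 0 := by linear_combination -h1
      exact (mul_eq_zero.mp h3).resolve_left h2
    have hsum : B (u + g u) (y + g y) + B (u - g u) (y - g y) = 4 * B u y := by
      have c1 := hcross (u + g u) (y - g y) (hp u) (hm y)
      have c2 := hcross (y + g y) (u - g u) (hp y) (hm u)
      have c3 := ndc_anti B hB (u - g u) (y + g y)
      simp only [map_add, map_sub, LinearMap.add_apply, LinearMap.sub_apply] at c1 c2 c3 ⊢
      linear_combination (-1 : F) * c1 - c3 + c2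
    have h4 : (4 : F) * B u y ≠ 0 := by
      have : (4 : F) = 2 * 2 := by norm_num
      rw [this]
      exact mul_ne_zero (mul_ne_zero h2 h2) huy
    by_cases hpp : B (u + g u) (y + g y) = 0
    · have hmm : B (u - g u) (y - g y) ≠ 0 := by
        intro h
        apply h4
        rw [← hsum, hpp, h, add_zero]
      refine ⟨u - g u, X.sub_mem huX (hXi u huX), y - g y, X.sub_mem hyX (hXi y hyX), hmm, ?_, ?_⟩
      · rw [hm]
        exact Submodule.neg_mem _ (Submodule.subset_span (by simp))
      · rw [hm]
        exact Submodule.neg_mem _ (Submodule.subset_span (by simp))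
    · refine ⟨u + g u, X.add_mem huX (hXi u huX), y + g y, X.add_mem hyX (hXi y hyX), hpp, ?_, ?_⟩
      · rw [hp]
        exact Submodule.subset_span (by simp)
      · rw [hp]
        exact Submodule.subset_span (by simp)
  · -- `g² = -1`: the symmetric form `B x (g y)`
    have hgg : ∀ v, g (g v) = -v := fun v => by rw [hz, neg_smul, one_smul]
    have hsymm : ∀ a b, B a (g b) = B b (g a) := by
      intro a b
      have h1 : B (g b) (g (g a)) = B b (g a) := hg _ _
      rw [hgg, map_neg] at h1
      rw [ndc_anti B hB a (g b)]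
      exact h1
    have hex : ∃ v ∈ X, B v (g v) ≠ 0 := by
      by_contra hcon
      push Not at hcon
      apply huy
      set y' := -(g y) with hy'
      have hy'X : y' ∈ X := X.neg_mem (hXi y hyX)
      have hgy' : g y' = y := by rw [hy', map_neg, hgg, neg_neg]
      have h1 := hcon (u + y') (X.add_mem huX hy'X)
      have h3 := hcon u huX
      have h4 := hcon y' hy'X
      have h5 := hsymm y' u
      simp only [map_add, LinearMap.add_apply] at h1
      rw [h3, h4] at h1
      rw [h5, hgy'] at h1
      have h6 : (2 : F) * B u y = 0 := by linear_combination h1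
      exact (mul_eq_zero.mp h6).resolve_left h2
    obtain ⟨v, hvX, hv⟩ := hex
    refine ⟨v, hvX, g v, hXi v hvX, hv, Submodule.subset_span (by simp), ?_⟩
    rw [hgg]
    exact Submodule.neg_mem _ (Submodule.subset_span (by simp))

/-- the induction: invariant nondegenerate subspaces of every even dimension inside `X` -/
theorem ndc_main [FiniteDimensional F V] (h2 : (2 : F) ≠ 0) (B : V →ₗ[F] V →ₗ[F] F) (hB : Alt B)
    (g : V →ₗ[F] V) (hg : Isom B g) (z : F) (hz : ∀ v, g (g v) = z • v) :
    ∀ k : ℕ, ∀ X : Submodule F V, Inv g X → Nd B X → 2 * k ≤ Module.finrank F X →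
      ∃ W : Submodule F V, W ≤ X ∧ Module.finrank F W = 2 * k ∧ Nd B W ∧ Inv g W := by
  intro k
  induction k with
  | zero =>
    intro X _ _ _
    refine ⟨⊥, bot_le, by simp, ?_, ?_⟩
    · intro u hu _
      exact (Submodule.mem_bot F).mp hu
    · intro w hw
      rw [(Submodule.mem_bot F).mp hw, map_zero]
      exact Submodule.zero_mem _
  | succ k ih =>
    intro X hXi hXn hk
    have hX0 : X ≠ ⊥ := by
      intro h
      rw [h, finrank_bot] at hk
      omega
    obtain ⟨v, hvX, w, hwX, hvw, hgv, hgw⟩ := ndc_exists_pair h2 B hB g hg z hz X hXi hXn hX0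
    set P := Submodule.span F ({v, w} : Set V) with hP
    obtain ⟨hP2, hPn⟩ := ndc_plane B hB v w hvw
    rw [← hP] at hP2 hPn
    have hPX : P ≤ X := by
      rw [hP, Submodule.span_le]
      intro x hx
      rcases hx with rfl | rfl
      · exact hvX
      · exact hwX
    have hPi : Inv g P := by
      intro p hp
      obtain ⟨a, b, rfl⟩ := Submodule.mem_span_pair.mp hp
      rw [map_add, map_smul, map_smul]
      exact P.add_mem (P.smul_mem _ hgv) (P.smul_mem _ hgw)
    -- `z ≠ 0`
    have hz0 : z ≠ 0 := by
      intro h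
      have h1 : B (g (g v)) (g (g w)) = B v w := by rw [hg, hg]
      rw [hz, h, zero_smul, map_zero, LinearMap.zero_apply] at h1
      exact hvw h1.symm
    set X' := X ⊓ orth B P with hX'
    have hX'i : Inv g X' := by
      intro x hx
      refine ⟨hXi x hx.1, (mem_orth B P (g x)).mpr ?_⟩
      intro p hp
      have hp' : z⁻¹ • g p ∈ P := P.smul_mem _ (hPi p hp)
      have h1 : g (z⁻¹ • g p) = p := by
        rw [map_smul, hz, smul_smul, inv_mul_cancel₀ hz0, one_smul]
      rw [← h1, hg]
      exact (mem_orth B P x).mp hx.2 _ hp'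
    have hdec : ∀ x ∈ X, ∃ p ∈ P, ∃ x' ∈ X', x = p + x' := by
      intro x hx
      obtain ⟨p, hp, hxp⟩ := ndc_decomp B hB v w hvw x
      exact ⟨p, hp, x - p, ⟨X.sub_mem hx (hPX hp), hxp⟩, by abel⟩
    have hX'n : Nd B X' := by
      intro u hu hu0
      apply hXn u hu.1
      intro x hx
      obtain ⟨p, hp, x', hx', rfl⟩ := hdec x hx
      rw [map_add, hu0 x' hx', add_zero, ndc_anti B hB]
      rw [(mem_orth B P u).mp hu.2 p hp, neg_zero]
    have hle : X ≤ P ⊔ X' := by
      intro x hx
      obtain ⟨p, hp, x', hx', rfl⟩ := hdec x hx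
      exact Submodule.add_mem_sup hp hx'
    have hk' : 2 * k ≤ Module.finrank F X' := by
      have h1 := Submodule.finrank_mono hle
      have h3 := Submodule.finrank_add_le_finrank_add_finrank P X'
      omega
    obtain ⟨W', hW'X, hW'k, hW'n, hW'i⟩ := ih X' hX'i hX'n hk'
    have hinf : P ⊓ W' = ⊥ := by
      rw [eq_bot_iff]
      intro x hx
      rw [Submodule.mem_bot]
      apply hPn x hx.1
      intro p hp
      rw [ndc_anti B hB]
      rw [(mem_orth B P x).mp (hW'X hx.2).2 p hp, neg_zero]
    refine ⟨P ⊔ W', sup_le hPX (hW'X.trans inf_le_left), ?_, ?_, ?_⟩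
    · have h1 := Submodule.finrank_sup_add_finrank_inf_eq P W'
      rw [hinf, finrank_bot, add_zero, hP2, hW'k] at h1
      omega
    · intro u hu hu0
      obtain ⟨p, hp, w', hw', rfl⟩ := Submodule.mem_sup.mp hu
      have horth : ∀ q ∈ P, ∀ y ∈ W', B q y = 0 := fun q hq y hy =>
        (mem_orth B P y).mp (hW'X hy).2 q hq
      have hp0 : p = 0 := by
        apply hPn p hp
        intro q hq
        have h1 := hu0 q (Submodule.mem_sup_left hq)
        rw [map_add, LinearMap.add_apply, ndc_anti B hB w' q, horth q hq w' hw', neg_zero,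
          add_zero] at h1
        exact h1
      have hw0 : w' = 0 := by
        apply hW'n w' hw'
        intro y hy
        have h1 := hu0 y (Submodule.mem_sup_right hy)
        rw [map_add, LinearMap.add_apply, horth p hp y hy, zero_add] at h1
        exact h1
      rw [hp0, hw0, add_zero]
    · intro u hu
      obtain ⟨p, hp, w', hw', rfl⟩ := Submodule.mem_sup.mp hu
      rw [map_add]
      exact Submodule.add_mem_sup (hPi p hp) (hW'i w' hw')

/-- ND-C -/
theorem good_of_sq [FiniteDimensional F V] (h2 : (2 : F) ≠ 0) (B : V →ₗ[F] V →ₗ[F] F) (hB : Alt B)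
    (hV : Nd B ⊤) (g : V →ₗ[F] V) (hg : Isom B g) (z : F) (hz : ∀ v, g (g v) = z • v)
    (m : ℕ) (hme : Even m) (hm : m ≤ Module.finrank F V) : Good B g m := by
  obtain ⟨k, hk⟩ := hme
  have hk2 : m = 2 * k := by omega
  have hinv : Inv g (⊤ : Submodule F V) := fun w _ => Submodule.mem_top
  have hfr : 2 * k ≤ Module.finrank F (⊤ : Submodule F V) := by
    rw [finrank_top]
    omega
  obtain ⟨W, -, hW, hWn, hWi⟩ := ndc_main h2 B hB g hg z hz k ⊤ hinv hV hfr
  exact ⟨W, by rw [hW, hk2], hWn, hWi⟩

end Cfsg.Agent.Lib.Helper4.NdH
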