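import Cfsg.Agent.S0860
import Cfsg.Agent.Lib.Helper75.Clifford
import Cfsg.Agent.Lib.Helper25.CoprimeClasses
import Cfsg.Agent.S1499

set_option autoImplicit false
set_option linter.unusedSectionVars false
set_option linter.style.haveILetI false

/-!
The conjugation action of a group `L` on the irreducible characters and the conjugacy classes of a
normal subgroup `K`; Brauer's permutation lemma in this setting; counting the classes fixed by a
coprime element.
-/

namespace Cfsg.Agent.Lib.Helper25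

open Cfsg

section Act

variable {L : Type*} [Group L] (K : Subgroup L) [hK : K.Normal]

/-- Conjugation by `g` on the conjugacy classes of `K`. -/
def ccSmul (g : L) (C : ConjClasses K) : ConjClasses K :=
  ConjClasses.map (MulAut.conjNormal g : K ≃* K).toMonoidHom C

theorem ccSmul_mk (g : L) (k : K) :
    ccSmul K g (ConjClasses.mk k) = ConjClasses.mk (MulAut.conjNormal g k) := rfl

theorem conjNormal_coe (g : L) (k : K) : ((MulAut.conjNormal g k : K) : L) = g * k * g⁻¹ := by
  simp

/-- The action of `L` on `ConjClasses K`. -/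
@[reducible] def ccAction : MulAction L (ConjClasses K) where
  smul := ccSmul K
  one_smul := by
    intro C
    induction C using Quotient.inductionOn with
    | h k =>
      show ccSmul K 1 (ConjClasses.mk k) = ConjClasses.mk k
      rw [ccSmul_mk, map_one]
      rfl
  mul_smul := by
    intro g h C
    induction C using Quotient.inductionOn with
    | h k =>
      show ccSmul K (g * h) (ConjClasses.mk k) = ccSmul K g (ccSmul K h (ConjClasses.mk k))
      rw [ccSmul_mk, ccSmul_mk, ccSmul_mk, map_mul]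
      rfl

/-- Conjugation by `g` on the irreducible characters of `K`: `(g • θ) k = θ (g⁻¹ k g)`. -/
noncomputable def irrSmul (g : L) (θ : IrrCharacter K) : IrrCharacter K :=
  ⟨Cfsg.Agent.Lib.Helper75.conjFun K g⁻¹ θ.1,
    Cfsg.Agent.Lib.Helper75.conjFun_isIrrCharacter K g⁻¹ θ.2⟩

theorem irrSmul_val (g : L) (θ : IrrCharacter K) :
    (irrSmul K g θ : K → ℂ) = Cfsg.Agent.Lib.Helper75.conjFun K g⁻¹ θ.1 := rfl

/-- The action of `L` on `IrrCharacter K`. -/
@[reducible] noncomputable def irrAction : MulAction L (IrrCharacter K) where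
  smul := irrSmul K
  one_smul := by
    intro θ
    apply Subtype.ext
    show Cfsg.Agent.Lib.Helper75.conjFun K (1 : L)⁻¹ θ.1 = θ.1
    rw [inv_one, Cfsg.Agent.Lib.Helper75.conjFun_one]
  mul_smul := by
    intro g h θ
    apply Subtype.ext
    show Cfsg.Agent.Lib.Helper75.conjFun K (g * h)⁻¹ θ.1 =
      Cfsg.Agent.Lib.Helper75.conjFun K g⁻¹ (Cfsg.Agent.Lib.Helper75.conjFun K h⁻¹ θ.1)
    rw [Cfsg.Agent.Lib.Helper75.conjFun_conjFun, mul_inv_rev]

/-- Brauer's permutation lemma for the conjugation action on a normal subgroup. -/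
theorem card_fixed_irr_eq_card_fixed_classes [Finite L] (x : L) :
    Nat.card {θ : IrrCharacter K // irrSmul K x θ = θ} =
      Nat.card {C : ConjClasses K // ccSmul K x C = C} := by
  letI := ccAction K
  letI := irrAction K
  have h := Cfsg.Agent.S0860.result (G := K) (A := L) (by
    intro a χ g g' hgg'
    show Cfsg.Agent.Lib.Helper75.conjFun K a⁻¹ χ.1 g' = χ.1 g
    rw [Cfsg.Agent.Lib.Helper75.conjFun_apply]
    have h1 : ConjClasses.mk g' = ccSmul K a (ConjClasses.mk g) := hgg'
    rw [ccSmul_mk, ConjClasses.mk_eq_mk_iff_isConj, isConj_comm, isConj_iff] at h1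
    obtain ⟨c, hc⟩ := h1
    have hcf : IsClassFunction K χ.1 := Cfsg.Agent.Lib.Helper3.IsCharacter.isClassFunction
      (Cfsg.Agent.Lib.Helper3.IsIrrCharacter.isCharacter χ.2)
    -- `a⁻¹ g' a = (a⁻¹ c a) g (a⁻¹ c a)⁻¹`
    have hc' : (c : L) * (a * g * a⁻¹) * (c : L)⁻¹ = g' := by
      have := congrArg Subtype.val hc
      simpa using this
    have hmem : a⁻¹ * (c : L) * a ∈ K := by
      have := hK.conj_mem c c.2 a⁻¹
      simpa using this
    have e : (⟨a⁻¹ * (g' : L) * a⁻¹⁻¹, hK.conj_mem g' g'.2 a⁻¹⟩ : K) =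
        (⟨a⁻¹ * (c : L) * a, hmem⟩ : K) * g * (⟨a⁻¹ * (c : L) * a, hmem⟩ : K)⁻¹ := by
      apply Subtype.ext
      simp only [Subgroup.coe_mul, Subgroup.coe_inv]
      rw [← hc']
      group
    rw [e, hcf]) x
  exact h

end Act

section Count

variable {L : Type*} [Group L] [Finite L] (K : Subgroup L) [hK : K.Normal]

/-- If `x` is coprime to `|K|` and `C_K(x)` is abelian, the number of `x`-invariant classes of `K`
is `|C_K(x)|`. -/
theorem card_fixed_classes_of_abelian_centralizer (x : L) (n : ℕ) (hxn : x ^ n = 1)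
    (hcop : n.Coprime (Nat.card K))
    (hab : ∀ a ∈ K ⊓ Subgroup.centralizer ({x} : Set L),
      ∀ b ∈ K ⊓ Subgroup.centralizer ({x} : Set L), a * b = b * a) :
    Nat.card {C : ConjClasses K // ccSmul K x C = C} =
      Nat.card ↥(K ⊓ Subgroup.centralizer ({x} : Set L)) := by
  symm
  have hxN : x ∈ Subgroup.normalizer (K : Set L) := by
    rw [Subgroup.normalizer_eq_top]; exact Subgroup.mem_top x
  apply Nat.card_congr
  refine Equiv.ofBijective
    (fun w => ⟨ConjClasses.mk (⟨(w : L), w.2.1⟩ : K), ?_⟩) ⟨?_, ?_⟩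
  · rw [ccSmul_mk]
    congr 1
    apply Subtype.ext
    rw [conjNormal_coe]
    have := (Cfsg.Agent.S1499.mem_centralizer_singleton x (w : L)).mp w.2.2
    show x * (w : L) * x⁻¹ = (w : L)
    rw [← this]; group
  · intro w w' h
    have h1 : ConjClasses.mk (⟨(w : L), w.2.1⟩ : K) = ConjClasses.mk (⟨(w' : L), w'.2.1⟩ : K) :=
      congrArg Subtype.val h
    rw [ConjClasses.mk_eq_mk_iff_isConj, isConj_iff] at h1
    obtain ⟨m, hm⟩ := h1
    have hm' : (w' : L) = (m : L) * (w : L) * (m : L)⁻¹ := by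
      have := congrArg Subtype.val hm
      simpa using this.symm
    have hwx := (Cfsg.Agent.S1499.mem_centralizer_singleton x (w : L)).mp w.2.2
    have hw'x := (Cfsg.Agent.S1499.mem_centralizer_singleton x (w' : L)).mp w'.2.2
    obtain ⟨d, hdK, hdx, hd⟩ := exists_conj_of_commute K x n hxn hcop (w : L) (w' : L) (m : L) m.2
      hwx.symm hw'x.symm hm'
    have hdC : d ∈ K ⊓ Subgroup.centralizer ({x} : Set L) :=
      ⟨hdK, (Cfsg.Agent.S1499.mem_centralizer_singleton x d).mpr hdx.symm⟩
    have hcomm := hab d hdC (w : L) w.2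
    apply Subtype.ext
    rw [hd, hcomm]
    group
  · rintro ⟨C, hC⟩
    induction C using Quotient.inductionOn with
    | h k =>
      have hC' : ccSmul K x (ConjClasses.mk k) = ConjClasses.mk k := hC
      rw [ccSmul_mk, ConjClasses.mk_eq_mk_iff_isConj, isConj_iff] at hC'
      obtain ⟨m, hm⟩ := hC'
      have hm' : (m : L)⁻¹ * (k : L) * (m : L)⁻¹⁻¹ = x * (k : L) * x⁻¹ := by
        have := congrArg Subtype.val hm
        simp only [Subgroup.coe_mul, Subgroup.coe_inv, conjNormal_coe] at this
        conv_lhs => rw [← this]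
        group
      obtain ⟨h, hhK, hh⟩ := exists_conj_commute_of_invariant_class K x hxN n hxn hcop (k : L)
        (m : L)⁻¹ (K.inv_mem m.2) hm'
      have hwK : h * (k : L) * h⁻¹ ∈ K := hK.conj_mem k k.2 h
      have hwC : h * (k : L) * h⁻¹ ∈ K ⊓ Subgroup.centralizer ({x} : Set L) :=
        ⟨hwK, (Cfsg.Agent.S1499.mem_centralizer_singleton x _).mpr hh.symm⟩
      refine ⟨⟨h * (k : L) * h⁻¹, hwC⟩, ?_⟩
      apply Subtype.ext
      show ConjClasses.mk (⟨h * (k : L) * h⁻¹, hwK⟩ : K) = ConjClasses.mk k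
      rw [ConjClasses.mk_eq_mk_iff_isConj, isConj_comm, isConj_iff]
      exact ⟨⟨h, hhK⟩, Subtype.ext rfl⟩

end Count

end Cfsg.Agent.Lib.Helper25
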