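import Mathlib

/-!
# OC5d (Oc hive, S2924): odd-order subgroups commuting elementwise generate a subgroup of odd order
-/

set_option autoImplicit false
set_option linter.unusedVariables false
set_option linter.unusedSimpArgs false
set_option linter.unusedSectionVars false

namespace Cfsg.Agent.Lib.Helper22.Oc

universe u

/-- OC5d. A family of odd-order subgroups commuting elementwise (also within each member)
generates a subgroup of odd order. -/
theorem oc5d {X : Type u} [Group X] [Finite X] {ι : Type*} (θ : ι → Subgroup X)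
    (hodd : ∀ i, Odd (Nat.card (θ i)))
    (hcomm : ∀ i j, ∀ a ∈ θ i, ∀ b ∈ θ j, a * b = b * a) :
    Odd (Nat.card ↥(⨆ i, θ i)) := by
  classical
  have h1 : ∀ w ∈ (⨆ i, θ i), ∀ j, ∀ b ∈ θ j, w * b = b * w := by
    intro w hw
    refine Subgroup.iSup_induction θ (C := fun w => ∀ j, ∀ b ∈ θ j, w * b = b * w) hw ?_ ?_ ?_
    · intro i a ha j b hb; exact hcomm i j a ha b hb
    · intro j b hb; simp
    · intro x y hx hy j b hb
      rw [mul_assoc, hy j b hb, ← mul_assoc, hx j b hb, mul_assoc]
  have h2 : ∀ w ∈ (⨆ i, θ i), ∀ v ∈ (⨆ i, θ i), w * v = v * w := by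
    intro w hw v hv
    refine Subgroup.iSup_induction θ (C := fun v => w * v = v * w) hv ?_ ?_ ?_
    · intro j b hb; exact h1 w hw j b hb
    · simp
    · intro x y hx hy
      rw [← mul_assoc, hx, mul_assoc, hy, ← mul_assoc]
  have h3 : ∀ w ∈ (⨆ i, θ i), Odd (orderOf w) := by
    intro w hw
    have hboth : w ∈ (⨆ i, θ i) ∧ Odd (orderOf w) := by
      refine Subgroup.iSup_induction θ (C := fun w => w ∈ (⨆ i, θ i) ∧ Odd (orderOf w)) hw ?_ ?_ ?_
      · intro i a ha
        refine ⟨Subgroup.mem_iSup_of_mem i ha, ?_⟩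
        have hd : orderOf a ∣ Nat.card (θ i) := by
          have := orderOf_dvd_natCard (⟨a, ha⟩ : θ i)
          rwa [Subgroup.orderOf_mk] at this
        exact (hodd i).of_dvd_nat hd
      · exact ⟨one_mem _, by simp⟩
      · rintro x y ⟨hx, hxo⟩ ⟨hy, hyo⟩
        refine ⟨mul_mem hx hy, ?_⟩
        have hc : Commute x y := h2 x hx y hy
        have hd := hc.orderOf_mul_dvd_lcm
        have hl : Odd (Nat.lcm (orderOf x) (orderOf y)) :=
          (hxo.mul hyo).of_dvd_nat (Nat.lcm_dvd_mul _ _)
        exact hl.of_dvd_nat hd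
    exact hboth.2
  by_contra hne
  have heven : 2 ∣ Nat.card ↥(⨆ i, θ i) := by
    rcases Nat.even_or_odd (Nat.card ↥(⨆ i, θ i)) with h | h
    · exact even_iff_two_dvd.1 h
    · exact absurd h hne
  have : Fact (Nat.Prime 2) := ⟨Nat.prime_two⟩
  obtain ⟨x, hx⟩ := exists_prime_orderOf_dvd_card' 2 heven
  have h4 := h3 (x : X) x.2
  rw [Subgroup.orderOf_coe, hx] at h4
  exact absurd h4 (by decide)

end Cfsg.Agent.Lib.Helper22.Oc
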