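import Mathlib

/-!
# OC7 (Oc hive, S2924): a fixed-point-free involution normalizing a finite subgroup inverts it
-/

set_option autoImplicit false
set_option linter.unusedVariables false
set_option linter.unusedSimpArgs false
set_option linter.unusedSectionVars false

namespace Cfsg.Agent.Lib.Helper22.Oc

universe u

theorem oc7_inj {G : Type u} [Group G] (N : Subgroup G)
    (z : G) (hfpf : ∀ n ∈ N, n * z = z * n → n = 1) (m n : G) (hm : m ∈ N) (hn : n ∈ N)
    (h : m⁻¹ * (z * m * z⁻¹) = n⁻¹ * (z * n * z⁻¹)) : m = n := by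
  have hk : (n * m⁻¹) * z = z * (n * m⁻¹) := by
    calc n * m⁻¹ * z = n * (m⁻¹ * (z * m * z⁻¹)) * z * m⁻¹ := by group
      _ = n * (n⁻¹ * (z * n * z⁻¹)) * z * m⁻¹ := by rw [h]
      _ = z * (n * m⁻¹) := by group
  have h1 := hfpf (n * m⁻¹) (N.mul_mem hn (N.inv_mem hm)) hk
  exact (mul_inv_eq_one.1 h1).symm

/-- OC7. An involution normalizing an odd-order subgroup `N` without fixed points inverts it. -/
theorem oc7 {G : Type u} [Group G] (N : Subgroup G) [Finite N] (hN : Odd (Nat.card N))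
    (z : G) (hz2 : z ^ 2 = 1) (hzN : ∀ n ∈ N, z * n * z⁻¹ ∈ N)
    (hfpf : ∀ n ∈ N, n * z = z * n → n = 1) : ∀ n ∈ N, z * n * z⁻¹ = n⁻¹ := by
  have hzz : z * z = 1 := by rw [← pow_two]; exact hz2
  have hzi : z⁻¹ = z := inv_eq_of_mul_eq_one_right hzz
  let f : ↥N → ↥N := fun n =>
    ⟨(n : G)⁻¹ * (z * (n : G) * z⁻¹), N.mul_mem (N.inv_mem n.2) (hzN n n.2)⟩
  have hinj : Function.Injective f := by
    intro m n hmn
    apply Subtype.ext
    apply oc7_inj N z hfpf (m : G) (n : G) m.2 n.2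
    exact congrArg Subtype.val hmn
  have hsurj : Function.Surjective f := Finite.injective_iff_surjective.1 hinj
  intro g hg
  obtain ⟨n, hn⟩ := hsurj ⟨g, hg⟩
  have hg' : g = (n : G)⁻¹ * (z * (n : G) * z⁻¹) := (congrArg Subtype.val hn).symm
  rw [hg']
  have e1 : z * ((n : G)⁻¹ * (z * (n : G) * z⁻¹)) * z⁻¹ =
      z * (n : G)⁻¹ * z * (n : G) * (z⁻¹ * z⁻¹) := by group
  have e2 : ((n : G)⁻¹ * (z * (n : G) * z⁻¹))⁻¹ = z * (n : G)⁻¹ * z⁻¹ * (n : G) := by group
  rw [e1, e2, hzi, hzz, mul_one]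

end Cfsg.Agent.Lib.Helper22.Oc
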