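import Mathlib

/-! # OC-IDX sub-hive (helper8; Oc hive of helper44, S5977/S5978), leaf IDX-AR1 (helper25): pure arithmetic,
`d` odd.  Also the shared aux for IDX-AR2. -/

set_option autoImplicit false
set_option linter.unusedSimpArgs false
set_option linter.unusedVariables false

namespace Cfsg.Agent.Lib.Helper44.Oc

/-- `r ∣ q ^ n - 1` forces `ord_r(q) ∣ n` -/
theorem ar1_order_dvd (q r n : ℕ) (hq : 1 ≤ q) (h : r ∣ q ^ n - 1) :
    orderOf ((q : ℕ) : ZMod r) ∣ n := by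
  apply orderOf_dvd_of_pow_eq_one
  have h1 : ((q ^ n - 1 : ℕ) : ZMod r) = 0 := (ZMod.natCast_eq_zero_iff _ _).2 h
  rw [Nat.cast_sub (Nat.one_le_pow _ _ hq), Nat.cast_pow, Nat.cast_one, sub_eq_zero] at h1
  exact h1

/-- `r ∣ q ^ n + 1` forces `ord_r(q) ∣ 2 n` -/
theorem ar1_order_dvd_two (q r n : ℕ) (h : r ∣ q ^ n + 1) :
    orderOf ((q : ℕ) : ZMod r) ∣ 2 * n := by
  apply orderOf_dvd_of_pow_eq_one
  have h1 : ((q ^ n + 1 : ℕ) : ZMod r) = 0 := (ZMod.natCast_eq_zero_iff _ _).2 h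
  rw [Nat.cast_add, Nat.cast_pow, Nat.cast_one] at h1
  have h2 : ((q : ℕ) : ZMod r) ^ n = -1 := eq_neg_of_add_eq_zero_left h1
  rw [mul_comm, pow_mul, h2]
  ring

/-- splitting a product over `range (2 e)` into even and odd indices -/
theorem ar1_prod_split (g : ℕ → ℕ) (e : ℕ) :
    ∏ i ∈ Finset.range (2 * e), g i =
      (∏ i ∈ Finset.range e, g (2 * i)) * ∏ i ∈ Finset.range e, g (2 * i + 1) := by
  induction e with
  | zero => simp
  | succ e ih =>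
    rw [show 2 * (e + 1) = 2 * e + 1 + 1 by ring, Finset.prod_range_succ, Finset.prod_range_succ, ih,
      Finset.prod_range_succ, Finset.prod_range_succ]
    ring

/-- the factors with odd `j` are prime to `r` -/
theorem ar1_odd_part (q r : ℕ) (hr : r.Prime) (hq : 1 ≤ q)
    (h4 : 4 ∣ orderOf ((q : ℕ) : ZMod r)) (e : ℕ) :
    ¬ r ∣ ∏ i ∈ Finset.range e, (q ^ (2 * (2 * i + 1)) - 1) := by
  intro h
  rw [Prime.dvd_finsetProd_iff hr.prime] at h
  obtain ⟨i, _, hi⟩ := h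
  have h1 := dvd_trans h4 (ar1_order_dvd q r _ hq hi)
  omega

/-- the abstract cancellation step -/
theorem ar1_core (r A P C : ℕ) (hP : 0 < P) (hC : ¬ r ∣ C) : ¬ (A * P * r ∣ C * P) := by
  intro h
  apply hC
  have h1 : A * r * P ∣ C * P := by
    rw [show A * r * P = A * P * r by ring]
    exact h
  exact dvd_trans (dvd_mul_left r A) (Nat.dvd_of_mul_dvd_mul_right hP h1)

/-- the even part is positive -/
theorem ar1_even_pos (q : ℕ) (hq : 2 ≤ q) (e : ℕ) :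
    0 < ∏ i ∈ Finset.range e, ((q ^ 2) ^ (2 * (i + 1)) - 1) := by
  apply Finset.prod_pos
  intro i _
  have h1 : 2 ≤ q ^ 2 := le_trans hq (Nat.le_self_pow (by norm_num) q)
  have h2 : 2 ≤ (q ^ 2) ^ (2 * (i + 1)) := le_trans h1 (Nat.le_self_pow (by omega) _)
  omega

/-- IDX-AR1 -/
theorem idx_arith_odd (q r e d : ℕ) (hd : d = 2 * e + 1) (hr : r.Prime) (hr2 : r ≠ 2) (hq : 2 ≤ q)
    (hrq : ¬ r ∣ q) (h4 : 4 ∣ orderOf ((q : ℕ) : ZMod r)) (s : ℕ)
    (hs : s = q ^ d - 1 ∨ s = q ^ d + 1) :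
    ¬ (2 * (q ^ 2) ^ (e ^ 2) * (∏ i ∈ Finset.range e, ((q ^ 2) ^ (2 * (i + 1)) - 1)) * r ∣
        2 * q ^ (d * (d - 1)) * s * ∏ i ∈ Finset.range (d - 1), (q ^ (2 * (i + 1)) - 1)) := by
  have hq1 : 1 ≤ q := by omega
  have hd1 : d - 1 = 2 * e := by omega
  rw [hd1, ar1_prod_split]
  have e1 : ∀ i, q ^ (2 * (2 * i + 1 + 1)) - 1 = (q ^ 2) ^ (2 * (i + 1)) - 1 := by
    intro i
    rw [← pow_mul]
    congr 2
  rw [Finset.prod_congr rfl (fun i _ => e1 i), ← mul_assoc]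
  apply ar1_core _ _ _ _ (ar1_even_pos q hq e)
  intro h
  rw [hr.dvd_mul, hr.dvd_mul, hr.dvd_mul] at h
  rcases h with ((h | h) | h) | h
  · exact hr2 ((Nat.prime_dvd_prime_iff_eq hr Nat.prime_two).1 h)
  · exact hrq (hr.dvd_of_dvd_pow h)
  · rcases hs with hs | hs
    · rw [hs] at h
      have h1 := dvd_trans h4 (ar1_order_dvd q r _ hq1 h)
      omega
    · rw [hs] at h
      have h1 := dvd_trans h4 (ar1_order_dvd_two q r _ h)
      omega
  · exact ar1_odd_part q r hr hq1 h4 e h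

end Cfsg.Agent.Lib.Helper44.Oc
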