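import Mathlib
import Cfsg.Agent.Lib.Helper25.OcIdxAR1

/-! # OC-IDX sub-hive (helper8; Oc hive of helper44, S5977/S5978), leaf IDX-AR2 (helper25): pure arithmetic,
`d` even. -/

set_option autoImplicit false
set_option linter.unusedSimpArgs false
set_option linter.unusedVariables false

namespace Cfsg.Agent.Lib.Helper44.Oc

/-- the common part of both signs -/
theorem ar2_core (q r e' : ℕ) (hr : r.Prime) (hr2 : r ≠ 2) (hq : 2 ≤ q)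
    (hrq : ¬ r ∣ q) (h4 : 4 ∣ orderOf ((q : ℕ) : ZMod r)) (A K s : ℕ) (hs : 0 < s) :
    ¬ (2 * A * s * (∏ i ∈ Finset.range e', ((q ^ 2) ^ (2 * (i + 1)) - 1)) * r ∣
        2 * q ^ K * s * ∏ i ∈ Finset.range (2 * e' + 1), (q ^ (2 * (i + 1)) - 1)) := by
  have hq1 : 1 ≤ q := by omega
  rw [Finset.prod_range_succ, ar1_prod_split]
  have e1 : ∀ i, q ^ (2 * (2 * i + 1 + 1)) - 1 = (q ^ 2) ^ (2 * (i + 1)) - 1 := by
    intro i
    rw [← pow_mul]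
    congr 2
  rw [Finset.prod_congr rfl (fun i _ => e1 i)]
  set P := ∏ i ∈ Finset.range e', ((q ^ 2) ^ (2 * (i + 1)) - 1) with hP
  set O := ∏ i ∈ Finset.range e', (q ^ (2 * (2 * i + 1)) - 1) with hO
  have hPpos : 0 < P := ar1_even_pos q hq e'
  rw [show 2 * A * s * P * r = (2 * A) * (s * P) * r by ring,
    show 2 * q ^ K * s * (O * P * (q ^ (2 * (2 * e' + 1)) - 1)) =
      (2 * q ^ K * O * (q ^ (2 * (2 * e' + 1)) - 1)) * (s * P) by ring]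
  apply ar1_core _ _ _ _ (Nat.mul_pos hs hPpos)
  intro h
  rw [hr.dvd_mul, hr.dvd_mul, hr.dvd_mul] at h
  rcases h with ((h | h) | h) | h
  · exact hr2 ((Nat.prime_dvd_prime_iff_eq hr Nat.prime_two).1 h)
  · exact hrq (hr.dvd_of_dvd_pow h)
  · exact ar1_odd_part q r hr hq1 h4 e' h
  · have h1 := dvd_trans h4 (ar1_order_dvd q r _ hq1 h)
    omega

/-- IDX-AR2 -/
theorem idx_arith_even (q r e d : ℕ) (hd : d = 2 * e) (he : 1 ≤ e) (hr : r.Prime) (hr2 : r ≠ 2)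
    (hq : 2 ≤ q) (hrq : ¬ r ∣ q) (h4 : 4 ∣ orderOf ((q : ℕ) : ZMod r)) :
    ¬ (2 * (q ^ 2) ^ (e * (e - 1)) * ((q ^ 2) ^ e - 1) *
          (∏ i ∈ Finset.range (e - 1), ((q ^ 2) ^ (2 * (i + 1)) - 1)) * r ∣
        2 * q ^ (d * (d - 1)) * (q ^ d - 1) * ∏ i ∈ Finset.range (d - 1), (q ^ (2 * (i + 1)) - 1)) ∧
    ¬ (2 * (q ^ 2) ^ (e * (e - 1)) * ((q ^ 2) ^ e + 1) *
          (∏ i ∈ Finset.range (e - 1), ((q ^ 2) ^ (2 * (i + 1)) - 1)) * r ∣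
        2 * q ^ (d * (d - 1)) * (q ^ d + 1) * ∏ i ∈ Finset.range (d - 1), (q ^ (2 * (i + 1)) - 1)) := by
  obtain ⟨e', rfl⟩ : ∃ e', e = e' + 1 := ⟨e - 1, by omega⟩
  have hd1 : d - 1 = 2 * e' + 1 := by omega
  have hqd : (q ^ 2) ^ (e' + 1) = q ^ d := by
    rw [← pow_mul, hd]
  have hqd2 : 2 ≤ q ^ d := le_trans hq (Nat.le_self_pow (by omega) q)
  rw [hd1, Nat.add_sub_cancel, hqd]
  exact ⟨ar2_core q r e' hr hr2 hq hrq h4 _ _ _ (by omega),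
    ar2_core q r e' hr hr2 hq hrq h4 _ _ _ (by omega)⟩

end Cfsg.Agent.Lib.Helper44.Oc
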