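import Mathlib
import Cfsg.Agent.Lib.Helper67.OgDefs
import Cfsg.Agent.Lib.Helper67.OgFam
import Cfsg.Agent.Lib.Helper37.OrthMinus
import Cfsg.Agent.Lib.Helper43.OrthCardMinus
import Cfsg.Agent.Lib.Helper43.ZeroCount
import Cfsg.Agent.Lib.Helper39.OgSq
import Cfsg.Agent.Lib.Helper8.Eichler

/-! # Og hive (helper67, S2413/S2414/S2415), leaf OG-M-RHO2 (helper25): the extra element `ρ` of order 5 for the
minus type over the field of two elements: `ρ = E(e, w1) * E(f, w0)` on `⟨e, f, w0, w1⟩`, `e = e_{i2}`, `f = f_{i2}`. -/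

set_option autoImplicit false
set_option linter.unusedSimpArgs false
set_option linter.unusedVariables false
set_option linter.unusedSectionVars false

namespace Cfsg.Agent.Lib.Helper67.Og

open Matrix Module QuadraticMap
open Cfsg.Agent.Lib.Helper37 Cfsg.Agent.Lib.Helper8 Cfsg.Agent.Lib.Helper43

section mrho2

variable {F : Type*} [Field F] {m : ℕ} {a b : F}

local notation "VV" => ((Fin m ⊕ Fin m) ⊕ Fin 2 → F)

theorem mrho2_polar_w0 (y : (Fin m ⊕ Fin m) ⊕ Fin 2 → F) :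
    polar (⇑(minusForm m F a b)) (Pi.single (Sum.inr 0) 1) y =
      2 * y (Sum.inr 0) + a * y (Sum.inr 1) := by
  rw [polar_minusForm]
  simp [Pi.single_apply]

theorem mrho2_polar_w1 (y : (Fin m ⊕ Fin m) ⊕ Fin 2 → F) :
    polar (⇑(minusForm m F a b)) (Pi.single (Sum.inr 1) 1) y =
      a * y (Sum.inr 0) + 2 * b * y (Sum.inr 1) := by
  rw [polar_minusForm]
  simp [Pi.single_apply]

theorem mrho2_Q_w0 : minusForm m F a b (Pi.single (Sum.inr 0) 1) = 1 := by
  rw [← minusForm_coe]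
  simp [Cfsg.quadFormMinus, Pi.single_apply]

theorem mrho2_Q_w1 : minusForm m F a b (Pi.single (Sum.inr 1) 1) = b := by
  rw [← minusForm_coe]
  simp [Cfsg.quadFormMinus, Pi.single_apply]

/-- the action of a total Eichler element (singular `u`, `u ⟂ v`) -/
theorem mrho2_act_Ee {ι : Type} [Fintype ι] [DecidableEq ι] (Q : QuadraticForm F (ι → F))
    (hQ : (QuadraticMap.polarBilin Q).Nondegenerate) {u v : ι → F} (hu : Q u = 0)
    (huv : polar ⇑Q u v = 0) (x : ι → F) :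
    act Q (Ee Q hQ u v) x
      = x + polar ⇑Q u x • v - polar ⇑Q v x • u - (Q v * polar ⇑Q u x) • u := by
  rw [Ee_eq Q hQ hu huv]
  unfold act
  rw [eichlerElt_mulVec]

/-- the vector `x + p e + q f + r w0 + s w1` -/
def mrho2_T (i2 : Fin m) (x : (Fin m ⊕ Fin m) ⊕ Fin 2 → F) (p q r s : F) :
    (Fin m ⊕ Fin m) ⊕ Fin 2 → F :=
  x + p • Pi.single (Sum.inl (Sum.inl i2)) 1 + q • Pi.single (Sum.inl (Sum.inr i2)) 1
    + r • Pi.single (Sum.inr 0) 1 + s • Pi.single (Sum.inr 1) 1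

theorem mrho2_T_e (i2 : Fin m) (x : (Fin m ⊕ Fin m) ⊕ Fin 2 → F) (p q r s : F) :
    mrho2_T i2 x p q r s (Sum.inl (Sum.inl i2)) = x (Sum.inl (Sum.inl i2)) + p := by
  simp [mrho2_T, Pi.single_apply]

theorem mrho2_T_f (i2 : Fin m) (x : (Fin m ⊕ Fin m) ⊕ Fin 2 → F) (p q r s : F) :
    mrho2_T i2 x p q r s (Sum.inl (Sum.inr i2)) = x (Sum.inl (Sum.inr i2)) + q := by
  simp [mrho2_T, Pi.single_apply]

theorem mrho2_T_0 (i2 : Fin m) (x : (Fin m ⊕ Fin m) ⊕ Fin 2 → F) (p q r s : F) :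
    mrho2_T i2 x p q r s (Sum.inr 0) = x (Sum.inr 0) + r := by
  simp [mrho2_T, Pi.single_apply]

theorem mrho2_T_1 (i2 : Fin m) (x : (Fin m ⊕ Fin m) ⊕ Fin 2 → F) (p q r s : F) :
    mrho2_T i2 x p q r s (Sum.inr 1) = x (Sum.inr 1) + s := by
  simp [mrho2_T, Pi.single_apply]

theorem mrho2_T_zero (i2 : Fin m) (x : (Fin m ⊕ Fin m) ⊕ Fin 2 → F) :
    mrho2_T i2 x 0 0 0 0 = x := by
  simp [mrho2_T]

end mrho2

section mrho2b

variable {F : Type*} [Field F] [Fintype F] {m : ℕ}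

/-- the element `ρ = E(e, w1) * E(f, w0)` for `a = b = 1` -/
noncomputable def mrho2_rho (hQ : (QuadraticMap.polarBilin (minusForm m F 1 1)).Nondegenerate)
    (i2 : Fin m) : ↥(Cfsg.isometryGroup F ⇑(minusForm m F (1 : F) 1)) :=
  Ee (minusForm m F 1 1) hQ (Pi.single (Sum.inl (Sum.inl i2)) 1) (Pi.single (Sum.inr 1) 1) *
    Ee (minusForm m F 1 1) hQ (Pi.single (Sum.inl (Sum.inr i2)) 1) (Pi.single (Sum.inr 0) 1)

/-- the action of `ρ` (in characteristic 2) -/
theorem mrho2_act_rho (h2 : (2 : F) = 0)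
    (hQ : (QuadraticMap.polarBilin (minusForm m F 1 1)).Nondegenerate) (i2 : Fin m)
    (x : (Fin m ⊕ Fin m) ⊕ Fin 2 → F) :
    act (minusForm m F 1 1) (mrho2_rho hQ i2) x =
      mrho2_T i2 x (x (Sum.inl (Sum.inr i2)) + x (Sum.inr 0) + x (Sum.inr 1))
        (x (Sum.inl (Sum.inl i2)) + x (Sum.inr 1)) (x (Sum.inl (Sum.inl i2)))
        (x (Sum.inl (Sum.inl i2)) + x (Sum.inl (Sum.inr i2)) + x (Sum.inr 1)) := by
  have hm1 : (-1 : F) = 1 := by linear_combination (-1 : F) * h2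
  unfold mrho2_rho
  rw [act_mul]
  have hue : minusForm m F 1 1 (Pi.single (Sum.inl (Sum.inl i2)) 1) = 0 :=
    minusForm_single_inl m F 1 1 i2
  have huf : minusForm m F 1 1 (Pi.single (Sum.inl (Sum.inr i2)) 1) = 0 :=
    minusForm_single_inr m F 1 1 i2
  have hew1 : polar (⇑(minusForm m F 1 1)) (Pi.single (Sum.inl (Sum.inl i2)) 1)
      (Pi.single (Sum.inr 1) 1) = 0 := by
    rw [polar_minusForm_inl]
    simp [Pi.single_apply]
  have hfw0 : polar (⇑(minusForm m F 1 1)) (Pi.single (Sum.inl (Sum.inr i2)) 1)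
      (Pi.single (Sum.inr 0) 1) = 0 := by
    rw [polar_minusForm_inr]
    simp [Pi.single_apply]
  rw [mrho2_act_Ee _ hQ huf hfw0 x, polar_minusForm_inr, mrho2_polar_w0, mrho2_Q_w0]
  rw [mrho2_act_Ee _ hQ hue hew1, polar_minusForm_inl, mrho2_polar_w1, mrho2_Q_w1]
  simp only [Pi.add_apply, Pi.sub_apply, Pi.smul_apply, Pi.single_apply, smul_eq_mul]
  simp only [h2, zero_mul, zero_add, one_mul, mul_one, mul_zero, sub_zero, add_zero, if_true,
    if_false, Sum.inl.injEq, Sum.inr.injEq, reduceCtorEq, Fin.isValue]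
  unfold mrho2_T
  generalize x (Sum.inl (Sum.inl i2)) = xe
  generalize x (Sum.inl (Sum.inr i2)) = xf
  generalize x (Sum.inr 0) = x0
  generalize x (Sum.inr 1) = x1
  have e1 : xf + x0 + x1 = -(x0 + xe) - (xf - x1 - xe) := by linear_combination (xf + x0) * h2
  have e2 : xe + x1 = -x1 - xe := by linear_combination (xe + x1) * h2
  have e3 : xe + xf + x1 = xf - x1 - xe := by linear_combination (xe + x1) * h2
  rw [e1, e2, e3]
  module

theorem mrho2_T_T (i2 : Fin m) (x : (Fin m ⊕ Fin m) ⊕ Fin 2 → F) (p q r s p' q' r' s' : F) :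
    mrho2_T i2 (mrho2_T i2 x p q r s) p' q' r' s' =
      mrho2_T i2 x (p + p') (q + q') (r + r') (s + s') := by
  unfold mrho2_T
  module

/-- one application of `ρ` in the coordinates `T x p q r s` -/
theorem mrho2_step (h2 : (2 : F) = 0)
    (hQ : (QuadraticMap.polarBilin (minusForm m F 1 1)).Nondegenerate) (i2 : Fin m)
    (x : (Fin m ⊕ Fin m) ⊕ Fin 2 → F) (p q r s : F) :
    act (minusForm m F 1 1) (mrho2_rho hQ i2) (mrho2_T i2 x p q r s) =
      mrho2_T i2 x
        (p + ((x (Sum.inl (Sum.inr i2)) + q) + (x (Sum.inr 0) + r) + (x (Sum.inr 1) + s)))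
        (q + ((x (Sum.inl (Sum.inl i2)) + p) + (x (Sum.inr 1) + s)))
        (r + (x (Sum.inl (Sum.inl i2)) + p))
        (s + ((x (Sum.inl (Sum.inl i2)) + p) + (x (Sum.inl (Sum.inr i2)) + q) +
          (x (Sum.inr 1) + s))) := by
  rw [mrho2_act_rho h2 hQ i2, mrho2_T_e, mrho2_T_f, mrho2_T_0, mrho2_T_1, mrho2_T_T]

/-- coordinates of `ρ ^ k x` -/
theorem mrho2_pow (h2 : (2 : F) = 0)
    (hQ : (QuadraticMap.polarBilin (minusForm m F 1 1)).Nondegenerate) (i2 : Fin m)
    (x : (Fin m ⊕ Fin m) ⊕ Fin 2 → F) :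
    act (minusForm m F 1 1) (mrho2_rho hQ i2 ^ 5) x = x := by
  have h : mrho2_rho hQ i2 ^ 5 = mrho2_rho hQ i2 * (mrho2_rho hQ i2 * (mrho2_rho hQ i2 *
      (mrho2_rho hQ i2 * mrho2_rho hQ i2))) := by
    simp only [pow_succ, pow_zero, one_mul, mul_assoc]
  have h0 : act (minusForm m F 1 1) (mrho2_rho hQ i2) x =
      act (minusForm m F 1 1) (mrho2_rho hQ i2) (mrho2_T i2 x 0 0 0 0) := by rw [mrho2_T_zero]
  rw [h, act_mul, act_mul, act_mul, act_mul, h0]
  rw [mrho2_step h2 hQ, mrho2_step h2 hQ, mrho2_step h2 hQ, mrho2_step h2 hQ, mrho2_step h2 hQ]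
  generalize x (Sum.inl (Sum.inl i2)) = xe
  generalize x (Sum.inl (Sum.inr i2)) = xf
  generalize x (Sum.inr 0) = x0
  generalize x (Sum.inr 1) = x1
  have key : ∀ (p q r s : F), p = 0 → q = 0 → r = 0 → s = 0 → mrho2_T i2 x p q r s = x := by
    intro p q r s hp hq hr hs
    rw [hp, hq, hr, hs, mrho2_T_zero]
  apply key
  · linear_combination (xe * 78 + xf * 69 + x0 * 32 + x1 * 96) * h2
  · linear_combination (xe * 69 + xf * 61 + x0 * 27 + x1 * 86) * h2
  · linear_combination (xe * 32 + xf * 27 + x0 * 14 + x1 * 37) * h2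
  · linear_combination (xe * 96 + xf * 86 + x0 * 37 + x1 * 120) * h2


/-- `ρ` has order dividing 5 -/
theorem mrho2_pow_five (h2 : (2 : F) = 0)
    (hQ : (QuadraticMap.polarBilin (minusForm m F 1 1)).Nondegenerate) (i2 : Fin m) :
    mrho2_rho hQ i2 ^ 5 = 1 := by
  apply reflElt_ext
  intro x
  rw [mrho2_pow h2 hQ i2 x, act_one]

/-- `ρ ∈ Ω` -/
theorem mrho2_mem (h2 : (2 : F) = 0) (hm : 3 ≤ m)
    (hQ : (QuadraticMap.polarBilin (minusForm m F 1 1)).Nondegenerate) (i2 : Fin m) :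
    mrho2_rho hQ i2 ∈ commutator ↥(Cfsg.isometryGroup F ⇑(minusForm m F (1 : F) 1)) := by
  have hfr : finrank F ((Fin m ⊕ Fin m) ⊕ Fin 2 → F) ≠ 4 := by
    rw [Module.finrank_fintype_fun_eq_card]
    simp only [Fintype.card_sum, Fintype.card_fin]
    omega
  exact Cfsg.Agent.Lib.Helper39.OgSq.mem_omega_of_odd_order (minusForm m F 1 1) hQ (Or.inr hfr)
    (mrho2_rho hQ i2) 5 (by decide) (mrho2_pow_five h2 hQ i2)

/-- the `W`-part in coordinates -/
theorem mrho2_wpart {a b : F} (x : (Fin m ⊕ Fin m) ⊕ Fin 2 → F) :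
    Wpart (minusForm m F a b) (eM F m) (fM F m) x =
      x (Sum.inr 0) • Pi.single (Sum.inr 0) 1 + x (Sum.inr 1) • Pi.single (Sum.inr 1) 1 := by
  unfold Wpart
  funext j
  simp only [polar_minusForm_inl, polar_minusForm_inr, Pi.sub_apply, Finset.sum_apply,
    Pi.add_apply, Pi.smul_apply, Pi.single_apply, smul_eq_mul]
  rcases j with (i | i) | i
  · simp [Finset.sum_add_distrib]
  · simp [Finset.sum_add_distrib]
  · fin_cases i <;> simp [Finset.sum_add_distrib]

theorem mrho2_wpart_T {a b : F} (i2 : Fin m) (x : (Fin m ⊕ Fin m) ⊕ Fin 2 → F) (p q r s : F) :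
    Wpart (minusForm m F a b) (eM F m) (fM F m) (mrho2_T i2 x p q r s) =
      (x (Sum.inr 0) + r) • Pi.single (Sum.inr 0) 1 +
        (x (Sum.inr 1) + s) • Pi.single (Sum.inr 1) 1 := by
  rw [mrho2_wpart, mrho2_T_0, mrho2_T_1]

theorem mrho2_wpart_f1 (h2 : (2 : F) = 0)
    (hQ : (QuadraticMap.polarBilin (minusForm m F 1 1)).Nondegenerate) (i2 : Fin m) :
    Wpart (minusForm m F 1 1) (eM F m) (fM F m)
      (act (minusForm m F 1 1) (mrho2_rho hQ i2 ^ 1) (fM F m i2)) = Pi.single (Sum.inr 1) 1 := by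
  rw [pow_one, mrho2_act_rho h2 hQ, mrho2_wpart_T]
  simp [Pi.single_apply]

theorem mrho2_wpart_f2 (h2 : (2 : F) = 0)
    (hQ : (QuadraticMap.polarBilin (minusForm m F 1 1)).Nondegenerate) (i2 : Fin m) :
    Wpart (minusForm m F 1 1) (eM F m) (fM F m)
      (act (minusForm m F 1 1) (mrho2_rho hQ i2 ^ 2) (fM F m i2)) = Pi.single (Sum.inr 0) 1 := by
  rw [pow_two, act_mul, mrho2_act_rho h2 hQ i2 (fM F m i2), mrho2_step h2 hQ, mrho2_wpart_T]
  simp [Pi.single_apply]
  linear_combination (2 : F) * h2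

theorem mrho2_wpart_e1 (h2 : (2 : F) = 0)
    (hQ : (QuadraticMap.polarBilin (minusForm m F 1 1)).Nondegenerate) (i2 : Fin m) :
    Wpart (minusForm m F 1 1) (eM F m) (fM F m)
      (act (minusForm m F 1 1) (mrho2_rho hQ i2 ^ 1) (eM F m i2)) =
        Pi.single (Sum.inr 0) 1 + Pi.single (Sum.inr 1) 1 := by
  rw [pow_one, mrho2_act_rho h2 hQ, mrho2_wpart_T]
  simp [Pi.single_apply]

theorem mrho2_wpart_e3 (h2 : (2 : F) = 0)
    (hQ : (QuadraticMap.polarBilin (minusForm m F 1 1)).Nondegenerate) (i2 : Fin m) :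
    Wpart (minusForm m F 1 1) (eM F m) (fM F m)
      (act (minusForm m F 1 1) (mrho2_rho hQ i2 ^ 3) (eM F m i2)) = Pi.single (Sum.inr 1) 1 := by
  have h : mrho2_rho hQ i2 ^ 3 = mrho2_rho hQ i2 * (mrho2_rho hQ i2 * mrho2_rho hQ i2) := by
    simp only [pow_succ, pow_zero, one_mul, mul_assoc]
  rw [h, act_mul, act_mul, mrho2_act_rho h2 hQ i2 (eM F m i2), mrho2_step h2 hQ,
    mrho2_step h2 hQ, mrho2_wpart_T]
  simp [Pi.single_apply]
  have c0 : (1 + 1 + (1 + (1 + 1 + 1)) : F) = 0 := by linear_combination (3 : F) * h2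
  have c1 : (1 + (1 + 1 + 1) + (1 + (1 + 1 + 1) + (1 + (1 + 1)) + (1 + (1 + 1 + 1))) : F) = 1 := by
    linear_combination (7 : F) * h2
  rw [c0, c1, zero_smul, zero_add, one_smul]

/-- a vector of `W` lies in the span of `w0`, `w1` -/
theorem mrho2_span {a b : F} (S : Set ((Fin m ⊕ Fin m) ⊕ Fin 2 → F))
    (h0 : (Pi.single (Sum.inr 0) 1 : (Fin m ⊕ Fin m) ⊕ Fin 2 → F) ∈ Submodule.span F S)
    (h1 : (Pi.single (Sum.inr 1) 1 : (Fin m ⊕ Fin m) ⊕ Fin 2 → F) ∈ Submodule.span F S)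
    (w : (Fin m ⊕ Fin m) ⊕ Fin 2 → F)
    (hw : InW (minusForm m F a b) (eM F m) (fM F m) w) : w ∈ Submodule.span F S := by
  have hW : Wpart (minusForm m F a b) (eM F m) (fM F m) w = w := by
    unfold Wpart
    have : ∀ i, polar (⇑(minusForm m F a b)) (fM F m i) w • eM F m i +
        polar (⇑(minusForm m F a b)) (eM F m i) w • fM F m i = 0 := by
      intro i
      rw [(hw i).1, (hw i).2, zero_smul, zero_smul, add_zero]
    simp only [this, Finset.sum_const_zero, sub_zero]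
  rw [← hW, mrho2_wpart]
  exact Submodule.add_mem _ (Submodule.smul_mem _ _ h0) (Submodule.smul_mem _ _ h1)

end mrho2b

section mrho2c

variable (F : Type*) [Field F]

theorem exists_rho_minus_two [Fintype F] (hF : Fintype.card F = 2) (m : ℕ) (hm : 3 ≤ m)
    (a b : F) (hab : ∀ z₁ z₂ : F, z₁ ^ 2 + a * z₁ * z₂ + b * z₂ ^ 2 = 0 → z₁ = 0 ∧ z₂ = 0)
    (i2 : Fin m) :
    ∃ (ρ : ↥(Cfsg.isometryGroup F ⇑(minusForm m F a b))) (N : ℕ),
      ρ ∈ commutator ↥(Cfsg.isometryGroup F ⇑(minusForm m F a b)) ∧ ρ ^ N = 1 ∧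
      Nat.Coprime (ringChar F) N ∧
      (∀ i, i ≠ i2 → act (minusForm m F a b) ρ (eM F m i) = eM F m i ∧
        act (minusForm m F a b) ρ (fM F m i) = fM F m i) ∧
      (∀ w, InW (minusForm m F a b) (eM F m) (fM F m) w →
        w ∈ Submodule.span F {y | ∃ i : ℕ, y = Wpart (minusForm m F a b) (eM F m) (fM F m)
          (act (minusForm m F a b) (ρ ^ i) (fM F m i2))}) ∧
      (∀ w, InW (minusForm m F a b) (eM F m) (fM F m) w →
        w ∈ Submodule.span F {y | ∃ i : ℕ, y = Wpart (minusForm m F a b) (eM F m) (fM F m)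
          (act (minusForm m F a b) (ρ ^ i) (eM F m i2))}) := by
  classical
  have h01 : ∀ x : F, x = 0 ∨ x = 1 := by
    intro x
    by_contra hx
    push Not at hx
    have hle : ({0, 1, x} : Finset F).card ≤ Fintype.card F := Finset.card_le_univ _
    rw [Finset.card_insert_of_notMem, Finset.card_insert_of_notMem, Finset.card_singleton, hF]
      at hle
    · omega
    · simp [Ne.symm hx.2]
    · simp [Ne.symm hx.1]
  have h2 : (2 : F) = 0 := by
    rcases h01 2 with h | h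
    · exact h
    · exfalso
      have : (1 : F) = 0 := by linear_combination h
      exact one_ne_zero this
  have hb : b = 1 := by
    rcases h01 b with h | h
    · exfalso
      have := hab 0 1 (by rw [h]; ring)
      exact one_ne_zero this.2
    · exact h
  have ha : a = 1 := by
    rcases h01 a with h | h
    · exfalso
      have := hab 1 1 (by rw [h, hb]; linear_combination h2)
      exact one_ne_zero this.1
    · exact h
  subst ha hb
  have hQ : (QuadraticMap.polarBilin (minusForm m F 1 1)).Nondegenerate :=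
    Cfsg.Agent.Lib.Helper43.ZeroCount.minusForm_nondeg F 1 1 hab m
  have hchar : ringChar F = 2 := by
    have : CharP F 2 := CharTwo.of_one_ne_zero_of_two_eq_zero one_ne_zero h2
    exact ringChar.eq F 2
  refine ⟨mrho2_rho hQ i2, 5, mrho2_mem h2 hm hQ i2, mrho2_pow_five h2 hQ i2, ?_, ?_, ?_, ?_⟩
  · rw [hchar]
    decide
  · intro i hi
    constructor
    · rw [mrho2_act_rho h2 hQ]
      have h1 : eM F m i (Sum.inl (Sum.inl i2)) = 0 := by simp [Pi.single_apply, Ne.symm hi]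
      have h3 : eM F m i (Sum.inl (Sum.inr i2)) = 0 := by simp [Pi.single_apply]
      have h4 : eM F m i (Sum.inr 0) = 0 := by simp [Pi.single_apply]
      have h5 : eM F m i (Sum.inr 1) = 0 := by simp [Pi.single_apply]
      rw [h1, h3, h4, h5]
      simp only [add_zero]
      exact mrho2_T_zero i2 _
    · rw [mrho2_act_rho h2 hQ]
      have h1 : fM F m i (Sum.inl (Sum.inl i2)) = 0 := by simp [Pi.single_apply]
      have h3 : fM F m i (Sum.inl (Sum.inr i2)) = 0 := by simp [Pi.single_apply, Ne.symm hi]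
      have h4 : fM F m i (Sum.inr 0) = 0 := by simp [Pi.single_apply]
      have h5 : fM F m i (Sum.inr 1) = 0 := by simp [Pi.single_apply]
      rw [h1, h3, h4, h5]
      simp only [add_zero]
      exact mrho2_T_zero i2 _
  · intro w hw
    apply mrho2_span _ _ _ w hw
    · apply Submodule.subset_span
      exact ⟨2, (mrho2_wpart_f2 h2 hQ i2).symm⟩
    · apply Submodule.subset_span
      exact ⟨1, (mrho2_wpart_f1 h2 hQ i2).symm⟩
  · intro w hw
    have hS1 : (Pi.single (Sum.inr 1) 1 : (Fin m ⊕ Fin m) ⊕ Fin 2 → F) ∈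
        Submodule.span F {y | ∃ i : ℕ, y = Wpart (minusForm m F 1 1) (eM F m) (fM F m)
          (act (minusForm m F 1 1) (mrho2_rho hQ i2 ^ i) (eM F m i2))} := by
      apply Submodule.subset_span
      exact ⟨3, (mrho2_wpart_e3 h2 hQ i2).symm⟩
    have hS01 : (Pi.single (Sum.inr 0) 1 + Pi.single (Sum.inr 1) 1 :
        (Fin m ⊕ Fin m) ⊕ Fin 2 → F) ∈
        Submodule.span F {y | ∃ i : ℕ, y = Wpart (minusForm m F 1 1) (eM F m) (fM F m)
          (act (minusForm m F 1 1) (mrho2_rho hQ i2 ^ i) (eM F m i2))} := by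
      apply Submodule.subset_span
      exact ⟨1, (mrho2_wpart_e1 h2 hQ i2).symm⟩
    apply mrho2_span _ _ hS1 w hw
    have := Submodule.sub_mem _ hS01 hS1
    rwa [add_sub_cancel_right] at this

end mrho2c

end Cfsg.Agent.Lib.Helper67.Og
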