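import Mathlib
import Cfsg.Agent.Lib.Helper41.OmBNDefs
import Cfsg.Agent.Lib.Helper34.SpBN_Aux

/-! # S2549 OmBN hive (helper41), leaf FACS, core (helper25): the factorisation `B = (B ∩ s⁻¹Bs) X_S` for a short
simple reflection, with the leaf BFLAG (`mem_Bo_of_e_cols`) as a hypothesis. -/

set_option autoImplicit false
set_option linter.unusedSimpArgs false
set_option linter.unusedVariables false
set_option linter.unusedSectionVars false

namespace Cfsg.Agent.Lib.Helper41.OmBN

open Matrix Cfsg Cfsg.Agent.Lib.Helper13 Cfsg.Agent.Lib.Helper8 Cfsg.Agent.Lib.Helper43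
  Cfsg.Agent.Lib.Helper41.SpBN

variable {F : Type*} [Field F] {m : ℕ} {a b : F}

/-- entries via columns -/
theorem facs_entry (g : OG F m a b) (i j : MIdx m) :
    (mat g *ᵥ Pi.single j 1) i = mat g i j := by
  rw [Matrix.mulVec_single_one]
  rfl

/-- a diagonal entry of an element of `B` whose `oord`-class is a singleton does not vanish -/
theorem facs_diag_ne_zero {g : OG F m a b} (hg : g ∈ Bo F m a b) (j0 : MIdx m)
    (hj0 : ∀ j, oord m j = oord m j0 → j = j0) : mat g j0 j0 ≠ 0 := by
  intro h0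
  have hg' := (Bo F m a b).inv_mem hg
  rw [mem_Bo_iff] at hg hg'
  have h1 : (mat g⁻¹ * mat g) j0 j0 = 1 := by
    rw [mat_inv_mul]
    simp
  rw [Matrix.mul_apply, Finset.sum_eq_single j0] at h1
  · rw [h0, mul_zero] at h1
    exact zero_ne_one h1
  · intro j _ hj
    rcases lt_or_gt_of_ne (fun h => hj (hj0 j h)) with h | h
    · rw [hg' j0 j h, zero_mul]
    · rw [hg j j0 h, mul_zero]
  · simp

/-- the action of `E(e_k, t f_k')` -/
theorem facs_actsAs_apply {x : OG F m a b} {k k' : Fin m} {t : F}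
    (hx : ActsAs F m a b x (ve F k) (t • vf F k')) (y : MIdx m → F) :
    mat x *ᵥ y = y + (t * y (Sum.inl (Sum.inr k))) • vf F k'
      - (t * y (Sum.inl (Sum.inl k'))) • ve F k := by
  rw [hx y, eichlerLin_apply]
  have h1 : QuadraticMap.polar (⇑(minusForm m F a b)) (ve F k) y = y (Sum.inl (Sum.inr k)) :=
    polar_minusForm_inl m F a b k y
  have h2 : QuadraticMap.polar (⇑(minusForm m F a b)) (t • vf F k') y =
      t * y (Sum.inl (Sum.inl k')) := by
    rw [QuadraticMap.polar_smul_left, smul_eq_mul]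
    congr 1
    exact polar_minusForm_inr m F a b k' y
  have h3 : minusForm m F a b (t • vf F k') = 0 := by
    rw [QuadraticMap.map_smul, show minusForm m F a b (vf F k') = 0 from
      minusForm_single_inr m F a b k', smul_zero]
  rw [h1, h2, h3, zero_mul, zero_smul, sub_zero, smul_smul, mul_comm]

/-- right multiplication by `E(e_k, t f_k')` -/
theorem facs_mul_entry {g x : OG F m a b} {k k' : Fin m} {t : F}
    (hx : ActsAs F m a b x (ve F k) (t • vf F k')) (i j : MIdx m) :
    mat (g * x) i j = mat g i j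
      + (if j = Sum.inl (Sum.inr k) then t * mat g i (Sum.inl (Sum.inr k')) else 0)
      - (if j = Sum.inl (Sum.inl k') then t * mat g i (Sum.inl (Sum.inl k)) else 0) := by
  rw [← facs_entry (g * x), mat_mul, ← Matrix.mulVec_mulVec, facs_actsAs_apply hx,
    Matrix.mulVec_sub, Matrix.mulVec_add, Matrix.mulVec_smul, Matrix.mulVec_smul]
  simp only [Pi.sub_apply, Pi.add_apply, Pi.smul_apply, smul_eq_mul]
  rw [ve, vf, facs_entry, facs_entry, facs_entry]
  by_cases h1 : j = Sum.inl (Sum.inr k)
  · subst h1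
    simp
  · by_cases h2 : j = Sum.inl (Sum.inl k')
    · subst h2
      simp
    · rw [if_neg h1, if_neg h2, Pi.single_eq_of_ne (Ne.symm h1), Pi.single_eq_of_ne (Ne.symm h2)]
      simp

/-- the inverse of `E(e_k, t f_k')` is `E(e_k, -t f_k')` -/
theorem facs_inv_actsAs [Fintype F] (hab : Aniso a b) {x : OG F m a b} {k k' : Fin m} (hne : k ≠ k')
    {t : F} (hx : ActsAs F m a b x (ve F k) (t • vf F k')) :
    ActsAs F m a b x⁻¹ (ve F k) ((-t) • vf F k') := by
  have hu : minusForm m F a b (ve F k) = 0 := minusForm_single_inl m F a b k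
  have huv : QuadraticMap.polar (⇑(minusForm m F a b)) (ve F k) (t • vf F k') = 0 := by
    rw [show QuadraticMap.polar (⇑(minusForm m F a b)) (ve F k) (t • vf F k') =
      (t • vf F k') (Sum.inl (Sum.inr k)) from polar_minusForm_inl m F a b k _]
    simp [vf, hne]
  have hxe := ActsAs.eq_eichlerElt hab hx hu huv
  intro y
  rw [hxe, eichlerElt_inv, eichlerElt_mulVec, eichlerLin_apply, neg_smul]

theorem facs_permBlock_apply (σ : Equiv.Perm (Idx m)) (i j : MIdx m) :
    (permBlock σ : Matrix (MIdx m) (MIdx m) F) i j = if i = Sum.map σ id j then 1 else 0 := by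
  rcases i with i | i <;> rcases j with j | j
  · simp [permBlock, permMat]
  · simp [permBlock]
  · simp [permBlock]
  · simp [permBlock, Matrix.one_apply]

/-- entries of a conjugate by a block permutation matrix -/
theorem facs_pconj {s : OG F m a b} {σ : Equiv.Perm (Idx m)} (hs : mat s = permBlock σ)
    (g : OG F m a b) (i j : MIdx m) :
    mat (s * g * s⁻¹) i j = mat g (Sum.map σ.symm id i) (Sum.map σ.symm id j) := by
  have h1 : mat (s * g * s⁻¹) * mat s = mat s * mat g := by
    rw [← mat_mul, ← mat_mul, inv_mul_cancel_right]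
  have h2 := congrFun (congrFun h1 i) (Sum.map σ.symm id j)
  have e1 : ∀ c : MIdx m, Sum.map (⇑σ) id (Sum.map (⇑σ.symm) id c) = c := by
    intro c
    rcases c with c | c <;> simp
  have e2 : ∀ c : MIdx m, Sum.map (⇑σ.symm) id (Sum.map (⇑σ) id c) = c := by
    intro c
    rcases c with c | c <;> simp
  rw [hs, Matrix.mul_apply, Matrix.mul_apply, Finset.sum_eq_single j,
    Finset.sum_eq_single (Sum.map σ.symm id i)] at h2
  · rw [facs_permBlock_apply, facs_permBlock_apply, e1, if_pos rfl, e1, if_pos rfl, mul_one,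
      one_mul] at h2
    exact h2
  · intro d _ hd
    rw [facs_permBlock_apply, if_neg ?_, zero_mul]
    intro h
    apply hd
    rw [h, e2]
  · simp
  · intro d _ hd
    rw [facs_permBlock_apply, e1, if_neg hd, mul_zero]
  · simp

theorem facs_swap_val (k k' i : Fin m) :
    ((Equiv.swap k k' i : Fin m) : ℕ) =
      if (i : ℕ) = k then (k' : ℕ) else if (i : ℕ) = k' then (k : ℕ) else i := by
  rw [Equiv.swap_apply_def]
  split_ifs with h1 h2 h3 h4 h5 h6 <;> simp_all [Fin.ext_iff]

/-- the core of FACS, with the leaf BFLAG as a hypothesis -/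
theorem facs_core [Fintype F] (hab : Aniso a b)
    (hflag : ∀ g : OG F m a b, (∀ (k : Fin m) (i : MIdx m), (k : ℕ) < oord m i →
      mat g i (Sum.inl (Sum.inl k)) = 0) → g ∈ Bo F m a b)
    {k k' : Fin m} (hkk : (k : ℕ) + 1 = (k' : ℕ)) {s : OG F m a b}
    (hs : mat s = permBlock (simpleShort k k')) :
    ∀ g ∈ Bo F m a b, ∃ g' ∈ Bo F m a b, ∃ x ∈ XS F m a b k k', g = g' * x ∧
      s * g' * s⁻¹ ∈ Bo F m a b := by
  intro g hg
  have hne : k ≠ k' := by
    intro h
    rw [h] at hkk
    omega
  have hk := k.isLt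
  have hk' := k'.isLt
  have hd : mat g (Sum.inl (Sum.inl k)) (Sum.inl (Sum.inl k)) ≠ 0 := by
    apply facs_diag_ne_zero hg
    intro j hj
    rcases j with (j | j) | j
    · rw [oord_e, oord_e] at hj
      rw [Fin.ext hj]
    · rw [oord_f, oord_e] at hj
      have := j.isLt
      omega
    · rw [oord_w, oord_e] at hj
      omega
  set τ : F := mat g (Sum.inl (Sum.inl k)) (Sum.inl (Sum.inl k')) /
    mat g (Sum.inl (Sum.inl k)) (Sum.inl (Sum.inl k)) with hτ
  have hu : minusForm m F a b (ve F k) = 0 := minusForm_single_inl m F a b k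
  have huv : QuadraticMap.polar (⇑(minusForm m F a b)) (ve F k) (τ • vf F k') = 0 := by
    rw [show QuadraticMap.polar (⇑(minusForm m F a b)) (ve F k) (τ • vf F k') =
      (τ • vf F k') (Sum.inl (Sum.inr k)) from polar_minusForm_inl m F a b k _]
    simp [vf, hne]
  obtain ⟨x', hx'⟩ := eichler_exists hab (ve F k) (τ • vf F k') hu huv
  have hB := (mem_Bo_iff g).1 hg
  have hentry := fun i j => facs_mul_entry (g := g) hx' i j
  have h0 : mat (g * x') (Sum.inl (Sum.inl k)) (Sum.inl (Sum.inl k')) = 0 := by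
    rw [hentry, if_neg (by simp), if_pos rfl, hτ, div_mul_cancel₀ _ hd]
    ring
  have hg'B : g * x' ∈ Bo F m a b := by
    rw [mem_Bo_iff]
    intro i j hij
    rw [hentry, hB i j hij]
    by_cases h1 : j = Sum.inl (Sum.inr k)
    · subst h1
      rw [if_pos rfl, if_neg (by simp), hB i (Sum.inl (Sum.inr k')) ?_]
      · ring
      · rw [oord_f] at hij ⊢
        omega
    · by_cases h2 : j = Sum.inl (Sum.inl k')
      · subst h2
        rw [if_neg h1, if_pos rfl, hB i (Sum.inl (Sum.inl k)) ?_]
        · ring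
        · rw [oord_e] at hij ⊢
          omega
      · rw [if_neg h1, if_neg h2]
        ring
  have hB' := (mem_Bo_iff _).1 hg'B
  refine ⟨g * x', hg'B, x'⁻¹, ⟨-τ, facs_inv_actsAs hab hne hx'⟩, by rw [mul_inv_cancel_right], ?_⟩
  apply hflag
  intro k0 i hi
  rw [facs_pconj hs, Sum.map_inl, facs_simpleShort_symm_inl]
  have hsw0 := facs_swap_val k k' k0
  have hlt0 := (Equiv.swap k k' k0).isLt
  rcases i with (j | j) | j
  · rw [Sum.map_inl, facs_simpleShort_symm_inl]
    rw [oord_e] at hi
    have hswj := facs_swap_val k k' j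
    by_cases hcrit : k0 = k ∧ j = k'
    · obtain ⟨rfl, rfl⟩ := hcrit
      rw [Equiv.swap_apply_left, Equiv.swap_apply_right]
      exact h0
    · apply hB'
      rw [oord_e, oord_e, hsw0, hswj]
      have hc : ¬ ((k0 : ℕ) = k ∧ (j : ℕ) = k') := by
        rintro ⟨h1, h2⟩
        exact hcrit ⟨Fin.ext h1, Fin.ext h2⟩
      split_ifs <;> omega
  · rw [Sum.map_inl, facs_simpleShort_symm_inr]
    apply hB'
    rw [oord_e, oord_f]
    have hltj := (Equiv.swap k k' j).isLt
    omega
  · rw [Sum.map_inr]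
    apply hB'
    rw [oord_e]
    show _ < oord m (Sum.inr j)
    rw [oord_w]
    exact hlt0

end Cfsg.Agent.Lib.Helper41.OmBN
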