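import Mathlib
import Cfsg.Agent.Lib.Helper41.OmBNDefs
import Cfsg.Agent.Lib.Helper25.OmBN_FACScore
import Cfsg.Agent.Lib.Helper80.OmBN_BFLAG

/-! # S2549 OmBN hive (helper41), leaf FACS (helper25): `B = (B ∩ s⁻¹Bs) X_S` for a short simple reflection
(`facs_core` + helper80's BFLAG `mem_Bo_of_e_cols`). -/

set_option autoImplicit false

namespace Cfsg.Agent.Lib.Helper41.OmBN

open Matrix Cfsg Cfsg.Agent.Lib.Helper13 Cfsg.Agent.Lib.Helper8 Cfsg.Agent.Lib.Helper43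
  Cfsg.Agent.Lib.Helper41.SpBN

variable {F : Type*} [Field F] {m : ℕ} {a b : F}

/-- LEAF FACS -/
theorem facS [Fintype F] (hab : Aniso a b) {k k' : Fin m} (hkk : (k : ℕ) + 1 = (k' : ℕ)) {s : OG F m a b}
    (hs : mat s = permBlock (simpleShort k k')) :
    ∀ g ∈ Bo F m a b, ∃ g' ∈ Bo F m a b, ∃ x ∈ XS F m a b k k', g = g' * x ∧
      s * g' * s⁻¹ ∈ Bo F m a b :=
  facs_core hab mem_Bo_of_e_cols hkk hs

end Cfsg.Agent.Lib.Helper41.OmBN
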