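import Mathlib
import Cfsg.Agent.Lib.Helper40.OpBNDefs

/-! # S2548 hive (helper40, OpBN), leaf RK1S (helper25): core, with BOREL `mem_Bo_iff` and ROOT `exists_xS`
as hypotheses -/

set_option autoImplicit false
set_option linter.unusedSimpArgs false

namespace Cfsg.Agent.Lib.Helper40.OpBN

open Matrix Cfsg.Agent.Lib.Helper13 Cfsg.Agent.Lib.Helper41.SpBN

variable {F : Type*} [Field F] {m : ℕ}

/-- rows of `g * M` for a monomial matrix `g` -/
theorem rk1s_mono_mul_apply {g M : Matrix (Idx m) (Idx m) F} {π : Equiv.Perm (Idx m)}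
    {d : Idx m → F} (h : IsMono g π d) (p q : Idx m) :
    (g * M) p q = d (π.symm p) * M (π.symm p) q := by
  rw [Matrix.mul_apply]
  rw [Finset.sum_eq_single (π.symm p)]
  · rw [h p (π.symm p), if_pos (Equiv.apply_symm_apply π p).symm]
  · intro r _ hr
    rw [h p r, if_neg, zero_mul]
    intro hp
    apply hr
    rw [hp, Equiv.symm_apply_apply]
  · intro hp
    exact absurd (Finset.mem_univ _) hp

theorem rk1s_symm_inl (k k' i : Fin m) :
    (simpleShort k k').symm (Sum.inl i) = Sum.inl (Equiv.swap k k' i) := by
  unfold simpleShort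
  rw [Equiv.Perm.mul_def, Equiv.symm_trans_apply, Equiv.symm_swap, Equiv.symm_swap]
  simp only [Equiv.swap_apply_def]
  split_ifs <;> simp_all

theorem rk1s_symm_inr (k k' i : Fin m) :
    (simpleShort k k').symm (Sum.inr i) = Sum.inr (Equiv.swap k k' i) := by
  unfold simpleShort
  rw [Equiv.Perm.mul_def, Equiv.symm_trans_apply, Equiv.symm_swap, Equiv.symm_swap]
  simp only [Equiv.swap_apply_def]
  split_ifs <;> simp_all

/-- LEAF RK1S, core: BOREL and ROOT as hypotheses -/
theorem rk1s_core
    (hBo : ∀ g : OG F m, g ∈ Bo F m ↔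
      (∀ i j : Fin m, (j : ℕ) < (i : ℕ) → mt g (Sum.inl i) (Sum.inl j) = 0) ∧
      (∀ i j : Fin m, mt g (Sum.inr i) (Sum.inl j) = 0))
    (hxS : ∀ (k k' : Fin m), k ≠ k' → ∀ t : F,
      ∃ g : OG F m, mt g = 1 + t • Matrix.single (Sum.inl k) (Sum.inl k') (1 : F)
        - t • Matrix.single (Sum.inr k') (Sum.inr k) (1 : F))
    {k k' : Fin m} (hkk : (k : ℕ) + 1 = (k' : ℕ)) {s : OG F m}
    (hs : mt s = permMat F (simpleShort k k')) :
    ∀ x ∈ XS F m k k', x = 1 ∨ ∃ c ∈ Bo F m, ∃ y ∈ XSm F m k k', s * x = c * y := by
  rintro x ⟨t, hx⟩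
  by_cases ht : t = 0
  · left
    apply mt_ext
    rw [hx, ht, zero_smul, zero_smul, add_zero, sub_zero, mt_one]
  right
  have hne : k ≠ k' := by
    intro h
    rw [h] at hkk
    omega
  set u : F := t⁻¹ with hu
  have htu : t * u = 1 := mul_inv_cancel₀ ht
  obtain ⟨y, hy⟩ := hxS k' k hne.symm u
  obtain ⟨y', hy'⟩ := hxS k' k hne.symm (-u)
  have hAB : (Sum.inl k : Idx m) ≠ Sum.inr k := by simp
  have hAB' : (Sum.inl k : Idx m) ≠ Sum.inr k' := by simp
  have hA'B : (Sum.inl k' : Idx m) ≠ Sum.inr k := by simp
  have hA'B' : (Sum.inl k' : Idx m) ≠ Sum.inr k' := by simp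
  have hAA' : (Sum.inl k : Idx m) ≠ Sum.inl k' := by simp [hne]
  have hBB' : (Sum.inr k : Idx m) ≠ Sum.inr k' := by simp [hne]
  have hy'y : y' * y = 1 := by
    apply mt_ext
    rw [mt_mul, mt_one, hy, hy']
    simp only [Matrix.add_mul, Matrix.sub_mul, Matrix.mul_add, Matrix.mul_sub, Matrix.one_mul, Matrix.mul_one,
      Matrix.smul_mul, Matrix.mul_smul,
      Matrix.single_mul_single_of_ne _ _ _ _ hAA' _,
      Matrix.single_mul_single_of_ne _ _ _ _ hA'B.symm _, Matrix.single_mul_single_of_ne _ _ _ _ hBB'.symm _]
    simp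
    abel
  have hmono := permMat_isMono (F := F) (simpleShort k k')
  rw [← hs] at hmono
  refine ⟨s * x * y', ?_, y, ⟨u, hy⟩, ?_⟩
  · rw [hBo]
    have hc : mt (s * x * y') = mt s * (mt x * mt y') := by
      rw [mt_mul, mt_mul, Matrix.mul_assoc]
    have hZ : ∀ r : Idx m, ∀ j : Fin m, (mt x * mt y') r (Sum.inl j) =
        (if r = Sum.inl j then 1 else 0) - (if r = Sum.inl k' ∧ j = k then u else 0)
          + (if r = Sum.inl k ∧ j = k' then t else 0) - (if r = Sum.inl k ∧ j = k then 1 else 0) := by
      intro r j
      rw [hx, hy']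
      simp only [Matrix.add_mul, Matrix.sub_mul, Matrix.mul_add, Matrix.mul_sub, Matrix.one_mul, Matrix.mul_one,
        Matrix.smul_mul, Matrix.mul_smul, Matrix.single_mul_single_same,
        Matrix.single_mul_single_of_ne _ _ _ _ hA'B _, Matrix.single_mul_single_of_ne _ _ _ _ hA'B.symm _]
      simp only [Matrix.add_apply, Matrix.sub_apply, Matrix.smul_apply, Matrix.one_apply, Matrix.single_apply,
        smul_eq_mul]
      simp only [Matrix.zero_apply, mul_zero, sub_zero, add_zero, mul_one]
      rcases r with i | i
      · simp only [Sum.inl.injEq, reduceCtorEq, false_and, and_false, if_false, mul_zero, sub_zero]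
        by_cases h1 : j = k
        · subst h1
          by_cases h2 : i = j
          · subst h2
            simp [hne, hne.symm]
            linear_combination (-1 : F) * htu
          · by_cases h3 : i = k'
            · subst h3
              simp [hne, hne.symm]
            · simp [hne, hne.symm, h2, h3, Ne.symm h2, Ne.symm h3]
        · by_cases h1' : j = k'
          · subst h1'
            by_cases h2 : i = k
            · subst h2
              simp [hne, hne.symm]
            · by_cases h3 : i = j
              · subst h3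
                simp [hne, hne.symm]
              · simp [hne, hne.symm, h2, h3, Ne.symm h2, Ne.symm h3]
          · simp [h1, h1', Ne.symm h1, Ne.symm h1']
      · simp
    constructor
    · intro i j hji
      rw [hc, rk1s_mono_mul_apply hmono, hZ, rk1s_symm_inl]
      by_cases hik : i = k
      · subst hik
        have hj1 : j ≠ i := by
          intro h
          rw [h] at hji
          omega
        have hj2 : j ≠ k' := by
          intro h
          rw [h] at hji
          omega
        simp [hj1, hj2, Ne.symm hj2, hne.symm]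
      · by_cases hik' : i = k'
        · subst hik'
          have hj1 : j ≠ i := by
            intro h
            rw [h] at hji
            omega
          simp [hj1, hne]
          by_cases hjk : j = k
          · subst hjk
            simp
          · simp [hjk, Ne.symm hjk]
        · have hj1 : i ≠ j := by
            intro h
            rw [h] at hji
            omega
          rw [Equiv.swap_apply_of_ne_of_ne hik hik']
          simp [hik, hik', hj1]
    · intro i j
      rw [hc, rk1s_mono_mul_apply hmono, hZ, rk1s_symm_inr]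
      simp
  · rw [mul_assoc, mul_assoc, hy'y, mul_one]

end Cfsg.Agent.Lib.Helper40.OpBN
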