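import Mathlib
import Cfsg.Agent.Lib.Helper40.OpBNDefs
import Cfsg.Agent.Lib.Helper25.OpBN_RK1Score
import Cfsg.Agent.Lib.Helper87.OpBN_BOREL
import Cfsg.Agent.Lib.Helper40.OpBN_ROOT

/-! # S2548 OpBN hive (helper40), leaf RK1S (helper25): `rk1s_core` + helper87's BOREL + helper40's ROOT. -/

set_option autoImplicit false

namespace Cfsg.Agent.Lib.Helper40.OpBN

open Matrix Cfsg Cfsg.Agent.Lib.Helper13 Cfsg.Agent.Lib.Helper41.SpBN

variable {F : Type*} [Field F] {m : ℕ}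

/-- LEAF RK1S -/
theorem rk1S {k k' : Fin m} (hkk : (k : ℕ) + 1 = (k' : ℕ)) {s : OG F m}
    (hs : mt s = permMat F (simpleShort k k')) :
    ∀ x ∈ XS F m k k', x = 1 ∨ ∃ c ∈ Bo F m, ∃ y ∈ XSm F m k k', s * x = c * y :=
  rk1s_core mem_Bo_iff exists_xS hkk hs

end Cfsg.Agent.Lib.Helper40.OpBN
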