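import Mathlib

/-!
# P3-L2a (S4427 hive): splitting a split polynomial over a local domain into its unit-root and
non-unit-root parts, which are comaximal
-/

set_option autoImplicit false
set_option linter.unusedVariables false
set_option linter.unusedSimpArgs false
set_option linter.unusedSectionVars false

namespace Cfsg.Agent.Lib.P3

open Polynomial

section
variable {S : Type*} [CommRing S] [IsLocalRing S]

theorem p3_L2a_isUnit_sub {a b : S} (ha : IsUnit a) (hb : ¬ IsUnit b) : IsUnit (a - b) := by
  by_contra h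
  have h1 : a - b ∈ nonunits S := h
  have h2 : b ∈ nonunits S := hb
  have h3 := IsLocalRing.nonunits_add h1 h2
  rw [sub_add_cancel] at h3
  exact h3 ha

theorem p3_L2a_isUnit_one_sub {b : S} (hb : ¬ IsUnit b) : IsUnit (1 - b) :=
  p3_L2a_isUnit_sub isUnit_one hb

theorem p3_L2a_coprime_lin {a b : S} (ha : IsUnit a) (hb : ¬ IsUnit b) :
    IsCoprime (X - C a : Polynomial S) (X - C b) := by
  obtain ⟨u, hu⟩ := p3_L2a_isUnit_sub ha hb
  refine ⟨-C (↑u⁻¹ : S), C (↑u⁻¹ : S), ?_⟩
  have h1 : (↑u⁻¹ : S) * (a - b) = 1 := by rw [← hu]; simp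
  have h2 : -C (↑u⁻¹ : S) * (X - C a) + C (↑u⁻¹ : S) * (X - C b) = C ((↑u⁻¹ : S) * (a - b)) := by
    rw [C_mul, C_sub]; ring
  rw [h2, h1, C_1]

theorem p3_L2a_coprime_left (U : Multiset S) (hU : ∀ a ∈ U, IsUnit a) {b : S} (hb : ¬ IsUnit b) :
    IsCoprime ((U.map (fun c => X - C c)).prod : Polynomial S) (X - C b) := by
  induction U using Multiset.induction with
  | empty => simp [isCoprime_one_left]
  | cons a U ih =>
    rw [Multiset.map_cons, Multiset.prod_cons]
    exact IsCoprime.mul_left (p3_L2a_coprime_lin (hU a (Multiset.mem_cons_self a U)) hb)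
      (ih (fun x hx => hU x (Multiset.mem_cons_of_mem hx)))

theorem p3_L2a_coprime (U N : Multiset S) (hU : ∀ a ∈ U, IsUnit a) (hN : ∀ b ∈ N, ¬ IsUnit b) :
    IsCoprime ((U.map (fun c => X - C c)).prod : Polynomial S)
      ((N.map (fun c => X - C c)).prod) := by
  induction N using Multiset.induction with
  | empty => simp [isCoprime_one_right]
  | cons b N ih =>
    rw [Multiset.map_cons, Multiset.prod_cons]
    exact IsCoprime.mul_right (p3_L2a_coprime_left U hU (hN b (Multiset.mem_cons_self b N)))
      (ih (fun x hx => hN x (Multiset.mem_cons_of_mem hx)))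

theorem p3_L2a_eval_zero (U : Multiset S) (hU : ∀ a ∈ U, IsUnit a) :
    IsUnit (((U.map (fun c => X - C c)).prod : Polynomial S).eval 0) := by
  induction U using Multiset.induction with
  | empty => simp
  | cons a U ih =>
    rw [Multiset.map_cons, Multiset.prod_cons, eval_mul]
    refine IsUnit.mul ?_ (ih (fun x hx => hU x (Multiset.mem_cons_of_mem hx)))
    simp only [eval_sub, eval_X, eval_C, zero_sub]
    exact (hU a (Multiset.mem_cons_self a U)).neg

theorem p3_L2a_eval_one (N : Multiset S) (hN : ∀ b ∈ N, ¬ IsUnit b) :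
    IsUnit (((N.map (fun c => X - C c)).prod : Polynomial S).eval 1) := by
  induction N using Multiset.induction with
  | empty => simp
  | cons b N ih =>
    rw [Multiset.map_cons, Multiset.prod_cons, eval_mul]
    refine IsUnit.mul ?_ (ih (fun x hx => hN x (Multiset.mem_cons_of_mem hx)))
    simp only [eval_sub, eval_X, eval_C]
    exact p3_L2a_isUnit_one_sub (hN b (Multiset.mem_cons_self b N))

end

/-- P3-L2a. -/
theorem p3_L2a_split {S : Type*} [CommRing S] [IsDomain S] [IsLocalRing S] (m : Multiset S) :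
    ∃ g h a b : Polynomial S, (m.map (fun c => X - C c)).prod = g * h ∧ a * g + b * h = 1 ∧
      IsUnit (g.eval 0) ∧ IsUnit (h.eval 1) := by
  classical
  let U := m.filter (fun c => IsUnit c)
  let N := m.filter (fun c => ¬ IsUnit c)
  have hU : ∀ a ∈ U, IsUnit a := fun a ha => (Multiset.mem_filter.1 ha).2
  have hN : ∀ b ∈ N, ¬ IsUnit b := fun b hb => (Multiset.mem_filter.1 hb).2
  have hm : m = U + N := (Multiset.filter_add_not _ m).symm
  obtain ⟨a, b, hab⟩ := p3_L2a_coprime U N hU hN
  refine ⟨(U.map (fun c => X - C c)).prod, (N.map (fun c => X - C c)).prod, a, b, ?_, hab,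
    p3_L2a_eval_zero U hU, p3_L2a_eval_one N hN⟩
  conv_lhs => rw [hm]
  rw [Multiset.map_add, Multiset.prod_add]

end Cfsg.Agent.Lib.P3
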