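import Mathlib

/-!
# P3-L4b (S4427 hive): `rank (X * Y * Z) ≤ rank Y`
-/

set_option autoImplicit false
set_option linter.unusedVariables false

namespace Cfsg.Agent.Lib.P3

/-- P3-L4b. -/
theorem p3_L4b_rank_le {V : Type*} [AddCommGroup V] [Module ℂ V] [FiniteDimensional ℂ V]
    (X Y Z : Module.End ℂ V) :
    Module.finrank ℂ (LinearMap.range (X * Y * Z)) ≤ Module.finrank ℂ (LinearMap.range Y) := by
  have h1 : LinearMap.range (X * Y * Z) ≤ Submodule.map X (LinearMap.range Y) := by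
    rintro _ ⟨v, rfl⟩
    exact ⟨Y (Z v), ⟨Z v, rfl⟩, rfl⟩
  exact (Submodule.finrank_mono h1).trans (Submodule.finrank_map_le X (LinearMap.range Y))

end Cfsg.Agent.Lib.P3
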