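import Cfsg.Agent.Lib.Helper25.CohAbelian
import Cfsg.Agent.Lib.Helper3.Ortho
import Cfsg.Agent.S1492
import Cfsg.Agent.Lib.Helper3.OddOrder

set_option autoImplicit false
set_option linter.unusedSectionVars false

namespace Cfsg.Agent.Lib.Helper25

open Cfsg
open scoped ComplexConjugate

section PCount

variable {L : Type*} [Group L] [Fintype L] (K : Subgroup L) [hK : K.Normal]

/-- The irreducible characters of `K` that are not trivial on `Z`. -/
noncomputable def irrNotAbove [Fintype (IrrCharacter K)] (Z : Subgroup L) :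
    Finset (IrrCharacter K) :=
  open Classical in
  Finset.univ.filter (fun θ : IrrCharacter K =>
    ¬ ∀ z : K, (z : L) ∈ Z → (θ : K → ℂ) z = (θ : K → ℂ) 1)

theorem mem_irrNotAbove [Fintype (IrrCharacter K)] (Z : Subgroup L) (θ : IrrCharacter K) :
    θ ∈ irrNotAbove K Z ↔ ¬ ∀ z : K, (z : L) ∈ Z → (θ : K → ℂ) z = (θ : K → ℂ) 1 := by
  classical
  unfold irrNotAbove
  rw [Finset.mem_filter]
  simp only [Finset.mem_univ, true_and]

/-- `irrNotAbove K Z` is a union of fibres of induction. -/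
theorem irrNotAbove_fibre [Fintype (IrrCharacter K)] (Z : Subgroup L) [hZ : Z.Normal]
    (θ : IrrCharacter K) (hθ : θ ∈ irrNotAbove K Z) (θ' : IrrCharacter K)
    (h : indFun K (θ' : K → ℂ) = indFun K (θ : K → ℂ)) : θ' ∈ irrNotAbove K Z := by
  rw [mem_irrNotAbove] at hθ ⊢
  intro hker
  apply hθ
  obtain ⟨g, hg⟩ := exists_conj_of_ind_eq K θ' θ h.symm
  have h1 : (θ : K → ℂ) 1 = (θ' : K → ℂ) 1 := by
    rw [hg]
    exact congrArg (θ' : K → ℂ) (Subtype.ext (by simp))
  intro z hz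
  rw [h1, hg]
  exact hker ⟨g * z * g⁻¹, hK.conj_mem z z.2 g⟩ (hZ.conj_mem z hz g)

/-- Sum of the squares of the degrees over `irrNotAbove K Z`. -/
theorem sum_sq_irrNotAbove [Fintype (IrrCharacter K)] (Z : Subgroup L) [hZ : Z.Normal] :
    ∑ θ ∈ irrNotAbove K Z, ((θ : K → ℂ) 1) ^ 2 = (Nat.card K : ℂ) - (Z.relIndex K : ℂ) := by
  classical
  have : Fintype K := Fintype.ofFinite _
  have hN : (Z.subgroupOf K).Normal := inferInstance
  have h1 := sum_sq_degree_kernel (Z.subgroupOf K)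
  have h2 := Cfsg.Agent.Lib.Helper3.sum_sq_degree (G := K)
  have hidx : (Z.subgroupOf K).index = Z.relIndex K := rfl
  rw [hidx] at h1
  rw [← h1, ← h2]
  rw [eq_sub_iff_add_eq, add_comm]
  have hfilter : irrNotAbove K Z = Finset.univ.filter (fun θ : IrrCharacter K =>
      ¬ ∀ a : Z.subgroupOf K, (θ : K → ℂ) a = (θ : K → ℂ) 1) := by
    ext θ
    rw [mem_irrNotAbove, Finset.mem_filter]
    simp only [Finset.mem_univ, true_and, not_iff_not]
    constructor
    · intro h a; exact h a.1 a.2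
    · intro h z hz; exact h ⟨z, hz⟩
  rw [hfilter]
  exact Finset.sum_filter_add_sum_filter_not Finset.univ _ _

end PCount

section PCount2

variable {L : Type*} [Group L] [Fintype L] (K : Subgroup L) [hK : K.Normal]

/-- For `Z` central in `K`, `θ(1)² ≤ |K : Z|`. -/
theorem degree_sq_le_relIndex_of_central (Z : Subgroup L)
    (hZc : ∀ z ∈ Z, ∀ k ∈ K, z * k = k * z) {θ : K → ℂ} (hθ : IsIrrCharacter K θ) (d : ℕ)
    (hd : θ 1 = d) : d ^ 2 ≤ Z.relIndex K := by
  have h := Cfsg.Agent.S1492.result θ hθ ⊥ ⊤ (Z.subgroupOf K) bot_le le_top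
    (fun c _ b hb => by
      rw [Subgroup.mem_bot] at hb ⊢
      rw [hb]; group)
    (fun d hd c _ => by
      rw [Subgroup.mem_bot]
      apply Subtype.ext
      have := hZc d hd c c.2
      push_cast
      rw [this]; group)
    (fun b hb => by
      rw [Subgroup.mem_bot] at hb
      rw [hb])
  rw [hd, Complex.norm_natCast, Subgroup.card_top] at h
  have h' : d ^ 2 * Nat.card K * Nat.card (Z.subgroupOf K) ≤ Nat.card K ^ 2 := by
    exact_mod_cast h
  have hC := Subgroup.card_mul_index (Z.subgroupOf K)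
  have hi : (Z.subgroupOf K).index = Z.relIndex K := rfl
  rw [hi] at hC
  have hkpos : 0 < Nat.card K := Nat.card_pos
  have hzpos : 0 < Nat.card (Z.subgroupOf K) := Nat.card_pos
  have h2 : d ^ 2 * (Nat.card K * Nat.card (Z.subgroupOf K)) ≤
      Z.relIndex K * (Nat.card K * Nat.card (Z.subgroupOf K)) := by
    calc d ^ 2 * (Nat.card K * Nat.card (Z.subgroupOf K))
        = d ^ 2 * Nat.card K * Nat.card (Z.subgroupOf K) := by ring
      _ ≤ Nat.card K ^ 2 := h'
      _ = Nat.card K * (Nat.card (Z.subgroupOf K) * Z.relIndex K) := by rw [hC]; ring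
      _ = _ := by ring
  exact Nat.le_of_mul_le_mul_right h2 (Nat.mul_pos hkpos hzpos)

end PCount2

section PCount3

variable {L : Type*} [Group L] [Fintype L] (K : Subgroup L) [hK : K.Normal]

/-- The counting inequality of PF 6.6 for a `p`-group `K`. -/
theorem pgroup_count [Fintype (IrrCharacter K)] (Z : Subgroup L) [hZ : Z.Normal]
    (hZc : ∀ z ∈ Z, ∀ k ∈ K, z * k = k * z)
    (p m : ℕ) (hp : p.Prime) (hp3 : 3 ≤ p) (hcard : Nat.card K = p ^ m)
    (hcop : Nat.Coprime K.index p)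
    (deg : IrrCharacter K → ℕ) (hdeg : ∀ θ : IrrCharacter K, (θ : K → ℂ) 1 = (deg θ : ℂ))
    (hnorm : ∀ θ ∈ irrNotAbove K Z,
      classInner (indFun K (θ : K → ℂ)) (indFun K (θ : K → ℂ)) = 1)
    (θ θ₀ : IrrCharacter K) (hθ₀ : θ₀ ∈ irrNotAbove K Z)
    (hlt : deg θ₀ < deg θ) :
    2 * K.index * deg θ * deg θ₀ <
      ∑ θ' ∈ (irrNotAbove K Z).filter (fun θ' => deg θ' < deg θ), deg θ' ^ 2 := by
  classical
  have : Fintype K := Fintype.ofFinite _
  have hepos : 0 < K.index := Nat.pos_of_ne_zero Subgroup.index_ne_zero_of_finite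
  -- degrees are powers of p
  have hpow : ∀ θ' : IrrCharacter K, ∃ b : ℕ, deg θ' = p ^ b := by
    intro θ'
    obtain ⟨n, hn1, hn2, -⟩ := Cfsg.Agent.Lib.Helper3.IsIrrCharacter.apply_one_dvd_card θ'.2
    rw [hdeg] at hn1
    have : deg θ' = n := by exact_mod_cast hn1
    rw [hcard] at hn2
    obtain ⟨b, -, hb⟩ := (Nat.dvd_prime_pow hp).mp hn2
    exact ⟨b, by rw [this, hb]⟩
  obtain ⟨a, ha⟩ := hpow θ
  obtain ⟨a₀, ha₀⟩ := hpow θ₀
  have ha₀a : a₀ < a := by
    rw [ha, ha₀] at hlt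
    exact (Nat.pow_lt_pow_iff_right hp.one_lt).mp hlt
  -- the index of Z
  have hrel : Z.relIndex K ∣ p ^ m := by
    rw [← hcard]
    exact Subgroup.relIndex_dvd_card Z K
  obtain ⟨j, -, hj⟩ := (Nat.dvd_prime_pow hp).mp hrel
  have h2aj : 2 * a ≤ j := by
    have h1 := degree_sq_le_relIndex_of_central K Z hZc θ.2 (deg θ) (hdeg θ)
    rw [ha, hj, ← pow_mul] at h1
    have := (Nat.pow_le_pow_iff_right hp.one_lt).mp h1
    omega
  have hdvdj : p ^ (2 * a) ∣ Z.relIndex K := by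
    rw [hj]
    exact pow_dvd_pow p h2aj
  -- total sum
  have htotal : ∑ θ' ∈ irrNotAbove K Z, deg θ' ^ 2 + Z.relIndex K = Nat.card K := by
    have h := sum_sq_irrNotAbove K Z
    rw [Finset.sum_congr rfl (fun θ' _ => by rw [hdeg θ'])] at h
    have h2 : ((∑ θ' ∈ irrNotAbove K Z, deg θ' ^ 2 + Z.relIndex K : ℕ) : ℂ) = (Nat.card K : ℂ) := by
      push_cast
      rw [h]
      ring
    exact_mod_cast h2
  have hcardZ := Subgroup.card_mul_index (Z.subgroupOf K)
  have hi : (Z.subgroupOf K).index = Z.relIndex K := rfl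
  rw [hi] at hcardZ
  have hdvd_total : p ^ (2 * a) ∣ ∑ θ' ∈ irrNotAbove K Z, deg θ' ^ 2 := by
    have h1 : p ^ (2 * a) ∣ Nat.card K := by
      rw [← hcardZ]
      exact Dvd.dvd.mul_left hdvdj _
    rw [← htotal] at h1
    exact (Nat.dvd_add_left hdvdj).mp h1
  -- high part
  have hdvd_high : p ^ (2 * a) ∣
      ∑ θ' ∈ (irrNotAbove K Z).filter (fun θ' => ¬ deg θ' < deg θ), deg θ' ^ 2 := by
    apply Finset.dvd_sum
    intro θ' hθ'
    have hge : deg θ ≤ deg θ' := not_lt.mp (Finset.mem_filter.mp hθ').2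
    obtain ⟨b, hb⟩ := hpow θ'
    rw [ha, hb] at hge
    have hab : a ≤ b := (Nat.pow_le_pow_iff_right hp.one_lt).mp hge
    rw [hb, ← pow_mul, mul_comm b 2]
    exact pow_dvd_pow p (by omega)
  have hsplit := Finset.sum_filter_add_sum_filter_not (irrNotAbove K Z)
    (fun θ' => deg θ' < deg θ) (fun θ' => deg θ' ^ 2)
  set f := ∑ θ' ∈ (irrNotAbove K Z).filter (fun θ' => deg θ' < deg θ), deg θ' ^ 2 with hf
  have hdvd_f : p ^ (2 * a) ∣ f := by
    rw [← hsplit] at hdvd_total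
    exact (Nat.dvd_add_left hdvd_high).mp hdvd_total
  -- f = e * h
  set T := (irrNotAbove K Z).filter (fun θ' => deg θ' < deg θ) with hT
  have hTfib : ∀ θ' ∈ T, ∀ θ'' : IrrCharacter K,
      indFun K (θ'' : K → ℂ) = indFun K (θ' : K → ℂ) → θ'' ∈ T := by
    intro θ' hθ' θ'' h
    rw [hT, Finset.mem_filter] at hθ' ⊢
    refine ⟨irrNotAbove_fibre K Z θ' hθ'.1 θ'' h, ?_⟩
    have h1 := degree_eq_of_ind_eq K h
    rw [hdeg, hdeg] at h1
    have : deg θ'' = deg θ' := by exact_mod_cast h1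
    rw [this]; exact hθ'.2
  let d : (L → ℂ) → ℕ := fun φ => if h : ∃ m : ℕ, φ 1 = (m : ℂ) then h.choose else 0
  have hdval : ∀ θ' : IrrCharacter K, d (indFun K (θ' : K → ℂ)) = K.index * deg θ' := by
    intro θ'
    have hex : ∃ m : ℕ, indFun K (θ' : K → ℂ) 1 = (m : ℂ) :=
      ⟨K.index * deg θ', by rw [indIrr_apply_one, hdeg]; push_cast; ring⟩
    have h1 : indFun K (θ' : K → ℂ) 1 = (d (indFun K (θ' : K → ℂ)) : ℂ) := by
      simp only [d, dif_pos hex]
      exact hex.choose_spec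
    rw [indIrr_apply_one, hdeg] at h1
    exact_mod_cast h1.symm
  have hsum := sum_image_ind K T hTfib d (fun _ => 1) deg hdeg
    (fun θ' _ => by rw [hdval θ', indIrr_apply_one, hdeg]; push_cast; ring)
    (fun θ' hθ' => by
      rw [hnorm θ' (Finset.mem_filter.mp hθ').1]; simp)
  simp only [Nat.cast_one, div_one] at hsum
  have hsumN : ∑ φ ∈ T.image (fun θ' : IrrCharacter K => indFun K (θ' : K → ℂ)), d φ ^ 2 =
      K.index * f := by
    have : ((∑ φ ∈ T.image (fun θ' : IrrCharacter K => indFun K (θ' : K → ℂ)), d φ ^ 2 : ℕ) : ℝ) =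
        ((K.index * f : ℕ) : ℝ) := by
      push_cast
      rw [hsum, hf]
      push_cast
      rfl
    exact_mod_cast this
  set h := ∑ φ ∈ T.image (fun θ' : IrrCharacter K => indFun K (θ' : K → ℂ)), (d φ / K.index) ^ 2
    with hh
  have hdq : ∀ φ ∈ T.image (fun θ' : IrrCharacter K => indFun K (θ' : K → ℂ)),
      d φ ^ 2 = K.index ^ 2 * (d φ / K.index) ^ 2 := by
    intro φ hφ
    obtain ⟨θ', -, rfl⟩ := Finset.mem_image.mp hφ
    rw [hdval, Nat.mul_div_cancel_left _ hepos]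
    ring
  rw [Finset.sum_congr rfl hdq, ← Finset.mul_sum, ← hh] at hsumN
  have hfh : f = K.index * h := by
    have : K.index * (K.index * h) = K.index * f := by rw [← hsumN]; ring
    exact (Nat.eq_of_mul_eq_mul_left hepos this).symm
  -- h > 0 and p^(2a) ∣ h
  have hθ₀T : θ₀ ∈ T := by
    rw [hT, Finset.mem_filter]
    exact ⟨hθ₀, hlt⟩
  have hhpos : 0 < h := by
    rw [hh]
    apply Finset.sum_pos'
    · intro φ _; positivity
    · refine ⟨indFun K (θ₀ : K → ℂ), Finset.mem_image_of_mem _ hθ₀T, ?_⟩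
      rw [hdval, Nat.mul_div_cancel_left _ hepos, ha₀]
      positivity
  have hdvd_h : p ^ (2 * a) ∣ h := by
    rw [hfh] at hdvd_f
    exact (Nat.Coprime.pow_left _ hcop.symm).dvd_of_dvd_mul_left hdvd_f
  have hhge : p ^ (2 * a) ≤ h := Nat.le_of_dvd hhpos hdvd_h
  -- final arithmetic
  rw [hfh, ha, ha₀]
  have h3 : 2 * p ^ a * p ^ a₀ < p ^ (2 * a) := by
    have e1 : p ^ (2 * a) = p ^ a * p ^ a := by rw [two_mul, pow_add]
    have e2 : p ^ a = p ^ a₀ * p ^ (a - a₀) := by rw [← pow_add]; congr 1; omega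
    have e3 : 3 ≤ p ^ (a - a₀) := by
      calc 3 ≤ p := hp3
        _ = p ^ 1 := (pow_one p).symm
        _ ≤ p ^ (a - a₀) := Nat.pow_le_pow_right hp.pos (by omega)
    have hpa : 0 < p ^ a := by positivity
    have hpa₀ : 0 < p ^ a₀ := by positivity
    rw [e1]
    calc 2 * p ^ a * p ^ a₀ < 3 * p ^ a₀ * p ^ a := by nlinarith
      _ ≤ p ^ (a - a₀) * p ^ a₀ * p ^ a := by
          apply Nat.mul_le_mul_right
          exact Nat.mul_le_mul_right _ e3
      _ = p ^ a * p ^ a := by rw [mul_comm (p ^ (a - a₀)), ← e2]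
  calc 2 * K.index * p ^ a * p ^ a₀ = K.index * (2 * p ^ a * p ^ a₀) := by ring
    _ < K.index * p ^ (2 * a) := Nat.mul_lt_mul_of_pos_left h3 hepos
    _ ≤ K.index * h := Nat.mul_le_mul_left _ hhge

end PCount3

end Cfsg.Agent.Lib.Helper25
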