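import Cfsg.Agent.Lib.Helper25.Coherence
import Cfsg.Agent.Lib.Helper25.CharUtil
import Cfsg.Agent.Lib.Helper25.NormTwo
import Cfsg.Agent.Lib.Helper3.Complete
import Cfsg.Agent.Lib.Helper3.OddOrder

set_option autoImplicit false
set_option linter.unusedSectionVars false

/-!
Integral coefficients of a generalized character with respect to the irreducible characters.
-/

namespace Cfsg.Agent.Lib.Helper25

open Cfsg
open scoped ComplexConjugate

section IrrCoeff

variable {G : Type*} [Group G] [Fintype G]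

open Classical in
/-- The (integral) multiplicity of the irreducible character `μ` in the generalized
character `Θ`. -/
noncomputable def irrCoeff (Θ : G → ℂ) (μ : IrrCharacter G) : ℤ :=
  if h : ∃ m : ℤ, classInner Θ (μ : G → ℂ) = (m : ℂ) then h.choose else 0

theorem irrCoeff_eq_of {Θ : G → ℂ} {μ : IrrCharacter G} {m : ℤ}
    (h : classInner Θ (μ : G → ℂ) = (m : ℂ)) : irrCoeff Θ μ = m := by
  classical
  have hex : ∃ m : ℤ, classInner Θ (μ : G → ℂ) = (m : ℂ) := ⟨m, h⟩
  unfold irrCoeff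
  rw [dif_pos hex]
  have h2 : ((hex.choose : ℤ) : ℂ) = (m : ℂ) := hex.choose_spec.symm.trans h
  exact_mod_cast h2

theorem irrCoeff_spec {Θ : G → ℂ} (hΘ : IsGeneralizedCharacter G Θ) (μ : IrrCharacter G) :
    classInner Θ (μ : G → ℂ) = (irrCoeff Θ μ : ℂ) := by
  obtain ⟨m, hm⟩ := classInner_genChar_int hΘ
    (IsCharacter.isGeneralizedCharacter (Cfsg.Agent.Lib.Helper3.IsIrrCharacter.isCharacter μ.2))
  rw [irrCoeff_eq_of hm, hm]

theorem eq_sum_irrCoeff [Fintype (IrrCharacter G)] {Θ : G → ℂ}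
    (hΘ : IsGeneralizedCharacter G Θ) :
    Θ = ∑ μ : IrrCharacter G, ((irrCoeff Θ μ : ℤ) : ℂ) • (μ : G → ℂ) := by
  have hcf := IsGeneralizedCharacter.isClassFunction hΘ
  have hexp := Cfsg.Agent.Lib.Helper3.classFunction_eq_sum hcf
  conv_lhs => rw [hexp]
  exact Finset.sum_congr rfl (fun μ _ => by rw [irrCoeff_spec hΘ μ])

theorem classInner_eq_sum_irrCoeff [Fintype (IrrCharacter G)] {Θ Θ' : G → ℂ}
    (hΘ : IsGeneralizedCharacter G Θ) (hΘ' : IsGeneralizedCharacter G Θ') :
    classInner Θ Θ' = ((∑ μ : IrrCharacter G, irrCoeff Θ μ * irrCoeff Θ' μ : ℤ) : ℂ) := by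
  have hexp := eq_sum_irrCoeff hΘ
  conv_lhs => rw [hexp]
  rw [classInner_sum_left]
  push_cast
  apply Finset.sum_congr rfl
  intro μ _
  rw [classInner_smul_left, ← classInner_conj_symm, irrCoeff_spec hΘ' μ]
  simp

/-- The complex conjugate of an irreducible character. -/
noncomputable def irrConj (μ : IrrCharacter G) : IrrCharacter G :=
  ⟨conjFun (μ : G → ℂ), Cfsg.Agent.Lib.Helper3.IsIrrCharacter.conj μ.2⟩

theorem irrConj_irrConj (μ : IrrCharacter G) : irrConj (irrConj μ) = μ := by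
  apply Subtype.ext
  exact conjFun_conjFun _

theorem irrConj_coe (μ : IrrCharacter G) : ((irrConj μ : IrrCharacter G) : G → ℂ) =
    conjFun (μ : G → ℂ) := rfl

theorem irrCoeff_conjFun {Θ : G → ℂ} (hΘ : IsGeneralizedCharacter G Θ) (μ : IrrCharacter G) :
    irrCoeff (conjFun Θ) (irrConj μ) = irrCoeff Θ μ := by
  apply irrCoeff_eq_of
  rw [irrConj_coe, classInner_conjFun', ← classInner_conj_symm, irrCoeff_spec hΘ μ]
  simp

end IrrCoeff

end Cfsg.Agent.Lib.Helper25
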