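import Cfsg.Agent.Lib.Helper25.SncDual
import Cfsg.Agent.Lib.Helper25.CyclicTI

set_option autoImplicit false
set_option linter.unusedSectionVars false
set_option linter.style.haveILetI false

/-!
A Fourier argument on `W = K₁ × K₂`: a function orthogonal to all `(1-φ)(1-ψ)` vanishes
outside `K₁ ∪ K₂`.
-/

namespace Cfsg.Agent.Lib.Helper25

open Cfsg
open scoped ComplexConjugate

theorem vanish_of_orth_alpha {W : Type*} [CommGroup W] [Fintype W] (K₁ K₂ : Subgroup W)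
    (hinf : K₁ ⊓ K₂ = ⊥) (f : W → ℂ)
    (hf : ∀ φ ∈ annih K₂, ∀ ψ ∈ annih K₁, ∑ x, f x * conj (alphaFun φ ψ x) = 0)
    (w : W) (hw₁ : w ∉ K₁) (hw₂ : w ∉ K₂) : f w = 0 := by
  classical
  haveI : Fintype (annih K₁) := Fintype.ofFinite _
  haveI : Fintype (annih K₂) := Fintype.ofFinite _
  -- the two partial sums
  have hA : ∀ (K : Subgroup W) [Fintype (annih K)], w ∉ K → ∀ x : W,
      ∑ φ : annih K, conj (1 - ((φ : W →* ℂˣ) x : ℂ)) * ((φ : W →* ℂˣ) w : ℂ) =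
        if x⁻¹ * w ∈ K then -(Fintype.card (annih K) : ℂ) else 0 := by
    intro K _ hwK x
    have h1 : ∀ φ : annih K, conj (1 - ((φ : W →* ℂˣ) x : ℂ)) * ((φ : W →* ℂˣ) w : ℂ) =
        ((φ : W →* ℂˣ) w : ℂ) - ((φ : W →* ℂˣ) (x⁻¹ * w) : ℂ) := by
      intro φ
      rw [map_sub, map_one, conj_hom_apply, map_mul, Units.val_mul]
      ring
    rw [Finset.sum_congr rfl (fun φ _ => h1 φ), Finset.sum_sub_distrib,
      sum_annih_apply_of_not_mem K w hwK, zero_sub]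
    by_cases hx : x⁻¹ * w ∈ K
    · rw [if_pos hx, sum_annih_apply_of_mem K _ hx]
    · rw [if_neg hx, sum_annih_apply_of_not_mem K _ hx, neg_zero]
  have hS : ∑ φ : annih K₂, ∑ ψ : annih K₁,
      (∑ x, f x * conj (alphaFun (φ : W →* ℂˣ) (ψ : W →* ℂˣ) x)) *
        (((φ : W →* ℂˣ) w : ℂ) * ((ψ : W →* ℂˣ) w : ℂ)) = 0 := by
    apply Finset.sum_eq_zero
    intro φ _
    apply Finset.sum_eq_zero
    intro ψ _
    rw [hf φ φ.2 ψ ψ.2, zero_mul]
  have hS2 : ∑ φ : annih K₂, ∑ ψ : annih K₁,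
      (∑ x, f x * conj (alphaFun (φ : W →* ℂˣ) (ψ : W →* ℂˣ) x)) *
        (((φ : W →* ℂˣ) w : ℂ) * ((ψ : W →* ℂˣ) w : ℂ)) =
      ∑ x, f x * ((∑ φ : annih K₂, conj (1 - ((φ : W →* ℂˣ) x : ℂ)) * ((φ : W →* ℂˣ) w : ℂ)) *
        (∑ ψ : annih K₁, conj (1 - ((ψ : W →* ℂˣ) x : ℂ)) * ((ψ : W →* ℂˣ) w : ℂ))) := by
    have e1 : ∑ φ : annih K₂, ∑ ψ : annih K₁,
        (∑ x, f x * conj (alphaFun (φ : W →* ℂˣ) (ψ : W →* ℂˣ) x)) *
          (((φ : W →* ℂˣ) w : ℂ) * ((ψ : W →* ℂˣ) w : ℂ)) =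
        ∑ φ : annih K₂, ∑ ψ : annih K₁, ∑ x,
          f x * conj (alphaFun (φ : W →* ℂˣ) (ψ : W →* ℂˣ) x) *
            (((φ : W →* ℂˣ) w : ℂ) * ((ψ : W →* ℂˣ) w : ℂ)) := by
      apply Finset.sum_congr rfl
      intro φ _
      apply Finset.sum_congr rfl
      intro ψ _
      rw [Finset.sum_mul]
    rw [e1, Finset.sum_congr rfl (fun φ _ => Finset.sum_comm), Finset.sum_comm]
    apply Finset.sum_congr rfl
    intro x _
    rw [Finset.sum_mul_sum, Finset.mul_sum]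
    apply Finset.sum_congr rfl
    intro φ _
    rw [Finset.mul_sum]
    apply Finset.sum_congr rfl
    intro ψ _
    have : alphaFun (φ : W →* ℂˣ) (ψ : W →* ℂˣ) x =
        (1 - ((φ : W →* ℂˣ) x : ℂ)) * (1 - ((ψ : W →* ℂˣ) x : ℂ)) := by
      unfold alphaFun; ring
    rw [this, map_mul]
    ring
  rw [hS2] at hS
  have hterm : ∀ x : W, f x * ((∑ φ : annih K₂, conj (1 - ((φ : W →* ℂˣ) x : ℂ)) *
      ((φ : W →* ℂˣ) w : ℂ)) *
        (∑ ψ : annih K₁, conj (1 - ((ψ : W →* ℂˣ) x : ℂ)) * ((ψ : W →* ℂˣ) w : ℂ))) =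
      if x = w then f w * ((Fintype.card (annih K₂) : ℂ) * (Fintype.card (annih K₁) : ℂ))
      else 0 := by
    intro x
    rw [hA K₂ hw₂ x, hA K₁ hw₁ x]
    by_cases hx : x = w
    · subst hx
      rw [if_pos rfl, inv_mul_cancel, if_pos K₂.one_mem, if_pos K₁.one_mem]
      ring
    · rw [if_neg hx]
      by_cases h2 : x⁻¹ * w ∈ K₂
      · by_cases h1 : x⁻¹ * w ∈ K₁
        · exfalso
          have : x⁻¹ * w ∈ K₁ ⊓ K₂ := ⟨h1, h2⟩
          rw [hinf, Subgroup.mem_bot, inv_mul_eq_one] at this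
          exact hx this
        · rw [if_neg h1, mul_zero, mul_zero]
      · rw [if_neg h2, zero_mul, mul_zero]
  rw [Finset.sum_congr rfl (fun x _ => hterm x), Finset.sum_ite_eq' Finset.univ w,
    if_pos (Finset.mem_univ w)] at hS
  rcases mul_eq_zero.mp hS with h | h
  · exact h
  · exfalso
    rcases mul_eq_zero.mp h with h | h
    · exact card_annih_ne_zero K₂ h
    · exact card_annih_ne_zero K₁ h

end Cfsg.Agent.Lib.Helper25
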