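import Mathlib

set_option autoImplicit false
set_option linter.unusedSectionVars false
set_option linter.unusedVariables false

namespace Cfsg.Agent.Lib.Helper25.PF32

section Basic

variable {X : Type*} [Fintype X] [DecidableEq X]

/-- The standard inner product of integer vectors. -/
def ip (u v : X → ℤ) : ℤ := ∑ x, u x * v x

theorem ip_comm (u v : X → ℤ) : ip u v = ip v u := by
  unfold ip
  exact Finset.sum_congr rfl (fun x _ => mul_comm _ _)

/-- `u = e δ_p + f δ_q + g δ_r` with distinct points and signs. -/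
structure IsTriple (u : X → ℤ) (p q r : X) (e f g : ℤ) : Prop where
  hpq : p ≠ q
  hpr : p ≠ r
  hqr : q ≠ r
  he : e = 1 ∨ e = -1
  hf : f = 1 ∨ f = -1
  hg : g = 1 ∨ g = -1
  form : ∀ x, u x = (if x = p then e else 0) + (if x = q then f else 0) + (if x = r then g else 0)

theorem exists_triple (u : X → ℤ) (h : ip u u = 3) :
    ∃ p q r e f g, IsTriple u p q r e f g := by
  unfold ip at h
  have hle : ∀ k, u k * u k ≤ 3 := by
    intro k
    rw [← h]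
    exact Finset.single_le_sum (f := fun i => u i * u i) (fun i _ => mul_self_nonneg (u i))
      (Finset.mem_univ k)
  have hval : ∀ k, u k = 0 ∨ u k = 1 ∨ u k = -1 := by
    intro k
    have h1 := hle k
    have h2 : -1 ≤ u k := by nlinarith
    have h3 : u k ≤ 1 := by nlinarith
    omega
  set T := Finset.univ.filter (fun k => u k ≠ 0) with hT
  have hsq : ∀ k, u k * u k = if u k ≠ 0 then 1 else 0 := by
    intro k
    rcases hval k with h | h | h <;> rw [h] <;> simp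
  have hcard : T.card = 3 := by
    have : ∑ i, u i * u i = (T.card : ℤ) := by
      rw [Finset.sum_congr rfl (fun k _ => hsq k), Finset.sum_ite, Finset.sum_const_zero, add_zero,
        Finset.sum_const, nsmul_eq_mul, mul_one]
    rw [this] at h
    exact_mod_cast h
  obtain ⟨p, q, r, hpq, hpr, hqr, hTpqr⟩ := Finset.card_eq_three.mp hcard
  have hmem : ∀ k, u k ≠ 0 ↔ (k = p ∨ k = q ∨ k = r) := by
    intro k
    have : k ∈ T ↔ u k ≠ 0 := by simp [hT]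
    rw [← this, hTpqr]
    simp
  have hne : ∀ k, (k = p ∨ k = q ∨ k = r) → (u k = 1 ∨ u k = -1) := by
    intro k hk
    have := (hmem k).mpr hk
    rcases hval k with h | h | h
    · exact absurd h this
    · exact Or.inl h
    · exact Or.inr h
  refine ⟨p, q, r, u p, u q, u r, hpq, hpr, hqr, hne p (Or.inl rfl), hne q (Or.inr (Or.inl rfl)),
    hne r (Or.inr (Or.inr rfl)), ?_⟩
  intro x
  by_cases hxp : x = p
  · subst hxp
    simp [hpq, hpr]
  · by_cases hxq : x = q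
    · subst hxq
      simp [hxp, hqr]
    · by_cases hxr : x = r
      · subst hxr
        simp [hxp, hxq]
      · have : ¬ (u x ≠ 0) := by
          rw [hmem x]
          simp [hxp, hxq, hxr]
        simp only [not_not] at this
        simp [hxp, hxq, hxr, this]

namespace IsTriple

variable {u : X → ℤ} {p q r : X} {e f g : ℤ}

theorem ip_eq (h : IsTriple u p q r e f g) (v : X → ℤ) :
    ip u v = e * v p + f * v q + g * v r := by
  unfold ip
  simp_rw [h.form, add_mul, Finset.sum_add_distrib, ite_mul, zero_mul, Finset.sum_ite_eq',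
    Finset.mem_univ, if_true]

theorem apply_p (h : IsTriple u p q r e f g) : u p = e := by
  rw [h.form]; simp [h.hpq, h.hpr]

theorem apply_q (h : IsTriple u p q r e f g) : u q = f := by
  rw [h.form]; simp [h.hpq.symm, h.hqr]

theorem apply_r (h : IsTriple u p q r e f g) : u r = g := by
  rw [h.form]; simp [h.hpr.symm, h.hqr.symm]

theorem apply_of_ne (h : IsTriple u p q r e f g) {x : X} (h1 : x ≠ p) (h2 : x ≠ q) (h3 : x ≠ r) :
    u x = 0 := by
  rw [h.form]; simp [h1, h2, h3]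

theorem mem (h : IsTriple u p q r e f g) {x : X} (hx : u x ≠ 0) : x = p ∨ x = q ∨ x = r := by
  by_contra hcon
  push Not at hcon
  exact hx (h.apply_of_ne hcon.1 hcon.2.1 hcon.2.2)

theorem ne_zero_of_sign {e : ℤ} (he : e = 1 ∨ e = -1) : e ≠ 0 := by
  rcases he with rfl | rfl <;> norm_num

theorem swap12 (h : IsTriple u p q r e f g) : IsTriple u q p r f e g :=
  ⟨h.hpq.symm, h.hqr, h.hpr, h.hf, h.he, h.hg, fun x => by rw [h.form x]; ring⟩

theorem swap23 (h : IsTriple u p q r e f g) : IsTriple u p r q e g f :=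
  ⟨h.hpr, h.hpq, h.hqr.symm, h.he, h.hg, h.hf, fun x => by rw [h.form x]; ring⟩

theorem rot (h : IsTriple u p q r e f g) : IsTriple u q r p f g e :=
  h.swap12.swap23

theorem norm (h : IsTriple u p q r e f g) : ip u u = 3 := by
  rw [h.ip_eq, h.apply_p, h.apply_q, h.apply_r]
  rcases h.he with rfl | rfl <;> rcases h.hf with rfl | rfl <;> rcases h.hg with rfl | rfl <;>
    norm_num

end IsTriple

theorem triple_of_one {u : X → ℤ} (h3 : ip u u = 3) {p : X} (hp : u p ≠ 0) :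
    ∃ q r f g, IsTriple u p q r (u p) f g := by
  obtain ⟨a, b, c, e, f, g, h⟩ := exists_triple u h3
  rcases h.mem hp with rfl | rfl | rfl
  · exact ⟨b, c, f, g, by rw [h.apply_p]; exact h⟩
  · exact ⟨a, c, e, g, by rw [h.apply_q]; exact h.swap12⟩
  · exact ⟨a, b, e, f, by rw [h.apply_r]; exact h.rot.rot⟩

theorem triple_of_two {u : X → ℤ} (h3 : ip u u = 3) {p q : X} (hp : u p ≠ 0) (hq : u q ≠ 0)
    (hpq : p ≠ q) : ∃ r g, IsTriple u p q r (u p) (u q) g := by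
  obtain ⟨b, c, f, g, h⟩ := triple_of_one h3 hp
  rcases h.mem hq with rfl | rfl | rfl
  · exact absurd rfl hpq
  · exact ⟨c, g, by rw [h.apply_q]; exact h⟩
  · exact ⟨b, f, by rw [h.apply_r]; exact h.swap23⟩

/-- No conjugate overlap: a norm-3 vector orthogonal to its `σ`-conjugate has support disjoint
from the conjugate support. -/
theorem no_overlap {σ : X → X} (hσ : ∀ x, σ (σ x) = x) {u : X → ℤ} (h3 : ip u u = 3)
    (h0 : ip u (fun x => u (σ x)) = 0) : ∀ x, u x ≠ 0 → u (σ x) = 0 := by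
  have hinj : Function.Injective σ := fun a b hab => by rw [← hσ a, ← hσ b, hab]
  intro x hx
  by_contra hy
  by_cases hxy : σ x = x
  · obtain ⟨b, c, f, g, h⟩ := triple_of_one h3 hx
    rw [h.ip_eq, hxy] at h0
    have hbx : σ b ≠ x := fun hb => h.hpq (hinj (hb.trans hxy.symm)).symm
    have hcx : σ c ≠ x := fun hc => h.hpr (hinj (hc.trans hxy.symm)).symm
    have e1 : u (σ b) = (if σ b = b then f else 0) + (if σ b = c then g else 0) := by
      rw [h.form (σ b), if_neg hbx, zero_add]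
    have e2 : u (σ c) = (if σ c = b then f else 0) + (if σ c = c then g else 0) := by
      rw [h.form (σ c), if_neg hcx, zero_add]
    rw [e1, e2] at h0
    have hbc : σ b = c ↔ σ c = b := ⟨fun hh => by rw [← hh, hσ], fun hh => by rw [← hh, hσ]⟩
    have hf := h.hf
    have hg := h.hg
    have he := h.he
    by_cases h1 : σ b = c
    · have h2 : σ c = b := hbc.mp h1
      have h3' : σ b ≠ b := fun hh => h.hqr (hh.symm.trans h1)
      have h4 : σ c ≠ c := fun hh => h.hqr (h2.symm.trans hh)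
      rw [if_neg h3', if_pos h1, if_pos h2, if_neg h4] at h0
      rcases he with he | he <;> rcases hf with rfl | rfl <;> rcases hg with rfl | rfl <;>
        rw [he] at h0 <;> omega
    · have h2 : σ c ≠ b := fun hh => h1 (hbc.mpr hh)
      rw [if_neg h1, if_neg h2] at h0
      by_cases h5 : σ b = b <;> by_cases h6 : σ c = c <;>
        simp only [h5, h6, if_true, if_false] at h0 <;>
        rcases he with he | he <;> rcases hf with rfl | rfl <;> rcases hg with rfl | rfl <;>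
        rw [he] at h0 <;> omega
  · obtain ⟨c, g, h⟩ := triple_of_two h3 hx hy (Ne.symm hxy)
    rw [h.ip_eq, hσ] at h0
    have hcx : σ c ≠ x := fun hc => h.hqr (by rw [← hc, hσ])
    have hcy : σ c ≠ σ x := fun hc => h.hpr (hinj hc).symm
    have e2 : u (σ c) = (if σ c = c then g else 0) := by
      rw [h.form (σ c), if_neg hcx, if_neg hcy, zero_add, zero_add]
    rw [e2] at h0
    have he := h.he
    have hf := h.hf
    have hg := h.hg
    by_cases h6 : σ c = c <;> simp only [h6, if_true, if_false] at h0 <;>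
      rcases he with he | he <;> rcases hf with hf | hf <;> rcases hg with rfl | rfl <;>
      rw [he, hf] at h0 <;> omega

theorem val_bound {u : X → ℤ} (h3 : ip u u = 3) (x : X) : u x = 0 ∨ u x = 1 ∨ u x = -1 := by
  unfold ip at h3
  have h1 : u x * u x ≤ 3 := by
    rw [← h3]
    exact Finset.single_le_sum (f := fun i => u i * u i) (fun i _ => mul_self_nonneg (u i))
      (Finset.mem_univ x)
  have h2 : -1 ≤ u x := by nlinarith
  have h3 : u x ≤ 1 := by nlinarith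
  omega

theorem sum_list_le {l : List X} (hl : l.Nodup) (f : X → ℤ) (hf : ∀ x, 0 ≤ f x) :
    (l.map f).sum ≤ ∑ x, f x := by
  rw [← List.sum_toFinset f hl]
  exact Finset.sum_le_univ_sum_of_nonneg hf

theorem ip_comp {σ : X → X} (hσ : ∀ x, σ (σ x) = x) (u v : X → ℤ) :
    ip (fun x => u (σ x)) v = ip u (fun x => v (σ x)) := by
  unfold ip
  let e : X ≃ X := ⟨σ, σ, hσ, hσ⟩
  rw [← Equiv.sum_comp e (fun x => u x * v (σ x))]
  apply Finset.sum_congr rfl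
  intro x _
  show u (σ x) * v x = u (σ x) * v (σ (σ x))
  rw [hσ]

theorem block_core {σ : X → X} (hσ : ∀ x, σ (σ x) = x) {a b : X → ℤ} (hb3 : ip b b = 3)
    (ha1 : ∀ x, a x ≠ 0 → a (σ x) = 0) (hb1 : ∀ x, b x ≠ 0 → b (σ x) = 0)
    {r c z : X} {er ec ez : ℤ} (h : IsTriple a r c z er ec ez) (hbr : b r = er)
    (hbc : b (σ c) = ec) (hbz : b z = 0) (hbz' : b (σ z) = 0) :
    ∃ z' ez', IsTriple b r (σ c) z' er ec ez' ∧ [r, c, z, z', σ r, σ c, σ z, σ z'].Nodup := by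
  have her := IsTriple.ne_zero_of_sign h.he
  have hec := IsTriple.ne_zero_of_sign h.hf
  have hez := IsTriple.ne_zero_of_sign h.hg
  have ar : a r ≠ 0 := by rw [h.apply_p]; exact her
  have ac : a c ≠ 0 := by rw [h.apply_q]; exact hec
  have az : a z ≠ 0 := by rw [h.apply_r]; exact hez
  have br : b r ≠ 0 := by rw [hbr]; exact her
  have bsc : b (σ c) ≠ 0 := by rw [hbc]; exact hec
  have asr : a (σ r) = 0 := ha1 r ar
  have asc : a (σ c) = 0 := ha1 c ac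
  have asz : a (σ z) = 0 := ha1 z az
  have bsr : b (σ r) = 0 := hb1 r br
  have bc : b c = 0 := by
    have := hb1 (σ c) bsc
    rwa [hσ] at this
  have hrsc : r ≠ σ c := by
    intro hh
    rw [hh] at ar
    exact ar asc
  obtain ⟨z', ez', hb⟩ := triple_of_two hb3 br bsc hrsc
  rw [hbr, hbc] at hb
  have hez' := IsTriple.ne_zero_of_sign hb.hg
  have bz' : b z' ≠ 0 := by rw [hb.apply_r]; exact hez'
  have bsz' : b (σ z') = 0 := hb1 z' bz'
  have az' : a z' = 0 := by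
    apply h.apply_of_ne
    · exact hb.hpr.symm
    · intro hh; rw [hh] at bz'; exact bz' bc
    · intro hh; rw [hh] at bz'; exact bz' hbz
  have asz' : a (σ z') = 0 := by
    apply h.apply_of_ne
    · intro hh
      have : z' = σ r := by rw [← hh, hσ]
      rw [this] at bz'; exact bz' bsr
    · intro hh
      have : z' = σ c := by rw [← hh, hσ]
      exact hb.hqr this.symm
    · intro hh
      have : z' = σ z := by rw [← hh, hσ]
      rw [this] at bz'; exact bz' hbz'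
  refine ⟨z', ez', hb, ?_⟩
  let sig : X → ℕ := fun x => (if a x ≠ 0 then 8 else 0) + (if b x ≠ 0 then 4 else 0) +
    (if a (σ x) ≠ 0 then 2 else 0) + (if b (σ x) ≠ 0 then 1 else 0)
  apply List.Nodup.of_map sig
  have s1 : sig r = 12 := by simp [sig, ar, br, asr, bsr]
  have s2 : sig c = 9 := by simp [sig, ac, bc, asc, bsc]
  have s3 : sig z = 8 := by simp [sig, az, hbz, asz, hbz']
  have s4 : sig z' = 4 := by simp [sig, az', bz', asz', bsz']
  have s5 : sig (σ r) = 3 := by simp [sig, hσ, ar, br, asr, bsr]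
  have s6 : sig (σ c) = 6 := by simp [sig, hσ, ac, bc, asc, bsc]
  have s7 : sig (σ z) = 2 := by simp [sig, hσ, az, hbz, asz, hbz']
  have s8 : sig (σ z') = 1 := by simp [sig, hσ, az', bz', asz', bsz']
  simp only [List.map, s1, s2, s3, s4, s5, s6, s7, s8]
  decide

theorem sign_mul_bound {e B : ℤ} (he : e = 1 ∨ e = -1) (hB : B = 0 ∨ B = 1 ∨ B = -1) :
    -1 ≤ e * B ∧ e * B ≤ 1 := by
  rcases he with rfl | rfl <;> rcases hB with rfl | rfl | rfl <;> norm_num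

theorem sign_mul_pair {e B B' : ℤ} (he : e = 1 ∨ e = -1) (hB : B = 0 ∨ B = 1 ∨ B = -1)
    (hB' : B' = 0 ∨ B' = 1 ∨ B' = -1) (hd : B = 0 ∨ B' = 0) :
    e * B + e * B' ≤ 1 ∧ e * B - e * B' ≤ 1 ∧ -(e * B) + e * B' ≤ 1 ∧ -(e * B) - e * B' ≤ 1 := by
  rcases he with rfl | rfl <;> rcases hB with rfl | rfl | rfl <;> rcases hB' with rfl | rfl | rfl <;>
    simp at hd ⊢

theorem eq_of_sign_mul_eq_one {e B : ℤ} (he : e = 1 ∨ e = -1) (h : e * B = 1) : B = e := by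
  rcases he with rfl | rfl <;> omega

theorem eq_zero_of_sign_mul_eq_zero {e B : ℤ} (he : e = 1 ∨ e = -1) (h : e * B = 0) : B = 0 := by
  rcases he with rfl | rfl <;> omega

theorem zero_or_of_hb1 {σ : X → X} {b : X → ℤ} (hb1 : ∀ x, b x ≠ 0 → b (σ x) = 0) (p : X) :
    b p = 0 ∨ b (σ p) = 0 := by
  by_cases hh : b p = 0
  · exact Or.inl hh
  · exact Or.inr (hb1 _ hh)

theorem block_lemma {σ : X → X} (hσ : ∀ x, σ (σ x) = x) {a b : X → ℤ} (ha3 : ip a a = 3)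
    (hb3 : ip b b = 3) (hab : ip a b = 1) (hab' : ip a (fun x => b (σ x)) = 1)
    (ha1 : ∀ x, a x ≠ 0 → a (σ x) = 0) (hb1 : ∀ x, b x ≠ 0 → b (σ x) = 0) :
    ∃ r c z z' er ec ez ez', IsTriple a r c z er ec ez ∧ IsTriple b r (σ c) z' er ec ez' ∧
      [r, c, z, z', σ r, σ c, σ z, σ z'].Nodup := by
  obtain ⟨p0, p1, p2, e0, e1, e2, h⟩ := exists_triple a ha3
  rw [h.ip_eq] at hab hab'
  have v0 := val_bound hb3 p0
  have v1 := val_bound hb3 p1
  have v2 := val_bound hb3 p2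
  have v0' := val_bound hb3 (σ p0)
  have v1' := val_bound hb3 (σ p1)
  have v2' := val_bound hb3 (σ p2)
  have b0 := sign_mul_bound h.he v0
  have b1 := sign_mul_bound h.hf v1
  have b2 := sign_mul_bound h.hg v2
  have b0' := sign_mul_bound h.he v0'
  have b1' := sign_mul_bound h.hf v1'
  have b2' := sign_mul_bound h.hg v2'
  have d0 := sign_mul_pair h.he v0 v0' (zero_or_of_hb1 hb1 p0)
  have d1 := sign_mul_pair h.hf v1 v1' (zero_or_of_hb1 hb1 p1)
  have d2 := sign_mul_pair h.hg v2 v2' (zero_or_of_hb1 hb1 p2)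
  obtain ⟨β0, hβ0⟩ : ∃ β0, β0 = e0 * b p0 := ⟨_, rfl⟩
  obtain ⟨β1, hβ1⟩ : ∃ β1, β1 = e1 * b p1 := ⟨_, rfl⟩
  obtain ⟨β2, hβ2⟩ : ∃ β2, β2 = e2 * b p2 := ⟨_, rfl⟩
  obtain ⟨γ0, hγ0⟩ : ∃ γ0, γ0 = e0 * b (σ p0) := ⟨_, rfl⟩
  obtain ⟨γ1, hγ1⟩ : ∃ γ1, γ1 = e1 * b (σ p1) := ⟨_, rfl⟩
  obtain ⟨γ2, hγ2⟩ : ∃ γ2, γ2 = e2 * b (σ p2) := ⟨_, rfl⟩
  rw [← hβ0, ← hβ1, ← hβ2] at hab
  rw [← hγ0, ← hγ1, ← hγ2] at hab'
  rw [← hβ0] at b0 d0
  rw [← hβ1] at b1 d1
  rw [← hβ2] at b2 d2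
  rw [← hγ0] at b0' d0
  rw [← hγ1] at b1' d1
  rw [← hγ2] at b2' d2
  have c1 : (β0 = 1 ∧ β1 = 0 ∧ β2 = 0) ∨ (β0 = 0 ∧ β1 = 1 ∧ β2 = 0) ∨
      (β0 = 0 ∧ β1 = 0 ∧ β2 = 1) := by omega
  have c2 : (γ0 = 1 ∧ γ1 = 0 ∧ γ2 = 0) ∨ (γ0 = 0 ∧ γ1 = 1 ∧ γ2 = 0) ∨
      (γ0 = 0 ∧ γ1 = 0 ∧ γ2 = 1) := by omega
  have E0 : β0 = 1 → b p0 = e0 := fun hh => eq_of_sign_mul_eq_one h.he (hβ0 ▸ hh)
  have E1 : β1 = 1 → b p1 = e1 := fun hh => eq_of_sign_mul_eq_one h.hf (hβ1 ▸ hh)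
  have E2 : β2 = 1 → b p2 = e2 := fun hh => eq_of_sign_mul_eq_one h.hg (hβ2 ▸ hh)
  have E0' : γ0 = 1 → b (σ p0) = e0 := fun hh => eq_of_sign_mul_eq_one h.he (hγ0 ▸ hh)
  have E1' : γ1 = 1 → b (σ p1) = e1 := fun hh => eq_of_sign_mul_eq_one h.hf (hγ1 ▸ hh)
  have E2' : γ2 = 1 → b (σ p2) = e2 := fun hh => eq_of_sign_mul_eq_one h.hg (hγ2 ▸ hh)
  have Z0 : β0 = 0 → b p0 = 0 := fun hh => eq_zero_of_sign_mul_eq_zero h.he (hβ0 ▸ hh)
  have Z1 : β1 = 0 → b p1 = 0 := fun hh => eq_zero_of_sign_mul_eq_zero h.hf (hβ1 ▸ hh)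
  have Z2 : β2 = 0 → b p2 = 0 := fun hh => eq_zero_of_sign_mul_eq_zero h.hg (hβ2 ▸ hh)
  have Z0' : γ0 = 0 → b (σ p0) = 0 := fun hh => eq_zero_of_sign_mul_eq_zero h.he (hγ0 ▸ hh)
  have Z1' : γ1 = 0 → b (σ p1) = 0 := fun hh => eq_zero_of_sign_mul_eq_zero h.hf (hγ1 ▸ hh)
  have Z2' : γ2 = 0 → b (σ p2) = 0 := fun hh => eq_zero_of_sign_mul_eq_zero h.hg (hγ2 ▸ hh)
  rcases c1 with ⟨k0, k1, k2⟩ | ⟨k0, k1, k2⟩ | ⟨k0, k1, k2⟩ <;>
    rcases c2 with ⟨l0, l1, l2⟩ | ⟨l0, l1, l2⟩ | ⟨l0, l1, l2⟩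
  · exfalso; omega
  · obtain ⟨z', ez', hb, hnd⟩ := block_core hσ hb3 ha1 hb1 h (E0 k0) (E1' l1) (Z2 k2) (Z2' l2)
    exact ⟨_, _, _, _, _, _, _, _, h, hb, hnd⟩
  · obtain ⟨z', ez', hb, hnd⟩ := block_core hσ hb3 ha1 hb1 h.swap23 (E0 k0) (E2' l2) (Z1 k1) (Z1' l1)
    exact ⟨_, _, _, _, _, _, _, _, h.swap23, hb, hnd⟩
  · obtain ⟨z', ez', hb, hnd⟩ := block_core hσ hb3 ha1 hb1 h.swap12 (E1 k1) (E0' l0) (Z2 k2) (Z2' l2)
    exact ⟨_, _, _, _, _, _, _, _, h.swap12, hb, hnd⟩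
  · exfalso; omega
  · obtain ⟨z', ez', hb, hnd⟩ := block_core hσ hb3 ha1 hb1 h.rot (E1 k1) (E2' l2) (Z0 k0) (Z0' l0)
    exact ⟨_, _, _, _, _, _, _, _, h.rot, hb, hnd⟩
  · obtain ⟨z', ez', hb, hnd⟩ := block_core hσ hb3 ha1 hb1 h.rot.rot (E2 k2) (E0' l0) (Z1 k1) (Z1' l1)
    exact ⟨_, _, _, _, _, _, _, _, h.rot.rot, hb, hnd⟩
  · obtain ⟨z', ez', hb, hnd⟩ := block_core hσ hb3 ha1 hb1 h.swap23.rot (E2 k2) (E1' l1) (Z0 k0) (Z0' l0)
    exact ⟨_, _, _, _, _, _, _, _, h.swap23.rot, hb, hnd⟩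
  · exfalso; omega

theorem sq_ge_sign_mul {e : ℤ} (he : e = 1 ∨ e = -1) (B : ℤ) :
    e * B ≤ B * B ∧ -(e * B) ≤ B * B := by
  rcases he with rfl | rfl <;> constructor <;> nlinarith [sq_nonneg (B - 1), sq_nonneg (B + 1), sq_nonneg B]

theorem rp_arith (βr βc βz βz' βsr βsc βsz βsz' nr nc nz nz' nsr nsc nsz nsz' : ℤ)
    (q1 : βr ≤ nr ∧ -βr ≤ nr) (q2 : βc ≤ nc ∧ -βc ≤ nc) (q3 : βz ≤ nz ∧ -βz ≤ nz)
    (q4 : βz' ≤ nz' ∧ -βz' ≤ nz') (q5 : βsr ≤ nsr ∧ -βsr ≤ nsr)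
    (q6 : βsc ≤ nsc ∧ -βsc ≤ nsc) (q7 : βsz ≤ nsz ∧ -βsz ≤ nsz)
    (q8 : βsz' ≤ nsz' ∧ -βsz' ≤ nsz')
    (p1 : nr + nsr ≤ 1) (p2 : nc + nsc ≤ 1) (p3 : nz + nsz ≤ 1) (p4 : nz' + nsz' ≤ 1)
    (hs : nr + (nc + (nz + (nz' + (nsr + (nsc + (nsz + nsz')))))) ≤ 3)
    (h1 : βr + βc + βz = 1) (h2 : βr + βsc + βz' = 1) (h3 : βsr + βsc + βsz = 0)
    (h4 : βsr + βc + βsz' = 0) :
    (βr = 1 ∧ βc = 0 ∧ βsc = 0 ∧ βz = 0 ∧ βz' = 0) ∨
      (βz = 1 ∧ βz' = 1 ∧ βr = 0 ∧ βc = 0 ∧ βsc = 0) := by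
  obtain ⟨q1, q1'⟩ := q1
  obtain ⟨q2, q2'⟩ := q2
  obtain ⟨q3, q3'⟩ := q3
  obtain ⟨q4, q4'⟩ := q4
  obtain ⟨q5, q5'⟩ := q5
  obtain ⟨q6, q6'⟩ := q6
  obtain ⟨q7, q7'⟩ := q7
  obtain ⟨q8, q8'⟩ := q8
  have hr : βr = 0 ∨ βr = 1 := by omega
  rcases hr with hr | hr
  · right
    subst hr
    have e3 : βc = 0 := by omega
    subst e3
    have e1 : βz = 1 := by omega
    subst e1
    have e4 : βsc = 0 := by omega
    subst e4
    have e2 : βz' = 1 := by omega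
    exact ⟨rfl, e2, rfl, rfl, rfl⟩
  · left
    subst hr
    have e3 : βc = 0 := by omega
    subst e3
    have e4 : βsc = 0 := by omega
    subst e4
    have e1 : βz = 0 := by omega
    have e2 : βz' = 0 := by omega
    exact ⟨rfl, rfl, rfl, e1, e2⟩

theorem sq_pair {σ : X → X} {w : X → ℤ} (hw3 : ip w w = 3)
    (hw1 : ∀ x, w x ≠ 0 → w (σ x) = 0) (p : X) : w p * w p + w (σ p) * w (σ p) ≤ 1 := by
  rcases zero_or_of_hb1 hw1 p with hh | hh
  · rw [hh]
    rcases val_bound hw3 (σ p) with h | h | h <;> rw [h] <;> norm_num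
  · rw [hh]
    rcases val_bound hw3 p with h | h | h <;> rw [h] <;> norm_num

theorem rel_pos {σ : X → X} (hσ : ∀ x, σ (σ x) = x) {a b w : X → ℤ} {r c z z' : X}
    {er ec ez ez' : ℤ} (ha : IsTriple a r c z er ec ez) (hb : IsTriple b r (σ c) z' er ec ez')
    (hnd : [r, c, z, z', σ r, σ c, σ z, σ z'].Nodup)
    (hw3 : ip w w = 3) (hw1 : ∀ x, w x ≠ 0 → w (σ x) = 0)
    (h1 : ip a w = 1) (h2 : ip b w = 1) (h3 : ip a (fun x => w (σ x)) = 0)
    (h4 : ip b (fun x => w (σ x)) = 0) :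
    (w r = er ∧ w c = 0 ∧ w (σ c) = 0 ∧ w z = 0 ∧ w z' = 0) ∨
      (w z ≠ 0 ∧ w z' ≠ 0 ∧ w r = 0 ∧ w c = 0 ∧ w (σ c) = 0) := by
  rw [ha.ip_eq] at h1 h3
  rw [hb.ip_eq] at h2 h4
  rw [hσ] at h4
  have hsum := sum_list_le hnd (fun x => w x * w x) (fun x => mul_self_nonneg _)
  have hw3' : ∑ x, w x * w x = 3 := hw3
  rw [hw3'] at hsum
  simp only [List.map, List.sum_cons, List.sum_nil, add_zero] at hsum
  have key := rp_arith _ _ _ _ _ _ _ _ _ _ _ _ _ _ _ _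
    (sq_ge_sign_mul ha.he (w r)) (sq_ge_sign_mul ha.hf (w c)) (sq_ge_sign_mul ha.hg (w z))
    (sq_ge_sign_mul hb.hg (w z')) (sq_ge_sign_mul ha.he (w (σ r)))
    (sq_ge_sign_mul ha.hf (w (σ c))) (sq_ge_sign_mul ha.hg (w (σ z)))
    (sq_ge_sign_mul hb.hg (w (σ z')))
    (sq_pair hw3 hw1 r) (sq_pair hw3 hw1 c) (sq_pair hw3 hw1 z) (sq_pair hw3 hw1 z')
    hsum h1 h2 h3 h4
  rcases key with ⟨k1, k2, k3, k4, k5⟩ | ⟨k1, k2, k3, k4, k5⟩
  · left
    exact ⟨eq_of_sign_mul_eq_one ha.he k1, eq_zero_of_sign_mul_eq_zero ha.hf k2,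
      eq_zero_of_sign_mul_eq_zero ha.hf k3, eq_zero_of_sign_mul_eq_zero ha.hg k4,
      eq_zero_of_sign_mul_eq_zero hb.hg k5⟩
  · right
    refine ⟨?_, ?_, eq_zero_of_sign_mul_eq_zero ha.he k3, eq_zero_of_sign_mul_eq_zero ha.hf k4,
      eq_zero_of_sign_mul_eq_zero ha.hf k5⟩
    · intro hh; rw [hh, mul_zero] at k1; omega
    · intro hh; rw [hh, mul_zero] at k2; omega

theorem nodup8 {Y : Type*} {p1 p2 p3 p4 p5 p6 p7 p8 : Y}
    (h : [p1, p2, p3, p4, p5, p6, p7, p8].Nodup) :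
    (p1 ≠ p2 ∧ p1 ≠ p3 ∧ p1 ≠ p4 ∧ p1 ≠ p5 ∧ p1 ≠ p6 ∧ p1 ≠ p7 ∧ p1 ≠ p8) ∧
    (p2 ≠ p3 ∧ p2 ≠ p4 ∧ p2 ≠ p5 ∧ p2 ≠ p6 ∧ p2 ≠ p7 ∧ p2 ≠ p8) ∧
    (p3 ≠ p4 ∧ p3 ≠ p5 ∧ p3 ≠ p6 ∧ p3 ≠ p7 ∧ p3 ≠ p8) ∧
    (p4 ≠ p5 ∧ p4 ≠ p6 ∧ p4 ≠ p7 ∧ p4 ≠ p8) ∧
    (p5 ≠ p6 ∧ p5 ≠ p7 ∧ p5 ≠ p8) ∧ (p6 ≠ p7 ∧ p6 ≠ p8) ∧ p7 ≠ p8 := by
  simp only [List.nodup_cons, List.mem_cons, List.not_mem_nil, or_false, not_or,
    List.nodup_nil, and_true, not_false_eq_true] at h
  exact h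

theorem exclusion {σ : X → X} {a b w w' : X → ℤ} {r c z z' : X} {er ec ez ez' : ℤ}
    (ha : IsTriple a r c z er ec ez) (hb : IsTriple b r (σ c) z' er ec ez') (hzz' : z ≠ z')
    {ρ γ ζ ζ' : X} {eρ eγ eζ eζ' : ℤ} (hw : IsTriple w ρ γ ζ eρ eγ eζ)
    (hw' : IsTriple w' ρ (σ γ) ζ' eρ eγ eζ') (hζζ' : ζ ≠ ζ')
    (t3 : w z ≠ 0 ∧ w z' ≠ 0 ∧ w r = 0 ∧ w c = 0 ∧ w (σ c) = 0)
    (hw'c : w' c = 0) (hw'sc : w' (σ c) = 0)
    (Ra : (a ρ = eρ ∧ a γ = 0 ∧ a (σ γ) = 0 ∧ a ζ = 0 ∧ a ζ' = 0) ∨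
      (a ζ ≠ 0 ∧ a ζ' ≠ 0 ∧ a ρ = 0 ∧ a γ = 0 ∧ a (σ γ) = 0))
    (Rb : (b ρ = eρ ∧ b γ = 0 ∧ b (σ γ) = 0 ∧ b ζ = 0 ∧ b ζ' = 0) ∨
      (b ζ ≠ 0 ∧ b ζ' ≠ 0 ∧ b ρ = 0 ∧ b γ = 0 ∧ b (σ γ) = 0)) : False := by
  obtain ⟨-, -, wr, wc, wsc⟩ := t3
  have heρ := IsTriple.ne_zero_of_sign hw.he
  have wρ : w ρ ≠ 0 := by rw [hw.apply_p]; exact heρ
  have wζ : w ζ ≠ 0 := by rw [hw.apply_r]; exact IsTriple.ne_zero_of_sign hw.hg
  have w'ζ' : w' ζ' ≠ 0 := by rw [hw'.apply_r]; exact IsTriple.ne_zero_of_sign hw'.hg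
  have ar : a r ≠ 0 := by rw [ha.apply_p]; exact IsTriple.ne_zero_of_sign ha.he
  have br : b r ≠ 0 := by rw [hb.apply_p]; exact IsTriple.ne_zero_of_sign hb.he
  -- a point of `supp a ∩ supp w` is `z`; a point of `supp b ∩ supp w` is `z'`
  have inA : ∀ x, a x ≠ 0 → w x ≠ 0 → x = z := by
    intro x hax hwx
    rcases ha.mem hax with rfl | rfl | rfl
    · exact absurd wr hwx
    · exact absurd wc hwx
    · rfl
  have inB : ∀ x, b x ≠ 0 → w x ≠ 0 → x = z' := by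
    intro x hbx hwx
    rcases hb.mem hbx with rfl | rfl | rfl
    · exact absurd wr hwx
    · exact absurd wsc hwx
    · rfl
  rcases Ra with ⟨a1, -, -, -, a5⟩ | ⟨a1, a2, -, -, -⟩ <;>
    rcases Rb with ⟨b1, -, -, -, b5⟩ | ⟨b1, b2, -, -, -⟩
  · have h1 := inA ρ (by rw [a1]; exact heρ) wρ
    have h2 := inB ρ (by rw [b1]; exact heρ) wρ
    exact hzz' (h1.symm.trans h2)
  · -- a type (i), b type (iii)
    have h1 := inB ζ b1 wζ
    rcases hb.mem b2 with h | h | h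
    · rw [h] at a5; exact ar a5
    · rw [h] at w'ζ'; exact w'ζ' hw'sc
    · exact hζζ' (h1.trans h.symm)
  · -- a type (iii), b type (i)
    have h1 := inA ζ a1 wζ
    rcases ha.mem a2 with h | h | h
    · rw [h] at b5; exact br b5
    · rw [h] at w'ζ'; exact w'ζ' hw'c
    · exact hζζ' (h1.trans h.symm)
  · have h1 := inA ζ a1 wζ
    have h2 := inB ζ b1 wζ
    exact hzz' (h1.symm.trans h2)

end Basic

section Table

variable {X I J : Type*} [Fintype X] [DecidableEq X] [DecidableEq I] [DecidableEq J]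

/-- The hypotheses on the coefficient table. -/
structure TableHyp (σ : X → X) (ι : I → I) (κ : J → J) (c : I → J → X → ℤ) : Prop where
  hσ : ∀ x, σ (σ x) = x
  hι : ∀ s, ι (ι s) = s
  hι' : ∀ s, ι s ≠ s
  hκ : ∀ t, κ (κ t) = t
  hκ' : ∀ t, κ t ≠ t
  hgram : ∀ s t s' t', ip (c s t) (c s' t') =
    (if s = s' then 1 else 0) + (if t = t' then 1 else 0) + (if s = s' ∧ t = t' then 1 else 0)
  hconj : ∀ s t x, c (ι s) (κ t) x = c s t (σ x)

namespace TableHyp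

variable {σ : X → X} {ι : I → I} {κ : J → J} {c : I → J → X → ℤ}

theorem transpose (H : TableHyp σ ι κ c) : TableHyp σ κ ι (fun t s => c s t) where
  hσ := H.hσ
  hι := H.hκ
  hι' := H.hκ'
  hκ := H.hι
  hκ' := H.hι'
  hgram := by
    intro t s t' s'
    rw [H.hgram s t s' t']
    by_cases h1 : s = s' <;> by_cases h2 : t = t' <;> simp [h1, h2]
  hconj := fun t s x => H.hconj s t x

theorem norm (H : TableHyp σ ι κ c) (s : I) (t : J) : ip (c s t) (c s t) = 3 := by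
  rw [H.hgram]; simp

theorem row (H : TableHyp σ ι κ c) (s : I) {t t' : J} (h : t ≠ t') :
    ip (c s t) (c s t') = 1 := by
  rw [H.hgram]; simp [h]

theorem col (H : TableHyp σ ι κ c) {s s' : I} (t : J) (h : s ≠ s') :
    ip (c s t) (c s' t) = 1 := by
  rw [H.hgram]; simp [h]

theorem zero (H : TableHyp σ ι κ c) {s s' : I} {t t' : J} (hs : s ≠ s') (ht : t ≠ t') :
    ip (c s t) (c s' t') = 0 := by
  rw [H.hgram]; simp [hs, ht]

theorem conj_fun (H : TableHyp σ ι κ c) (s : I) (t : J) :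
    (fun x => c s t (σ x)) = c (ι s) (κ t) := by
  funext x
  exact (H.hconj s t x).symm

theorem κ_ne (H : TableHyp σ ι κ c) {t t' : J} (h : t' ≠ κ t) : κ t' ≠ t := by
  intro hh
  apply h
  rw [← hh, H.hκ]

theorem κ_inj (H : TableHyp σ ι κ c) {t t' : J} (h : t' ≠ t) : κ t' ≠ κ t := by
  intro hh
  apply h
  rw [← H.hκ t', hh, H.hκ]

theorem no_overlap' (H : TableHyp σ ι κ c) (s : I) (t : J) :
    ∀ x, c s t x ≠ 0 → c s t (σ x) = 0 := by
  apply no_overlap H.hσ (H.norm s t)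
  rw [H.conj_fun]
  exact H.zero (H.hι' s).symm (H.hκ' t).symm

theorem block (H : TableHyp σ ι κ c) (s : I) (t : J) :
    ∃ r cc z z' er ec ez ez', IsTriple (c s t) r cc z er ec ez ∧
      IsTriple (c s (κ t)) r (σ cc) z' er ec ez' ∧
      [r, cc, z, z', σ r, σ cc, σ z, σ z'].Nodup := by
  apply block_lemma H.hσ (H.norm s t) (H.norm s (κ t)) (H.row s (H.hκ' t).symm)
  · rw [H.conj_fun, H.hκ]
    exact H.col t (H.hι' s).symm
  · exact H.no_overlap' s t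
  · exact H.no_overlap' s (κ t)

theorem rp (H : TableHyp σ ι κ c) (s : I) {t t' : J} (ht : t' ≠ t) (ht' : t' ≠ κ t)
    {r cc z z' : X} {er ec ez ez' : ℤ} (ha : IsTriple (c s t) r cc z er ec ez)
    (hb : IsTriple (c s (κ t)) r (σ cc) z' er ec ez')
    (hnd : [r, cc, z, z', σ r, σ cc, σ z, σ z'].Nodup) :
    (c s t' r = er ∧ c s t' cc = 0 ∧ c s t' (σ cc) = 0 ∧ c s t' z = 0 ∧ c s t' z' = 0) ∨
      (c s t' z ≠ 0 ∧ c s t' z' ≠ 0 ∧ c s t' r = 0 ∧ c s t' cc = 0 ∧ c s t' (σ cc) = 0) := by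
  apply rel_pos H.hσ ha hb hnd (H.norm s t') (H.no_overlap' s t')
  · exact H.row s ht.symm
  · exact H.row s ht'.symm
  · rw [H.conj_fun]
    exact H.zero (H.hι' s).symm (H.κ_ne ht').symm
  · rw [H.conj_fun]
    exact H.zero (H.hι' s).symm (H.κ_inj ht).symm

theorem row_thm (H : TableHyp σ ι κ c) (s : I) (t : J) :
    ∃ (r cc : X) (er ec : ℤ), (er = 1 ∨ er = -1) ∧ (ec = 1 ∨ ec = -1) ∧ r ≠ cc ∧
      c s t r = er ∧ c s t cc = ec ∧ c s (κ t) r = er ∧ c (ι s) t cc = ec ∧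
      (∀ x, c s t x ≠ 0 → c s (κ t) x ≠ 0 → x = r) ∧
      (∀ x, c s t x ≠ 0 → c (ι s) t x ≠ 0 → x = cc) ∧
      (∀ t', t' ≠ t → t' ≠ κ t → c s t' r = er ∧ c s t' cc = 0) := by
  obtain ⟨r, cc, z, z', er, ec, ez, ez', ha, hb, hnd⟩ := H.block s t
  obtain ⟨⟨n12, n13, n14, n15, n16, n17, n18⟩, ⟨n23, n24, n25, n26, n27, n28⟩,
    ⟨n34, n35, n36, n37, n38⟩, ⟨n45, n46, n47, n48⟩, ⟨n56, n57, n58⟩, ⟨n67, n68⟩, n78⟩ :=
    nodup8 hnd
  refine ⟨r, cc, er, ec, ha.he, ha.hf, ha.hpq, ha.apply_p, ha.apply_q, hb.apply_p, ?_, ?_, ?_, ?_⟩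
  · have := H.hconj s (κ t) cc
    rw [H.hκ] at this
    rw [this, hb.apply_q]
  · intro x hax hbx
    rcases ha.mem hax with rfl | rfl | rfl
    · rfl
    · rcases hb.mem hbx with h | h | h
      · exact absurd h.symm n12
      · exact absurd h n26
      · exact absurd h n24
    · rcases hb.mem hbx with h | h | h
      · exact absurd h.symm n13
      · exact absurd h n36
      · exact absurd h n34
  · intro x hax hbx
    have e : c (ι s) t x = c s (κ t) (σ x) := by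
      have := H.hconj s (κ t) x
      rwa [H.hκ] at this
    rw [e] at hbx
    rcases ha.mem hax with rfl | rfl | rfl
    · rcases hb.mem hbx with h | h | h
      · exact absurd h.symm n15
      · exact absurd h n56
      · exact absurd h.symm n45
    · rfl
    · rcases hb.mem hbx with h | h | h
      · exact absurd h.symm n17
      · exact absurd h.symm n67
      · exact absurd h.symm n47
  · intro t' ht ht'
    rcases H.rp s ht ht' ha hb hnd with h | h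
    · exact ⟨h.1, h.2.1⟩
    · exfalso
      obtain ⟨ρ, γ, ζ, ζ', eρ, eγ, eζ, eζ', hw, hw', hnd'⟩ := H.block s t'
      have hζζ' : ζ ≠ ζ' := (nodup8 hnd').2.2.1.1
      have R' := H.rp s (t := t) (t' := κ t') (H.κ_ne ht') (H.κ_inj ht) ha hb hnd
      have hw'c : c s (κ t') cc = 0 ∧ c s (κ t') (σ cc) = 0 := by
        rcases R' with h' | h'
        · exact ⟨h'.2.1, h'.2.2.1⟩
        · exact ⟨h'.2.2.2.1, h'.2.2.2.2⟩
      have Ra := H.rp s (t := t') (t' := t) ht.symm (fun hh => H.κ_ne ht' hh.symm) hw hw' hnd'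
      have Rb := H.rp s (t := t') (t' := κ t) (fun hh => ht' hh.symm) (H.κ_inj ht.symm) hw hw' hnd'
      exact exclusion ha hb n34 hw hw' hζζ' h hw'c.1 hw'c.2 Ra Rb

theorem cell_thm (H : TableHyp σ ι κ c) (s : I) (t : J) :
    ∃ (r cc : X) (er ec : ℤ), (er = 1 ∨ er = -1) ∧ (ec = 1 ∨ ec = -1) ∧ r ≠ cc ∧
      (∀ t', c s t' r = er) ∧ (∀ s', c s' t cc = ec) ∧
      (∀ x, c s t x ≠ 0 → c s (κ t) x ≠ 0 → x = r) ∧
      (∀ x, c s t x ≠ 0 → c (ι s) t x ≠ 0 → x = cc) ∧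
      (∀ t', t' ≠ t → t' ≠ κ t → c s t' cc = 0) ∧
      (∀ s', s' ≠ s → s' ≠ ι s → c s' t r = 0) := by
  obtain ⟨r, cc, er, ec, her, hec, hne, p3, p4, p5, p6, p7, p8, p9⟩ := H.row_thm s t
  obtain ⟨r', cc', er', ec', her', hec', hne', q3, q4, q5, q6, q7, q8, q9⟩ :=
    H.transpose.row_thm t s
  have her0 := IsTriple.ne_zero_of_sign her
  have hec0 := IsTriple.ne_zero_of_sign hec
  have e1 : cc = r' := q7 cc (by rw [p4]; exact hec0) (by rw [p6]; exact hec0)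
  have e2 : r = cc' := q8 r (by rw [p3]; exact her0) (by rw [p5]; exact her0)
  subst e1
  subst e2
  have e3 : er' = ec := by rw [← q3, ← p4]
  subst e3
  refine ⟨r, cc, er, er', her, hec, hne, ?_, ?_, p7, p8, fun t' h1 h2 => (p9 t' h1 h2).2,
    fun s' h1 h2 => (q9 s' h1 h2).2⟩
  · intro t'
    by_cases h1 : t' = t
    · rw [h1]; exact p3
    · by_cases h2 : t' = κ t
      · rw [h2]; exact p5
      · exact (p9 t' h1 h2).1
  · intro s'
    by_cases h1 : s' = s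
    · rw [h1]; exact p4
    · by_cases h2 : s' = ι s
      · rw [h2]; exact p6
      · exact (q9 s' h1 h2).1

end TableHyp

theorem table_structure_aux {σ : X → X} {ι : I → I} {κ : J → J} {c : I → J → X → ℤ}
    [Nonempty I] [Nonempty J] (H : TableHyp σ ι κ c) :
    ∃ (xr : I → X) (er : I → ℤ) (yc : J → X) (ec : J → ℤ) (z : I → J → X) (ez : I → J → ℤ),
      (∀ s, er s = 1 ∨ er s = -1) ∧ (∀ t, ec t = 1 ∨ ec t = -1) ∧
      (∀ s t, ez s t = 1 ∨ ez s t = -1) ∧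
      Function.Injective xr ∧ Function.Injective yc ∧
      Function.Injective (fun p : I × J => z p.1 p.2) ∧
      (∀ s t, xr s ≠ yc t) ∧ (∀ s s' t, xr s ≠ z s' t) ∧ (∀ t s t', yc t ≠ z s t') ∧
      ∀ s t x, c s t x = (if x = xr s then er s else 0) + (if x = yc t then ec t else 0) +
        (if x = z s t then ez s t else 0) := by
  choose R C ER EC hER hEC hRC hrow hcol hexr hexc hCz hRz using H.cell_thm
  obtain ⟨s₀⟩ := ‹Nonempty I›
  obtain ⟨t₀⟩ := ‹Nonempty J›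
  have hER0 : ∀ s t, ER s t ≠ 0 := fun s t => IsTriple.ne_zero_of_sign (hER s t)
  have hEC0 : ∀ s t, EC s t ≠ 0 := fun s t => IsTriple.ne_zero_of_sign (hEC s t)
  have Q1 : ∀ s t, R s t₀ = R s t := by
    intro s t
    apply hexr s t
    · rw [hrow s t₀ t]; exact hER0 s t₀
    · rw [hrow s t₀ (κ t)]; exact hER0 s t₀
  have Q1' : ∀ s t, ER s t₀ = ER s t := by
    intro s t
    rw [← hrow s t₀ t, Q1 s t, hrow s t t]
  have Q2 : ∀ s t, C s₀ t = C s t := by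
    intro s t
    apply hexc s t
    · rw [hcol s₀ t s]; exact hEC0 s₀ t
    · rw [hcol s₀ t (ι s)]; exact hEC0 s₀ t
  have Q2' : ∀ s t, EC s₀ t = EC s t := by
    intro s t
    rw [← hcol s₀ t s, Q2 s t, hcol s t s]
  -- values at the row and column points
  have vx : ∀ s t, c s t (R s t₀) = ER s t₀ := fun s t => hrow s t₀ t
  have vy : ∀ s t, c s t (C s₀ t) = EC s₀ t := fun s t => hcol s₀ t s
  have hxy : ∀ s t, R s t₀ ≠ C s₀ t := by
    intro s t
    rw [Q1 s t, Q2 s t]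
    exact hRC s t
  have key : ∀ s t, ∃ z g, IsTriple (c s t) (R s t₀) (C s₀ t) z (ER s t₀) (EC s₀ t) g := by
    intro s t
    obtain ⟨z, g, h⟩ := triple_of_two (H.norm s t) (by rw [vx]; exact hER0 s t₀)
      (by rw [vy]; exact hEC0 s₀ t) (hxy s t)
    rw [vx, vy] at h
    exact ⟨z, g, h⟩
  choose z ez T using key
  have hez0 : ∀ s t, ez s t ≠ 0 := fun s t => IsTriple.ne_zero_of_sign (T s t).hg
  have vz : ∀ s t, c s t (z s t) ≠ 0 := fun s t => by rw [(T s t).apply_r]; exact hez0 s t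
  -- D1
  have D1 : Function.Injective (fun s => R s t₀) := by
    intro s s' hss
    simp only at hss
    by_contra hne
    by_cases h1 : s' = ι s
    · subst h1
      have h2 : c (ι s) (κ t₀) (R (ι s) t₀) ≠ 0 := by rw [vx]; exact hER0 _ _
      rw [H.hconj, ← hss] at h2
      have h3 : c s t₀ (R s t₀) ≠ 0 := by rw [vx]; exact hER0 _ _
      exact h2 (H.no_overlap' s t₀ _ h3)
    · have h2 := hRz s t₀ s' (Ne.symm hne) h1
      rw [hss, vx] at h2
      exact hER0 _ _ h2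
  have D2 : Function.Injective (fun t => C s₀ t) := by
    intro t t' htt
    simp only at htt
    by_contra hne
    by_cases h1 : t' = κ t
    · subst h1
      have h2 : c (ι s₀) (κ t) (C s₀ (κ t)) ≠ 0 := by rw [vy]; exact hEC0 _ _
      rw [H.hconj, ← htt] at h2
      have h3 : c s₀ t (C s₀ t) ≠ 0 := by rw [vy]; exact hEC0 _ _
      exact h2 (H.no_overlap' s₀ t _ h3)
    · have h2 := hCz s₀ t t' (Ne.symm hne) h1
      rw [htt, vy] at h2
      exact hEC0 _ _ h2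
  have D4 : ∀ s s' t, R s t₀ ≠ z s' t := by
    intro s s' t hh
    by_cases h0 : s' = s
    · subst h0
      exact (T s' t).hpr hh
    · by_cases h1 : s' = ι s
      · subst h1
        have h2 := vz (ι s) t
        have e : c (ι s) t (z (ι s) t) = c s (κ t) (σ (z (ι s) t)) := by
          have := H.hconj s (κ t) (z (ι s) t)
          rwa [H.hκ] at this
        rw [e, ← hh] at h2
        have h3 : c s (κ t) (R s t₀) ≠ 0 := by rw [vx]; exact hER0 _ _
        exact h2 (H.no_overlap' s (κ t) _ h3)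
      · have h2 := hRz s t s' h0 h1
        rw [← Q1 s t, hh] at h2
        exact vz s' t h2
  have D5 : ∀ t s t', C s₀ t ≠ z s t' := by
    intro t s t' hh
    by_cases h0 : t' = t
    · subst h0
      exact (T s t').hqr hh
    · by_cases h1 : t' = κ t
      · subst h1
        have h2 := vz s (κ t)
        have e : c s (κ t) (z s (κ t)) = c (ι s) t (σ (z s (κ t))) := by
          have := H.hconj (ι s) t (z s (κ t))
          rwa [H.hι] at this
        rw [e, ← hh] at h2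
        have h3 : c (ι s) t (C s₀ t) ≠ 0 := by rw [vy]; exact hEC0 _ _
        exact h2 (H.no_overlap' (ι s) t _ h3)
      · have h2 := hCz s t t' h0 h1
        rw [← Q2 s t, hh] at h2
        exact vz s t' h2
  refine ⟨fun s => R s t₀, fun s => ER s t₀, fun t => C s₀ t, fun t => EC s₀ t, z, ez,
    fun s => hER s t₀, fun t => hEC s₀ t, fun s t => (T s t).hg, D1, D2, ?_, hxy, D4, D5,
    fun s t x => (T s t).form x⟩
  rintro ⟨s, t⟩ ⟨s', t'⟩ hzz
  simp only at hzz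
  by_contra hne
  have hg := H.hgram s t s' t'
  rw [(T s t).ip_eq] at hg
  have e1 : c s' t' (R s t₀) = if s = s' then ER s' t₀ else 0 := by
    rw [(T s' t').form]
    rw [if_neg (hxy s t'), if_neg (D4 s s' t'), add_zero, add_zero]
    by_cases h : s = s'
    · subst h; rw [if_pos rfl, if_pos rfl]
    · rw [if_neg h, if_neg (fun hh => h (D1 hh))]
  have e2 : c s' t' (C s₀ t) = if t = t' then EC s₀ t' else 0 := by
    rw [(T s' t').form]
    rw [if_neg (hxy s' t).symm, if_neg (D5 t s' t'), add_zero, zero_add]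
    by_cases h : t = t'
    · subst h; rw [if_pos rfl, if_pos rfl]
    · rw [if_neg h, if_neg (fun hh => h (D2 hh))]
  have e3 : c s' t' (z s t) = ez s' t' := by
    rw [hzz, (T s' t').apply_r]
  rw [e1, e2, e3] at hg
  have hne' : ¬ (s = s' ∧ t = t') := fun h => hne (by rw [h.1, h.2])
  rw [if_neg hne'] at hg
  have s1 := hER s t₀
  have s2 := hEC s₀ t
  have s3 := (T s t).hg
  have s4 := (T s' t').hg
  by_cases h1 : s = s' <;> by_cases h2 : t = t'
  · exact hne' ⟨h1, h2⟩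
  · subst h1
    simp only [if_true, if_neg h2] at hg
    rcases s1 with s1 | s1 <;> rcases s3 with s3 | s3 <;> rcases s4 with s4 | s4 <;>
      rw [s1, s3, s4] at hg <;> omega
  · subst h2
    simp only [if_true, if_neg h1] at hg
    rcases s2 with s2 | s2 <;> rcases s3 with s3 | s3 <;> rcases s4 with s4 | s4 <;>
      rw [s2, s3, s4] at hg <;> omega
  · simp only [if_neg h1, if_neg h2] at hg
    rcases s3 with s3 | s3 <;> rcases s4 with s4 | s4 <;>
      rw [s3, s4] at hg <;> omega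

/-- The structure of a coefficient table with the Gram relations of Peterfalvi (3.2) and a
fixed-point-free conjugation symmetry. -/
theorem table_structure {X I J : Type*} [Fintype X] [DecidableEq X] [DecidableEq I]
    [DecidableEq J] [Nonempty I] [Nonempty J]
    (σ : X → X) (hσ : ∀ x, σ (σ x) = x) (ι : I → I) (hι : ∀ s, ι (ι s) = s)
    (hι' : ∀ s, ι s ≠ s) (κ : J → J) (hκ : ∀ t, κ (κ t) = t) (hκ' : ∀ t, κ t ≠ t)
    (c : I → J → X → ℤ)
    (hgram : ∀ s t s' t', ∑ x, c s t x * c s' t' x =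
      (if s = s' then 1 else 0) + (if t = t' then 1 else 0) +
        (if s = s' ∧ t = t' then 1 else 0))
    (hconj : ∀ s t x, c (ι s) (κ t) x = c s t (σ x)) :
    ∃ (xr : I → X) (er : I → ℤ) (yc : J → X) (ec : J → ℤ) (z : I → J → X) (ez : I → J → ℤ),
      (∀ s, er s = 1 ∨ er s = -1) ∧ (∀ t, ec t = 1 ∨ ec t = -1) ∧
      (∀ s t, ez s t = 1 ∨ ez s t = -1) ∧
      Function.Injective xr ∧ Function.Injective yc ∧
      Function.Injective (fun p : I × J => z p.1 p.2) ∧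
      (∀ s t, xr s ≠ yc t) ∧ (∀ s s' t, xr s ≠ z s' t) ∧ (∀ t s t', yc t ≠ z s t') ∧
      ∀ s t x, c s t x = (if x = xr s then er s else 0) + (if x = yc t then ec t else 0) +
        (if x = z s t then ez s t else 0) :=
  table_structure_aux ⟨hσ, hι, hι', hκ, hκ', hgram, hconj⟩


end Table

end Cfsg.Agent.Lib.Helper25.PF32

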