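import Cfsg.Agent.Lib.Helper25.PF32Setup
import Cfsg.Agent.Lib.Helper25.PF32Table
import Cfsg.Agent.Lib.Helper25.PF32Fourier

set_option autoImplicit false
set_option linter.unusedSectionVars false
set_option linter.style.haveILetI false
set_option linter.unusedVariables false

/-!
Peterfalvi (3.2): construction of the cyclic TI family from the structure of the coefficient table
of the `β(φ,ψ)`.
-/

namespace Cfsg.Agent.Lib.Helper25

open Cfsg
open scoped ComplexConjugate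

section PF32Final

variable {G : Type*} [Group G] [Fintype G] {W₁ W₂ : Subgroup G}

/-- Uniqueness of the decomposition `ω = φ ψ`. -/
theorem dual_dec_unique (hW : IsSelfNormalizingCyclic W₁ W₂) {φ φ' ψ ψ' : ↥(W₁ ⊔ W₂) →* ℂˣ}
    (hφ : ∀ w : ↥(W₁ ⊔ W₂), (w : G) ∈ W₂ → φ w = 1)
    (hφ' : ∀ w : ↥(W₁ ⊔ W₂), (w : G) ∈ W₂ → φ' w = 1)
    (hψ : ∀ w : ↥(W₁ ⊔ W₂), (w : G) ∈ W₁ → ψ w = 1)
    (hψ' : ∀ w : ↥(W₁ ⊔ W₂), (w : G) ∈ W₁ → ψ' w = 1)
    (h : φ * ψ = φ' * ψ') : φ = φ' ∧ ψ = ψ' := by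
  have hpt : ∀ w, φ w * ψ w = φ' w * ψ' w := by
    intro w
    have := DFunLike.congr_fun h w
    simpa using this
  have h1 : φ * φ'⁻¹ = 1 := by
    apply hom_eq_one_of_trivial hW
    · intro w hw
      have := hpt w
      rw [hψ w hw, hψ' w hw, mul_one, mul_one] at this
      rw [MonoidHom.mul_apply, MonoidHom.inv_apply, this, mul_inv_cancel]
    · intro w hw
      rw [MonoidHom.mul_apply, MonoidHom.inv_apply, hφ w hw, hφ' w hw, inv_one, mul_one]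
  have e1 : φ = φ' := by
    ext w
    have := DFunLike.congr_fun h1 w
    rw [MonoidHom.mul_apply, MonoidHom.inv_apply, MonoidHom.one_apply, mul_inv_eq_one] at this
    rw [this]
  refine ⟨e1, ?_⟩
  ext w
  have := hpt w
  rw [e1] at this
  have := mul_left_cancel this
  rw [this]

/-- The `W₂`-trivial part of a linear character of `W`. -/
noncomputable def phiPart (hW : IsSelfNormalizingCyclic W₁ W₂)
    (hodd : Odd (Nat.card ↥(W₁ ⊔ W₂))) (ω : ↥(W₁ ⊔ W₂) →* ℂˣ) : ↥(W₁ ⊔ W₂) →* ℂˣ :=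
  ((snc_dual_facts hW hodd).1 ω).choose

/-- The `W₁`-trivial part of a linear character of `W`. -/
noncomputable def psiPart (hW : IsSelfNormalizingCyclic W₁ W₂)
    (hodd : Odd (Nat.card ↥(W₁ ⊔ W₂))) (ω : ↥(W₁ ⊔ W₂) →* ℂˣ) : ↥(W₁ ⊔ W₂) →* ℂˣ :=
  ((snc_dual_facts hW hodd).1 ω).choose_spec.choose

theorem phiPart_spec (hW : IsSelfNormalizingCyclic W₁ W₂)
    (hodd : Odd (Nat.card ↥(W₁ ⊔ W₂))) (ω : ↥(W₁ ⊔ W₂) →* ℂˣ) :
    ∀ w : ↥(W₁ ⊔ W₂), (w : G) ∈ W₂ → phiPart hW hodd ω w = 1 :=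
  ((snc_dual_facts hW hodd).1 ω).choose_spec.choose_spec.1

theorem psiPart_spec (hW : IsSelfNormalizingCyclic W₁ W₂)
    (hodd : Odd (Nat.card ↥(W₁ ⊔ W₂))) (ω : ↥(W₁ ⊔ W₂) →* ℂˣ) :
    ∀ w : ↥(W₁ ⊔ W₂), (w : G) ∈ W₁ → psiPart hW hodd ω w = 1 :=
  ((snc_dual_facts hW hodd).1 ω).choose_spec.choose_spec.2.1

theorem phiPart_mul_psiPart (hW : IsSelfNormalizingCyclic W₁ W₂)
    (hodd : Odd (Nat.card ↥(W₁ ⊔ W₂))) (ω : ↥(W₁ ⊔ W₂) →* ℂˣ) :
    ω = phiPart hW hodd ω * psiPart hW hodd ω :=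
  ((snc_dual_facts hW hodd).1 ω).choose_spec.choose_spec.2.2

theorem parts_of_mul (hW : IsSelfNormalizingCyclic W₁ W₂)
    (hodd : Odd (Nat.card ↥(W₁ ⊔ W₂))) {φ ψ : ↥(W₁ ⊔ W₂) →* ℂˣ}
    (hφ : ∀ w : ↥(W₁ ⊔ W₂), (w : G) ∈ W₂ → φ w = 1)
    (hψ : ∀ w : ↥(W₁ ⊔ W₂), (w : G) ∈ W₁ → ψ w = 1) :
    phiPart hW hodd (φ * ψ) = φ ∧ psiPart hW hodd (φ * ψ) = ψ :=
  dual_dec_unique hW (phiPart_spec hW hodd _) hφ (psiPart_spec hW hodd _) hψ
    (phiPart_mul_psiPart hW hodd (φ * ψ)).symm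

/-- A character trivial on `K` as an optional index. -/
noncomputable def toIdx {W K : Subgroup G} (φ : ↥W →* ℂˣ)
    (hφ : ∀ w : ↥W, (w : G) ∈ K → φ w = 1) : Option (DualIdx W K) :=
  open Classical in if h : φ = 1 then none else some ⟨φ, h, hφ⟩

theorem toIdx_one {W K : Subgroup G} (hφ : ∀ w : ↥W, (w : G) ∈ K → (1 : ↥W →* ℂˣ) w = 1) :
    toIdx (1 : ↥W →* ℂˣ) hφ = none := by
  unfold toIdx
  rw [dif_pos rfl]

theorem toIdx_of_ne {W K : Subgroup G} {φ : ↥W →* ℂˣ}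
    (hφ : ∀ w : ↥W, (w : G) ∈ K → φ w = 1) (h : φ ≠ 1) :
    toIdx φ hφ = some ⟨φ, h, hφ⟩ := by
  unfold toIdx
  rw [dif_neg h]

/-- The underlying character of an optional index. -/
noncomputable def ofIdx {W K : Subgroup G} : Option (DualIdx W K) → (↥W →* ℂˣ)
  | none => 1
  | some s => s.1

theorem ofIdx_toIdx {W K : Subgroup G} (φ : ↥W →* ℂˣ)
    (hφ : ∀ w : ↥W, (w : G) ∈ K → φ w = 1) : ofIdx (toIdx φ hφ) = φ := by
  classical
  by_cases h : φ = 1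
  · subst h
    rw [toIdx_one]
    rfl
  · rw [toIdx_of_ne hφ h]
    rfl

/-- The pair of optional indices of a linear character of `W`. -/
noncomputable def idxPair (hW : IsSelfNormalizingCyclic W₁ W₂)
    (hodd : Odd (Nat.card ↥(W₁ ⊔ W₂))) (ω : ↥(W₁ ⊔ W₂) →* ℂˣ) :
    Option (DualIdx (W₁ ⊔ W₂) W₂) × Option (DualIdx (W₁ ⊔ W₂) W₁) :=
  (toIdx (phiPart hW hodd ω) (phiPart_spec hW hodd ω),
    toIdx (psiPart hW hodd ω) (psiPart_spec hW hodd ω))

theorem idxPair_injective (hW : IsSelfNormalizingCyclic W₁ W₂)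
    (hodd : Odd (Nat.card ↥(W₁ ⊔ W₂))) : Function.Injective (idxPair hW hodd) := by
  intro ω ω' h
  have h1 : ofIdx (idxPair hW hodd ω).1 = ofIdx (idxPair hW hodd ω').1 := by rw [h]
  have h2 : ofIdx (idxPair hW hodd ω).2 = ofIdx (idxPair hW hodd ω').2 := by rw [h]
  unfold idxPair at h1 h2
  simp only [ofIdx_toIdx] at h1 h2
  rw [phiPart_mul_psiPart hW hodd ω, phiPart_mul_psiPart hW hodd ω', h1, h2]

theorem idxPair_one (hW : IsSelfNormalizingCyclic W₁ W₂)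
    (hodd : Odd (Nat.card ↥(W₁ ⊔ W₂))) : idxPair hW hodd 1 = (none, none) := by
  have h := parts_of_mul hW hodd (φ := (1 : ↥(W₁ ⊔ W₂) →* ℂˣ)) (ψ := 1)
    (fun _ _ => rfl) (fun _ _ => rfl)
  have e : (1 : ↥(W₁ ⊔ W₂) →* ℂˣ) * 1 = 1 := by
    ext w; simp
  rw [e] at h
  unfold idxPair
  congr 1
  · simp only [h.1]
    exact toIdx_one _
  · simp only [h.2]
    exact toIdx_one _

theorem idxPair_left (hW : IsSelfNormalizingCyclic W₁ W₂)
    (hodd : Odd (Nat.card ↥(W₁ ⊔ W₂))) (s : DualIdx (W₁ ⊔ W₂) W₂) :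
    idxPair hW hodd s.1 = (some s, none) := by
  have h := parts_of_mul hW hodd (φ := s.1) (ψ := 1) s.2.2 (fun _ _ => rfl)
  have e : s.1 * (1 : ↥(W₁ ⊔ W₂) →* ℂˣ) = s.1 := by
    ext w; simp
  rw [e] at h
  unfold idxPair
  congr 1
  · simp only [h.1]
    exact toIdx_of_ne s.2.2 s.2.1
  · simp only [h.2]
    exact toIdx_one _

theorem idxPair_right (hW : IsSelfNormalizingCyclic W₁ W₂)
    (hodd : Odd (Nat.card ↥(W₁ ⊔ W₂))) (t : DualIdx (W₁ ⊔ W₂) W₁) :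
    idxPair hW hodd t.1 = (none, some t) := by
  have h := parts_of_mul hW hodd (φ := 1) (ψ := t.1) (fun _ _ => rfl) t.2.2
  have e : (1 : ↥(W₁ ⊔ W₂) →* ℂˣ) * t.1 = t.1 := by
    ext w; simp
  rw [e] at h
  unfold idxPair
  congr 1
  · simp only [h.1]
    exact toIdx_one _
  · simp only [h.2]
    exact toIdx_of_ne t.2.2 t.2.1

theorem idxPair_mul (hW : IsSelfNormalizingCyclic W₁ W₂)
    (hodd : Odd (Nat.card ↥(W₁ ⊔ W₂))) (s : DualIdx (W₁ ⊔ W₂) W₂) (t : DualIdx (W₁ ⊔ W₂) W₁) :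
    idxPair hW hodd (s.1 * t.1) = (some s, some t) := by
  have h := parts_of_mul hW hodd (φ := s.1) (ψ := t.1) s.2.2 t.2.2
  unfold idxPair
  congr 1
  · simp only [h.1]
    exact toIdx_of_ne s.2.2 s.2.1
  · simp only [h.2]
    exact toIdx_of_ne t.2.2 t.2.1

/-- A cyclic TI family, without the condition on values. -/
structure IsPreTIFamily (W₁ W₂ : Subgroup G) (χ : (↥(W₁ ⊔ W₂) →* ℂˣ) → (G → ℂ)) : Prop where
  irr_or_neg : ∀ ω, IsIrrCharacter G (χ ω) ∨ IsIrrCharacter G (-χ ω)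
  orthonormal : ∀ ω ω', classInner (χ ω) (χ ω') = open Classical in if ω = ω' then 1 else 0
  map_one : χ 1 = fun _ => 1
  induced_eq : ∀ φ ψ : ↥(W₁ ⊔ W₂) →* ℂˣ, φ ≠ 1 → ψ ≠ 1 →
    (∀ w : ↥(W₁ ⊔ W₂), (w : G) ∈ W₂ → φ w = 1) → (∀ w : ↥(W₁ ⊔ W₂), (w : G) ∈ W₁ → ψ w = 1) →
    indFun (W₁ ⊔ W₂) (fun w => 1 - (φ w : ℂ) - (ψ w : ℂ) + (φ w : ℂ) * (ψ w : ℂ)) =
      fun g => 1 - χ φ g - χ ψ g + χ (φ * ψ) g

/-- The irreducible character attached to a pair of optional indices. -/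
noncomputable def keyOf {I J : Type*} (xr : I → IrrCharacter G) (yc : J → IrrCharacter G)
    (z : I → J → IrrCharacter G) : Option I × Option J → IrrCharacter G
  | (none, none) => irrOne
  | (some s, none) => xr s
  | (none, some t) => yc t
  | (some s, some t) => z s t

/-- The sign attached to a pair of optional indices. -/
def sgnOf {I J : Type*} (er : I → ℤ) (ec : J → ℤ) (ez : I → J → ℤ) : Option I × Option J → ℤ
  | (none, none) => 1
  | (some s, none) => -er s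
  | (none, some t) => -ec t
  | (some s, some t) => ez s t

theorem exists_preTIFamily (hW : IsSelfNormalizingCyclic W₁ W₂)
    (hodd : Odd (Nat.card ↥(W₁ ⊔ W₂))) :
    ∃ χ : (↥(W₁ ⊔ W₂) →* ℂˣ) → (G → ℂ), IsPreTIFamily W₁ W₂ χ := by
  classical
  haveI : Fintype (IrrCharacter G) := Fintype.ofFinite _
  obtain ⟨hdec, ⟨φ₁, -, hφ₁, -, -, hφ₁t, -⟩, ⟨ψ₁, -, hψ₁, -, -, hψ₁t, -⟩⟩ := snc_dual_facts hW hodd
  haveI : Nonempty (DualIdx (W₁ ⊔ W₂) W₂) := ⟨⟨φ₁, hφ₁, hφ₁t⟩⟩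
  haveI : Nonempty (DualIdx (W₁ ⊔ W₂) W₁) := ⟨⟨ψ₁, hψ₁, hψ₁t⟩⟩
  obtain ⟨xr, er, yc, ec, z, ez, her, hec, hez, hxr, hyc, hz, hxy, hxz, hyz, hform⟩ :=
    PF32.table_structure (X := IrrCharacter G) irrConj irrConj_irrConj idxInv idxInv_idxInv
      (idxInv_ne hodd) idxInv idxInv_idxInv (idxInv_ne hodd) (cTab W₁ W₂)
      (fun s t s' t' => cTab_gram hW s t s' t') (fun s t μ => cTab_conj s t μ)
  have her0 : ∀ s, er s ≠ 0 := fun s => PF32.IsTriple.ne_zero_of_sign (her s)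
  have hec0 : ∀ t, ec t ≠ 0 := fun t => PF32.IsTriple.ne_zero_of_sign (hec t)
  have hez0 : ∀ s t, ez s t ≠ 0 := fun s t => PF32.IsTriple.ne_zero_of_sign (hez s t)
  have hvx : ∀ s t, cTab W₁ W₂ s t (xr s) = er s := by
    intro s t
    rw [hform, if_pos rfl, if_neg (hxy s t), if_neg (hxz s s t), add_zero, add_zero]
  have hvy : ∀ s t, cTab W₁ W₂ s t (yc t) = ec t := by
    intro s t
    rw [hform, if_neg (hxy s t).symm, if_pos rfl, if_neg (hyz t s t), add_zero, zero_add]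
  have hvz : ∀ s t, cTab W₁ W₂ s t (z s t) = ez s t := by
    intro s t
    rw [hform, if_neg (hxz s s t).symm, if_neg (hyz t s t).symm, if_pos rfl, zero_add, zero_add]
  have s₀ : DualIdx (W₁ ⊔ W₂) W₂ := Classical.arbitrary _
  have t₀ : DualIdx (W₁ ⊔ W₂) W₁ := Classical.arbitrary _
  have hx1 : ∀ s, xr s ≠ irrOne := by
    intro s h
    have := hvx s t₀
    rw [h, cTab_one hW] at this
    exact her0 s this.symm
  have hy1 : ∀ t, yc t ≠ irrOne := by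
    intro t h
    have := hvy s₀ t
    rw [h, cTab_one hW] at this
    exact hec0 t this.symm
  have hz1 : ∀ s t, z s t ≠ irrOne := by
    intro s t h
    have := hvz s t
    rw [h, cTab_one hW] at this
    exact hez0 s t this.symm
  have hkey_inj : Function.Injective (keyOf xr yc z) := by
    rintro ⟨_ | s, _ | t⟩ ⟨_ | s', _ | t'⟩ h <;> simp only [keyOf] at h
    · rfl
    · exact absurd h.symm (hy1 t')
    · exact absurd h.symm (hx1 s')
    · exact absurd h.symm (hz1 s' t')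
    · exact absurd h (hy1 t)
    · rw [hyc h]
    · exact absurd h.symm (hxy s' t)
    · exact absurd h (hyz t s' t')
    · exact absurd h (hx1 s)
    · exact absurd h (hxy s t')
    · rw [hxr h]
    · exact absurd h (hxz s s' t')
    · exact absurd h (hz1 s t)
    · exact absurd h.symm (hyz t' s t)
    · exact absurd h.symm (hxz s' s t)
    · have := @hz (s, t) (s', t') h
      rw [(Prod.mk.inj this).1, (Prod.mk.inj this).2]
  have hsgn : ∀ p, sgnOf er ec ez p = 1 ∨ sgnOf er ec ez p = -1 := by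
    rintro ⟨_ | s, _ | t⟩ <;> simp only [sgnOf]
    · trivial
    · rcases hec t with h | h <;> rw [h] <;> simp
    · rcases her s with h | h <;> rw [h] <;> simp
    · exact hez s t
  have hbeta : ∀ s t, betaFun W₁ W₂ s.1 t.1 =
      ((er s : ℤ) : ℂ) • (xr s : G → ℂ) + ((ec t : ℤ) : ℂ) • (yc t : G → ℂ) +
        ((ez s t : ℤ) : ℂ) • (z s t : G → ℂ) := by
    intro s t
    rw [betaFun_eq_sum]
    simp_rw [hform s t]
    push_cast
    simp_rw [add_smul, Finset.sum_add_distrib, ite_smul, zero_smul, Finset.sum_ite_eq',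
      Finset.mem_univ, if_true]
  refine ⟨fun ω => ((sgnOf er ec ez (idxPair hW hodd ω) : ℤ) : ℂ) •
    ((keyOf xr yc z (idxPair hW hodd ω) : IrrCharacter G) : G → ℂ), ?_, ?_, ?_, ?_⟩
  · intro ω
    rcases hsgn (idxPair hW hodd ω) with h | h
    · left
      simp only [h, Int.cast_one, one_smul]
      exact (keyOf xr yc z (idxPair hW hodd ω)).2
    · right
      simp only [h, Int.cast_neg, Int.cast_one, neg_smul, one_smul, neg_neg]
      exact (keyOf xr yc z (idxPair hW hodd ω)).2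
  · intro ω ω'
    rw [classInner_smul_left, classInner_smul_right,
      Cfsg.Agent.Lib.Helper3.classInner_irr (keyOf xr yc z (idxPair hW hodd ω)).2
        (keyOf xr yc z (idxPair hW hodd ω')).2]
    by_cases h : ω = ω'
    · subst h
      rw [if_pos rfl, if_pos rfl]
      rcases hsgn (idxPair hW hodd ω) with h | h <;> rw [h] <;> simp
    · have : ((keyOf xr yc z (idxPair hW hodd ω) : IrrCharacter G) : G → ℂ) ≠
          ((keyOf xr yc z (idxPair hW hodd ω') : IrrCharacter G) : G → ℂ) := by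
        intro hh
        exact h (idxPair_injective hW hodd (hkey_inj (Subtype.ext hh)))
      rw [if_neg this, if_neg h]
      simp
  · rw [idxPair_one]
    simp only [sgnOf, keyOf, Int.cast_one, one_smul]
    rfl
  · intro φ ψ hφ hψ hφt hψt
    set s : DualIdx (W₁ ⊔ W₂) W₂ := ⟨φ, hφ, hφt⟩ with hs
    set t : DualIdx (W₁ ⊔ W₂) W₁ := ⟨ψ, hψ, hψt⟩ with ht
    have e1 : idxPair hW hodd φ = (some s, none) := idxPair_left hW hodd s
    have e2 : idxPair hW hodd ψ = (none, some t) := idxPair_right hW hodd t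
    have e3 : idxPair hW hodd (φ * ψ) = (some s, some t) := idxPair_mul hW hodd s t
    have hb := hbeta s t
    have hb' : indFun (W₁ ⊔ W₂) (alphaFun φ ψ) = betaFun W₁ W₂ φ ψ + fun _ => 1 := by
      unfold betaFun
      rw [sub_add_cancel]
    show indFun (W₁ ⊔ W₂) (alphaFun φ ψ) = _
    rw [hb']
    have hb2 : betaFun W₁ W₂ φ ψ = _ := hb
    rw [hb2]
    funext g
    simp only [e1, e2, e3, sgnOf, keyOf, Pi.add_apply, Pi.smul_apply, smul_eq_mul]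
    push_cast
    ring

theorem preTI_induced_eq {χ : (↥(W₁ ⊔ W₂) →* ℂˣ) → (G → ℂ)} (hχ : IsPreTIFamily W₁ W₂ χ)
    (φ ψ : ↥(W₁ ⊔ W₂) →* ℂˣ)
    (hφ : ∀ w : ↥(W₁ ⊔ W₂), (w : G) ∈ W₂ → φ w = 1)
    (hψ : ∀ w : ↥(W₁ ⊔ W₂), (w : G) ∈ W₁ → ψ w = 1) :
    indFun (W₁ ⊔ W₂) (alphaFun φ ψ) = χ 1 - χ φ - χ ψ + χ (φ * ψ) := by
  by_cases h1 : φ = 1
  · subst h1
    have : alphaFun (1 : ↥(W₁ ⊔ W₂) →* ℂˣ) ψ = 0 := by
      funext w
      exact alphaFun_eq_zero_of_left _ _ w rfl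
    have e : (1 : ↥(W₁ ⊔ W₂) →* ℂˣ) * ψ = ψ := by
      ext w; simp
    rw [this, indFun_zero, e]
    simp
  by_cases h2 : ψ = 1
  · subst h2
    have : alphaFun φ (1 : ↥(W₁ ⊔ W₂) →* ℂˣ) = 0 := by
      funext w
      exact alphaFun_eq_zero_of_right _ _ w rfl
    have e : φ * (1 : ↥(W₁ ⊔ W₂) →* ℂˣ) = φ := by
      ext w; simp
    rw [this, indFun_zero, e]
    simp
  have := hχ.induced_eq φ ψ h1 h2 hφ hψ
  rw [hχ.map_one]
  exact this

theorem preTI_isClassFunction {χ : (↥(W₁ ⊔ W₂) →* ℂˣ) → (G → ℂ)} (hχ : IsPreTIFamily W₁ W₂ χ)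
    (ω : ↥(W₁ ⊔ W₂) →* ℂˣ) : IsClassFunction G (χ ω) := by
  rcases hχ.irr_or_neg ω with h | h
  · exact Cfsg.Agent.Lib.Helper3.IsCharacter.isClassFunction
      (Cfsg.Agent.Lib.Helper3.IsIrrCharacter.isCharacter h)
  · have := Cfsg.Agent.Lib.Helper3.IsCharacter.isClassFunction
      (Cfsg.Agent.Lib.Helper3.IsIrrCharacter.isCharacter h)
    intro g x
    have h1 := this g x
    simp only [Pi.neg_apply, neg_inj] at h1
    exact h1

theorem eq_on_of_pre (hW : IsSelfNormalizingCyclic W₁ W₂)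
    {χ : (↥(W₁ ⊔ W₂) →* ℂˣ) → (G → ℂ)} (hχ : IsPreTIFamily W₁ W₂ χ)
    (ω : ↥(W₁ ⊔ W₂) →* ℂˣ) (w : ↥(W₁ ⊔ W₂)) (hw₁ : (w : G) ∉ W₁) (hw₂ : (w : G) ∉ W₂) :
    χ ω w = (ω w : ℂ) := by
  classical
  haveI : Fintype ↥(W₁ ⊔ W₂) := Fintype.ofFinite _
  have hcyc := hW.2.2.2.2.1
  let _ : CommGroup ↥(W₁ ⊔ W₂) := IsCyclic.commGroup
  set K₁ : Subgroup ↥(W₁ ⊔ W₂) := W₁.subgroupOf (W₁ ⊔ W₂) with hK₁
  set K₂ : Subgroup ↥(W₁ ⊔ W₂) := W₂.subgroupOf (W₁ ⊔ W₂) with hK₂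
  have hinf : K₁ ⊓ K₂ = ⊥ := by
    rw [eq_bot_iff]
    intro v hv
    have h1 : (v : G) ∈ W₁ := Subgroup.mem_subgroupOf.mp hv.1
    have h2 : (v : G) ∈ W₂ := Subgroup.mem_subgroupOf.mp hv.2
    have : (v : G) ∈ W₁ ⊓ W₂ := ⟨h1, h2⟩
    rw [hW.2.2.1, Subgroup.mem_bot] at this
    rw [Subgroup.mem_bot]
    exact Subtype.ext this
  have hcf := preTI_isClassFunction hχ ω
  have hone : ∀ ω' : ↥(W₁ ⊔ W₂) →* ℂˣ, classInner (χ ω) (χ ω') = if ω = ω' then 1 else 0 := by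
    intro ω'
    rw [hχ.orthonormal]
    split_ifs <;> rfl
  have key := vanish_of_orth_alpha K₁ K₂ hinf (fun v => χ ω v - (ω v : ℂ)) ?_ w
    (fun h => hw₁ (Subgroup.mem_subgroupOf.mp h)) (fun h => hw₂ (Subgroup.mem_subgroupOf.mp h))
  · exact sub_eq_zero.mp key
  · intro φ hφ ψ hψ
    have hφ' : ∀ v : ↥(W₁ ⊔ W₂), (v : G) ∈ W₂ → φ v = 1 :=
      fun v hv => hφ v (Subgroup.mem_subgroupOf.mpr hv)
    have hψ' : ∀ v : ↥(W₁ ⊔ W₂), (v : G) ∈ W₁ → ψ v = 1 :=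
      fun v hv => hψ v (Subgroup.mem_subgroupOf.mpr hv)
    have e1 : classInner (fun h : ↥(W₁ ⊔ W₂) => χ ω h) (alphaFun φ ψ) =
        (if ω = 1 then 1 else 0) - (if ω = φ then 1 else 0) - (if ω = ψ then 1 else 0) +
          (if ω = φ * ψ then 1 else 0) := by
      rw [← frobenius_reciprocity' (W₁ ⊔ W₂) (alphaFun φ ψ) (χ ω) hcf,
        preTI_induced_eq hχ φ ψ hφ' hψ', classInner_add_right, classInner_sub_right,
        classInner_sub_right, hone, hone, hone, hone]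
    have e2 : classInner (homFun ω) (alphaFun φ ψ) =
        (if ω = 1 then 1 else 0) - (if ω = φ then 1 else 0) - (if ω = ψ then 1 else 0) +
          (if ω = φ * ψ then 1 else 0) := by
      rw [alphaFun_eq_homFun, classInner_add_right, classInner_sub_right,
        classInner_sub_right, classInner_homFun, classInner_homFun, classInner_homFun,
        classInner_homFun]
    have e3 : classInner (fun v : ↥(W₁ ⊔ W₂) => χ ω v - (ω v : ℂ)) (alphaFun φ ψ) = 0 := by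
      have : (fun v : ↥(W₁ ⊔ W₂) => χ ω v - (ω v : ℂ)) =
          (fun h : ↥(W₁ ⊔ W₂) => χ ω h) - homFun ω := rfl
      rw [this, classInner_sub_left, e1, e2, sub_self]
    rw [classInner_def] at e3
    rcases mul_eq_zero.mp e3 with h | h
    · exfalso
      rw [inv_eq_zero] at h
      have : (Nat.card ↥(W₁ ⊔ W₂) : ℂ) ≠ 0 := by exact_mod_cast Nat.card_pos.ne'
      exact this h
    · exact h

theorem exists_cyclicTIFamily (hW : IsSelfNormalizingCyclic W₁ W₂)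
    (hodd : Odd (Nat.card ↥(W₁ ⊔ W₂))) :
    ∃ χ : (↥(W₁ ⊔ W₂) →* ℂˣ) → (G → ℂ), IsCyclicTIFamily W₁ W₂ χ := by
  classical
  obtain ⟨χ, hχ⟩ := exists_preTIFamily hW hodd
  refine ⟨χ, hχ.irr_or_neg, ?_, hχ.map_one, ?_, hχ.induced_eq⟩
  · intro ω ω'
    rw [hχ.orthonormal]
    split_ifs <;> rfl
  · intro ω w hw₁ hw₂
    exact eq_on_of_pre hW hχ ω w hw₁ hw₂

end PF32Final

end Cfsg.Agent.Lib.Helper25
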