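import Cfsg.Agent.S1505
import Cfsg.Agent.Lib.Helper25.CyclicTI
import Cfsg.Agent.Lib.Helper25.CyclicTIUnique
import Cfsg.Agent.Lib.Helper25.IndIrr3
import Cfsg.Agent.Lib.Helper25.DualW
import Cfsg.Agent.Lib.Helper3.Complete
import Cfsg.Agent.Lib.Helper3.Brauer
import Cfsg.Agent.Lib.Helper25.PF32Coeff

set_option autoImplicit false
set_option linter.unusedSectionVars false
set_option linter.style.haveILetI false

/-!
Set-up for Peterfalvi (3.2): the virtual characters `β(φ,ψ) = Ind α(φ,ψ) - 1`, their Gram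
relations, behaviour under complex conjugation, and their integral coefficient table.
-/

namespace Cfsg.Agent.Lib.Helper25

open Cfsg
open scoped ComplexConjugate

section PF32

variable {G : Type*} [Group G] [Fintype G] {W₁ W₂ : Subgroup G}

/-- `β(φ,ψ) = Ind (1-φ)(1-ψ) - 1`. -/
noncomputable def betaFun (W₁ W₂ : Subgroup G) (φ ψ : ↥(W₁ ⊔ W₂) →* ℂˣ) : G → ℂ :=
  indFun (W₁ ⊔ W₂) (alphaFun φ ψ) - fun _ => 1

theorem alphaFun_eq_homFun (φ ψ : ↥(W₁ ⊔ W₂) →* ℂˣ) :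
    alphaFun φ ψ = homFun 1 - homFun φ - homFun ψ + homFun (φ * ψ) := by
  funext w
  simp [homFun, alphaFun]

theorem isCharacter_homFun {H : Type*} [Group H] (ω : H →* ℂˣ) : IsCharacter H (homFun ω) :=
  Cfsg.Agent.Lib.Helper3.IsIrrCharacter.isCharacter
    (Cfsg.Agent.Lib.Helper79.isIrrCharacter_of_monoidHom ω)

theorem genChar_alphaFun (φ ψ : ↥(W₁ ⊔ W₂) →* ℂˣ) :
    IsGeneralizedCharacter ↥(W₁ ⊔ W₂) (alphaFun φ ψ) := by
  rw [alphaFun_eq_homFun]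
  exact genChar_add (genChar_sub (genChar_sub (genChar_of_char (isCharacter_homFun _))
    (genChar_of_char (isCharacter_homFun _))) (genChar_of_char (isCharacter_homFun _)))
    (genChar_of_char (isCharacter_homFun _))

theorem genChar_ind_alphaFun (φ ψ : ↥(W₁ ⊔ W₂) →* ℂˣ) :
    IsGeneralizedCharacter G (indFun (W₁ ⊔ W₂) (alphaFun φ ψ)) :=
  Cfsg.Agent.Lib.Helper3.IsGeneralizedCharacter.indFun _ (genChar_alphaFun φ ψ)

theorem isCharacter_one_fun : IsCharacter G (fun _ : G => (1 : ℂ)) :=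
  Cfsg.Agent.Lib.Helper3.IsIrrCharacter.isCharacter Cfsg.Agent.Lib.Helper3.isIrrCharacter_one

theorem genChar_betaFun (φ ψ : ↥(W₁ ⊔ W₂) →* ℂˣ) :
    IsGeneralizedCharacter G (betaFun W₁ W₂ φ ψ) :=
  genChar_sub (genChar_ind_alphaFun φ ψ) (genChar_of_char isCharacter_one_fun)

theorem classInner_one_one : classInner (fun _ : G => (1 : ℂ)) (fun _ : G => (1 : ℂ)) = 1 := by
  have := Cfsg.Agent.Lib.Helper3.classInner_irr
    (Cfsg.Agent.Lib.Helper3.isIrrCharacter_one (G := G))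
    (Cfsg.Agent.Lib.Helper3.isIrrCharacter_one (G := G))
  rw [if_pos rfl] at this
  exact this

open Classical in
/-- The Gram relations of the `β(φ,ψ)`. -/
theorem betaFun_gram (hW : IsSelfNormalizingCyclic W₁ W₂) (φ φ' ψ ψ' : ↥(W₁ ⊔ W₂) →* ℂˣ)
    (hφ : φ ≠ 1) (hφ' : φ' ≠ 1) (hψ : ψ ≠ 1) (hψ' : ψ' ≠ 1)
    (hφ₂ : ∀ w : ↥(W₁ ⊔ W₂), (w : G) ∈ W₂ → φ w = 1)
    (hφ₂' : ∀ w : ↥(W₁ ⊔ W₂), (w : G) ∈ W₂ → φ' w = 1)
    (hψ₁ : ∀ w : ↥(W₁ ⊔ W₂), (w : G) ∈ W₁ → ψ w = 1)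
    (hψ₁' : ∀ w : ↥(W₁ ⊔ W₂), (w : G) ∈ W₁ → ψ' w = 1) :
    classInner (betaFun W₁ W₂ φ ψ) (fun _ => 1) = 0 ∧
    classInner (betaFun W₁ W₂ φ ψ) (betaFun W₁ W₂ φ' ψ') =
      (if φ = φ' then 1 else 0) + (if ψ = ψ' then 1 else 0) +
        (if φ = φ' then 1 else 0) * (if ψ = ψ' then 1 else 0) := by
  obtain ⟨h1, h2⟩ := Cfsg.Agent.S1505.result W₁ W₂ hW φ φ' ψ ψ' hφ hφ' hψ hψ'
    (fun w hw => ⟨hφ₂ w hw, hφ₂' w hw⟩) (fun w hw => ⟨hψ₁ w hw, hψ₁' w hw⟩)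
  obtain ⟨h1', -⟩ := Cfsg.Agent.S1505.result W₁ W₂ hW φ' φ' ψ' ψ' hφ' hφ' hψ' hψ'
    (fun w hw => ⟨hφ₂' w hw, hφ₂' w hw⟩) (fun w hw => ⟨hψ₁' w hw, hψ₁' w hw⟩)
  have e1 : classInner (indFun (W₁ ⊔ W₂) (alphaFun φ ψ)) (fun _ => 1) = 1 := h1
  have e1' : classInner (indFun (W₁ ⊔ W₂) (alphaFun φ' ψ')) (fun _ => 1) = 1 := h1'
  have e2 : classInner (fun _ : G => (1 : ℂ)) (indFun (W₁ ⊔ W₂) (alphaFun φ' ψ')) = 1 := by
    rw [← classInner_conj_symm, e1', map_one]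
  constructor
  · unfold betaFun
    rw [classInner_sub_left, e1, classInner_one_one, sub_self]
  · unfold betaFun
    rw [classInner_sub_left, classInner_sub_right, classInner_sub_right, e1, e2,
      classInner_one_one]
    have h2' : classInner (indFun (W₁ ⊔ W₂) (alphaFun φ ψ))
        (indFun (W₁ ⊔ W₂) (alphaFun φ' ψ')) = _ := h2
    rw [h2']
    ring

theorem conjFun_extendByZero_gen {L : Type*} [Group L] (K : Subgroup L) (θ : K → ℂ) (g : L) :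
    conj (extendByZero K θ g) = extendByZero K (conjFun θ) g := by
  by_cases hg : g ∈ K
  · rw [extendByZero_of_mem K _ hg, extendByZero_of_mem K _ hg]
    rfl
  · rw [extendByZero_of_not_mem K _ hg, extendByZero_of_not_mem K _ hg, map_zero]

theorem conjFun_indFun_gen {L : Type*} [Group L] [Fintype L] (K : Subgroup L) (θ : K → ℂ) :
    conjFun (indFun K θ) = indFun K (conjFun θ) := by
  funext g
  rw [conjFun_apply, indFun_apply, indFun_apply, map_mul, map_inv₀, Complex.conj_natCast, map_sum]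
  congr 1
  apply Finset.sum_congr rfl
  intro x _
  rw [conjFun_extendByZero_gen]

/-- Complex conjugation permutes the `β(φ,ψ)`. -/
theorem conjFun_betaFun (φ ψ : ↥(W₁ ⊔ W₂) →* ℂˣ) :
    conjFun (betaFun W₁ W₂ φ ψ) = betaFun W₁ W₂ φ⁻¹ ψ⁻¹ := by
  have h1 : conjFun (alphaFun φ ψ) = alphaFun φ⁻¹ ψ⁻¹ := by
    funext w
    rw [conjFun_apply]
    unfold alphaFun
    simp only [map_add, map_sub, map_mul, map_one]
    rw [conj_hom_apply φ w, conj_hom_apply ψ w]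
    simp
  funext g
  rw [conjFun_apply]
  unfold betaFun
  rw [Pi.sub_apply, map_sub, map_one, ← conjFun_apply, conjFun_indFun_gen, h1]
  rfl

/-- Nontrivial linear characters of `W` trivial on `K`. -/
abbrev DualIdx (W K : Subgroup G) : Type _ :=
  {φ : ↥W →* ℂˣ // φ ≠ 1 ∧ ∀ w : ↥W, (w : G) ∈ K → φ w = 1}

/-- Inversion on `DualIdx`. -/
noncomputable def idxInv {W K : Subgroup G} (s : DualIdx W K) : DualIdx W K :=
  ⟨s.1⁻¹, fun h => s.2.1 (by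
      ext w
      have := DFunLike.congr_fun h w
      rw [MonoidHom.inv_apply, MonoidHom.one_apply, inv_eq_one] at this
      rw [this]; rfl),
    fun w hw => by rw [MonoidHom.inv_apply, s.2.2 w hw, inv_one]⟩

theorem idxInv_val {W K : Subgroup G} (s : DualIdx W K) : (idxInv s).1 = s.1⁻¹ := rfl

theorem idxInv_idxInv {W K : Subgroup G} (s : DualIdx W K) : idxInv (idxInv s) = s := by
  apply Subtype.ext
  rw [idxInv_val, idxInv_val]
  ext w
  rw [MonoidHom.inv_apply, MonoidHom.inv_apply, inv_inv]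

theorem idxInv_ne {W K : Subgroup G} (hodd : Odd (Nat.card ↥W)) (s : DualIdx W K) :
    idxInv s ≠ s := by
  intro h
  have h1 : s.1⁻¹ = s.1 := congrArg Subtype.val h
  apply s.2.1
  ext w
  have h2 : (s.1 w)⁻¹ = s.1 w := by
    have := DFunLike.congr_fun h1 w
    rwa [MonoidHom.inv_apply] at this
  have h3 : (s.1 w) ^ 2 = 1 := by
    rw [sq]
    nth_rewrite 1 [← h2]
    exact inv_mul_cancel _
  have h4 : (s.1 w) ^ Nat.card ↥W = 1 := by
    rw [← map_pow, pow_card_eq_one', map_one]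
  obtain ⟨k, hk⟩ := hodd
  rw [hk, pow_succ, pow_mul, h3, one_pow, one_mul] at h4
  rw [h4]
  rfl

/-- The coefficient table of the `β(φ,ψ)`. -/
noncomputable def cTab (W₁ W₂ : Subgroup G) (s : DualIdx (W₁ ⊔ W₂) W₂) (t : DualIdx (W₁ ⊔ W₂) W₁)
    (μ : IrrCharacter G) : ℤ :=
  irrCoeff (betaFun W₁ W₂ s.1 t.1) μ

/-- The principal character, as an element of `IrrCharacter G`. -/
noncomputable def irrOne : IrrCharacter G :=
  ⟨fun _ => 1, Cfsg.Agent.Lib.Helper3.isIrrCharacter_one⟩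

theorem cTab_one (hW : IsSelfNormalizingCyclic W₁ W₂) (s : DualIdx (W₁ ⊔ W₂) W₂)
    (t : DualIdx (W₁ ⊔ W₂) W₁) : cTab W₁ W₂ s t irrOne = 0 := by
  apply irrCoeff_eq_of
  have := (betaFun_gram hW s.1 s.1 t.1 t.1 s.2.1 s.2.1 t.2.1 t.2.1 s.2.2 s.2.2 t.2.2 t.2.2).1
  rw [Int.cast_zero]
  exact this

theorem cTab_conj (s : DualIdx (W₁ ⊔ W₂) W₂) (t : DualIdx (W₁ ⊔ W₂) W₁) (μ : IrrCharacter G) :
    cTab W₁ W₂ (idxInv s) (idxInv t) μ = cTab W₁ W₂ s t (irrConj μ) := by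
  unfold cTab
  rw [idxInv_val, idxInv_val, ← conjFun_betaFun]
  have := irrCoeff_conjFun (genChar_betaFun (W₁ := W₁) (W₂ := W₂) s.1 t.1) (irrConj μ)
  rw [irrConj_irrConj] at this
  exact this

theorem cTab_gram [Fintype (IrrCharacter G)] [DecidableEq (DualIdx (W₁ ⊔ W₂) W₂)]
    [DecidableEq (DualIdx (W₁ ⊔ W₂) W₁)] (hW : IsSelfNormalizingCyclic W₁ W₂)
    (s : DualIdx (W₁ ⊔ W₂) W₂) (t : DualIdx (W₁ ⊔ W₂) W₁)
    (s' : DualIdx (W₁ ⊔ W₂) W₂) (t' : DualIdx (W₁ ⊔ W₂) W₁) :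
    ∑ μ : IrrCharacter G, cTab W₁ W₂ s t μ * cTab W₁ W₂ s' t' μ =
      (if s = s' then 1 else 0) + (if t = t' then 1 else 0) +
        (if s = s' ∧ t = t' then 1 else 0) := by
  have h1 := classInner_eq_sum_irrCoeff (genChar_betaFun (W₁ := W₁) (W₂ := W₂) s.1 t.1)
    (genChar_betaFun (W₁ := W₁) (W₂ := W₂) s'.1 t'.1)
  have h2 := (betaFun_gram hW s.1 s'.1 t.1 t'.1 s.2.1 s'.2.1 t.2.1 t'.2.1 s.2.2 s'.2.2
    t.2.2 t'.2.2).2
  rw [h1] at h2
  unfold cTab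
  by_cases hs : s = s' <;> by_cases ht : t = t'
  · have hs' : s.1 = s'.1 := congrArg Subtype.val hs
    have ht' : t.1 = t'.1 := congrArg Subtype.val ht
    rw [if_pos hs', if_pos ht'] at h2
    rw [if_pos hs, if_pos ht, if_pos ⟨hs, ht⟩]
    have : ((∑ μ : IrrCharacter G, irrCoeff (betaFun W₁ W₂ s.1 t.1) μ *
        irrCoeff (betaFun W₁ W₂ s'.1 t'.1) μ : ℤ) : ℂ) = ((3 : ℤ) : ℂ) := by
      rw [h2]; norm_num
    have := Int.cast_injective this
    rw [this]; norm_num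
  · have hs' : s.1 = s'.1 := congrArg Subtype.val hs
    have ht' : t.1 ≠ t'.1 := fun h => ht (Subtype.ext h)
    rw [if_pos hs', if_neg ht'] at h2
    rw [if_pos hs, if_neg ht, if_neg (fun h => ht h.2)]
    have : ((∑ μ : IrrCharacter G, irrCoeff (betaFun W₁ W₂ s.1 t.1) μ *
        irrCoeff (betaFun W₁ W₂ s'.1 t'.1) μ : ℤ) : ℂ) = ((1 : ℤ) : ℂ) := by
      rw [h2]; norm_num
    have := Int.cast_injective this
    rw [this]; norm_num
  · have hs' : s.1 ≠ s'.1 := fun h => hs (Subtype.ext h)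
    have ht' : t.1 = t'.1 := congrArg Subtype.val ht
    rw [if_neg hs', if_pos ht'] at h2
    rw [if_neg hs, if_pos ht, if_neg (fun h => hs h.1)]
    have : ((∑ μ : IrrCharacter G, irrCoeff (betaFun W₁ W₂ s.1 t.1) μ *
        irrCoeff (betaFun W₁ W₂ s'.1 t'.1) μ : ℤ) : ℂ) = ((1 : ℤ) : ℂ) := by
      rw [h2]; norm_num
    have := Int.cast_injective this
    rw [this]; norm_num
  · have hs' : s.1 ≠ s'.1 := fun h => hs (Subtype.ext h)
    have ht' : t.1 ≠ t'.1 := fun h => ht (Subtype.ext h)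
    rw [if_neg hs', if_neg ht'] at h2
    rw [if_neg hs, if_neg ht, if_neg (fun h => hs h.1)]
    have : ((∑ μ : IrrCharacter G, irrCoeff (betaFun W₁ W₂ s.1 t.1) μ *
        irrCoeff (betaFun W₁ W₂ s'.1 t'.1) μ : ℤ) : ℂ) = ((0 : ℤ) : ℂ) := by
      rw [h2]; norm_num
    have := Int.cast_injective this
    rw [this]; norm_num

theorem betaFun_eq_sum [Fintype (IrrCharacter G)] (s : DualIdx (W₁ ⊔ W₂) W₂)
    (t : DualIdx (W₁ ⊔ W₂) W₁) :
    betaFun W₁ W₂ s.1 t.1 = ∑ μ : IrrCharacter G, ((cTab W₁ W₂ s t μ : ℤ) : ℂ) • (μ : G → ℂ) :=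
  eq_sum_irrCoeff (genChar_betaFun s.1 t.1)

end PF32

end Cfsg.Agent.Lib.Helper25
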