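import Mathlib
import Cfsg.Agent.Lib.Helper41.PSLnDefs

set_option autoImplicit false
set_option linter.unusedSectionVars false
set_option linter.unusedSimpArgs false

/-! (DUPLICATE of helper41 PSLnA, kept in a separate namespace; do not use) S5163 leaf T11 (helper25 for helper41): Steinberg relations. -/

namespace Cfsg.Agent.Lib.Helper25.PSLnDup

open Matrix Cfsg.Agent.Lib.Helper41.PSLn

variable {n : ℕ} {K : Type*} [Field K] [Fintype K]

theorem t11_tv_inv {i j : Fin n} (hij : i ≠ j) (c : K) : (tv hij c)⁻¹ = tv hij (-c) := by
  rw [inv_eq_iff_mul_eq_one]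
  apply Subtype.ext
  show Matrix.transvection i j c * Matrix.transvection i j (-c) = 1
  rw [Matrix.transvection_mul_transvection_same _ _ hij]
  simp

theorem t11_single_mul_single_ne {a b c d : Fin n} (h : b ≠ c) (x y : K) :
    Matrix.single a b x * Matrix.single c d y = 0 := by
  exact Matrix.single_mul_single_of_ne (h := h) ..

/-- T11. Steinberg relations. -/
theorem tv_conj_left {i j k : Fin n} (hij : i ≠ j) (hki : k ≠ i) (hkj : k ≠ j) (s c : K) :
    tv hki s * tv hij c * (tv hki s)⁻¹ = tv hij c * tv hkj (s * c) := by
  rw [t11_tv_inv]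
  apply Subtype.ext
  show (1 + Matrix.single k i s) * (1 + Matrix.single i j c) * (1 + Matrix.single k i (-s)) =
    (1 + Matrix.single i j c) * (1 + Matrix.single k j (s * c))
  simp only [mul_add, add_mul, mul_one, one_mul, Matrix.single_mul_single_same,
    t11_single_mul_single_ne hij.symm, t11_single_mul_single_ne hki.symm,
    t11_single_mul_single_ne hkj.symm, t11_single_mul_single_ne hij,
    t11_single_mul_single_ne hki, t11_single_mul_single_ne hkj,
    mul_zero, zero_mul, add_zero, zero_add]
  ext a b
  simp only [Matrix.add_apply, Matrix.single_apply, Matrix.one_apply]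
  split_ifs <;> simp_all <;> ring

theorem tv_conj_right {i j l : Fin n} (hij : i ≠ j) (hjl : j ≠ l) (hil : i ≠ l) (s c : K) :
    tv hjl s * tv hij c * (tv hjl s)⁻¹ = tv hij c * tv hil (-(c * s)) := by
  rw [t11_tv_inv]
  apply Subtype.ext
  show (1 + Matrix.single j l s) * (1 + Matrix.single i j c) * (1 + Matrix.single j l (-s)) =
    (1 + Matrix.single i j c) * (1 + Matrix.single i l (-(c * s)))
  simp only [mul_add, add_mul, mul_one, one_mul, Matrix.single_mul_single_same,
    t11_single_mul_single_ne hij.symm, t11_single_mul_single_ne hjl.symm,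
    t11_single_mul_single_ne hil.symm, t11_single_mul_single_ne hij,
    t11_single_mul_single_ne hjl, t11_single_mul_single_ne hil,
    mul_zero, zero_mul, add_zero, zero_add]
  ext a b
  simp only [Matrix.add_apply, Matrix.single_apply, Matrix.one_apply]
  split_ifs <;> simp_all <;> ring

end Cfsg.Agent.Lib.Helper25.PSLnDup
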