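import Mathlib
import Cfsg.Agent.Lib.Helper41.PSLnDefs

set_option autoImplicit false
set_option linter.unusedSectionVars false

/-! S5163 leaf T13 (helper25 for helper41): `UU` is generated by the upper transvections. -/

namespace Cfsg.Agent.Lib.Helper41.PSLn

open Matrix

variable {n : ℕ} {K : Type*} [Field K] [Fintype K]

/-- the set of positions above the diagonal with a non-zero entry -/
noncomputable def t13_supp (u : SLn n K) : Finset (Fin n × Fin n) :=
  by classical exact Finset.univ.filter (fun ij => ij.1 < ij.2 ∧ u.1 ij.1 ij.2 ≠ 0)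

theorem t13_mem_supp {u : SLn n K} {ij : Fin n × Fin n} :
    ij ∈ t13_supp u ↔ ij.1 < ij.2 ∧ u.1 ij.1 ij.2 ≠ 0 := by
  classical
  simp [t13_supp]

theorem t13_tv_apply_same {i j : Fin n} (hij : i ≠ j) (c : K) (u : SLn n K) (b : Fin n) :
    (tv hij c * u).1 i b = u.1 i b + c * u.1 j b := by
  show ((Matrix.transvection i j c) * (u : Matrix (Fin n) (Fin n) K)) i b = _
  exact Matrix.transvection_mul_apply_same i j b c _

theorem t13_tv_apply_ne {i j : Fin n} (hij : i ≠ j) (c : K) (u : SLn n K) (a b : Fin n)
    (ha : a ≠ i) : (tv hij c * u).1 a b = u.1 a b := by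
  show ((Matrix.transvection i j c) * (u : Matrix (Fin n) (Fin n) K)) a b = _
  exact Matrix.transvection_mul_apply_of_ne i j a b ha c _

theorem t13_eq_one_of_supp_empty {u : SLn n K} (hu : u ∈ UU n K) (h : t13_supp u = ∅) : u = 1 := by
  apply Subtype.ext
  ext i j
  show u.1 i j = (1 : Matrix (Fin n) (Fin n) K) i j
  rcases lt_trichotomy i j with hij | hij | hij
  · rw [Matrix.one_apply_ne (ne_of_lt hij)]
    by_contra hne
    have : (i, j) ∈ t13_supp u := t13_mem_supp.mpr ⟨hij, hne⟩
    rw [h] at this
    exact absurd this (Finset.notMem_empty _)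
  · subst hij
    rw [Matrix.one_apply_eq, hu.2 i]
  · rw [Matrix.one_apply_ne (ne_of_gt hij), hu.1 i j hij]

theorem t13_aux : ∀ (m : ℕ) (u : SLn n K), u ∈ UU n K → (t13_supp u).card = m →
    u ∈ Subgroup.closure
      {g : SLn n K | ∃ (i j : Fin n) (hij : i < j) (c : K), g = tv (ne_of_lt hij) c} := by
  intro m
  induction m with
  | zero =>
    intro u hu hcard
    rw [t13_eq_one_of_supp_empty hu (Finset.card_eq_zero.mp hcard)]
    exact Subgroup.one_mem _
  | succ m ih =>
    intro u hu hcard
    have hne : (t13_supp u).Nonempty := by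
      rw [← Finset.card_pos, hcard]; exact Nat.succ_pos _
    obtain ⟨⟨i, j⟩, hmem, hmax⟩ := Finset.exists_max_image (t13_supp u) (fun ij => ij.1) hne
    obtain ⟨hij, hne0⟩ := t13_mem_supp.mp hmem
    simp only at hij hne0 hmax
    -- row j of u is e_j
    have hrow : ∀ k, u.1 j k = (1 : Matrix (Fin n) (Fin n) K) j k := by
      intro k
      rcases lt_trichotomy j k with hjk | hjk | hjk
      · rw [Matrix.one_apply_ne (ne_of_lt hjk)]
        by_contra hne
        have h1 : (j, k) ∈ t13_supp u := t13_mem_supp.mpr ⟨hjk, hne⟩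
        have h2 := hmax (j, k) h1
        simp only at h2
        exact absurd (lt_of_lt_of_le hij h2) (lt_irrefl _)
      · subst hjk
        rw [Matrix.one_apply_eq, hu.2 j]
      · rw [Matrix.one_apply_ne (ne_of_gt hjk), hu.1 j k hjk]
    set c : K := u.1 i j with hc
    set u' : SLn n K := tv (ne_of_lt hij) (-c) * u with hu'
    -- entries of u'
    have hent : ∀ a b, u'.1 a b = if a = i ∧ b = j then 0 else u.1 a b := by
      intro a b
      by_cases ha : a = i
      · subst ha
        rw [hu', t13_tv_apply_same, hrow b]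
        by_cases hb : b = j
        · subst hb
          simp [hc]
        · rw [Matrix.one_apply_ne (Ne.symm hb)]
          simp [hb]
      · rw [hu', t13_tv_apply_ne _ _ _ _ _ ha]
        simp [ha]
    have hu'U : u' ∈ UU n K := by
      refine ⟨fun a b hba => ?_, fun a => ?_⟩
      · rw [hent]
        split_ifs with h
        · rfl
        · exact hu.1 a b hba
      · rw [hent]
        split_ifs with h
        · exact absurd (h.1.symm.trans h.2) (ne_of_lt hij)
        · exact hu.2 a
    have hsupp : t13_supp u' = (t13_supp u).erase (i, j) := by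
      ext ⟨a, b⟩
      rw [Finset.mem_erase, t13_mem_supp, t13_mem_supp]
      simp only [hent, ne_eq, Prod.mk.injEq]
      by_cases h : a = i ∧ b = j
      · simp [h]
      · simp [h]
    have hcard' : (t13_supp u').card = m := by
      rw [hsupp, Finset.card_erase_of_mem hmem, hcard]
      rfl
    have h1 := ih u' hu'U hcard'
    have h2 : u = tv (ne_of_lt hij) c * u' := by
      rw [hu', ← mul_assoc]
      have : tv (ne_of_lt hij) c * tv (ne_of_lt hij) (-c) = 1 := by
        apply Subtype.ext
        show Matrix.transvection i j c * Matrix.transvection i j (-c) = 1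
        rw [Matrix.transvection_mul_transvection_same _ _ (ne_of_lt hij)]
        simp
      rw [this, one_mul]
    rw [h2]
    exact Subgroup.mul_mem _ (Subgroup.subset_closure ⟨i, j, hij, c, rfl⟩) h1

/-- T13. -/
theorem UU_le_closure_tv : UU n K ≤ Subgroup.closure
    {g : SLn n K | ∃ (i j : Fin n) (hij : i < j) (c : K), g = tv (ne_of_lt hij) c} := by
  intro u hu
  exact t13_aux _ u hu rfl

end Cfsg.Agent.Lib.Helper41.PSLn
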