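import Mathlib
import Cfsg.Agent.Lib.Helper41.PSLnDefs

set_option autoImplicit false
set_option linter.unusedSectionVars false
set_option linter.unusedSimpArgs false

/-! (DUPLICATE of helper41 PSLnA, kept in a separate namespace; do not use) S5163 leaf T8 (helper25 for helper41): transvections in the parabolics / in `UU`, their order. -/

namespace Cfsg.Agent.Lib.Helper25.PSLnDup

open Matrix Cfsg.Agent.Lib.Helper41.PSLn

variable {n : ℕ} {K : Type*} [Field K] [Fintype K]

theorem t8_tv_apply {i j : Fin n} (hij : i ≠ j) (c : K) (a b : Fin n) :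
    (tv hij c).1 a b = (1 : Matrix (Fin n) (Fin n) K) a b + if i = a ∧ j = b then c else 0 := by
  show ((1 : Matrix (Fin n) (Fin n) K) + Matrix.single i j c) a b = _
  rw [Matrix.add_apply, Matrix.single_apply]

/-- T8. -/
theorem tv_mem_PRow {i j : Fin n} (hij : i ≠ j) (c : K) (a : Fin n) (hja : j ≠ a) :
    tv hij c ∈ PRow n K a := by
  rw [mem_PRow]
  intro k hk
  rw [t8_tv_apply, Matrix.one_apply_ne hk, if_neg (fun h => hja h.2), add_zero]

theorem tv_mem_PCol {i j : Fin n} (hij : i ≠ j) (c : K) (b : Fin n) (hib : i ≠ b) :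
    tv hij c ∈ PCol n K b := by
  rw [mem_PCol]
  intro k hk
  rw [t8_tv_apply, Matrix.one_apply_ne hk.symm, if_neg (fun h => hib h.1), add_zero]

theorem t8_tv_pow {i j : Fin n} (hij : i ≠ j) (c : K) (m : ℕ) :
    (tv hij c) ^ m = tv hij ((m : K) * c) := by
  induction m with
  | zero =>
    rw [pow_zero, Nat.cast_zero, zero_mul]
    exact (Matrix.SpecialLinearGroup.transvection_coeff_zero hij).symm
  | succ m ih =>
    rw [pow_succ, ih]
    apply Subtype.ext
    show Matrix.transvection i j ((m : K) * c) * Matrix.transvection i j c =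
      Matrix.transvection i j (((m + 1 : ℕ) : K) * c)
    rw [Matrix.transvection_mul_transvection_same _ _ hij]
    congr 1
    push_cast
    ring

theorem orderOf_tv (p : ℕ) [Fact p.Prime] [CharP K p] {i j : Fin n} (hij : i ≠ j) (c : K) :
    ∃ k : ℕ, orderOf (tv hij c) = p ^ k := by
  have hp : p.Prime := Fact.out
  have h1 : (tv hij c) ^ p = 1 := by
    rw [t8_tv_pow, CharP.cast_eq_zero K p, zero_mul]
    exact Matrix.SpecialLinearGroup.transvection_coeff_zero hij
  have h2 := orderOf_dvd_of_pow_eq_one h1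
  rcases (Nat.dvd_prime hp).mp h2 with h | h
  · exact ⟨0, by rw [h, pow_zero]⟩
  · exact ⟨1, by rw [h, pow_one]⟩

theorem tv_mem_UU {i j : Fin n} (hij : i < j) (c : K) : tv (ne_of_lt hij) c ∈ UU n K := by
  rw [mem_UU]
  refine ⟨fun a b hba => ?_, fun a => ?_⟩
  · rw [t8_tv_apply, Matrix.one_apply_ne (ne_of_gt hba), zero_add, if_neg]
    rintro ⟨rfl, rfl⟩
    exact absurd (lt_trans hij hba) (lt_irrefl _)
  · rw [t8_tv_apply, Matrix.one_apply_eq, if_neg, add_zero]
    rintro ⟨rfl, h⟩
    exact absurd h (ne_of_gt hij)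

end Cfsg.Agent.Lib.Helper25.PSLnDup
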