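import Mathlib
import Cfsg.Agent.Lib.Helper41.PSLnDefs

set_option autoImplicit false
set_option linter.unusedSectionVars false

/-! S5171 leaf L25 (helper25 for helper85): `(1 + t E_kl) S (1 + t E_lk)`. -/

namespace Cfsg.Agent.Lib.Helper85.PSp

open Matrix Cfsg.Agent.Lib.Helper41.PSLn

variable {F : Type*} [Field F] [Fintype F] {m : ℕ}

/-- L25. `(1 + t E_kl) S (1 + t E_lk) = S + t (E_kl S + S E_lk) + t² S_ll E_kk`. -/
theorem tv_mul_mul_transpose {k l : Fin m} (hkl : k ≠ l) (t : F) (S : Matrix (Fin m) (Fin m) F) :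
    (tv hkl t : SLn m F).1 * S * (tv hkl t : SLn m F).1ᵀ =
      S + t • (single k l (1 : F) * S + S * single l k (1 : F)) + single k k (t ^ 2 * S l l) := by
  have h1 : (tv hkl t : SLn m F).1 = 1 + single k l t := rfl
  have h2 : (single k l t : Matrix (Fin m) (Fin m) F) = t • single k l (1 : F) := by
    rw [Matrix.smul_single, smul_eq_mul, mul_one]
  have h3 : (single l k t : Matrix (Fin m) (Fin m) F) = t • single l k (1 : F) := by
    rw [Matrix.smul_single, smul_eq_mul, mul_one]
  have h4 : (single k l t : Matrix (Fin m) (Fin m) F) * S * single l k t =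
      single k k (t ^ 2 * S l l) := by
    rw [Matrix.single_mul_mul_single]
    congr 1
    ring
  rw [h1, transpose_add, transpose_one, transpose_single, Matrix.add_mul, Matrix.one_mul,
    Matrix.mul_add, Matrix.mul_one, Matrix.add_mul, h4]
  rw [h2, h3, Matrix.smul_mul, Matrix.mul_smul, smul_add]
  abel

end Cfsg.Agent.Lib.Helper85.PSp
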