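import Mathlib
import Cfsg.Agent.Lib.Helper41.PSLnDefs

set_option autoImplicit false
set_option linter.unusedSectionVars false

/-! S5171 leaf L26 (helper25 for helper85): an additive group of symmetric matrices invariant under
congruence by `SL_m` and the torus, containing `a E_00`, contains all symmetric matrices. -/

namespace Cfsg.Agent.Lib.Helper85.PSp

open Matrix Cfsg.Agent.Lib.Helper41.PSLn

variable {F : Type*} [Field F] [Fintype F] {m : ℕ}

theorem l26_conj_single (A : Matrix (Fin m) (Fin m) F) (i0 : Fin m) (c : F) (a b : Fin m) :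
    (A * single i0 i0 c * Aᵀ) a b = A a i0 * c * A b i0 := by
  rw [Matrix.mul_apply, Finset.sum_eq_single i0]
  · rw [Matrix.mul_single_apply_same, transpose_apply]
  · intro k _ hk
    rw [Matrix.mul_single_apply_of_ne (hbj := hk), zero_mul]
  · intro h; exact absurd (Finset.mem_univ _) h

/-- closed form of a double sum of matrix units -/
theorem l26_sum_single (c : Fin m → Fin m → F) (p : Fin m → Fin m → Prop) [DecidableRel p]
    (x y : Fin m) :
    (∑ i, ∑ j, if p i j then single i j (c i j) else (0 : Matrix (Fin m) (Fin m) F)) x y =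
      if p x y then c x y else 0 := by
  rw [Matrix.sum_apply]
  simp_rw [Matrix.sum_apply]
  rw [Finset.sum_eq_single x, Finset.sum_eq_single y]
  · split_ifs <;> simp [Matrix.single_apply]
  · intro j _ hj
    split_ifs
    · rw [Matrix.single_apply, if_neg (fun h => hj h.2)]
    · rfl
  · intro h; exact absurd (Finset.mem_univ _) h
  · intro i _ hi
    apply Finset.sum_eq_zero
    intro j _
    split_ifs
    · rw [Matrix.single_apply, if_neg (fun h => hi h.1)]
    · rfl
  · intro h; exact absurd (Finset.mem_univ _) h

theorem l26_squares [NeZero m] (P : Matrix (Fin m) (Fin m) F → Prop) (h0 : P 0)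
    (htor : ∀ (d : Fin m → Fˣ) (S : Matrix (Fin m) (Fin m) F), P S →
      P (diagonal (fun i => ((d i : Fˣ) : F)) * S * diagonal (fun i => ((d i : Fˣ) : F))))
    {a : F} (h : P (single 0 0 a)) (s : F) : P (single 0 0 (s ^ 2 * a)) := by
  by_cases hs : s = 0
  · subst hs
    have : (single 0 0 ((0 : F) ^ 2 * a) : Matrix (Fin m) (Fin m) F) = 0 := by
      rw [zero_pow two_ne_zero, zero_mul, Matrix.single_zero]
    rw [this]; exact h0
  · have h1 := htor (Function.update (fun _ => (1 : Fˣ)) 0 (Units.mk0 s hs)) _ h
    have h2 : (diagonal (fun i => (((Function.update (fun _ => (1 : Fˣ)) (0 : Fin m)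
          (Units.mk0 s hs)) i : Fˣ) : F)) * single 0 0 a *
        diagonal (fun i => (((Function.update (fun _ => (1 : Fˣ)) (0 : Fin m)
          (Units.mk0 s hs)) i : Fˣ) : F)) : Matrix (Fin m) (Fin m) F) = single 0 0 (s ^ 2 * a) := by
      ext x y
      rw [Matrix.mul_diagonal, Matrix.diagonal_mul, Matrix.single_apply, Matrix.single_apply]
      by_cases hxy : (0 : Fin m) = x ∧ (0 : Fin m) = y
      · obtain ⟨rfl, rfl⟩ := hxy
        simp
        ring
      · rw [if_neg hxy, if_neg hxy, mul_zero, zero_mul]
    rw [h2] at h1
    exact h1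

/-- L26. -/
theorem all_symm_of_single [NeZero m] (P : Matrix (Fin m) (Fin m) F → Prop) (h0 : P 0)
    (hadd : ∀ S S', P S → P S' → P (S + S')) (hneg : ∀ S, P S → P (-S))
    (hSL : ∀ (A : SLn m F) (S : Matrix (Fin m) (Fin m) F), P S → P (A.1 * S * A.1ᵀ))
    (htor : ∀ (d : Fin m → Fˣ) (S : Matrix (Fin m) (Fin m) F), P S →
      P (diagonal (fun i => ((d i : Fˣ) : F)) * S * diagonal (fun i => ((d i : Fˣ) : F))))
    {a : F} (ha : a ≠ 0) (h : P (single 0 0 a)) :
    ∀ S : Matrix (Fin m) (Fin m) F, Sᵀ = S → P S := by
  classical
  have hsq := l26_squares P h0 htor h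
  -- (i) all `c E_00`
  have h00 : ∀ c : F, P (single 0 0 c) := by
    intro c
    by_cases h2 : (2 : F) = 0
    · -- characteristic two: every element is a square
      have hchar : ringChar F = 2 := by
        have : CharP F 2 := by
          refine CharTwo.of_one_ne_zero_of_two_eq_zero one_ne_zero h2
        exact ringChar.eq F 2
      obtain ⟨s, hs⟩ := FiniteField.isSquare_of_char_two hchar (c / a)
      have := hsq s
      have e : s ^ 2 * a = c := by
        rw [pow_two, ← hs, div_mul_cancel₀ _ ha]
      rwa [e] at this
    · set y := c / a with hy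
      have e : ((y + 1) / 2) ^ 2 * a - ((y - 1) / 2) ^ 2 * a = c := by
        have hya : y * a = c := div_mul_cancel₀ _ ha
        field_simp
        rw [← hya]; ring
      have h1 := hadd _ _ (hsq ((y + 1) / 2)) (hneg _ (hsq ((y - 1) / 2)))
      have e2 : (single 0 0 (((y + 1) / 2) ^ 2 * a) + -single 0 0 (((y - 1) / 2) ^ 2 * a) :
          Matrix (Fin m) (Fin m) F) = single 0 0 c := by
        rw [← e]
        ext x z
        simp only [Matrix.add_apply, Matrix.neg_apply, Matrix.single_apply]
        split_ifs <;> ring
      rwa [e2] at h1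
  -- (ii) all `c E_ii`
  have hii : ∀ (i : Fin m) (c : F), P (single i i c) := by
    intro i c
    by_cases hi : i = 0
    · subst hi; exact h00 c
    · have hi' : (0 : Fin m) ≠ i := Ne.symm hi
      have h1 := hSL (tv hi' (-1) * tv hi 1) _ (h00 c)
      have h2 : ((tv hi' (-1) * tv hi 1 : SLn m F).1 * single 0 0 c *
          (tv hi' (-1) * tv hi 1 : SLn m F).1ᵀ : Matrix (Fin m) (Fin m) F) = single i i c := by
        ext x y
        rw [l26_conj_single]
        have hcol : ∀ z : Fin m, (tv hi' (-1) * tv hi 1 : SLn m F).1 z 0 = if i = z then 1 else 0 := by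
          intro z
          show ((Matrix.transvection 0 i (-1 : F)) * (Matrix.transvection i 0 (1 : F))) z 0 = _
          by_cases hz0 : z = 0
          · subst hz0
            rw [Matrix.transvection_mul_apply_same]
            simp [Matrix.transvection, Matrix.single_apply, Matrix.one_apply, hi, hi']
          · rw [Matrix.transvection_mul_apply_of_ne _ _ _ _ hz0]
            simp [Matrix.transvection, Matrix.single_apply, Matrix.one_apply, hz0]
        rw [hcol x, hcol y, Matrix.single_apply]
        by_cases hx : i = x <;> by_cases hy' : i = y <;> simp [hx, hy']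
      rw [h2] at h1
      exact h1
  -- (iii) all `offS i j c`
  have hij : ∀ (i j : Fin m) (c : F), i ≠ j → P (single i j c + single j i c) := by
    intro i j c hne
    have h1 := hSL (tv hne.symm 1) _ (hii i c)
    have h2 : ((tv hne.symm 1 : SLn m F).1 * single i i c * (tv hne.symm 1 : SLn m F).1ᵀ :
        Matrix (Fin m) (Fin m) F) =
        single i i c + single j j c + (single i j c + single j i c) := by
      have hA : (tv hne.symm 1 : SLn m F).1 = 1 + single j i (1 : F) := rfl
      rw [hA, transpose_add, transpose_one, transpose_single]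
      simp only [Matrix.add_mul, Matrix.mul_add, Matrix.one_mul, Matrix.mul_one,
        Matrix.single_mul_single_same, mul_one, one_mul]
      abel
    rw [h2] at h1
    have h3 := hadd _ _ h1 (hneg _ (hadd _ _ (hii i c) (hii j c)))
    have e : single i i c + single j j c + (single i j c + single j i c) +
        -(single i i c + single j j c) = (single i j c + single j i c : Matrix (Fin m) (Fin m) F) := by
      abel
    rwa [e] at h3
  -- (iv) sums
  have hsum : ∀ (s : Finset (Fin m)) (f : Fin m → Matrix (Fin m) (Fin m) F),
      (∀ k ∈ s, P (f k)) → P (∑ k ∈ s, f k) := by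
    intro s f
    induction s using Finset.induction_on with
    | empty => intro _; simpa using h0
    | insert k s hk ih =>
      intro hf
      rw [Finset.sum_insert hk]
      exact hadd _ _ (hf k (Finset.mem_insert_self k s))
        (ih (fun k' hk' => hf k' (Finset.mem_insert_of_mem hk')))
  intro S hS
  have hSs : ∀ x y, S x y = S y x := fun x y => by
    have := congrFun (congrFun hS y) x
    rw [transpose_apply] at this
    exact this
  set M1 : Matrix (Fin m) (Fin m) F :=
    ∑ i, ∑ j, if i = j then single i j (S i j) else (0 : Matrix (Fin m) (Fin m) F) with hM1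
  set M2 : Matrix (Fin m) (Fin m) F :=
    ∑ i, ∑ j, if i < j then single i j (S i j) else (0 : Matrix (Fin m) (Fin m) F) with hM2
  set M3 : Matrix (Fin m) (Fin m) F :=
    ∑ i, ∑ j, if j < i then single i j (S j i) else (0 : Matrix (Fin m) (Fin m) F) with hM3
  have key : S = M1 + (M2 + M3) := by
    ext x y
    rw [Matrix.add_apply, Matrix.add_apply, hM1, hM2, hM3,
      l26_sum_single (fun i j => S i j) (fun i j => i = j),
      l26_sum_single (fun i j => S i j) (fun i j => i < j),
      l26_sum_single (fun i j => S j i) (fun i j => j < i)]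
    rcases lt_trichotomy x y with hxy | hxy | hxy
    · simp [hxy, hxy.ne, not_lt.mpr hxy.le]
    · subst hxy; simp
    · simp [hxy, hxy.ne', not_lt.mpr hxy.le, hSs x y]
  have e3 : M3 = ∑ a, ∑ b, if a < b then single b a (S a b) else (0 : Matrix (Fin m) (Fin m) F) := by
    rw [hM3, Finset.sum_comm]
  have hP1 : P M1 := by
    rw [hM1]
    apply hsum; intro i _
    apply hsum; intro j _
    split_ifs with hij'
    · subst hij'; exact hii i _
    · exact h0
  have hP23 : P (M2 + M3) := by
    rw [e3, hM2, ← Finset.sum_add_distrib]
    apply hsum; intro i _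
    rw [← Finset.sum_add_distrib]
    apply hsum; intro j _
    split_ifs with hij'
    · exact hij i j _ hij'.ne
    · rw [add_zero]; exact h0
  rw [key]
  exact hadd _ _ hP1 hP23

end Cfsg.Agent.Lib.Helper85.PSp
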