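import Mathlib
import Cfsg.Agent.Lib.Helper85.PSpDefs

set_option autoImplicit false
set_option linter.unusedSectionVars false

/-! S5171 leaf L5 (helper25 for helper85): the elements `nElt S`. -/

namespace Cfsg.Agent.Lib.Helper85.PSp

open Matrix Cfsg.Agent.Lib.Helper45.SpAut Cfsg.Agent.Lib.Helper41.PSLn

variable {F : Type*} [Field F] [Fintype F] {m : ℕ}

theorem l5_nElt_coe (S : Matrix (Fin m) (Fin m) F) (hS : Sᵀ = S) :
    (nElt S hS : SpG m F).1 = fromBlocks 1 S 0 1 := rfl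

theorem nElt_mul (S S' : Matrix (Fin m) (Fin m) F) (hS : Sᵀ = S) (hS' : S'ᵀ = S') :
    nElt S hS * nElt S' hS' = nElt (S + S') (by rw [transpose_add, hS, hS']) := by
  apply Subtype.ext
  show (fromBlocks 1 S 0 1 : Matrix (Fin m ⊕ Fin m) (Fin m ⊕ Fin m) F) * fromBlocks 1 S' 0 1 =
    fromBlocks 1 (S + S') 0 1
  rw [fromBlocks_multiply]
  simp only [Matrix.one_mul, Matrix.mul_one, Matrix.mul_zero, Matrix.zero_mul, add_zero, zero_add]
  rw [add_comm]

theorem l5_nElt_zero : nElt (0 : Matrix (Fin m) (Fin m) F) (by simp) = 1 := by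
  apply Subtype.ext
  show (fromBlocks 1 0 0 1 : Matrix (Fin m ⊕ Fin m) (Fin m ⊕ Fin m) F) = 1
  exact fromBlocks_one

theorem nElt_inv (S : Matrix (Fin m) (Fin m) F) (hS : Sᵀ = S) :
    (nElt S hS)⁻¹ = nElt (-S) (by rw [transpose_neg, hS]) := by
  apply inv_eq_of_mul_eq_one_right
  rw [nElt_mul]
  have : nElt (S + -S) (by rw [transpose_add, transpose_neg, hS]) =
      nElt (0 : Matrix (Fin m) (Fin m) F) (by simp) := by
    congr 1
    exact add_neg_cancel S
  rw [this, l5_nElt_zero]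

theorem nElt_eq_one_iff (S : Matrix (Fin m) (Fin m) F) (hS : Sᵀ = S) : nElt S hS = 1 ↔ S = 0 := by
  constructor
  · intro h
    have h1 : (nElt S hS : SpG m F).1 = (1 : SpG m F).1 := by rw [h]
    have h2 : (fromBlocks 1 S 0 1 : Matrix (Fin m ⊕ Fin m) (Fin m ⊕ Fin m) F) =
        fromBlocks 1 0 0 1 := by
      rw [fromBlocks_one]; exact h1
    exact (fromBlocks_inj.mp h2).2.1
  · rintro rfl
    exact l5_nElt_zero

/-- L5. every element of `NS` is an `nElt`. -/
theorem exists_nElt_eq_of_mem_NS {g : SpG m F} (hg : g ∈ NS m F) :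
    ∃ (S : Matrix (Fin m) (Fin m) F) (hS : Sᵀ = S), g = nElt S hS := by
  -- the columns indexed by `inl` are those of the identity
  have hcol : ∀ (x : Fin m ⊕ Fin m) (j : Fin m),
      g.1 x (Sum.inl j) = (1 : Matrix (Fin m ⊕ Fin m) (Fin m ⊕ Fin m) F) x (Sum.inl j) := by
    intro x j
    have h1 := hg (eV j) (inL_eV j)
    have h2 := congrFun h1 x
    rw [eV, Matrix.mulVec_single_one] at h2
    rw [Matrix.one_apply]
    rw [Matrix.col_apply, Pi.single_apply] at h2
    exact h2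
  have h11 : g.1.toBlocks₁₁ = 1 := by
    ext i j
    rw [Matrix.toBlocks₁₁, Matrix.of_apply, hcol, Matrix.one_apply, Matrix.one_apply]
    simp
  have h21 : g.1.toBlocks₂₁ = 0 := by
    ext i j
    rw [Matrix.toBlocks₂₁, Matrix.of_apply, hcol, Matrix.one_apply]
    simp
  have hg1 : g.1 = fromBlocks 1 g.1.toBlocks₁₂ 0 g.1.toBlocks₂₂ := by
    conv_lhs => rw [← Matrix.fromBlocks_toBlocks g.1, h11, h21]
  have hsym := SymplecticGroup.mem_iff.mp g.2
  rw [hg1, Matrix.J, fromBlocks_transpose, fromBlocks_multiply, fromBlocks_multiply] at hsym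
  simp only [Matrix.mul_zero, Matrix.zero_mul, add_zero, zero_add, Matrix.mul_one, Matrix.one_mul,
    Matrix.mul_neg, Matrix.neg_mul, transpose_zero, transpose_one] at hsym
  obtain ⟨e1, e2, e3, -⟩ := fromBlocks_inj.mp hsym
  have hD : g.1.toBlocks₂₂ = 1 := by
    rw [neg_zero, add_zero] at e3
    exact e3
  have hB : (g.1.toBlocks₁₂)ᵀ = g.1.toBlocks₁₂ := by
    have := e1
    rw [add_neg_eq_zero] at this
    exact this.symm
  refine ⟨g.1.toBlocks₁₂, hB, ?_⟩
  apply Subtype.ext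
  show g.1 = fromBlocks 1 g.1.toBlocks₁₂ 0 1
  conv_lhs => rw [hg1, hD]

end Cfsg.Agent.Lib.Helper85.PSp
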