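import Mathlib
import Cfsg.Agent.Lib.Helper12.PsDefs
import Cfsg.Agent.Lib.Helper70.CgCG2
import Cfsg.Agent.Lib.Helper90.CgCG1
import Cfsg.Agent.Lib.Helper95.CgCG3b

/-!
# Ps hive route B (helper12, S4321): leaf `ps2` (absorption).
-/

set_option autoImplicit false
set_option linter.unusedVariables false

namespace Cfsg.Agent.Lib.Helper12.Ps

open Subgroup Cfsg.Agent.Lib.Helper22.Cg

universe u

/-- PS2. absorption. -/
theorem ps2 {G : Type u} [Group G] [Finite G] (x y : G) (hc : (cs x).Coprime (cs y))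
    (hd : cs (x * y) ∣ cs x) (g h : G) :
    (g * y * g⁻¹) * (h * y * h⁻¹)⁻¹ ∈ rstab x := by
  apply cg3b
  intro k
  have h1a : ∀ g h : G, ∃ k : G, (g * x * g⁻¹) * (h * y * h⁻¹) = k * (x * y) * k⁻¹ :=
    fun g h => cg1a x y hc g h
  have hsub : ∀ g : G, (fun a => a * (g * y * g⁻¹)) '' cg2_cls x ⊆ cg2_cls (x * y) := by
    rintro g _ ⟨_, ⟨k, rfl⟩, rfl⟩
    obtain ⟨k', hk'⟩ := h1a k g
    exact ⟨k', hk'.symm⟩
  have hcard : ∀ g : G, ((fun a => a * (g * y * g⁻¹)) '' cg2_cls x).ncard = cs x := by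
    intro g
    rw [Set.ncard_image_of_injective _ (mul_left_injective _), cg2_ncard_cls]
  have hxpos : cs x ≠ 0 := Subgroup.index_ne_zero_of_finite
  have hle : cs x ≤ cs (x * y) := by
    rw [← hcard 1, ← cg2_ncard_cls (x * y)]
    exact Set.ncard_le_ncard (hsub 1) (Set.toFinite _)
  have heq : cs (x * y) = cs x :=
    le_antisymm (Nat.le_of_dvd (Nat.pos_of_ne_zero hxpos) hd) hle
  have hEq : ∀ g : G, (fun a => a * (g * y * g⁻¹)) '' cg2_cls x = cg2_cls (x * y) := by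
    intro g
    apply Set.eq_of_subset_of_ncard_le (hsub g) _ (Set.toFinite _)
    rw [hcard g, cg2_ncard_cls, heq]
  have hmem : (k * x * k⁻¹) * (g * y * g⁻¹) ∈ (fun a => a * (h * y * h⁻¹)) '' cg2_cls x := by
    rw [hEq h, ← hEq g]
    exact ⟨_, ⟨k, rfl⟩, rfl⟩
  obtain ⟨_, ⟨k', rfl⟩, hk'⟩ := hmem
  refine ⟨k', ?_⟩
  have hk'' : k' * x * k'⁻¹ * (h * y * h⁻¹) = k * x * k⁻¹ * (g * y * g⁻¹) := hk'
  calc (k * x * k⁻¹) * ((g * y * g⁻¹) * (h * y * h⁻¹)⁻¹)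
      = ((k * x * k⁻¹) * (g * y * g⁻¹)) * (h * y * h⁻¹)⁻¹ := by group
    _ = (k' * x * k'⁻¹ * (h * y * h⁻¹)) * (h * y * h⁻¹)⁻¹ := by rw [hk'']
    _ = k' * x * k'⁻¹ := by group

end Cfsg.Agent.Lib.Helper12.Ps
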