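import Mathlib
import Cfsg.Agent.Lib.Helper12.PsDefs
import Cfsg.Agent.Lib.Helper25.Ps2
import Cfsg.Agent.Lib.Helper49.CgCG3a
import Cfsg.Agent.Lib.Helper69.CgCG3c

/-!
# Ps hive route B (helper12, S4321): leaf `psA`, core version with the statement of `psF`
as an explicit hypothesis.
-/

set_option autoImplicit false
set_option linter.unusedVariables false

namespace Cfsg.Agent.Lib.Helper12.Ps

open Subgroup Cfsg.Agent.Lib.Helper22.Cg

universe u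

/-- PSA with `psF` (for this `G`, `p`) as hypothesis `hF`. -/
theorem psA_core {G : Type u} [Group G] [Finite G] (p : ℕ) [Fact p.Prime]
    (hF : ∀ (N : Subgroup G) [N.Normal], ¬ p ∣ Nat.card N → ∀ b : G,
      (∃ n : ℕ, orderOf b = p ^ n) → (∀ g : G, b⁻¹ * g⁻¹ * b * g ∈ N) → cs b ∣ Nat.card N)
    (a b : G)
    (hab : a * b = b * a) (ha : ∃ n : ℕ, orderOf a = p ^ n) (hb : ∃ n : ℕ, orderOf b = p ^ n)
    (hc : (cs a).Coprime (cs b)) (ha1 : 1 < cs a) (hb1 : 1 < cs b) (hpb : ¬ p ∣ cs b)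
    (hmix : cs (a * b) ∣ cs a ∨ cs (a * b) ∣ cs b) :
    p ∣ cs a ∧ ∀ g h : G, (g * b * g⁻¹) * (h * b * h⁻¹)⁻¹ ∈ rstab a := by
  -- general step: if `y` is central modulo `rstab x` through ps2 and `p ∤ |rstab x|` then `cs y ∣ cs x`
  have key : ∀ x y : G, (∃ n : ℕ, orderOf y = p ^ n) →
      (∀ g h : G, (g * y * g⁻¹) * (h * y * h⁻¹)⁻¹ ∈ rstab x) →
      ¬ p ∣ Nat.card (rstab x) → cs y ∣ cs x := by
    intro x y hy habs hpN
    have hn : (rstab x).Normal := cg3a x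
    have hcen : ∀ g : G, y⁻¹ * g⁻¹ * y * g ∈ rstab x := by
      intro g
      have h1 : (g⁻¹ * y * g⁻¹⁻¹) * (1 * y * 1⁻¹)⁻¹ ∈ rstab x := habs g⁻¹ 1
      have h2 := hn.conj_mem _ h1 y⁻¹
      have e : y⁻¹ * (g⁻¹ * y * g⁻¹⁻¹ * (1 * y * 1⁻¹)⁻¹) * y⁻¹⁻¹ = y⁻¹ * g⁻¹ * y * g := by group
      rw [e] at h2
      exact h2
    exact (hF (rstab x) hpN y hy hcen).trans (cg3c x)
  rcases hmix with hd | hd
  · have habs : ∀ g h : G, (g * b * g⁻¹) * (h * b * h⁻¹)⁻¹ ∈ rstab a := ps2 a b hc hd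
    refine ⟨?_, habs⟩
    by_contra hpa
    have hpN : ¬ p ∣ Nat.card (rstab a) := fun h => hpa (h.trans (cg3c a))
    have h1 : cs b ∣ cs a := key a b hb habs hpN
    have h2 : cs b ∣ Nat.gcd (cs a) (cs b) := Nat.dvd_gcd h1 dvd_rfl
    rw [hc.gcd_eq_one] at h2
    have := Nat.le_of_dvd Nat.one_pos h2
    omega
  · exfalso
    have hd' : cs (b * a) ∣ cs b := by rw [← hab]; exact hd
    have habs : ∀ g h : G, (g * a * g⁻¹) * (h * a * h⁻¹)⁻¹ ∈ rstab b := ps2 b a hc.symm hd'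
    have hpN : ¬ p ∣ Nat.card (rstab b) := fun h => hpb (h.trans (cg3c b))
    have h1 : cs a ∣ cs b := key b a ha habs hpN
    have h2 : cs a ∣ Nat.gcd (cs a) (cs b) := Nat.dvd_gcd dvd_rfl h1
    rw [hc.gcd_eq_one] at h2
    have := Nat.le_of_dvd Nat.one_pos h2
    omega

end Cfsg.Agent.Lib.Helper12.Ps
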