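import Mathlib
import Cfsg.Agent.Lib.Helper12.PsDefs
import Cfsg.Agent.Lib.Helper25.PsACore
import Cfsg.Agent.Lib.Helper34.PsPSF

/-!
# Ps hive route B (helper12, S4321): leaf `psA` (wrapper: `psA_core` + helper34's `psF`).
-/

set_option autoImplicit false
set_option linter.unusedVariables false

namespace Cfsg.Agent.Lib.Helper12.Ps

open Subgroup Cfsg.Agent.Lib.Helper22.Cg

universe u

/-- PSA. (ps2, psF, cg3a, cg3c) `p ∣ cs a` and `b` is central modulo `rstab a`. -/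
theorem psA {G : Type u} [Group G] [Finite G] (p : ℕ) [Fact p.Prime] (a b : G)
    (hab : a * b = b * a) (ha : ∃ n : ℕ, orderOf a = p ^ n) (hb : ∃ n : ℕ, orderOf b = p ^ n)
    (hc : (cs a).Coprime (cs b)) (ha1 : 1 < cs a) (hb1 : 1 < cs b) (hpb : ¬ p ∣ cs b)
    (hmix : cs (a * b) ∣ cs a ∨ cs (a * b) ∣ cs b) :
    p ∣ cs a ∧ ∀ g h : G, (g * b * g⁻¹) * (h * b * h⁻¹)⁻¹ ∈ rstab a :=
  psA_core p (fun N _ hpN b hb hcen => psF p N hpN b hb hcen) a b hab ha hb hc ha1 hb1 hpb hmix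

end Cfsg.Agent.Lib.Helper12.Ps
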