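import Mathlib
import Cfsg.Agent.Lib.Helper81.Q4Defs

/-!
# S6002 hive, leaf Q4-A3G (`tt_mem`), core part (with `two_mul_tt` as a hypothesis)
-/

set_option autoImplicit false
set_option linter.unusedSectionVars false
set_option linter.unusedVariables false

namespace Cfsg.Agent.Lib.Helper81.Q4

open Matrix

variable {F : Type*} [Field F] [Fintype F]

/-- the element `-1` of `R` as a unit. -/
theorem a3g_negone (h2 : (2 : F) ≠ 0) (R : Subgroup (GL I4 F)) (hR : MinusLike R) :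
    ∃ z : GL I4 F, z ∈ R ∧ (z : Matrix I4 I4 F) = -1 ∧ z * z = 1 ∧ z ≠ 1 ∧
      ∀ g : GL I4 F, z * g = g * z := by
  obtain ⟨z, hz, hzv⟩ := hR.negone
  refine ⟨z, hz, hzv, ?_, ?_, ?_⟩
  · apply Units.ext
    rw [Units.val_mul, hzv]
    simp
  · intro h
    have h1 : (z : Matrix I4 I4 F) = 1 := by rw [h]; rfl
    rw [hzv] at h1
    have h3 := congrFun (congrFun h1 (Sum.inl 0)) (Sum.inl 0)
    simp only [Matrix.neg_apply, Matrix.one_apply_eq] at h3
    apply h2
    have : (2 : F) = 1 - (-1) := by ring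
    rw [this, h3, sub_self]
  · intro g
    apply Units.ext
    rw [Units.val_mul, Units.val_mul, hzv]
    simp

/-- the centralizer of `y` in `R`. -/
def a3g_C (R : Subgroup (GL I4 F)) (y : GL I4 F) : Subgroup (GL I4 F) :=
  R ⊓ Subgroup.centralizer {y}

theorem a3g_mem_C (R : Subgroup (GL I4 F)) (y h : GL I4 F) :
    h ∈ a3g_C R y ↔ h ∈ R ∧ y⁻¹ * h * y = h := by
  rw [a3g_C, Subgroup.mem_inf, Subgroup.mem_centralizer_iff]
  constructor
  · rintro ⟨h1, h2⟩
    refine ⟨h1, ?_⟩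
    have := h2 y rfl
    rw [mul_assoc, ← this, ← mul_assoc, inv_mul_cancel, one_mul]
  · rintro ⟨h1, h2⟩
    refine ⟨h1, ?_⟩
    intro g hg
    rw [Set.mem_singleton_iff] at hg
    rw [hg]
    have : y * (y⁻¹ * h * y) = y * h := by rw [h2]
    rw [← this]; group

theorem a3g_card_C (R : Subgroup (GL I4 F)) (y : GL I4 F) :
    Nat.card {h : GL I4 F // h ∈ R ∧ y⁻¹ * h * y = h} = Nat.card ↥(a3g_C R y) :=
  Nat.card_congr (Equiv.subtypeEquivRight (fun h => (a3g_mem_C R y h).symm))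

theorem a3g_D_iff {z : GL I4 F} (hzv : (z : Matrix I4 I4 F) = -1) (y h : GL I4 F) :
    ((y⁻¹ * h * y : GL I4 F) : Matrix I4 I4 F) = -(h : Matrix I4 I4 F) ↔
      y⁻¹ * h * y = z * h := by
  constructor
  · intro h1
    apply Units.ext
    rw [h1, Units.val_mul z h, hzv]
    simp
  · intro h1
    rw [h1, Units.val_mul z h, hzv]
    simp

theorem a3g_card_D_eq {z : GL I4 F} (R : Subgroup (GL I4 F)) (y : GL I4 F)
    (h0 : GL I4 F) (hh0R : h0 ∈ R) (hh0 : y⁻¹ * h0 * y = z * h0) :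
    Nat.card {h : GL I4 F // h ∈ R ∧ y⁻¹ * h * y = z * h} =
      Nat.card {h : GL I4 F // h ∈ R ∧ y⁻¹ * h * y = h} := by
  refine (Nat.card_congr ?_).symm
  exact
    { toFun := fun h => ⟨h0 * h.1, R.mul_mem hh0R h.2.1, by
        have : y⁻¹ * (h0 * h.1) * y = (y⁻¹ * h0 * y) * (y⁻¹ * h.1 * y) := by group
        rw [this, hh0, h.2.2, mul_assoc]⟩
      invFun := fun h => ⟨h0⁻¹ * h.1, R.mul_mem (R.inv_mem hh0R) h.2.1, by
        have : y⁻¹ * (h0⁻¹ * h.1) * y = (y⁻¹ * h0 * y)⁻¹ * (y⁻¹ * h.1 * y) := by group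
        rw [this, hh0, h.2.2, _root_.mul_inv_rev, mul_assoc, ← mul_assoc z⁻¹, inv_mul_cancel, one_mul]⟩
      left_inv := fun h => Subtype.ext (by simp)
      right_inv := fun h => Subtype.ext (by simp) }

/-- the possible orders of `C_R(y)`. -/
theorem a3g_card_C_cases (h2 : (2 : F) ≠ 0) (R : Subgroup (GL I4 F)) (hR : MinusLike R)
    (y : GL I4 F) :
    Nat.card ↥(a3g_C R y) = 2 ∨ Nat.card ↥(a3g_C R y) = 4 ∨ Nat.card ↥(a3g_C R y) = 8 ∨
      Nat.card ↥(a3g_C R y) = 16 ∨ Nat.card ↥(a3g_C R y) = 32 := by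
  obtain ⟨z, hzR, hzv, hzz, hz1, hzc⟩ := a3g_negone h2 R hR
  have hdvd : Nat.card ↥(a3g_C R y) ∣ 2 ^ 5 := by
    have := Subgroup.card_dvd_of_le (inf_le_left : a3g_C R y ≤ R)
    rw [hR.card] at this
    exact this
  obtain ⟨k, hk, hk2⟩ := (Nat.dvd_prime_pow Nat.prime_two).1 hdvd
  have hzC : z ∈ a3g_C R y := by
    rw [a3g_mem_C]
    refine ⟨hzR, ?_⟩
    rw [mul_assoc, hzc y, ← mul_assoc, inv_mul_cancel, one_mul]
  have hne1 : Nat.card ↥(a3g_C R y) ≠ 1 := by
    intro h1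
    have hsub : Subsingleton ↥(a3g_C R y) := (Nat.card_eq_one_iff_unique.mp h1).1
    have : (⟨z, hzC⟩ : ↥(a3g_C R y)) = 1 := Subsingleton.elim _ _
    exact hz1 (congrArg Subtype.val this)
  rw [hk2] at hne1 ⊢
  interval_cases k
  · exact absurd rfl hne1
  · exact Or.inl rfl
  · exact Or.inr (Or.inl rfl)
  · exact Or.inr (Or.inr (Or.inl rfl))
  · exact Or.inr (Or.inr (Or.inr (Or.inl rfl)))
  · exact Or.inr (Or.inr (Or.inr (Or.inr rfl)))

/-- `|C_R(y)| = 32` forces `y` scalar. -/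
theorem a3g_scalar_of_card (R : Subgroup (GL I4 F)) (hR : MinusLike R) (y : GL I4 F)
    (h32 : Nat.card ↥(a3g_C R y) = 32) : IsScalar y := by
  haveI : Finite ↥R := Nat.finite_of_card_ne_zero (by rw [hR.card]; norm_num)
  have hle : a3g_C R y ≤ R := inf_le_left
  have heq : a3g_C R y = R := by
    apply Subgroup.eq_of_le_of_card_ge hle
    rw [h32, hR.card]
  apply hR.comm
  intro g hg
  have hgC : g ∈ a3g_C R y := by rw [heq]; exact hg
  rw [a3g_C, Subgroup.mem_inf, Subgroup.mem_centralizer_iff] at hgC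
  have := hgC.2 y rfl
  have h3 := congrArg (fun u : GL I4 F => (u : Matrix I4 I4 F)) this
  simpa [Units.val_mul] using h3

/-- Q4-A3G with `two_mul_tt` as a hypothesis. -/
theorem a3g_tt_mem_of (h2 : (2 : F) ≠ 0) (R : Subgroup (GL I4 F)) (hR : MinusLike R)
    (y : GL I4 F)
    (h2tt : (2 : F) * tt y =
      (Nat.card {h : GL I4 F // h ∈ R ∧ y⁻¹ * h * y = h} : F) -
      (Nat.card {h : GL I4 F // h ∈ R ∧
        ((y⁻¹ * h * y : GL I4 F) : Matrix I4 I4 F) = -(h : Matrix I4 I4 F)} : F)) :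
    tt y = 0 ∨ tt y = 1 ∨ tt y = 2 ∨ tt y = 4 ∨ tt y = 8 ∨ IsScalar y := by
  obtain ⟨z, hzR, hzv, hzz, hz1, hzc⟩ := a3g_negone h2 R hR
  have hDcard : Nat.card {h : GL I4 F // h ∈ R ∧
        ((y⁻¹ * h * y : GL I4 F) : Matrix I4 I4 F) = -(h : Matrix I4 I4 F)} =
      Nat.card {h : GL I4 F // h ∈ R ∧ y⁻¹ * h * y = z * h} :=
    Nat.card_congr (Equiv.subtypeEquivRight (fun h => by rw [a3g_D_iff hzv]))
  rw [hDcard] at h2tt
  by_cases hD : ∃ h0 : GL I4 F, h0 ∈ R ∧ y⁻¹ * h0 * y = z * h0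
  · obtain ⟨h0, hh0R, hh0⟩ := hD
    rw [a3g_card_D_eq R y h0 hh0R hh0, sub_self] at h2tt
    left
    rcases mul_eq_zero.mp h2tt with h | h
    · exact absurd h h2
    · exact h
  · have hempty : IsEmpty {h : GL I4 F // h ∈ R ∧ y⁻¹ * h * y = z * h} :=
      ⟨fun h => hD ⟨h.1, h.2.1, h.2.2⟩⟩
    have h0 : Nat.card {h : GL I4 F // h ∈ R ∧ y⁻¹ * h * y = z * h} = 0 := Nat.card_of_isEmpty
    rw [h0, Nat.cast_zero, sub_zero, a3g_card_C] at h2tt
    rcases a3g_card_C_cases h2 R hR y with h | h | h | h | h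
    · right; left
      rw [h] at h2tt
      apply mul_left_cancel₀ h2
      rw [h2tt]; norm_num
    · right; right; left
      rw [h] at h2tt
      apply mul_left_cancel₀ h2
      rw [h2tt]; norm_num
    · right; right; right; left
      rw [h] at h2tt
      apply mul_left_cancel₀ h2
      rw [h2tt]; norm_num
    · right; right; right; right; left
      rw [h] at h2tt
      apply mul_left_cancel₀ h2
      rw [h2tt]; norm_num
    · right; right; right; right; right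
      exact a3g_scalar_of_card R hR y h

end Cfsg.Agent.Lib.Helper81.Q4
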