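import Mathlib
import Cfsg.Agent.Lib.Helper81.Q4Defs
import Cfsg.Agent.Lib.Helper25.Q4A3G

/-!
# S6002 hive, leaf Q4-A3T (`tt_eq_four_of_pow_three`), core part (with `two_mul_tt` as a
hypothesis)
-/

set_option autoImplicit false
set_option linter.unusedSectionVars false
set_option linter.unusedVariables false
set_option linter.style.haveILetI false

namespace Cfsg.Agent.Lib.Helper81.Q4

open Matrix

variable {F : Type*} [Field F] [Fintype F]

/-- `|R| ≡ |C_R(y)| (mod 3)` for `y ∈ N(R)` with `y³ = 1`. -/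
theorem a3t_modEq (R : Subgroup (GL I4 F)) (hR : MinusLike R) (y : GL I4 F)
    (hy : y ∈ Subgroup.normalizer (R : Set (GL I4 F))) (hy3 : y ^ 3 = 1) :
    Nat.card ↥R ≡ Nat.card ↥(a3g_C R y) [MOD 3] := by
  classical
  haveI : Finite ↥R := Nat.finite_of_card_ne_zero (by rw [hR.card]; norm_num)
  haveI : Fintype ↥R := Fintype.ofFinite _
  have hyinv : y⁻¹ ∈ Subgroup.normalizer (R : Set (GL I4 F)) := Subgroup.inv_mem _ hy
  have hmem : ∀ r : ↥R, y⁻¹ * (r : GL I4 F) * y ∈ R := by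
    intro r
    have := (Subgroup.mem_normalizer_iff.mp hyinv (r : GL I4 F)).1 r.2
    rwa [inv_inv] at this
  let f : Function.End ↥R := fun r => ⟨y⁻¹ * (r : GL I4 F) * y, hmem r⟩
  have hf3 : f ^ 3 ^ 1 = 1 := by
    rw [pow_one, pow_succ, pow_succ, pow_one]
    funext r
    apply Subtype.ext
    show y⁻¹ * (y⁻¹ * (y⁻¹ * (r : GL I4 F) * y) * y) * y = (r : GL I4 F)
    have hyyy : y * y * y = 1 := by rw [pow_succ, pow_two] at hy3; exact hy3
    have : y⁻¹ * (y⁻¹ * (y⁻¹ * (r : GL I4 F) * y) * y) * y =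
        (y * y * y)⁻¹ * (r : GL I4 F) * (y * y * y) := by
      group
    rw [this, hyyy]; simp
  haveI : Fact (Nat.Prime 3) := ⟨Nat.prime_three⟩
  have key := Equiv.Perm.card_fixedPoints_modEq (p := 3) (n := 1) (f := f) hf3
  rw [← Nat.card_eq_fintype_card, ← Nat.card_eq_fintype_card] at key
  have hcard : Nat.card ↥(Function.fixedPoints f) = Nat.card ↥(a3g_C R y) := by
    refine Nat.card_congr ?_
    exact
      { toFun := fun r => ⟨(r.1 : GL I4 F), (a3g_mem_C R y _).2 ⟨r.1.2, congrArg Subtype.val r.2⟩⟩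
        invFun := fun c => ⟨⟨c.1, ((a3g_mem_C R y _).1 c.2).1⟩,
          Subtype.ext ((a3g_mem_C R y _).1 c.2).2⟩
        left_inv := fun r => rfl
        right_inv := fun c => rfl }
  rw [hcard] at key
  exact key

/-- Q4-A3T with `two_mul_tt` as a hypothesis. -/
theorem a3t_core (h2 : (2 : F) ≠ 0) (R : Subgroup (GL I4 F)) (hR : MinusLike R)
    (hfix : ∀ y ∈ Subgroup.normalizer (R : Set (GL I4 F)), y ^ 3 = 1 →
      ∃ g ∈ R, ¬ IsScalar g ∧ y * g = g * y)
    (y : GL I4 F) (hy : y ∈ Subgroup.normalizer (R : Set (GL I4 F))) (hy3 : y ^ 3 = 1)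
    (h2tt : (2 : F) * tt y =
      (Nat.card {h : GL I4 F // h ∈ R ∧ y⁻¹ * h * y = h} : F) -
      (Nat.card {h : GL I4 F // h ∈ R ∧
        ((y⁻¹ * h * y : GL I4 F) : Matrix I4 I4 F) = -(h : Matrix I4 I4 F)} : F)) :
    tt y = 4 ∨ IsScalar y := by
  obtain ⟨z, hzR, hzv, hzz, hz1, hzc⟩ := a3g_negone h2 R hR
  have hDcard : Nat.card {h : GL I4 F // h ∈ R ∧
        ((y⁻¹ * h * y : GL I4 F) : Matrix I4 I4 F) = -(h : Matrix I4 I4 F)} =
      Nat.card {h : GL I4 F // h ∈ R ∧ y⁻¹ * h * y = z * h} :=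
    Nat.card_congr (Equiv.subtypeEquivRight (fun h => by rw [a3g_D_iff hzv]))
  rw [hDcard] at h2tt
  -- no `h` with `y⁻¹ h y = -h`
  have hD : ¬ ∃ h0 : GL I4 F, h0 ∈ R ∧ y⁻¹ * h0 * y = z * h0 := by
    rintro ⟨h, -, hh⟩
    have hzconj : ∀ u : GL I4 F, y⁻¹ * (z * u) * y = z * (y⁻¹ * u * y) := by
      intro u
      rw [← mul_assoc y⁻¹ z u, ← hzc y⁻¹, mul_assoc z, mul_assoc z]
    have e1 : y⁻¹ * (y⁻¹ * (y⁻¹ * h * y) * y) * y = h := by
      have hyyy : y * y * y = 1 := by rw [pow_succ, pow_two] at hy3; exact hy3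
      have : y⁻¹ * (y⁻¹ * (y⁻¹ * h * y) * y) * y = (y * y * y)⁻¹ * h * (y * y * y) := by group
      rw [this, hyyy]; simp
    rw [hh, hzconj, hh, ← mul_assoc z z h, hzz, one_mul, hh] at e1
    apply hz1
    have : z * h = 1 * h := by rw [e1, one_mul]
    exact mul_right_cancel this
  have hempty : IsEmpty {h : GL I4 F // h ∈ R ∧ y⁻¹ * h * y = z * h} :=
    ⟨fun h => hD ⟨h.1, h.2.1, h.2.2⟩⟩
  have h0 : Nat.card {h : GL I4 F // h ∈ R ∧ y⁻¹ * h * y = z * h} = 0 := Nat.card_of_isEmpty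
  rw [h0, Nat.cast_zero, sub_zero, a3g_card_C] at h2tt
  have hmod := a3t_modEq R hR y hy hy3
  rw [hR.card] at hmod
  -- a non-scalar element of `C`
  obtain ⟨g, hgR, hgns, hgy⟩ := hfix y hy hy3
  have hgC : g ∈ a3g_C R y := by
    rw [a3g_mem_C]
    refine ⟨hgR, ?_⟩
    rw [mul_assoc, ← hgy, ← mul_assoc, inv_mul_cancel, one_mul]
  have hzC : z ∈ a3g_C R y := by
    rw [a3g_mem_C]
    refine ⟨hzR, ?_⟩
    rw [mul_assoc, hzc y, ← mul_assoc, inv_mul_cancel, one_mul]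
  rcases a3g_card_C_cases h2 R hR y with h | h | h | h | h
  · -- `|C| = 2` is impossible
    exfalso
    obtain ⟨u, hu, huniq⟩ := (Nat.card_eq_two_iff' (1 : ↥(a3g_C R y))).1 h
    have hz' : (⟨z, hzC⟩ : ↥(a3g_C R y)) = u :=
      huniq _ (fun h' => hz1 (congrArg Subtype.val h'))
    by_cases hg1 : g = 1
    · apply hgns
      refine ⟨1, ?_⟩
      rw [hg1]; simp
    · have hg' : (⟨g, hgC⟩ : ↥(a3g_C R y)) = u :=
        huniq _ (fun h' => hg1 (congrArg Subtype.val h'))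
      have hgz : g = z := by
        have := hg'.trans hz'.symm
        exact congrArg Subtype.val this
      apply hgns
      refine ⟨-1, ?_⟩
      rw [hgz, hzv]; simp
  · exfalso
    rw [h] at hmod
    exact absurd hmod (by decide)
  · left
    rw [h] at h2tt
    apply mul_left_cancel₀ h2
    rw [h2tt]; norm_num
  · exfalso
    rw [h] at hmod
    exact absurd hmod (by decide)
  · right
    exact a3g_scalar_of_card R hR y h

end Cfsg.Agent.Lib.Helper81.Q4
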