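import Mathlib
import Cfsg.Agent.Lib.Helper81.Q4Defs
import Cfsg.Agent.Lib.Helper13.Q4A3
import Cfsg.Agent.Lib.Helper25.Q4A3G
import Cfsg.Agent.Lib.Helper25.Q4A3T

/-!
# S6002 hive, leaves Q4-A3G (`tt_mem`) and Q4-A3T (`tt_eq_four_of_pow_three`)
-/

set_option autoImplicit false

namespace Cfsg.Agent.Lib.Helper81.Q4

open Matrix

variable {F : Type*} [Field F] [Fintype F]

/-- Q4-A3G (from Q4-A3).  `tt y ∈ {0, 1, 2, 4, 8}` or `y` is scalar, for `y ∈ N(R)`. -/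
theorem tt_mem (h2 : (2 : F) ≠ 0) (R : Subgroup (GL I4 F)) (hR : MinusLike R)
    (y : GL I4 F) (hy : y ∈ Subgroup.normalizer (R : Set (GL I4 F))) :
    tt y = 0 ∨ tt y = 1 ∨ tt y = 2 ∨ tt y = 4 ∨ tt y = 8 ∨ IsScalar y :=
  a3g_tt_mem_of h2 R hR y (two_mul_tt h2 R hR y hy)

/-- Q4-A3T (from Q4-A3 + Q4-A3F).  Elements of order 3 of `N(R)` have `tt = 4` or are scalar. -/
theorem tt_eq_four_of_pow_three (h2 : (2 : F) ≠ 0) (R : Subgroup (GL I4 F)) (hR : MinusLike R)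
    (hfix : ∀ y ∈ Subgroup.normalizer (R : Set (GL I4 F)), y ^ 3 = 1 →
      ∃ g ∈ R, ¬ IsScalar g ∧ y * g = g * y)
    (y : GL I4 F) (hy : y ∈ Subgroup.normalizer (R : Set (GL I4 F))) (hy3 : y ^ 3 = 1) :
    tt y = 4 ∨ IsScalar y :=
  a3t_core h2 R hR hfix y hy hy3 (two_mul_tt h2 R hR y hy)

end Cfsg.Agent.Lib.Helper81.Q4
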