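import Mathlib

/-! # S2522 leaf AV1 (helper25 for helper65): sharp subspace avoidance -/

set_option autoImplicit false

namespace Cfsg.Agent.Lib.Helper65.RU

open Module

variable {K : Type*} [Field K]
variable {V : Type*} [AddCommGroup V] [Module K V]

theorem av1_finset {ι : Type*} (p : ι → Submodule K V) (s : Finset ι) :
    ((s.card : ℕ) : Cardinal) ≤ Cardinal.mk K → (∀ i ∈ s, p i ≠ ⊤) →
    ∃ v : V, ∀ i ∈ s, v ∉ p i := by
  classical
  induction s using Finset.induction_on with
  | empty => intro _ _; exact ⟨0, fun i hi => absurd hi (Finset.notMem_empty i)⟩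
  | insert j s hj ih =>
    intro hcard hne
    rw [Finset.card_insert_of_notMem hj] at hcard
    have hcard' : ((s.card : ℕ) : Cardinal) ≤ Cardinal.mk K := by
      refine le_trans ?_ hcard
      exact_mod_cast Nat.le_succ _
    obtain ⟨x, hx⟩ := ih hcard' (fun i hi => hne i (Finset.mem_insert_of_mem hi))
    by_cases hxj : x ∈ p j
    · -- take y outside p j
      obtain ⟨y, hy⟩ : ∃ y, y ∉ p j := by
        by_contra hcon
        push Not at hcon
        exact hne j (Finset.mem_insert_self j s) (by ext v; simp [hcon v])
      have hz : ∀ t : K, y + t • x ∉ p j := by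
        intro t ht
        exact hy ((Submodule.add_mem_iff_left (p j) ((p j).smul_mem t hxj)).mp ht)
      by_contra hcon
      push Not at hcon
      -- every point of the line lies in some p i, i ∈ s
      have hf : ∀ t : K, ∃ i : s, y + t • x ∈ p i := by
        intro t
        obtain ⟨i, hi, hmem⟩ := hcon (y + t • x)
        rcases Finset.mem_insert.mp hi with rfl | his
        · exact absurd hmem (hz t)
        · exact ⟨⟨i, his⟩, hmem⟩
      choose f hf using hf
      have hinj : Function.Injective f := by
        intro t t' htt
        by_contra hne'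
        have h1 := hf t
        have h2 := hf t'
        rw [htt] at h1
        have h3 : (y + t • x) - (y + t' • x) ∈ p (f t') := (p (f t')).sub_mem h1 h2
        have h4 : (y + t • x) - (y + t' • x) = (t - t') • x := by
          rw [sub_smul]; abel
        rw [h4] at h3
        have h5 : x ∈ p (f t') := by
          have := (p (f t')).smul_mem (t - t')⁻¹ h3
          rwa [smul_smul, inv_mul_cancel₀ (sub_ne_zero.mpr hne'), one_smul] at this
        exact hx _ (f t').2 h5
      have h6 := Cardinal.lift_mk_le_lift_mk_of_injective hinj
      rw [Cardinal.mk_coe_finset, Cardinal.lift_natCast] at h6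
      have h7 := le_trans (Cardinal.lift_le.mpr hcard) h6
      rw [Cardinal.lift_natCast] at h7
      have h8 : s.card + 1 ≤ s.card := by exact_mod_cast h7
      omega
    · refine ⟨x, fun i hi => ?_⟩
      rcases Finset.mem_insert.mp hi with rfl | his
      · exact hxj
      · exact hx i his

/-- AV1: a vector space over a field with at least `k` elements is not a union of `k` proper subspaces. -/
theorem exists_not_mem_of_card_le {k : ℕ} (hK : (k : Cardinal) ≤ Cardinal.mk K) (W : Fin k → Submodule K V)
    (hW : ∀ i, W i ≠ ⊤) : ∃ v : V, ∀ i, v ∉ W i := by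
  obtain ⟨v, hv⟩ := av1_finset W Finset.univ (by simpa using hK) (fun i _ => hW i)
  exact ⟨v, fun i => hv i (Finset.mem_univ i)⟩

end Cfsg.Agent.Lib.Helper65.RU
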