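import Mathlib

/-! # S2522 leaf AV2 (helper25 for helper65): affine subspace avoidance -/

set_option autoImplicit false

namespace Cfsg.Agent.Lib.Helper65.RU

open Module

variable {K : Type*} [Field K]
variable {V : Type*} [AddCommGroup V] [Module K V]

theorem av2_finset {ι : Type*} (Φ : AffineSubspace K V) (hΦ : ∃ x, x ∈ Φ)
    (B : ι → AffineSubspace K V) (s : Finset ι) :
    (((s.card + 1 : ℕ)) : Cardinal) ≤ Cardinal.mk K → (∀ i ∈ s, ¬ Φ ≤ B i) →
    ∃ v ∈ Φ, ∀ i ∈ s, v ∉ B i := by
  classical
  induction s using Finset.induction_on with
  | empty =>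
    intro _ _
    obtain ⟨x, hx⟩ := hΦ
    exact ⟨x, hx, fun i hi => absurd hi (Finset.notMem_empty i)⟩
  | insert j s hj ih =>
    intro hcard hne
    rw [Finset.card_insert_of_notMem hj] at hcard
    have hcard' : (((s.card + 1 : ℕ)) : Cardinal) ≤ Cardinal.mk K := by
      refine le_trans ?_ hcard
      exact_mod_cast Nat.le_succ _
    obtain ⟨x, hxΦ, hx⟩ := ih hcard' (fun i hi => hne i (Finset.mem_insert_of_mem hi))
    by_cases hxj : x ∈ B j
    · -- take y ∈ Φ outside B j
      obtain ⟨y, hyΦ, hy⟩ : ∃ y ∈ Φ, y ∉ B j := by
        by_contra hcon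
        push Not at hcon
        exact hne j (Finset.mem_insert_self j s) (fun v hv => hcon v hv)
      have hzΦ : ∀ t : K, AffineMap.lineMap x y t ∈ Φ := fun t => AffineMap.lineMap_mem t hxΦ hyΦ
      -- a point of the line with t ≠ 0 is not in B j
      have hz : ∀ t : K, t ≠ 0 → AffineMap.lineMap x y t ∉ B j := by
        intro t ht hmem
        apply hy
        have h1 := AffineMap.lineMap_mem (Q := B j) t⁻¹ hxj hmem
        have h2 : AffineMap.lineMap x (AffineMap.lineMap x y t) t⁻¹ = y := by
          simp only [AffineMap.lineMap_apply_module']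
          rw [add_sub_cancel_right, smul_smul, inv_mul_cancel₀ ht, one_smul, sub_add_cancel]
        rwa [h2] at h1
      by_contra hcon
      push Not at hcon
      have hf : ∀ t : K, t ≠ 0 → ∃ i : s, AffineMap.lineMap x y t ∈ B i := by
        intro t ht
        obtain ⟨i, hi, hmem⟩ := hcon (AffineMap.lineMap x y t) (hzΦ t)
        rcases Finset.mem_insert.mp hi with rfl | his
        · exact absurd hmem (hz t ht)
        · exact ⟨⟨i, his⟩, hmem⟩
      choose f hf using hf
      let f' : K → Option s := fun t => if h : t = 0 then none else some (f t h)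
      have hinj : Function.Injective f' := by
        intro t t' htt
        by_cases h0 : t = 0
        · by_cases h0' : t' = 0
          · rw [h0, h0']
          · simp [f', h0, h0'] at htt
        · by_cases h0' : t' = 0
          · simp [f', h0, h0'] at htt
          · simp only [f', h0, h0', dite_false, Option.some.injEq] at htt
            by_contra hne'
            have h1 := hf t h0
            have h2 := hf t' h0'
            rw [htt] at h1
            -- x is on the line through the two points
            have h3 := AffineMap.lineMap_mem (Q := B (f t' h0')) (-t / (t' - t)) h1 h2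
            have h4 : AffineMap.lineMap (AffineMap.lineMap x y t) (AffineMap.lineMap x y t')
                (-t / (t' - t)) = x := by
              simp only [AffineMap.lineMap_apply_module']
              have hd : t' - t ≠ 0 := sub_ne_zero.mpr (Ne.symm hne')
              have e1 : t' • (y - x) + x - (t • (y - x) + x) = (t' - t) • (y - x) := by
                rw [sub_smul]; abel
              rw [e1, smul_smul, div_mul_cancel₀ _ hd, neg_smul]
              abel
            rw [h4] at h3
            exact hx _ (f t' h0').2 h3
      have h6 := Cardinal.lift_mk_le_lift_mk_of_injective hinj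
      rw [Cardinal.mk_option, Cardinal.mk_coe_finset] at h6
      have h7 := le_trans (Cardinal.lift_le.mpr hcard) h6
      rw [Cardinal.lift_natCast, Cardinal.lift_add, Cardinal.lift_natCast, Cardinal.lift_one] at h7
      have h8 : s.card + 1 + 1 ≤ s.card + 1 := by exact_mod_cast h7
      omega
    · refine ⟨x, hxΦ, fun i hi => ?_⟩
      rcases Finset.mem_insert.mp hi with rfl | his
      · exact hxj
      · exact hx i his

/-- AV2: an affine subspace over a field with at least four elements is not covered by three affine
subspaces none of which contains it. -/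
theorem exists_mem_not_mem_three (hK : 4 ≤ Cardinal.mk K) (Φ : AffineSubspace K V)
    (B : Fin 3 → AffineSubspace K V) (hB : ∀ i, ¬ Φ ≤ B i) : ∃ p ∈ Φ, ∀ i, p ∉ B i := by
  have hΦ : ∃ x, x ∈ Φ := by
    by_contra hcon
    push Not at hcon
    exact hB 0 (fun v hv => absurd hv (hcon v))
  obtain ⟨v, hvΦ, hv⟩ := av2_finset Φ hΦ B Finset.univ (by
    have : ((Finset.univ : Finset (Fin 3)).card + 1 : ℕ) = 4 := by simp
    rw [this]; exact_mod_cast hK) (fun i _ => hB i)
  exact ⟨v, hvΦ, fun i => hv i (Finset.mem_univ i)⟩

end Cfsg.Agent.Lib.Helper65.RU
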