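import Cfsg.Agent.Lib.Helper66.S3Defs

/-!
# C1B-G4 (S3 hive, S4305, sub-split of S3-C1B by helper32): `σ` is fixed-point-free on `H/F`
-/

set_option autoImplicit false
set_option linter.unusedVariables false
set_option linter.unusedSimpArgs false
set_option linter.unusedSectionVars false

namespace Cfsg.Agent.Lib.Helper66.S3

universe u

theorem c1bg4_sig_conj : ∀ a : A3, sig * a = a * sig ∨ sig * a = a * sig⁻¹ := by
  unfold sig
  decide

section c1b

variable {H V : Type u} [Group H] [CommGroup V] [MulDistribMulAction A3 H]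
  [MulDistribMulAction A3 V] [MulDistribMulAction H V] {p r : ℕ} {F : Subgroup H}

/-- the subgroup `{h | h⁻¹ (σ•h) ∈ F}` for a normal `F` -/
def c1bg4_S (F : Subgroup H) (hFn : F.Normal) : Subgroup H where
  carrier := {h | h⁻¹ * sig • h ∈ F}
  one_mem' := by
    show (1 : H)⁻¹ * sig • (1 : H) ∈ F
    rw [smul_one, inv_one, one_mul]
    exact F.one_mem
  mul_mem' := by
    intro x y hx hy
    show (x * y)⁻¹ * sig • (x * y) ∈ F
    have hx' : x⁻¹ * sig • x ∈ F := hx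
    have hy' : y⁻¹ * sig • y ∈ F := hy
    have h1 : y⁻¹ * (x⁻¹ * sig • x) * y⁻¹⁻¹ ∈ F := hFn.conj_mem _ hx' y⁻¹
    have e : (x * y)⁻¹ * sig • (x * y) = (y⁻¹ * (x⁻¹ * sig • x) * y⁻¹⁻¹) * (y⁻¹ * sig • y) := by
      rw [smul_mul']
      group
    rw [e]
    exact F.mul_mem h1 hy'
  inv_mem' := by
    intro x hx
    show (x⁻¹)⁻¹ * sig • x⁻¹ ∈ F
    have hx' : x⁻¹ * sig • x ∈ F := hx
    have h1 : x * (x⁻¹ * sig • x)⁻¹ * x⁻¹ ∈ F := hFn.conj_mem _ (F.inv_mem hx') x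
    have e : (x⁻¹)⁻¹ * sig • x⁻¹ = x * (x⁻¹ * sig • x)⁻¹ * x⁻¹ := by
      rw [smul_inv']
      group
    rw [e]
    exact h1

theorem c1bg4_mem_S (F : Subgroup H) (hFn : F.Normal) (h : H) :
    h ∈ c1bg4_S F hFn ↔ h⁻¹ * sig • h ∈ F := Iff.rfl

/-- C1B-G4: `σ` is fixed-point-free on `H/F`. -/
theorem c1b_sig_fpf (cfg : Config H V p r F) (hs : ¬ ∀ h : H, h⁻¹ * sig • h ∈ F) :
    ∀ h : H, h⁻¹ * sig • h ∈ F → h ∈ F := by
  have hFn := cfg.Fnormal
  have hFS : F ≤ c1bg4_S F hFn := by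
    intro f hf
    rw [c1bg4_mem_S]
    exact F.mul_mem (F.inv_mem hf) (cfg.FA sig f hf)
  have hinv : ∀ a : A3, ∀ m ∈ c1bg4_S F hFn, a • m ∈ c1bg4_S F hFn := by
    intro a m hm
    rw [c1bg4_mem_S] at hm ⊢
    rcases c1bg4_sig_conj a with hc | hc
    · have e : (a • m)⁻¹ * sig • a • m = a • (m⁻¹ * sig • m) := by
        rw [← mul_smul, hc, mul_smul, smul_mul', smul_inv']
      rw [e]
      exact cfg.FA a _ hm
    · have e : (a • m)⁻¹ * sig • a • m = a • (sig⁻¹ • ((m⁻¹ * sig • m)⁻¹)) := by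
        rw [← mul_smul, hc, mul_smul]
        have e2 : sig⁻¹ • ((m⁻¹ * sig • m)⁻¹) = m⁻¹ * sig⁻¹ • m := by
          rw [mul_inv_rev, inv_inv, smul_mul', smul_inv', ← mul_smul, inv_mul_cancel, one_smul]
        rw [e2, smul_mul', smul_inv']
      rw [e]
      exact cfg.FA a _ (cfg.FA sig⁻¹ _ (F.inv_mem hm))
  rcases cfg.quot_irr (c1bg4_S F hFn) hFS hinv with h1 | h1
  · intro h hh
    have : h ∈ c1bg4_S F hFn := (c1bg4_mem_S F hFn h).2 hh
    rw [h1] at this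
    exact this
  · exfalso
    apply hs
    intro h
    have : h ∈ c1bg4_S F hFn := by rw [h1]; exact Subgroup.mem_top h
    exact (c1bg4_mem_S F hFn h).1 this

end c1b

end Cfsg.Agent.Lib.Helper66.S3
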