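import Cfsg.Agent.Lib.Helper3.CohUnion
import Cfsg.Agent.S1517
import Cfsg.Agent.S1516

set_option autoImplicit false
set_option linter.unusedSectionVars false
set_option linter.style.haveILetI false

/-!
Abstract part of Sibley's coherence theorem (Peterfalvi (6.8)).
-/

namespace Cfsg.Agent.Lib.Helper25

open Cfsg
open scoped ComplexConjugate

section SibleyA

variable {L : Type*} [Group L] [Fintype L] {G : Type*} [Group G] [Fintype G]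

/-- A member of `R ψ` is orthogonal to the image of a coherent subset not containing `ψ`. -/
theorem phi_orth_tau2 {S S₂ : Set (L → ℂ)} {τ τ₂ : (L → ℂ) → (G → ℂ)}
    {R : (L → ℂ) → Finset (G → ℂ)} (hS : IsCoherenceSystem S τ R)
    (hS₂S : S₂ ⊆ S) (hS₂c : ∀ φ ∈ S₂, conjFun φ ∈ S₂)
    (hirr : ∀ χ ∈ S₂, IsIrrCharacter L χ)
    (hτ₂ : IsLinearIsometryOn (zspan S₂) τ₂)
    (hag : ∀ α ∈ zspanOn S₂ ({1}ᶜ : Set L), τ₂ α = τ α)
    {ψ : L → ℂ} (hψ : ψ ∈ S) (hψ₂ : ψ ∉ S₂) {Φ : G → ℂ} (hΦ : Φ ∈ R ψ)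
    {χ' : L → ℂ} (hχ' : χ' ∈ S₂) : classInner Φ (τ₂ χ') = 0 := by
  classical
  have hχ'S : χ' ∈ S := hS₂S hχ'
  have hcχ' : conjFun χ' ∈ S₂ := hS₂c χ' hχ'
  have hne1 : χ' ≠ ψ := fun h => hψ₂ (h ▸ hχ')
  have hne2 : χ' ≠ conjFun ψ := by
    intro h
    apply hψ₂
    have := hS₂c χ' hχ'
    rwa [h, conjFun_conjFun] at this
  have hΦg : IsGeneralizedCharacter G Φ := hS.virtual ψ hψ Φ hΦ
  have hΦ1 : classInner Φ Φ = 1 := by
    rw [hS.orthonormal ψ hψ Φ hΦ Φ hΦ, if_pos rfl]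
  -- `Φ` is orthogonal to `τ (χ' - conj χ')`
  have horth : classInner (τ (χ' - conjFun χ')) Φ = 0 := by
    rw [hS.sum_eq χ' hχ'S, classInner_sum_left]
    apply Finset.sum_eq_zero
    intro α hα
    exact Cfsg.Agent.S1517.R_orth hS hψ hχ'S hne1 hne2 α hα Φ hΦ
  have hdiff : χ' - conjFun χ' ∈ zspanOn S₂ ({1}ᶜ : Set L) :=
    Cfsg.Agent.S1516.sub_conj_mem hS hS₂S hS₂c hχ'
  have hτdiff : τ (χ' - conjFun χ') = τ₂ χ' - τ₂ (conjFun χ') := by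
    rw [← hag _ hdiff]
    exact isometryOn_map_sub hτ₂ (fun f hf => zspan_neg hf) (subset_zspan hχ') (subset_zspan hcχ')
  have hQg : IsGeneralizedCharacter G (τ₂ χ') := hτ₂.2.2.2 χ' (subset_zspan hχ')
  have hχ'irr := hirr χ' hχ'
  have hQ1 : classInner (τ₂ χ') (τ₂ χ') = 1 := by
    rw [hτ₂.2.2.1 χ' (subset_zspan hχ') χ' (subset_zspan hχ'),
      Cfsg.Agent.Lib.Helper3.classInner_irr hχ'irr hχ'irr, if_pos rfl]
  obtain ⟨-, h0 | ⟨ε, hε, hQ, hPQ⟩⟩ := Cfsg.Agent.Lib.Helper3.norm_one_pair hΦg hQg hΦ1 hQ1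
  · exact h0
  · exfalso
    have hcne : conjFun χ' ≠ χ' := hS.conj_ne χ' hχ'S
    have h1 : classInner (τ₂ (conjFun χ')) (τ₂ χ') = 0 := by
      rw [hτ₂.2.2.1 _ (subset_zspan hcχ') _ (subset_zspan hχ'),
        Cfsg.Agent.Lib.Helper3.classInner_irr (hirr _ hcχ') hχ'irr, if_neg hcne]
    have h2 : classInner (τ₂ (conjFun χ')) Φ = 0 := by
      rw [hQ, classInner_smul_right] at h1
      have hε0 : conj ε ≠ 0 := by
        rcases hε with h | h <;> rw [h] <;> simp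
      exact (mul_eq_zero.mp h1).resolve_left hε0
    have h3 : classInner (τ₂ χ') Φ = ε := by
      rw [hQ, classInner_smul_left, hΦ1, mul_one]
    rw [hτdiff, classInner_sub_left, h3, h2, sub_zero] at horth
    rcases hε with h | h <;> rw [h] at horth <;> simp at horth

/-- The multiplicities of a vector orthogonal to the image of a coherent set `S₂` in the
induced characters are proportional to the degrees. -/
theorem exists_prop_const {S₂ : Set (L → ℂ)} {τ τ₂ : (L → ℂ) → (G → ℂ)}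
    (hτsub : ∀ f g : L → ℂ, τ (f - g) = τ f - τ g)
    (hτsmul : ∀ (n : ℤ) (f : L → ℂ), τ (n • f) = n • τ f)
    (hdeg : ∀ χ ∈ S₂, ∃ n : ℕ, 0 < n ∧ χ 1 = (n : ℂ))
    (hτ₂ : IsLinearIsometryOn (zspan S₂) τ₂)
    (hag : ∀ α ∈ zspanOn S₂ ({1}ᶜ : Set L), τ₂ α = τ α)
    (Φ : G → ℂ) (hb : ∀ χ' ∈ S₂, classInner Φ (τ₂ χ') = 0) :
    ∃ c : ℂ, ∀ χ' ∈ S₂, classInner Φ (τ χ') = c * χ' 1 := by
  by_cases hne : S₂.Nonempty
  · obtain ⟨χ₀, hχ₀⟩ := hne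
    obtain ⟨n₀, hn₀, hd₀⟩ := hdeg χ₀ hχ₀
    have hn₀c : (n₀ : ℂ) ≠ 0 := by exact_mod_cast hn₀.ne'
    refine ⟨classInner Φ (τ χ₀) / n₀, ?_⟩
    intro χ' hχ'
    obtain ⟨n', hn', hd'⟩ := hdeg χ' hχ'
    have hmem : (n₀ : ℤ) • χ' - (n' : ℤ) • χ₀ ∈ zspanOn S₂ ({1}ᶜ : Set L) := by
      rw [mem_zspanOn_one]
      refine ⟨zspan_sub (zspan_zsmul (subset_zspan hχ') _) (zspan_zsmul (subset_zspan hχ₀) _), ?_⟩
      rw [Pi.sub_apply, Pi.smul_apply, Pi.smul_apply, hd', hd₀, zsmul_eq_mul, zsmul_eq_mul]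
      push_cast; ring
    have h1 : τ₂ ((n₀ : ℤ) • χ' - (n' : ℤ) • χ₀) = (n₀ : ℤ) • τ₂ χ' - (n' : ℤ) • τ₂ χ₀ := by
      rw [isometryOn_map_sub hτ₂ (fun f hf => zspan_neg hf) (zspan_zsmul (subset_zspan hχ') _)
        (zspan_zsmul (subset_zspan hχ₀) _), hτ₂.2.1 _ (subset_zspan hχ'),
        hτ₂.2.1 _ (subset_zspan hχ₀)]
    have h2 : classInner Φ (τ₂ ((n₀ : ℤ) • χ' - (n' : ℤ) • χ₀)) = 0 := by
      rw [h1, classInner_sub_right, classInner_zsmul_right, classInner_zsmul_right,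
        hb χ' hχ', hb χ₀ hχ₀]
      ring
    rw [hag _ hmem, hτsub, hτsmul, hτsmul, classInner_sub_right, classInner_zsmul_right,
      classInner_zsmul_right] at h2
    rw [hd']
    have h3 : ((n₀ : ℤ) : ℂ) * classInner Φ (τ χ') = ((n' : ℤ) : ℂ) * classInner Φ (τ χ₀) :=
      sub_eq_zero.mp h2
    push_cast at h3
    field_simp
    linear_combination h3
  · refine ⟨0, ?_⟩
    intro χ' hχ'
    exact absurd ⟨χ', hχ'⟩ hne

end SibleyA

end Cfsg.Agent.Lib.Helper25
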