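import Mathlib.Tactic

set_option autoImplicit false

namespace Cfsg.Agent.Lib.Helper25

theorem sibley_arith1 (N q e a₁ : ℤ) (hq : (q - 1) * a₁ ^ 2 ≤ e * N) (he : 2 * e ≤ q - 1)
    (he3 : 3 ≤ e) : 2 * a₁ ^ 2 ≤ N := by
  have h1 : 2 * e * a₁ ^ 2 ≤ (q - 1) * a₁ ^ 2 :=
    mul_le_mul_of_nonneg_right he (sq_nonneg a₁)
  have h3 : e * (2 * a₁ ^ 2) ≤ e * N := by linarith
  exact le_of_mul_le_mul_left h3 (by linarith)

theorem sibley_arith2 (N D : ℤ) (hN0 : 0 < N) (h3 : (N - D) ^ 2 + D ^ 2 ≤ N ^ 2) : 0 ≤ D := by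
  by_contra hneg
  push Not at hneg
  have h1 : 0 < -D := by linarith
  have h2 : 0 < (-D) * N := mul_pos h1 hN0
  have h4 : 0 ≤ D ^ 2 := sq_nonneg D
  have e : (N - D) ^ 2 + D ^ 2 = N ^ 2 + 2 * ((-D) * N) + 2 * D ^ 2 := by ring
  linarith

theorem sibley_arith3 (N D a₁ : ℤ) (hN14 : 14 ≤ N) (hdvd : N ∣ D - a₁)
    (h2 : 2 * a₁ ^ 2 ≤ N) (hD0 : 0 ≤ D) (hD : 2 * D ≤ N) : D = a₁ := by
  have hN0 : 0 < N := by linarith
  obtain ⟨k, hk⟩ := hdvd
  have ha1u : 2 * a₁ < N := by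
    by_contra h
    push Not at h
    have h0 : 0 ≤ N := by linarith
    have h3 : N * N ≤ (2 * a₁) * (2 * a₁) := mul_le_mul h h h0 (by linarith)
    nlinarith
  have ha1l : -N < 2 * a₁ := by
    by_contra h
    push Not at h
    have h0 : 0 ≤ N := by linarith
    have h3 : N * N ≤ (-(2 * a₁)) * (-(2 * a₁)) :=
      mul_le_mul (by linarith) (by linarith) h0 (by linarith)
    nlinarith
  have h4 : -N < 2 * (N * k) := by rw [← hk]; linarith
  have h5 : 2 * (N * k) < 2 * N := by rw [← hk]; linarith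
  have h6 : -1 < 2 * k := by
    by_contra h
    push Not at h
    have : N * (2 * k) ≤ N * (-1) := mul_le_mul_of_nonneg_left h (by linarith)
    linarith
  have h7 : 2 * k < 2 := by
    by_contra h
    push Not at h
    have : N * 2 ≤ N * (2 * k) := mul_le_mul_of_nonneg_left h (by linarith)
    linarith
  have hk0 : k = 0 := by omega
  rw [hk0, mul_zero] at hk
  linarith

theorem sibley_arith4 (N q D a x : ℤ) (hN14 : 14 ≤ N) (hq7 : 7 ≤ q) (haq : a ^ 2 * q ≤ N)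
    (ha : 1 ≤ a) (hD0 : 0 ≤ D) (h5 : 2 * D ^ 2 ≤ N)
    (hB : (N - D) ^ 2 + D ^ 2 + (x * N - a * D) ^ 2 ≤ N ^ 2) : x = 0 := by
  have hN0 : 0 < N := by linarith
  by_contra hx
  have haD0 : 0 ≤ a * D := mul_nonneg (by linarith) hD0
  have h6 : 14 * (a * D) ^ 2 ≤ N ^ 2 := by
    have h61 : (a ^ 2 * q) * (2 * D ^ 2) ≤ N * N :=
      mul_le_mul haq h5 (by positivity) (by linarith)
    have h62 : 14 * (a * D) ^ 2 ≤ (a ^ 2 * q) * (2 * D ^ 2) := by
      have h0 : 0 ≤ (a * D) ^ 2 := sq_nonneg _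
      have e : (a ^ 2 * q) * (2 * D ^ 2) = 2 * q * (a * D) ^ 2 := by ring
      rw [e]
      exact mul_le_mul_of_nonneg_right (by linarith) h0
    calc 14 * (a * D) ^ 2 ≤ _ := h62
      _ ≤ N * N := h61
      _ = N ^ 2 := by ring
  have h7 : 3 * (a * D) ≤ N := by
    by_contra h
    push Not at h
    have h0 : N * N ≤ (3 * (a * D)) * (3 * (a * D)) :=
      mul_le_mul h.le h.le (by linarith) (by linarith)
    have h1 : 0 ≤ (a * D) ^ 2 := sq_nonneg _
    have h2 : 0 < (a * D) := by linarith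
    have h3 : 0 < (a * D) ^ 2 := by positivity
    nlinarith
  have h8 : 4 * N ^ 2 ≤ 9 * (x * N - a * D) ^ 2 := by
    rcases lt_or_gt_of_ne hx with hneg | hpos
    · have hx1 : x ≤ -1 := by omega
      have h1 : x * N ≤ (-1) * N := mul_le_mul_of_nonneg_right hx1 hN0.le
      have h2 : N ≤ -(x * N - a * D) := by linarith
      have h3 : N * N ≤ (-(x * N - a * D)) * (-(x * N - a * D)) :=
        mul_le_mul h2 h2 hN0.le (by linarith)
      nlinarith
    · have hx1 : 1 ≤ x := by omega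
      have h1 : 1 * N ≤ x * N := mul_le_mul_of_nonneg_right hx1 hN0.le
      have h2 : 2 * N ≤ 3 * (x * N - a * D) := by linarith
      have h3 : (2 * N) * (2 * N) ≤ (3 * (x * N - a * D)) * (3 * (x * N - a * D)) :=
        mul_le_mul h2 h2 (by linarith) (by linarith)
      nlinarith
  have h9 : (x * N - a * D) ^ 2 ≤ 2 * N * D := by
    have e : (N - D) ^ 2 + D ^ 2 = N ^ 2 - 2 * N * D + 2 * D ^ 2 := by ring
    have h0 : 0 ≤ D ^ 2 := sq_nonneg D
    linarith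
  have h10 : 2 * N ≤ 9 * D := by
    have h0 : 4 * N ^ 2 ≤ 18 * N * D := by linarith
    by_contra h
    push Not at h
    have h1 : N * (9 * D) < N * (2 * N) := mul_lt_mul_of_pos_left h hN0
    nlinarith
  have h11 : 4 * N ^ 2 ≤ 81 * D ^ 2 := by
    have h0 : (2 * N) * (2 * N) ≤ (9 * D) * (9 * D) :=
      mul_le_mul h10 h10 (by linarith) (by linarith)
    nlinarith
  have h12 : 8 * N ^ 2 ≤ 81 * N := by linarith
  have h13 : N * (8 * N) ≤ N * 81 := by nlinarith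
  have h14 : 8 * N ≤ 81 := le_of_mul_le_mul_left h13 hN0
  linarith

/-- The arithmetic heart of Sibley's theorem. -/
theorem sibley_arith (N q e D a₁ a x : ℤ) (hdvd : N ∣ D - a₁)
    (hq : (q - 1) * a₁ ^ 2 ≤ e * N) (he : 2 * e ≤ q - 1) (he3 : 3 ≤ e)
    (haq : a ^ 2 * q ≤ N) (ha : 1 ≤ a) (hNq : 2 * q ≤ N)
    (hB : (N - D) ^ 2 + D ^ 2 + (x * N - a * D) ^ 2 ≤ N ^ 2) (hD : 2 * D ≤ N) : x = 0 := by
  have hq7 : 7 ≤ q := by linarith
  have hN14 : 14 ≤ N := by linarith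
  have hN0 : 0 < N := by linarith
  have h2 : 2 * a₁ ^ 2 ≤ N := sibley_arith1 N q e a₁ hq he he3
  have h3 : (N - D) ^ 2 + D ^ 2 ≤ N ^ 2 := by
    have := sq_nonneg (x * N - a * D)
    linarith
  have hD0 : 0 ≤ D := sibley_arith2 N D hN0 h3
  have hDa : D = a₁ := sibley_arith3 N D a₁ hN14 hdvd h2 hD0 hD
  have h5 : 2 * D ^ 2 ≤ N := by rw [hDa]; exact h2
  exact sibley_arith4 N q D a x hN14 hq7 haq ha hD0 h5 hB

end Cfsg.Agent.Lib.Helper25
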