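import Cfsg.Agent.Lib.Helper25.Dade
import Cfsg.Agent.Lib.Helper25.InnerTools
import Cfsg.Prelude.Def_OddOrderLocal

set_option autoImplicit false
set_option linter.unusedSectionVars false
set_option linter.style.haveILetI false

/-!
Induction from the normalizer `L` of a TI-subgroup `H` of `G`.
-/

namespace Cfsg.Agent.Lib.Helper25

open Cfsg
open scoped ComplexConjugate

section Normal

variable {L : Type*} [Group L] [Fintype L]

theorem indFun_normal_of_not_mem (K : Subgroup L) [hK : K.Normal] (θ : K → ℂ) {x : L}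
    (hx : x ∉ K) : indFun K θ x = 0 := by
  rw [indFun_apply, Finset.sum_eq_zero, mul_zero]
  intro y _
  apply extendByZero_of_not_mem
  intro h
  apply hx
  have := hK.conj_mem _ h y
  have e : y * (y⁻¹ * x * y) * y⁻¹ = x := by group
  rwa [e] at this

end Normal

section TI

variable {G : Type*} [Group G] [Fintype G] (H L : Subgroup G) [Fintype L]

/-- values of a function induced from `L = N_G(H)` on the non-identity elements of the
TI-subgroup `H` -/
theorem ti_indFun_apply (hTI : IsTISubset (H : Set G))
    (hN : Subgroup.normalizer (H : Set G) = L)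
    (f : L → ℂ) (hf : IsClassFunction L f) (hf0 : ∀ x : L, (x : G) ∉ H → f x = 0)
    (h : L) (hh : (h : G) ∈ H) (hh1 : h ≠ 1) : indFun L f (h : G) = f h := by
  classical
  rw [indFun_apply]
  have hterm : ∀ x : G, extendByZero L f (x⁻¹ * (h : G) * x) = if x ∈ L then f h else 0 := by
    intro x
    by_cases hx : x ∈ L
    · rw [if_pos hx]
      have hmem : x⁻¹ * (h : G) * x ∈ L := L.mul_mem (L.mul_mem (L.inv_mem hx) h.2) hx
      rw [extendByZero_of_mem L f hmem]
      have e : (⟨x⁻¹ * (h : G) * x, hmem⟩ : L) = (⟨x, hx⟩ : L)⁻¹ * h * ((⟨x, hx⟩ : L)⁻¹)⁻¹ := by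
        apply Subtype.ext
        simp
      rw [e, hf]
    · rw [if_neg hx]
      by_cases hmem : x⁻¹ * (h : G) * x ∈ L
      · rw [extendByZero_of_mem L f hmem]
        apply hf0
        intro hH
        apply hh1
        have hxN : x⁻¹ ∉ Subgroup.normalizer (H : Set G) := by
          rw [hN]
          intro h'
          exact hx (by simpa using L.inv_mem h')
        have := hTI x⁻¹ hxN (h : G) hh (by simpa using hH)
        exact Subtype.ext this
      · exact extendByZero_of_not_mem L f hmem
  rw [Finset.sum_congr rfl (fun x _ => hterm x), sum_ite_mem_const]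
  have hL : (Nat.card L : ℂ) ≠ 0 := by exact_mod_cast Nat.card_pos.ne'
  field_simp

/-- inner products of induced functions in the TI situation -/
theorem ti_inner_ind (hTI : IsTISubset (H : Set G))
    (hN : Subgroup.normalizer (H : Set G) = L)
    (f f' : L → ℂ) (hf' : IsClassFunction L f') (hf'0 : ∀ x : L, (x : G) ∉ H → f' x = 0)
    (hf0 : ∀ x : L, (x : G) ∉ H → f x = 0) (hf1 : f 1 = 0) :
    classInner (indFun L f) (indFun L f') = classInner f f' := by
  rw [frobenius_reciprocity L f _ (indFun_isClassFunction L f'), classInner_def, classInner_def]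
  congr 1
  apply Finset.sum_congr rfl
  intro x _
  by_cases hx1 : x = 1
  · rw [hx1, hf1, zero_mul, zero_mul]
  · by_cases hxH : (x : G) ∈ H
    · rw [ti_indFun_apply H L hTI hN f' hf' hf'0 x hxH hx1]
    · rw [hf0 x hxH, zero_mul, zero_mul]

open Classical in
/-- the truncation of a class function of norm one to `H ∖ 1` has norm at most one -/
theorem ti_trunc_norm_le (hTI : IsTISubset (H : Set G))
    (hN : Subgroup.normalizer (H : Set G) = L)
    (hHn : ∀ x : L, ∀ y : L, (y : G) ∈ H → ((x * y * x⁻¹ : L) : G) ∈ H)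
    (Φ : G → ℂ) (hΦ : IsClassFunction G Φ) (hΦ1 : classInner Φ Φ = 1)
    (β : L → ℂ) (hβ : ∀ x : L, β x = if (x : G) ∈ H ∧ x ≠ 1 then Φ x else 0) :
    (classInner β β).re ≤ 1 := by
  classical
  have hβcf : IsClassFunction L β := by
    intro g y
    rw [hβ, hβ]
    have h1 : ((y * g * y⁻¹ : L) : G) ∈ H ↔ (g : G) ∈ H := by
      constructor
      · intro h
        have := hHn y⁻¹ _ h
        have e : y⁻¹ * (y * g * y⁻¹) * y⁻¹⁻¹ = g := by group
        rwa [e] at this
      · exact hHn y g
    have h2 : y * g * y⁻¹ ≠ 1 ↔ g ≠ 1 := by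
      rw [not_iff_not]
      constructor
      · intro h
        calc g = y⁻¹ * (y * g * y⁻¹) * y := by group
          _ = 1 := by rw [h]; group
      · intro h; rw [h]; group
    have h3 : Φ ((y * g * y⁻¹ : L) : G) = Φ (g : G) := by
      have := hΦ (g : G) (y : G)
      simpa using this
    have h4 : (((y * g * y⁻¹ : L) : G) ∈ H ∧ y * g * y⁻¹ ≠ 1) ↔ ((g : G) ∈ H ∧ g ≠ 1) := by
      rw [h1, h2]
    rw [h3]
    exact if_congr h4 rfl rfl
  have hβ0 : ∀ x : L, (x : G) ∉ H → β x = 0 := by
    intro x hx
    rw [hβ, if_neg (fun h => hx h.1)]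
  have hβ1 : β 1 = 0 := by
    rw [hβ, if_neg (fun h => h.2 rfl)]
  have h1 : classInner (indFun L β) (indFun L β) = classInner β β :=
    ti_inner_ind H L hTI hN β β hβcf hβ0 hβ0 hβ1
  have h2 : classInner (indFun L β) Φ = classInner β β := by
    rw [frobenius_reciprocity L β Φ hΦ, classInner_def, classInner_def]
    congr 1
    apply Finset.sum_congr rfl
    intro x _
    rw [hβ x]
    by_cases hc : (x : G) ∈ H ∧ x ≠ 1
    · rw [if_pos hc]
    · rw [if_neg hc, zero_mul, zero_mul]
  have h3 : classInner Φ (indFun L β) = conj (classInner β β) := by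
    rw [← classInner_conj_symm, h2]
  have h4 : classInner (Φ - indFun L β) (Φ - indFun L β) = 1 - conj (classInner β β) := by
    rw [classInner_sub_left, classInner_sub_right, classInner_sub_right, hΦ1, h1, h2, h3]
    ring
  have h5 := classInner_self_re_nonneg (Φ - indFun L β)
  rw [h4] at h5
  simp only [Complex.sub_re, Complex.one_re, Complex.conj_re] at h5
  linarith

end TI

end Cfsg.Agent.Lib.Helper25
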