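import Cfsg.Agent.Lib.Helper25.ConstOn
import Cfsg.Agent.Lib.Helper25.ConstMod
import Cfsg.Agent.Lib.Helper25.TIFrob
import Cfsg.Agent.S1529

set_option autoImplicit false
set_option linter.unusedSectionVars false
set_option linter.style.haveILetI false

/-!
Concrete part of Sibley's coherence theorem: congruences for a constituent `Φ`.
-/

namespace Cfsg.Agent.Lib.Helper25

open Cfsg
open scoped ComplexConjugate

section SibleyB

variable {G : Type*} [Group G] [Fintype G] (H L : Subgroup G) [Fintype L]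

/-- `Φ` is constant on `Z ∖ 1` and congruent modulo `|H|` to its degree. -/
theorem phi_const_mod
    (hHL : H ≤ L) (hTI : IsTISubset (H : Set G)) (hN : Subgroup.normalizer (H : Set G) = L)
    (hodd : Odd (Nat.card L))
    (hHall : ∀ v ∈ H, ∀ x : G, x⁻¹ * v * x ∈ L → x⁻¹ * v * x ∈ H)
    (Z : Subgroup L) [hZn : Z.Normal] (hZ1 : Z ≠ ⊥) (hZK : Z ≤ H.subgroupOf L)
    (hZc : ∀ z ∈ Z, ∀ k ∈ H.subgroupOf L, z * k = k * z)
    (Φ : G → ℂ) (hΦg : IsGeneralizedCharacter G Φ) (hΦ1 : classInner Φ Φ = 1)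
    (c : ℂ) (hc : ∀ χ : L → ℂ, IsIrrCharacter L χ → (∃ z ∈ Z, χ z ≠ χ 1) →
      classInner Φ (indFun L χ) = c * χ 1) :
    ∃ a₁ d : ℤ, Φ 1 = d ∧ (∀ z ∈ Z, z ≠ 1 → Φ (z : G) = a₁) ∧ (Nat.card H : ℤ) ∣ d - a₁ := by
  classical
  have hΦcf : IsClassFunction G Φ := IsGeneralizedCharacter.isClassFunction hΦg
  set Ψ : L → ℂ := fun x => Φ x with hΨdef
  have hΨ : IsClassFunction L Ψ := by
    intro g y
    have := hΦcf (g : G) (y : G)
    simpa [hΨdef] using this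
  have hconstL : ∀ z ∈ Z, ∀ z' ∈ Z, z ≠ 1 → z' ≠ 1 → Ψ z = Ψ z' := by
    intro z hz z' hz' hz1 hz'1
    refine const_of_inner_prop (Z : Set L) Ψ hΨ c ?_ hz hz' hz1 hz'1
    intro χ hχ
    rw [← frobenius_reciprocity' L (χ : L → ℂ) Φ hΦcf]
    exact hc χ χ.2 hχ
  obtain ⟨ε, μ, hε, hμ, hΦμ⟩ := Cfsg.Agent.S1529.genChar_norm_one hΦg hΦ1
  have hε0 : ε ≠ 0 := by rcases hε with h | h <;> rw [h] <;> simp
  have hval : ∀ g : G, Φ g = ε * μ g := fun g => by rw [hΦμ]; rfl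
  -- a non-identity element of `Z`
  obtain ⟨z₀, hz₀, hz₀1⟩ : ∃ z₀ ∈ Z, z₀ ≠ 1 := by
    by_contra h
    push Not at h
    apply hZ1
    rw [eq_bot_iff]
    intro z hz
    rw [Subgroup.mem_bot]
    exact h z hz
  set ZG : Subgroup G := Z.map L.subtype with hZG
  have hmemZG : ∀ z : G, z ∈ ZG ↔ ∃ hz : z ∈ L, (⟨z, hz⟩ : L) ∈ Z := by
    intro z
    rw [hZG, Subgroup.mem_map]
    constructor
    · rintro ⟨z', hz', rfl⟩
      exact ⟨z'.2, hz'⟩
    · rintro ⟨hz, hz'⟩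
      exact ⟨⟨z, hz⟩, hz', rfl⟩
  have hconstG : ∀ z ∈ ZG, ∀ z' ∈ ZG, z ≠ 1 → z' ≠ 1 → μ z = μ z' := by
    intro z hz z' hz' hz1 hz'1
    obtain ⟨hzL, hzZ⟩ := (hmemZG z).mp hz
    obtain ⟨hz'L, hz'Z⟩ := (hmemZG z').mp hz'
    have h1 := hconstL ⟨z, hzL⟩ hzZ ⟨z', hz'L⟩ hz'Z
      (fun h => hz1 (congrArg Subtype.val h)) (fun h => hz'1 (congrArg Subtype.val h))
    have h2 : Φ z = Φ z' := h1
    rw [hval, hval] at h2
    exact mul_left_cancel₀ hε0 h2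
  have hz₀G : (z₀ : G) ∈ ZG := (hmemZG _).mpr ⟨z₀.2, hz₀⟩
  have hz₀G1 : (z₀ : G) ≠ 1 := fun h => hz₀1 (Subtype.ext h)
  obtain ⟨n, d, hn, hd, hdvd⟩ := const_mod_hall H hTI (by rw [hN]; exact hodd)
    (by rw [hN]; exact hHall) ZG
    (by
      intro z hz
      obtain ⟨hzL, hzZ⟩ := (hmemZG z).mp hz
      exact Subgroup.mem_subgroupOf.mp (hZK hzZ))
    (by
      intro x hx z hz
      rw [hN] at hx
      obtain ⟨hzL, hzZ⟩ := (hmemZG z).mp hz
      rw [hmemZG]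
      refine ⟨L.mul_mem (L.mul_mem hx hzL) (L.inv_mem hx), ?_⟩
      have := hZn.conj_mem _ hzZ ⟨x, hx⟩
      exact this)
    (by
      intro z hz y hy
      obtain ⟨hzL, hzZ⟩ := (hmemZG z).mp hz
      have := hZc ⟨z, hzL⟩ hzZ ⟨y, hHL hy⟩ (Subgroup.mem_subgroupOf.mpr hy)
      exact congrArg Subtype.val this)
    μ hμ hconstG (z₀ : G) hz₀G hz₀G1
  have hall : ∀ z ∈ Z, z ≠ 1 → Φ (z : G) = ε * n := by
    intro z hz hz1
    rw [hval, ← hn]
    congr 1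
    exact hconstG _ ((hmemZG _).mpr ⟨z.2, hz⟩) _ hz₀G (fun h => hz1 (Subtype.ext h)) hz₀G1
  rcases hε with h | h
  · refine ⟨n, d, ?_, ?_, hdvd⟩
    · rw [hval, hd, h, one_mul]
    · intro z hz hz1
      rw [hall z hz hz1, h, one_mul]
  · refine ⟨-n, -d, ?_, ?_, ?_⟩
    · rw [hval, hd, h]; push_cast; ring
    · intro z hz hz1
      rw [hall z hz hz1, h]; push_cast; ring
    · have : -d - -n = -(d - n) := by ring
      rw [this]
      exact (dvd_neg).mpr hdvd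

end SibleyB

end Cfsg.Agent.Lib.Helper25
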