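import Cfsg.Agent.Lib.Helper25.TIFrob
import Cfsg.Agent.Lib.Helper3.CharBasic

set_option autoImplicit false
set_option linter.unusedSectionVars false
set_option linter.style.haveILetI false

/-!
Bessel-type inequalities for the truncation of `Φ` to `H ∖ 1`.
-/

namespace Cfsg.Agent.Lib.Helper25

open Cfsg
open scoped ComplexConjugate

section SibleyC

variable {G : Type*} [Group G] [Fintype G] (H L : Subgroup G) [Fintype L]

open Classical in
/-- The truncation of `Φ` to `H ∖ 1`. -/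
noncomputable def truncFun (Φ : G → ℂ) : L → ℂ :=
  fun x => if (x : G) ∈ H ∧ x ≠ 1 then Φ x else 0

open Classical in
theorem truncFun_apply (Φ : G → ℂ) (x : L) :
    truncFun H L Φ x = if (x : G) ∈ H ∧ x ≠ 1 then Φ x else 0 := rfl

/-- inner product of the truncation with a class function vanishing off `H` -/
theorem classInner_truncFun (Φ : G → ℂ) (hΦcf : IsClassFunction G Φ) (χ : L → ℂ)
    (hχ0 : ∀ x : L, (x : G) ∉ H → χ x = 0) :
    classInner (truncFun H L Φ) χ =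
      classInner Φ (indFun L χ) - (Nat.card L : ℂ)⁻¹ * (Φ 1 * conj (χ 1)) := by
  classical
  rw [frobenius_reciprocity' L χ Φ hΦcf, classInner_def, classInner_def, ← mul_sub]
  congr 1
  have h1 : ∑ x : L, truncFun H L Φ x * conj (χ x) =
      ∑ x ∈ Finset.univ.erase (1 : L), Φ x * conj (χ x) := by
    rw [← Finset.sum_erase_add _ _ (Finset.mem_univ (1 : L)), truncFun_apply,
      if_neg (fun h => h.2 rfl), zero_mul, add_zero]
    apply Finset.sum_congr rfl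
    intro x hx
    have hx1 : x ≠ 1 := (Finset.mem_erase.mp hx).1
    rw [truncFun_apply]
    by_cases hxH : (x : G) ∈ H
    · rw [if_pos ⟨hxH, hx1⟩]
    · rw [hχ0 x hxH, map_zero, mul_zero, mul_zero]
  have h2 : ∑ x : L, (fun h : L => Φ h) x * conj (χ x) =
      ∑ x ∈ Finset.univ.erase (1 : L), Φ x * conj (χ x) + Φ 1 * conj (χ 1) :=
    (Finset.sum_erase_add (a := (1 : L)) Finset.univ (fun x : L => Φ x * conj (χ x))
      (Finset.mem_univ (1 : L))).symm
  rw [h1, h2]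
  ring

/-- Bessel inequality for the truncation -/
theorem bessel_trunc (hTI : IsTISubset (H : Set G))
    (hN : Subgroup.normalizer (H : Set G) = L)
    (hHn : ∀ x : L, ∀ y : L, (y : G) ∈ H → ((x * y * x⁻¹ : L) : G) ∈ H)
    (Φ : G → ℂ) (hΦcf : IsClassFunction G Φ) (hΦ1 : classInner Φ Φ = 1)
    (E : Finset (L → ℂ)) (hEirr : ∀ χ ∈ E, IsIrrCharacter L χ)
    (hE0 : ∀ χ ∈ E, ∀ x : L, (x : G) ∉ H → χ x = 0) :
    ∑ χ ∈ E, ‖classInner Φ (indFun L χ) - (Nat.card L : ℂ)⁻¹ * (Φ 1 * conj (χ 1))‖ ^ 2 ≤ 1 := by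
  classical
  set β := truncFun H L Φ with hβ
  have hnorm : (classInner β β).re ≤ 1 :=
    ti_trunc_norm_le H L hTI hN hHn Φ hΦcf hΦ1 β (fun x => truncFun_apply H L Φ x)
  have hE : ∀ α ∈ E, ∀ γ ∈ E, classInner α γ = if α = γ then 1 else 0 := fun α hα γ hγ =>
    Cfsg.Agent.Lib.Helper3.classInner_irr (hEirr α hα) (hEirr γ hγ)
  have hb := bessel_identity E hE β
  have h0 := classInner_self_re_nonneg (β - proj E β)
  rw [hb] at h0
  have hsum : (∑ α ∈ E, classInner β α * conj (classInner β α)).re =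
      ∑ χ ∈ E, ‖classInner Φ (indFun L χ) - (Nat.card L : ℂ)⁻¹ * (Φ 1 * conj (χ 1))‖ ^ 2 := by
    rw [Complex.re_sum]
    apply Finset.sum_congr rfl
    intro χ hχ
    rw [hβ, classInner_truncFun H L Φ hΦcf χ (hE0 χ hχ), Complex.mul_conj,
      Complex.ofReal_re, Complex.normSq_eq_norm_sq]
  rw [Complex.sub_re, hsum] at h0
  linarith

/-- integral form of the Bessel inequality -/
theorem bessel_trunc_int (hTI : IsTISubset (H : Set G))
    (hN : Subgroup.normalizer (H : Set G) = L)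
    (hHn : ∀ x : L, ∀ y : L, (y : G) ∈ H → ((x * y * x⁻¹ : L) : G) ∈ H)
    (Φ : G → ℂ) (hΦcf : IsClassFunction G Φ) (hΦ1 : classInner Φ Φ = 1)
    (E : Finset (L → ℂ)) (hEirr : ∀ χ ∈ E, IsIrrCharacter L χ)
    (hE0 : ∀ χ ∈ E, ∀ x : L, (x : G) ∉ H → χ x = 0)
    (N e : ℕ) (hN0 : 0 < N) (he0 : 0 < e) (hcard : Nat.card L = e * N)
    (d : ℤ) (hd : Φ 1 = d) (m a : (L → ℂ) → ℤ)
    (hm : ∀ χ ∈ E, classInner Φ (indFun L χ) = m χ)
    (ha : ∀ χ ∈ E, χ 1 = (a χ : ℂ) * e) :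
    ∑ χ ∈ E, (m χ * N - a χ * d) ^ 2 ≤ (N : ℤ) ^ 2 := by
  have h := bessel_trunc H L hTI hN hHn Φ hΦcf hΦ1 E hEirr hE0
  have hNr : (0 : ℝ) < N := by exact_mod_cast hN0
  have hNc : (N : ℂ) ≠ 0 := by exact_mod_cast hN0.ne'
  have hec : (e : ℂ) ≠ 0 := by exact_mod_cast he0.ne'
  have hterm : ∀ χ ∈ E,
      ‖classInner Φ (indFun L χ) - (Nat.card L : ℂ)⁻¹ * (Φ 1 * conj (χ 1))‖ ^ 2 =
        (((m χ * N - a χ * d) ^ 2 : ℤ) : ℝ) / (N : ℝ) ^ 2 := by
    intro χ hχ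
    have e1 : classInner Φ (indFun L χ) - (Nat.card L : ℂ)⁻¹ * (Φ 1 * conj (χ 1)) =
        (((m χ * N - a χ * d : ℤ) : ℝ) / (N : ℝ) : ℝ) := by
      rw [hm χ hχ, ha χ hχ, hd, hcard]
      push_cast
      rw [map_mul, Complex.conj_natCast, map_intCast]
      field_simp
    rw [e1, Complex.norm_real, Real.norm_eq_abs, sq_abs, div_pow]
    push_cast
    ring
  rw [Finset.sum_congr rfl hterm, ← Finset.sum_div, div_le_one (by positivity)] at h
  have h2 : ((∑ χ ∈ E, (m χ * N - a χ * d) ^ 2 : ℤ) : ℝ) ≤ (((N : ℤ) ^ 2 : ℤ) : ℝ) := by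
    push_cast
    push_cast at h
    exact h
  exact_mod_cast h2

end SibleyC

end Cfsg.Agent.Lib.Helper25
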