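import Cfsg.Agent.Lib.Helper25.SibleyC

set_option autoImplicit false
set_option linter.unusedSectionVars false
set_option linter.style.haveILetI false

namespace Cfsg.Agent.Lib.Helper25

open Cfsg
open scoped ComplexConjugate

section SibleyC2

variable {G : Type*} [Group G] [Fintype G] (H L : Subgroup G) [Fintype L]

/-- a constant value `a₁` on `Z ∖ 1` is bounded: `(|Z| - 1) a₁² ≤ |L|` -/
theorem trunc_const_bound (hTI : IsTISubset (H : Set G))
    (hN : Subgroup.normalizer (H : Set G) = L)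
    (hHn : ∀ x : L, ∀ y : L, (y : G) ∈ H → ((x * y * x⁻¹ : L) : G) ∈ H)
    (Φ : G → ℂ) (hΦcf : IsClassFunction G Φ) (hΦ1 : classInner Φ Φ = 1)
    (Z : Subgroup L) (hZK : Z ≤ H.subgroupOf L) (a₁ : ℤ)
    (hconst : ∀ z ∈ Z, z ≠ 1 → Φ (z : G) = a₁) :
    ((Nat.card Z : ℤ) - 1) * a₁ ^ 2 ≤ Nat.card L := by
  classical
  set β := truncFun H L Φ with hβ
  have hnorm : (classInner β β).re ≤ 1 :=
    ti_trunc_norm_le H L hTI hN hHn Φ hΦcf hΦ1 β (fun x => truncFun_apply H L Φ x)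
  rw [classInner_self_eq, Complex.ofReal_re] at hnorm
  have hLpos : (0 : ℝ) < Nat.card L := by exact_mod_cast Nat.card_pos
  have h1 : ∑ g : L, ‖β g‖ ^ 2 ≤ Nat.card L := by
    rw [inv_mul_le_iff₀ hLpos, mul_one] at hnorm
    exact hnorm
  set T : Finset L := Finset.univ.filter (fun g : L => g ∈ Z ∧ g ≠ 1) with hT
  have h2 : ∑ g ∈ T, ‖β g‖ ^ 2 ≤ ∑ g : L, ‖β g‖ ^ 2 :=
    Finset.sum_le_sum_of_subset_of_nonneg (Finset.subset_univ _) (fun _ _ _ => sq_nonneg _)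
  have h3 : ∑ g ∈ T, ‖β g‖ ^ 2 = (T.card : ℝ) * ((a₁ : ℝ) ^ 2) := by
    rw [Finset.sum_congr rfl (g := fun _ => (a₁ : ℝ) ^ 2), Finset.sum_const, nsmul_eq_mul]
    intro g hg
    obtain ⟨hgZ, hg1⟩ := (Finset.mem_filter.mp hg).2
    have hgH : (g : G) ∈ H := Subgroup.mem_subgroupOf.mp (hZK hgZ)
    rw [hβ, truncFun_apply, if_pos ⟨hgH, hg1⟩, hconst g hgZ hg1]
    have : ((a₁ : ℤ) : ℂ) = ((a₁ : ℝ) : ℂ) := by push_cast; rfl
    rw [this, Complex.norm_real, Real.norm_eq_abs, sq_abs]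
  have h4 : T.card = Nat.card Z - 1 := by
    have e : T = (Finset.univ.filter (fun g : L => g ∈ Z)).erase 1 := by
      ext g
      simp only [hT, Finset.mem_filter, Finset.mem_univ, true_and, Finset.mem_erase]
      tauto
    rw [e, Finset.card_erase_of_mem (by simp [Z.one_mem]), Nat.card_eq_fintype_card,
      Fintype.card_subtype]
  have hZpos : 1 ≤ Nat.card Z := Nat.card_pos
  have h5 : ((Nat.card Z : ℝ) - 1) * (a₁ : ℝ) ^ 2 ≤ Nat.card L := by
    have : (T.card : ℝ) = (Nat.card Z : ℝ) - 1 := by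
      rw [h4, Nat.cast_sub hZpos, Nat.cast_one]
    rw [← this, ← h3]
    exact h2.trans h1
  have h6 : ((((Nat.card Z : ℤ) - 1) * a₁ ^ 2 : ℤ) : ℝ) ≤ ((Nat.card L : ℤ) : ℝ) := by
    push_cast
    exact h5
  exact_mod_cast h6

end SibleyC2

end Cfsg.Agent.Lib.Helper25
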