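import Cfsg.Agent.Lib.Helper25.CohMax
import Mathlib.GroupTheory.Nilpotent

set_option autoImplicit false
set_option linter.unusedSectionVars false
set_option linter.style.haveILetI false

/-!
Group-theoretic preparations for Sibley's theorem.
-/

namespace Cfsg.Agent.Lib.Helper25

open Cfsg
open scoped ComplexConjugate

section Grp

variable {L : Type*} [Group L]

/-- an element of order dividing `|K|` lies in the normal Hall subgroup `K` -/
theorem mem_of_pow_card_eq_one [Finite L] (K : Subgroup L) [hK : K.Normal]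
    (hcop : (Nat.card K).Coprime K.index) {y : L} (hy : y ^ Nat.card K = 1) : y ∈ K := by
  have h1 : (QuotientGroup.mk y : L ⧸ K) ^ Nat.card K = 1 := by
    rw [← QuotientGroup.mk_pow, hy]; rfl
  have h2 : (QuotientGroup.mk y : L ⧸ K) ^ K.index = 1 := by
    rw [Subgroup.index_eq_card]
    exact pow_card_eq_one'
  have h3 := pow_gcd_eq_one.mpr ⟨h1, h2⟩
  rw [Nat.Coprime.gcd_eq_one hcop, pow_one] at h3
  exact (QuotientGroup.eq_one_iff y).mp h3

theorem lowerCentralSeries_normal (K : Subgroup L) [hK : K.Normal] (n : ℕ) :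
    (K.lowerCentralSeries n).Normal := by
  induction n with
  | zero => exact hK
  | succ n ih =>
    rw [Subgroup.lowerCentralSeries_succ]
    exact Subgroup.commutator_normal _ _

/-- a non-abelian nilpotent normal subgroup `K` contains a non-trivial normal subgroup `Z` of
the ambient group with `Z ≤ Z(K) ∩ K'` -/
theorem exists_central_le_commutator (K : Subgroup L) [hK : K.Normal]
    (hnil : Group.IsNilpotent K) (hnab : ⁅K, K⁆ ≠ ⊥) :
    ∃ Z : Subgroup L, Z.Normal ∧ Z ≠ ⊥ ∧ Z ≤ ⁅K, K⁆ ∧ (∀ z ∈ Z, ∀ k ∈ K, z * k = k * z) := by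
  classical
  have hex : ∃ n, K.lowerCentralSeries n = ⊥ :=
    (Subgroup.isNilpotent_iff_lowerCentralSeries K).mp hnil
  have hfind := Nat.find_spec hex
  have hmin := fun m => Nat.find_min hex (m := m)
  set n := Nat.find hex with hn
  have h1 : K.lowerCentralSeries 1 = ⁅K, K⁆ := by
    rw [Subgroup.lowerCentralSeries_succ, Subgroup.lowerCentralSeries_zero]
  have hn2 : 2 ≤ n := by
    by_contra hlt
    push Not at hlt
    have hle : n ≤ 1 := by omega
    have := Subgroup.lowerCentralSeries_antitone K hle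
    rw [hfind, h1] at this
    exact hnab (le_bot_iff.mp this)
  obtain ⟨m, hm⟩ : ∃ m, n = m + 2 := ⟨n - 2, by omega⟩
  refine ⟨K.lowerCentralSeries (m + 1), lowerCentralSeries_normal K _, ?_, ?_, ?_⟩
  · exact hmin (m + 1) (by omega)
  · rw [← h1]
    exact Subgroup.lowerCentralSeries_antitone K (by omega)
  · have h2 : ⁅K.lowerCentralSeries (m + 1), K⁆ = ⊥ := by
      rw [← Subgroup.lowerCentralSeries_succ, ← hm]
      exact hfind
    rw [Subgroup.commutator_eq_bot_iff_le_centralizer] at h2
    intro z hz k hk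
    have := h2 hz
    rw [Subgroup.mem_centralizer_iff] at this
    exact (this k hk).symm

end Grp

section Deg

variable {L : Type*} [Group L] [Fintype L] (K : Subgroup L) [hK : K.Normal]

/-- degrees of the members of `S` -/
theorem induced_degree (Z : Subgroup L) (hZK : Z ≤ K)
    (hZc : ∀ z ∈ Z, ∀ k ∈ K, z * k = k * z) {χ : L → ℂ}
    (hχ : χ ∈ inducedIrrAbove K ⊥) :
    ∃ a : ℕ, 1 ≤ a ∧ χ 1 = (a : ℂ) * K.index ∧ a ^ 2 * Nat.card Z ≤ Nat.card K := by
  obtain ⟨θ, hθ, -, -, rfl⟩ := hχ
  obtain ⟨a, ha, hθ1⟩ := irr_degree hθ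
  refine ⟨a, ha, ?_, ?_⟩
  · rw [indIrr_apply_one, hθ1, mul_comm]
  · have h := degree_sq_le K hθ ⊥ K Z bot_le hZK le_rfl
      (by
        intro x hx y hy
        rw [Subgroup.mem_bot]
        have := hZc x hx y hy
        calc x * y * x⁻¹ * y⁻¹ = (y * x) * x⁻¹ * y⁻¹ := by rw [this]
          _ = 1 := by group)
      (by
        intro b hb
        rw [Subgroup.mem_bot] at hb
        have : b = 1 := Subtype.ext hb
        rw [this])
      a hθ1
    rw [Subgroup.relIndex_self, one_pow, one_mul] at h
    have h2 : Z.relIndex K * Nat.card Z = Nat.card K := by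
      have e1 := Subgroup.index_mul_card (Z.subgroupOf K)
      have e2 : Nat.card (Z.subgroupOf K) = Nat.card Z :=
        Nat.card_congr (Subgroup.subgroupOfEquivOfLe hZK).toEquiv
      rw [e2] at e1
      exact e1
    calc a ^ 2 * Nat.card Z ≤ Z.relIndex K * Nat.card Z := Nat.mul_le_mul_right _ h
      _ = Nat.card K := h2

end Deg

end Cfsg.Agent.Lib.Helper25
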