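import Cfsg.Agent.Lib.Helper25.SibleyC2
import Cfsg.Agent.Lib.Helper25.SibleyArith
import Cfsg.Agent.Lib.Helper25.SibleyPrep
import Cfsg.Agent.Lib.Helper25.SibleyGrp
import Cfsg.Agent.Lib.Helper25.NormTwo

set_option autoImplicit false
set_option linter.unusedSectionVars false
set_option linter.style.haveILetI false

namespace Cfsg.Agent.Lib.Helper25

open Cfsg
open scoped ComplexConjugate

section SibleyD

variable {G : Type*} [Group G] [Fintype G] (H L : Subgroup G) [Fintype L]

set_option maxHeartbeats 1000000 in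
/-- A well-chosen constituent `Φ` of `Ind (ψ - conj ψ)` behaves like an image of `ψ`. -/
theorem sibley_phi_works [hKn : (H.subgroupOf L).Normal]
    (hTI : IsTISubset (H : Set G)) (hN : Subgroup.normalizer (H : Set G) = L)
    (hirr : ∀ χ ∈ inducedIrrAbove (H.subgroupOf L) ⊥, IsIrrCharacter L χ)
    (Z : Subgroup L) (hZK : Z ≤ H.subgroupOf L)
    (hZc : ∀ z ∈ Z, ∀ k ∈ H.subgroupOf L, z * k = k * z)
    (ψ : L → ℂ) (hψ : ψ ∈ inducedIrrAbove (H.subgroupOf L) ⊥) (hψc : conjFun ψ ≠ ψ)
    (e N q : ℕ) (he : (H.subgroupOf L).index = e) (hNc : Nat.card (H.subgroupOf L) = N)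
    (hqc : Nat.card Z = q) (hψ1 : ψ 1 = (e : ℂ))
    (he3 : 3 ≤ e) (heq : 2 * e + 1 ≤ q) (hNq : 2 * q ≤ N)
    (Φ : G → ℂ) (hΦg : IsGeneralizedCharacter G Φ) (hΦ1 : classInner Φ Φ = 1)
    (m₀ d a₁ : ℤ) (hm₀ : classInner Φ (indFun L (conjFun ψ)) = m₀)
    (hm₁ : classInner Φ (indFun L ψ) = 1 + m₀)
    (hd : Φ 1 = d) (ha₁ : ∀ z ∈ Z, z ≠ 1 → Φ (z : G) = a₁) (hdvd : (N : ℤ) ∣ d - a₁)
    (hD : 2 * (d - m₀ * N) ≤ N) :
    ∀ χ ∈ inducedIrrAbove (H.subgroupOf L) ⊥,
      classInner Φ (indFun L (χ - (χ 1 / ψ 1) • ψ)) = classInner ψ (χ - (χ 1 / ψ 1) • ψ) := by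
  classical
  intro χ hχ
  set K := H.subgroupOf L with hK
  have hΦcf : IsClassFunction G Φ := IsGeneralizedCharacter.isClassFunction hΦg
  have hHn : ∀ x : L, ∀ y : L, (y : G) ∈ H → ((x * y * x⁻¹ : L) : G) ∈ H := by
    intro x y hy
    exact Subgroup.mem_subgroupOf.mp (hKn.conj_mem y (Subgroup.mem_subgroupOf.mpr hy) x)
  have hcψ : conjFun ψ ∈ inducedIrrAbove K ⊥ := inducedIrrAbove_conj K ⊥ hψ
  have hψirr := hirr ψ hψ
  have hcψirr := hirr _ hcψ
  have hχirr := hirr χ hχ
  have hec : (e : ℂ) ≠ 0 := by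
    have : 0 < e := by omega
    exact_mod_cast this.ne'
  obtain ⟨a, ha1, haχ, haq⟩ := induced_degree K Z hZK hZc hχ
  rw [he] at haχ
  have hquot : χ 1 / ψ 1 = (a : ℂ) := by
    rw [haχ, hψ1]; field_simp
  rw [hquot, indFun_sub, indFun_smul, classInner_sub_right, classInner_sub_right,
    classInner_smul_right, classInner_smul_right, Complex.conj_natCast, hm₁,
    Cfsg.Agent.Lib.Helper3.classInner_irr hψirr hχirr,
    Cfsg.Agent.Lib.Helper3.classInner_irr hψirr hψirr, if_pos rfl]
  by_cases h1 : χ = ψ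
  · subst h1
    have : (a : ℂ) = 1 := by
      have := haχ
      rw [hψ1] at this
      have h2 : (a : ℂ) * e = 1 * e := by rw [← this, one_mul]
      exact mul_right_cancel₀ hec h2
    rw [hm₁, if_pos rfl, this]
    ring
  · by_cases h2 : χ = conjFun ψ
    · subst h2
      have hca : (a : ℂ) = 1 := by
        have h3 : conjFun ψ 1 = (e : ℂ) := by
          rw [conjFun_apply, hψ1, Complex.conj_natCast]
        rw [h3] at haχ
        have h4 : (a : ℂ) * e = 1 * e := by rw [← haχ, one_mul]
        exact mul_right_cancel₀ hec h4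
      rw [hm₀, if_neg (fun h => h1 h.symm), hca]
      ring
    · rw [if_neg (fun h => h1 h.symm)]
      -- the generic case
      have hχg : IsGeneralizedCharacter G (indFun L χ) :=
        zspan_induced_genChar H L (subset_zspan hχ)
      obtain ⟨mχ, hmχ⟩ := classInner_genChar_int hΦg hχg
      rw [hmχ]
      -- Bessel
      set E : Finset (L → ℂ) := {ψ, conjFun ψ, χ} with hE
      have hEmem : ∀ f ∈ E, f ∈ inducedIrrAbove K ⊥ := by
        intro f hf
        rw [hE] at hf
        simp only [Finset.mem_insert, Finset.mem_singleton] at hf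
        rcases hf with hf | hf | hf
        · rw [hf]; exact hψ
        · rw [hf]; exact hcψ
        · rw [hf]; exact hχ
      have hE0 : ∀ f ∈ E, ∀ x : L, (x : G) ∉ H → f x = 0 := by
        intro f hf x hx
        exact (zspan_induced_props K (subset_zspan (hEmem f hf))).2 x
          (fun h => hx (Subgroup.mem_subgroupOf.mp h))
      have hcard : Nat.card L = e * N := by
        rw [← he, ← hNc]
        exact (Subgroup.index_mul_card K).symm
      have he0 : 0 < e := by omega
      have hN0 : 0 < N := by omega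
      let mf : (L → ℂ) → ℤ := fun f => if f = ψ then 1 + m₀ else if f = conjFun ψ then m₀ else mχ
      let af : (L → ℂ) → ℤ := fun f => if f = χ then (a : ℤ) else 1
      have hmf : ∀ f ∈ E, classInner Φ (indFun L f) = mf f := by
        intro f hf
        rw [hE] at hf
        simp only [Finset.mem_insert, Finset.mem_singleton] at hf
        rcases hf with hf | hf | hf
        · rw [hf]; simp only [mf, if_pos rfl]; rw [hm₁]; push_cast; ring
        · rw [hf]; simp only [mf, if_neg hψc, if_pos rfl]; exact hm₀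
        · rw [hf]; simp only [mf, if_neg h1, if_neg h2]; exact hmχ
      have haf : ∀ f ∈ E, f 1 = (af f : ℂ) * e := by
        intro f hf
        rw [hE] at hf
        simp only [Finset.mem_insert, Finset.mem_singleton] at hf
        rcases hf with hf | hf | hf
        · rw [hf]; simp only [af, if_neg (fun h : ψ = χ => h1 h.symm)]; rw [hψ1]; push_cast; ring
        · rw [hf]; simp only [af, if_neg (fun h : conjFun ψ = χ => h2 h.symm)]
          rw [conjFun_apply, hψ1, Complex.conj_natCast]; push_cast; ring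
        · rw [hf]; simp only [af, if_pos rfl]; rw [haχ]; push_cast; ring
      have hB := bessel_trunc_int H L hTI hN hHn Φ hΦcf hΦ1 E
        (fun f hf => hirr f (hEmem f hf)) hE0 N e hN0 he0 hcard d hd mf af hmf haf
      have hne1 : ψ ∉ ({conjFun ψ, χ} : Finset (L → ℂ)) := by
        simp only [Finset.mem_insert, Finset.mem_singleton, not_or]
        exact ⟨fun h => hψc h.symm, fun h => h1 h.symm⟩
      have hne2 : conjFun ψ ∉ ({χ} : Finset (L → ℂ)) := by
        simp only [Finset.mem_singleton]
        exact fun h => h2 h.symm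
      rw [hE, Finset.sum_insert hne1, Finset.sum_insert hne2, Finset.sum_singleton] at hB
      simp only [mf, af, if_pos rfl, if_neg hψc, if_neg h1, if_neg h2,
        if_neg (fun h : ψ = χ => h1 h.symm), if_neg (fun h : conjFun ψ = χ => h2 h.symm),
        if_true] at hB
      -- the bound on `a₁`
      have hq := trunc_const_bound H L hTI hN hHn Φ hΦcf hΦ1 Z hZK a₁ ha₁
      rw [hqc, hcard] at hq
      -- arithmetic
      have hx : mχ - a * m₀ = 0 := by
        apply sibley_arith (N : ℤ) (q : ℤ) (e : ℤ) (d - m₀ * N) a₁ (a : ℤ) (mχ - a * m₀)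
        · have : d - m₀ * N - a₁ = (d - a₁) - (N : ℤ) * m₀ := by ring
          rw [this]
          exact dvd_sub hdvd (dvd_mul_right _ _)
        · push_cast at hq; linarith
        · have : (2 * e + 1 : ℤ) ≤ q := by exact_mod_cast heq
          linarith
        · exact_mod_cast he3
        · have : ((a ^ 2 * Nat.card Z : ℕ) : ℤ) ≤ (Nat.card K : ℕ) := by exact_mod_cast haq
          rw [hqc, hNc] at this
          push_cast at this
          exact this
        · exact_mod_cast ha1
        · exact_mod_cast hNq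
        · have e1 : ((N : ℤ) - (d - m₀ * N)) ^ 2 = ((1 + m₀) * N - 1 * d) ^ 2 := by ring
          have e2 : (d - m₀ * (N : ℤ)) ^ 2 = (m₀ * N - 1 * d) ^ 2 := by ring
          have e3 : ((mχ - a * m₀) * (N : ℤ) - a * (d - m₀ * N)) ^ 2 = (mχ * N - a * d) ^ 2 := by
            ring
          rw [e1, e2, e3]
          linarith
        · exact hD
      have hx' : (mχ : ℂ) = (a : ℂ) * m₀ := by
        have : ((mχ - a * m₀ : ℤ) : ℂ) = 0 := by rw [hx]; simp
        push_cast at this
        linear_combination this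
      rw [hx']
      ring

end SibleyD

end Cfsg.Agent.Lib.Helper25
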