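import Cfsg.Agent.Lib.Helper25.SibleyA
import Cfsg.Agent.Lib.Helper25.SibleyB
import Cfsg.Agent.Lib.Helper25.SibleyD

set_option autoImplicit false
set_option linter.unusedSectionVars false
set_option linter.style.haveILetI false

namespace Cfsg.Agent.Lib.Helper25

open Cfsg
open scoped ComplexConjugate

section SibleyE

variable {G : Type*} [Group G] [Fintype G] (H L : Subgroup G) [Fintype L]

set_option maxHeartbeats 1000000 in
/-- The core of Sibley's theorem: existence of a norm-one virtual character behaving like an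
image of `ψ`. -/
theorem sibley_core [hKn : (H.subgroupOf L).Normal]
    (hHL : H ≤ L) (hTI : IsTISubset (H : Set G)) (hN : Subgroup.normalizer (H : Set G) = L)
    (hodd : Odd (Nat.card L))
    (hHall : ∀ v ∈ H, ∀ x : G, x⁻¹ * v * x ∈ L → x⁻¹ * v * x ∈ H)
    (hirr : ∀ χ ∈ inducedIrrAbove (H.subgroupOf L) ⊥, IsIrrCharacter L χ)
    (R : (L → ℂ) → Finset (G → ℂ))
    (hS : IsCoherenceSystem (inducedIrrAbove (H.subgroupOf L) ⊥)
      (fun α : L → ℂ => indFun L α) R)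
    (Z : Subgroup L) [hZn : Z.Normal] (hZ1 : Z ≠ ⊥) (hZK : Z ≤ H.subgroupOf L)
    (hZc : ∀ z ∈ Z, ∀ k ∈ H.subgroupOf L, z * k = k * z)
    (hS₂eq : inducedIrrAbove (H.subgroupOf L) ⊥ \ inducedIrrAbove (H.subgroupOf L) Z =
      {χ | IsIrrCharacter L χ ∧ ∃ z ∈ Z, χ z ≠ χ 1})
    (τ₂ : (L → ℂ) → (G → ℂ))
    (hτ₂ : IsLinearIsometryOn
      (zspan (inducedIrrAbove (H.subgroupOf L) ⊥ \ inducedIrrAbove (H.subgroupOf L) Z)) τ₂)
    (hag : ∀ α ∈ zspanOn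
      (inducedIrrAbove (H.subgroupOf L) ⊥ \ inducedIrrAbove (H.subgroupOf L) Z) ({1}ᶜ : Set L),
      τ₂ α = indFun L α)
    (ψ : L → ℂ) (hψ : ψ ∈ inducedIrrAbove (H.subgroupOf L) Z)
    (e N q : ℕ) (he : (H.subgroupOf L).index = e) (hNc : Nat.card (H.subgroupOf L) = N)
    (hqc : Nat.card Z = q) (hψ1 : ψ 1 = (e : ℂ))
    (he3 : 3 ≤ e) (heq : 2 * e + 1 ≤ q) (hNq : 2 * q ≤ N) :
    ∃ Φ : G → ℂ, IsGeneralizedCharacter G Φ ∧ classInner Φ Φ = 1 ∧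
      ∀ χ ∈ inducedIrrAbove (H.subgroupOf L) ⊥,
        classInner Φ (indFun L (χ - (χ 1 / ψ 1) • ψ)) = classInner ψ (χ - (χ 1 / ψ 1) • ψ) := by
  classical
  set K := H.subgroupOf L with hK
  set S := inducedIrrAbove K ⊥ with hSdef
  set S₂ := S \ inducedIrrAbove K Z with hS₂def
  have hψS : ψ ∈ S := inducedIrrAbove_mono K bot_le hψ
  have hψ₂ : ψ ∉ S₂ := fun h => h.2 hψ
  have hS₂S : S₂ ⊆ S := Set.sdiff_subset
  have hS₂c : ∀ φ ∈ S₂, conjFun φ ∈ S₂ := by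
    rintro φ ⟨h1, h2⟩
    refine ⟨inducedIrrAbove_conj K ⊥ h1, fun h => h2 ?_⟩
    have := inducedIrrAbove_conj K Z h
    rwa [conjFun_conjFun] at this
  have hconjS : ∀ φ ∈ S, conjFun φ ∈ S := fun φ hφ => hS.conj_mem φ hφ
  have hψc : conjFun ψ ≠ ψ := hS.conj_ne ψ hψS
  have hcψ : conjFun ψ ∈ S := hS.conj_mem ψ hψS
  have hψirr := hirr ψ hψS
  have hcψirr := hirr _ hcψ
  have hcardH : Nat.card H = N := by
    rw [← hNc]
    exact (Nat.card_congr (Subgroup.subgroupOfEquivOfLe hHL).toEquiv).symm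
  have hcψg : IsGeneralizedCharacter G (indFun L (conjFun ψ)) :=
    zspan_induced_genChar H L (subset_zspan hcψ)
  -- (1) data for the members of `R ψ`
  have hdata : ∀ Φ ∈ R ψ, IsGeneralizedCharacter G Φ ∧ classInner Φ Φ = 1 ∧
      ∃ a₁ d m₀ : ℤ, Φ 1 = d ∧ (∀ z ∈ Z, z ≠ 1 → Φ (z : G) = a₁) ∧ (N : ℤ) ∣ d - a₁ ∧
        classInner Φ (indFun L (conjFun ψ)) = m₀ := by
    intro Φ hΦ
    have hΦg : IsGeneralizedCharacter G Φ := hS.virtual ψ hψS Φ hΦ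
    have hΦ1 : classInner Φ Φ = 1 := by
      rw [hS.orthonormal ψ hψS Φ hΦ Φ hΦ, if_pos rfl]
    refine ⟨hΦg, hΦ1, ?_⟩
    have hb : ∀ χ' ∈ S₂, classInner Φ (τ₂ χ') = 0 := fun χ' hχ' =>
      phi_orth_tau2 hS hS₂S hS₂c (fun χ h => hirr χ (hS₂S h)) hτ₂ hag hψS hψ₂ hΦ hχ'
    obtain ⟨c, hc⟩ := exists_prop_const (τ := fun α : L → ℂ => indFun L α)
      (fun f g => indFun_sub L f g)
      (fun n f => by
        show indFun L (n • f) = n • indFun L f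
        rw [← Int.cast_smul_eq_zsmul ℂ n f, indFun_smul, Int.cast_smul_eq_zsmul])
      (fun χ hχ => irr_degree (hirr χ (hS₂S hχ))) hτ₂ hag Φ hb
    obtain ⟨a₁, d, hd, ha₁, hdvd⟩ := phi_const_mod H L hHL hTI hN hodd hHall Z hZ1 hZK hZc Φ
      hΦg hΦ1 c (fun χ hχ hz => hc χ (by
        have h' : χ ∈ S₂ := by rw [hS₂eq]; exact ⟨hχ, hz⟩
        exact h'))
    obtain ⟨m₀, hm₀⟩ := classInner_genChar_int hΦg hcψg
    rw [hcardH] at hdvd
    exact ⟨a₁, d, m₀, hd, ha₁, hdvd, hm₀⟩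
  -- (2) `R ψ` has two members
  have hmem : ψ - conjFun ψ ∈ zspanOn S ({1}ᶜ : Set L) :=
    Cfsg.Agent.S1516.sub_conj_mem hS subset_rfl hconjS hψS
  have hsum := hS.sum_eq ψ hψS
  have hEo := hS.orthonormal ψ hψS
  have hnorm2 : classInner (ψ - conjFun ψ) (ψ - conjFun ψ) = 2 := by
    rw [classInner_sub_left, classInner_sub_right, classInner_sub_right,
      Cfsg.Agent.Lib.Helper3.classInner_irr hψirr hψirr,
      Cfsg.Agent.Lib.Helper3.classInner_irr hψirr hcψirr,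
      Cfsg.Agent.Lib.Helper3.classInner_irr hcψirr hψirr,
      Cfsg.Agent.Lib.Helper3.classInner_irr hcψirr hcψirr, if_pos rfl, if_pos rfl,
      if_neg hψc, if_neg (fun h => hψc h.symm)]
    norm_num
  have hcard2 : (R ψ).card = 2 := by
    have h1 : classInner (∑ α ∈ R ψ, α) (∑ α ∈ R ψ, α) = ((R ψ).card : ℂ) := by
      rw [classInner_sum_left]
      rw [Finset.sum_congr rfl (fun α hα => Cfsg.Agent.S1517.inner_rho_right hEo hα)]
      simp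
    have h2 : classInner (∑ α ∈ R ψ, α) (∑ α ∈ R ψ, α) = 2 := by
      rw [← hsum]
      show classInner (indFun L (ψ - conjFun ψ)) (indFun L (ψ - conjFun ψ)) = 2
      have := hS.isometry.2.2.1 _ hmem _ hmem
      rw [← hnorm2]
      exact this
    rw [h1] at h2
    exact_mod_cast h2
  obtain ⟨Φ₁, Φ₂, hne, hR⟩ := Finset.card_eq_two.mp hcard2
  have hΦ₁R : Φ₁ ∈ R ψ := by rw [hR]; simp
  have hΦ₂R : Φ₂ ∈ R ψ := by rw [hR]; simp
  have hsum' : indFun L (ψ - conjFun ψ) = Φ₁ + Φ₂ := by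
    have : (fun α : L → ℂ => indFun L α) (ψ - conjFun ψ) = ∑ α ∈ R ψ, α := hsum
    rw [hR, Finset.sum_pair hne] at this
    exact this
  obtain ⟨hg₁, hn₁, a₁, d₁, m₁, hd₁, hz₁, hdvd₁, hm₁⟩ := hdata Φ₁ hΦ₁R
  obtain ⟨hg₂, hn₂, a₂, d₂, m₂, hd₂, hz₂, hdvd₂, hm₂⟩ := hdata Φ₂ hΦ₂R
  -- (3) the sums
  have hψprops := zspan_induced_props K (subset_zspan hψS)
  have hcψprops := zspan_induced_props K (subset_zspan hcψ)
  have hdsum : d₁ + d₂ = 0 := by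
    have h1 : indFun L (ψ - conjFun ψ) 1 = 0 := hS.map_one _ hmem
    rw [hsum', Pi.add_apply, hd₁, hd₂] at h1
    exact_mod_cast h1
  have hmsum : m₁ + m₂ = -1 := by
    have h1 : classInner (indFun L (ψ - conjFun ψ)) (indFun L (conjFun ψ)) =
        classInner (ψ - conjFun ψ) (conjFun ψ) :=
      ti_inner_ind H L hTI hN _ _ hcψprops.1
        (fun x hx => hcψprops.2 x (fun h => hx (Subgroup.mem_subgroupOf.mp h)))
        (fun x hx => (zspan_induced_props K hmem.1).2 x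
          (fun h => hx (Subgroup.mem_subgroupOf.mp h)))
        ((mem_zspanOn_one.mp hmem).2)
    rw [hsum', classInner_add_left, hm₁, hm₂, classInner_sub_left,
      Cfsg.Agent.Lib.Helper3.classInner_irr hψirr hcψirr,
      Cfsg.Agent.Lib.Helper3.classInner_irr hcψirr hcψirr, if_pos rfl,
      if_neg (fun h => hψc h.symm)] at h1
    have h2 : ((m₁ + m₂ : ℤ) : ℂ) = ((-1 : ℤ) : ℂ) := by
      push_cast
      rw [h1]; ring
    exact_mod_cast h2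
  have hone : ∀ Φ ∈ R ψ, ∀ m₀ : ℤ, classInner Φ (indFun L (conjFun ψ)) = m₀ →
      classInner Φ (indFun L ψ) = 1 + m₀ := by
    intro Φ hΦ m₀ hm₀
    have h1 : classInner Φ (indFun L (ψ - conjFun ψ)) = 1 := by
      have : indFun L (ψ - conjFun ψ) = ∑ α ∈ R ψ, α := hsum
      rw [this]
      exact Cfsg.Agent.S1517.inner_rho_right hEo hΦ
    rw [indFun_sub, classInner_sub_right, hm₀] at h1
    linear_combination h1
  have hchoice : 2 * (d₁ - m₁ * N) ≤ N ∨ 2 * (d₂ - m₂ * N) ≤ N := by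
    by_contra h
    push Not at h
    have h3 : d₂ = -d₁ := by linarith
    have h4 : m₂ = -1 - m₁ := by linarith
    rw [h3, h4] at h
    nlinarith [h.1, h.2]
  rcases hchoice with hD | hD
  · exact ⟨Φ₁, hg₁, hn₁, sibley_phi_works H L hTI hN hirr Z hZK hZc ψ hψS hψc e N q he hNc hqc
      hψ1 he3 heq hNq Φ₁ hg₁ hn₁ m₁ d₁ a₁ hm₁ (hone Φ₁ hΦ₁R m₁ hm₁) hd₁ hz₁ hdvd₁ hD⟩
  · exact ⟨Φ₂, hg₂, hn₂, sibley_phi_works H L hTI hN hirr Z hZK hZc ψ hψS hψc e N q he hNc hqc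
      hψ1 he3 heq hNq Φ₂ hg₂ hn₂ m₂ d₂ a₂ hm₂ (hone Φ₂ hΦ₂R m₂ hm₂) hd₂ hz₂ hdvd₂ hD⟩

end SibleyE

end Cfsg.Agent.Lib.Helper25
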