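import Cfsg.Agent.Lib.Helper76.SlDefs

/-! # Sl hive (helper76, S2332), leaf SL-AR3 (helper25): the arithmetic step for `n = 3` -/

set_option autoImplicit false
set_option linter.unusedSimpArgs false
set_option linter.unusedVariables false
set_option linter.unusedSectionVars false

namespace Cfsg.Agent.Lib.Helper76.Sl

theorem ar3_Npt3 (q : ℕ) : Npt q 3 = 1 + q + q ^ 2 := by
  simp [Npt, Finset.sum_range_succ]

theorem ar3_not_pp6 : ¬ IsPrimePow 6 := by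
  intro h
  rw [isPrimePow_nat_iff] at h
  obtain ⟨p, k, hp, hk, hpk⟩ := h
  have hp6 : p ∣ 6 := by rw [← hpk]; exact dvd_pow_self p (by omega)
  have hple : p ≤ 6 := Nat.le_of_dvd (by norm_num) hp6
  have h2 : 2 ∣ p ^ k := by rw [hpk]; norm_num
  have h3 : 3 ∣ p ^ k := by rw [hpk]; norm_num
  have h2' := (Nat.prime_dvd_prime_iff_eq Nat.prime_two hp).1 (Nat.Prime.dvd_of_dvd_pow Nat.prime_two h2)
  have h3' := (Nat.prime_dvd_prime_iff_eq Nat.prime_three hp).1 (Nat.Prime.dvd_of_dvd_pow Nat.prime_three h3)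
  omega

theorem ar3_not_pp10 : ¬ IsPrimePow 10 := by
  intro h
  rw [isPrimePow_nat_iff] at h
  obtain ⟨p, k, hp, hk, hpk⟩ := h
  have h2 : 2 ∣ p ^ k := by rw [hpk]; norm_num
  have h5 : 5 ∣ p ^ k := by rw [hpk]; norm_num
  have h2' := (Nat.prime_dvd_prime_iff_eq Nat.prime_two hp).1 (Nat.Prime.dvd_of_dvd_pow Nat.prime_two h2)
  have h5' := (Nat.prime_dvd_prime_iff_eq Nat.prime_five hp).1 (Nat.Prime.dvd_of_dvd_pow Nat.prime_five h5)
  omega

/-- AR3 (`n = 3`) -/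
theorem ar3 (q m0 : ℕ) (hq : IsPrimePow q) (hexc : ¬ Exc 3 q) (h0 : q - 1 ≤ m0)
    (hdvd : ((m0 + (q ^ 2 - 1) : ℕ) : ℤ) ∣ (Ccl q 3 : ℤ) * ((m0 : ℤ) - 1)) : q + 1 ≤ m0 := by
  have hq2 : 2 ≤ q := hq.two_le
  have hne2 : q ≠ 2 := fun h => hexc (Or.inl ⟨rfl, h⟩)
  have hne4 : q ≠ 4 := fun h => hexc (Or.inr (Or.inl ⟨rfl, h⟩))
  by_contra hlt
  push Not at hlt
  set Q : ℤ := (q : ℤ) with hQ
  have hQ2 : (2 : ℤ) ≤ Q := by rw [hQ]; exact_mod_cast hq2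
  have hpow1 : 1 ≤ q ^ 2 := Nat.one_le_pow _ _ (by omega)
  have hC : (Ccl q 3 : ℤ) = (1 + Q + Q ^ 2) * (Q ^ 2 - 1) := by
    unfold Ccl
    rw [ar3_Npt3, show 3 - 1 = 2 from rfl, Nat.cast_mul, Nat.cast_sub hpow1]
    push_cast
    rfl
  rw [hC] at hdvd
  have hcases : m0 = q ∨ m0 = q - 1 := by omega
  rcases hcases with hm | hm
  · -- m0 = q
    have hd : ((m0 + (q ^ 2 - 1) : ℕ) : ℤ) = Q ^ 2 + Q - 1 := by
      rw [Nat.cast_add, Nat.cast_sub hpow1, hm]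
      push_cast
      ring
    have hmz : (m0 : ℤ) - 1 = Q - 1 := by rw [hm]
    rw [hd, hmz] at hdvd
    have h2 : (Q ^ 2 + Q - 1) ∣ (Q ^ 2 + Q - 1) * (Q ^ 3 - Q ^ 2 + Q - 3) := Dvd.intro _ rfl
    have h3 : (Q ^ 2 + Q - 1) ∣ 4 * Q - 2 := by
      have := Int.dvd_sub hdvd h2
      have e : (1 + Q + Q ^ 2) * (Q ^ 2 - 1) * (Q - 1) -
          (Q ^ 2 + Q - 1) * (Q ^ 3 - Q ^ 2 + Q - 3) = 4 * Q - 2 := by ring
      rwa [e] at this
    have hpos : 0 < 4 * Q - 2 := by linarith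
    have hle := Int.le_of_dvd hpos h3
    -- Q^2 + Q - 1 ≤ 4Q - 2 forces Q = 2
    have hQle : Q ≤ 2 := by nlinarith
    have hq' : q = 2 := by
      have : Q = 2 := le_antisymm hQle hQ2
      rw [hQ] at this
      exact_mod_cast this
    exact hne2 hq'
  · -- m0 = q - 1
    have hd : ((m0 + (q ^ 2 - 1) : ℕ) : ℤ) = (Q - 1) * (Q + 2) := by
      rw [Nat.cast_add, Nat.cast_sub hpow1, hm, Nat.cast_sub (by omega : 1 ≤ q)]
      push_cast
      ring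
    have hmz : (m0 : ℤ) - 1 = Q - 2 := by
      rw [hm, Nat.cast_sub (by omega : 1 ≤ q)]
      push_cast
      ring
    rw [hd, hmz] at hdvd
    have hQ1 : Q - 1 ≠ 0 := by linarith
    have e0 : (1 + Q + Q ^ 2) * (Q ^ 2 - 1) * (Q - 2) =
        (Q - 1) * ((1 + Q + Q ^ 2) * (Q + 1) * (Q - 2)) := by ring
    rw [e0] at hdvd
    have h1 : (Q + 2) ∣ (1 + Q + Q ^ 2) * (Q + 1) * (Q - 2) :=
      (mul_dvd_mul_iff_left hQ1).1 hdvd
    have h2 : (Q + 2) ∣ (Q + 2) * (Q ^ 3 - 2 * Q ^ 2 + 2 * Q - 7) := Dvd.intro _ rfl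
    have h3 : (Q + 2) ∣ 12 := by
      have := Int.dvd_sub h1 h2
      have e : (1 + Q + Q ^ 2) * (Q + 1) * (Q - 2) -
          (Q + 2) * (Q ^ 3 - 2 * Q ^ 2 + 2 * Q - 7) = 12 := by ring
      rwa [e] at this
    have hle := Int.le_of_dvd (by norm_num) h3
    have hq10 : q ≤ 10 := by
      have : Q ≤ 10 := by linarith
      rw [hQ] at this
      exact_mod_cast this
    have h3' : ((q + 2 : ℕ) : ℤ) ∣ ((12 : ℕ) : ℤ) := by
      push_cast
      exact h3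
    rw [Int.natCast_dvd_natCast] at h3'
    interval_cases q
    · exact hne2 rfl
    · omega
    · exact hne4 rfl
    · omega
    · exact ar3_not_pp6 hq
    · omega
    · omega
    · omega
    · exact ar3_not_pp10 hq

end Cfsg.Agent.Lib.Helper76.Sl
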