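import Cfsg.Agent.Lib.Helper76.SlDefs

/-! # Sl hive (helper76, S2332), leaf SL-AR4 (helper25): the arithmetic step for `n ≥ 4` -/

set_option autoImplicit false
set_option linter.unusedSimpArgs false
set_option linter.unusedVariables false
set_option linter.unusedSectionVars false

namespace Cfsg.Agent.Lib.Helper76.Sl

theorem ar4_Npt_succ (q k : ℕ) : Npt q (k + 1) = q * Npt q k + 1 := by
  unfold Npt
  rw [geom_sum_succ]

theorem ar4_geom (q k : ℕ) : ((q : ℤ) ^ k - 1) = (Npt q k : ℤ) * ((q : ℤ) - 1) := by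
  unfold Npt
  push_cast
  rw [geom_sum_mul]

theorem ar4_Npt_pos (q k : ℕ) : 1 ≤ Npt q (k + 1) := by
  rw [ar4_Npt_succ]
  omega

/-- AR4 (`n ≥ 4`, generic predecessor) -/
theorem ar4 (q n m0 : ℕ) (hq : 2 ≤ q) (hn : 4 ≤ n) (h0 : Tn q (n - 1) ≤ m0)
    (hdvd : ((m0 + (q ^ (n - 1) - 1) : ℕ) : ℤ) ∣ (Ccl q n : ℤ) * ((m0 : ℤ) - 1)) :
    Npt q (n - 1) ≤ m0 := by
  obtain ⟨k, rfl⟩ := Nat.exists_eq_add_of_le hn
  have e1 : 4 + k - 1 = k + 3 := by omega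
  have e2 : k + 3 - 1 = k + 2 := by omega
  have e4 : 4 + k = (k + 3) + 1 := by omega
  rw [e1] at h0 hdvd ⊢
  unfold Tn at h0
  rw [e2] at h0
  by_contra hlt
  push Not at hlt
  have hN : Npt q (k + 3) = q * Npt q (k + 2) + 1 := ar4_Npt_succ q (k + 2)
  have hM : Npt q (k + 2) = q * Npt q (k + 1) + 1 := ar4_Npt_succ q (k + 1)
  have hM' : 1 ≤ Npt q (k + 1) := ar4_Npt_pos q k
  have hm0 : m0 = q * Npt q (k + 2) := by omega
  -- integers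
  set Q : ℤ := (q : ℤ) with hQ
  set M : ℤ := (Npt q (k + 2) : ℤ) with hMdef
  set N : ℤ := (Npt q (k + 3) : ℤ) with hNdef
  have hQ2 : (2 : ℤ) ≤ Q := by rw [hQ]; exact_mod_cast hq
  have hNM : N = Q * M + 1 := by rw [hNdef, hN]; push_cast; rfl
  have hMlow : Q + 1 ≤ M := by
    rw [hMdef, hM]
    push_cast
    have : (1 : ℤ) ≤ (Npt q (k + 1) : ℤ) := by exact_mod_cast hM'
    nlinarith
  have hgeom : (Q ^ (k + 3) - 1) = N * (Q - 1) := ar4_geom q (k + 3)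
  have hpow1 : 1 ≤ q ^ (k + 3) := Nat.one_le_pow _ _ (by omega)
  have hd : ((m0 + (q ^ (k + 3) - 1) : ℕ) : ℤ) = N * Q - 1 := by
    rw [Nat.cast_add, Nat.cast_sub hpow1, hm0]
    push_cast
    rw [hgeom, hNM]
    ring
  have hC : (Ccl q (4 + k) : ℤ) = (Q * N + 1) * (N * (Q - 1)) := by
    unfold Ccl
    rw [e1, e4, ar4_Npt_succ q (k + 3), Nat.cast_mul, Nat.cast_sub hpow1]
    push_cast
    rw [hgeom]
  have hm0z : (m0 : ℤ) - 1 = N - 2 := by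
    rw [hm0, hNM]
    push_cast
    ring
  rw [hd, hC, hm0z] at hdvd
  -- D ∣ 2 (Q-1) (2Q-1)
  have h1 : (N * Q - 1) ∣ Q ^ 2 * ((Q * N + 1) * (N * (Q - 1)) * (N - 2)) := Dvd.dvd.mul_left hdvd _
  have h2 : (N * Q - 1) ∣ (N * Q - 1) *
      ((Q - 1) * ((N * Q - 1) ^ 2 + (4 - 2 * Q) * (N * Q - 1) + (5 - 6 * Q))) := Dvd.intro _ rfl
  have h3 : (N * Q - 1) ∣ 2 * (Q - 1) * (2 * Q - 1) := by
    have := Int.dvd_sub h2 h1
    have e : (N * Q - 1) * ((Q - 1) * ((N * Q - 1) ^ 2 + (4 - 2 * Q) * (N * Q - 1) + (5 - 6 * Q))) -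
        Q ^ 2 * ((Q * N + 1) * (N * (Q - 1)) * (N - 2)) = 2 * (Q - 1) * (2 * Q - 1) := by ring
    rwa [e] at this
  have hpos : 0 < 2 * (Q - 1) * (2 * Q - 1) := by nlinarith
  have hle := Int.le_of_dvd hpos h3
  have hNlow : Q ^ 2 + Q + 1 ≤ N := by rw [hNM]; nlinarith
  nlinarith

end Cfsg.Agent.Lib.Helper76.Sl
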