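import Cfsg.Agent.Lib.Helper9.SlK3Defs
import Cfsg.Agent.Lib.Helper3.CharOps

/-! # Sl hive (helper76, S2332), sub-hive K3 (helper9), leaves K3-CHAR + K3-SUM0 (helper25) -/

set_option autoImplicit false
set_option linter.unusedSimpArgs false
set_option linter.unusedVariables false
set_option linter.unusedSectionVars false

namespace Cfsg.Agent.Lib.Helper76.Sl

open Matrix Cfsg
open scoped ComplexConjugate

variable (F : Type*) [Field F] [Fintype F] [DecidableEq F]

/-- K3-CHAR -/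
theorem k3_exists_char : ∃ e : AddChar F ℂ, e ≠ 1 := by
  obtain ⟨ψ, hψ⟩ := (AddChar.exists_apply_ne_zero (α := F) (a := 1)).2 one_ne_zero
  exact ⟨ψ, AddChar.ne_one_iff.2 ⟨1, hψ⟩⟩

/-- K3-SUM0 -/
theorem k3_sum_zero (m : ℕ) (e : AddChar F ℂ) (he : e ≠ 1) :
    ∑ β : Fin (m + 1) → F, e (β 0) = 0 := by
  obtain ⟨c, hc⟩ := AddChar.ne_one_iff.1 he
  have h1 : ∑ β : Fin (m + 1) → F, e ((β + (Pi.single 0 c : Fin (m + 1) → F)) 0) =
      ∑ β : Fin (m + 1) → F, e (β 0) :=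
    Equiv.sum_comp (Equiv.addRight (Pi.single (0 : Fin (m + 1)) c : Fin (m + 1) → F))
      (fun β : Fin (m + 1) → F => e (β 0))
  have h2 : ∑ β : Fin (m + 1) → F, e ((β + (Pi.single 0 c : Fin (m + 1) → F)) 0) =
      e c * ∑ β : Fin (m + 1) → F, e (β 0) := by
    rw [Finset.mul_sum]
    apply Finset.sum_congr rfl
    intro β _
    rw [Pi.add_apply, Pi.single_eq_same, AddChar.map_add_eq_mul, mul_comm]
  rw [h2] at h1
  have h3 : (e c - 1) * ∑ β : Fin (m + 1) → F, e (β 0) = 0 := by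
    rw [sub_mul, one_mul, h1, sub_self]
  rcases mul_eq_zero.1 h3 with h | h
  · exact absurd (sub_eq_zero.1 h) hc
  · exact h

end Cfsg.Agent.Lib.Helper76.Sl
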