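import Mathlib

/-! # Sm hive (helper39, S2086), leaf N-R3 (helper25), abstract core: a biadditive `g : K → K → Y` with
`g (t³ t₁) u = g t₁ (t³ u)` satisfies `g t u = g 1 (t u)` as soon as the cubes generate `K` as a ring. -/

set_option autoImplicit false
set_option linter.unusedSimpArgs false
set_option linter.unusedVariables false
set_option linter.unusedSectionVars false

namespace Cfsg.Agent.Lib.Helper39.Sm

theorem nr3_core {K : Type*} [Field K] {Y : Type*} [Group Y] (g : K → K → Y)
    (hAL : ∀ t t' u : K, g (t + t') u = g t u * g t' u)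
    (hAR : ∀ t u u' : K, g t (u + u') = g t u * g t u')
    (hCube : ∀ t t₁ u : K, g (t ^ 3 * t₁) u = g t₁ (t ^ 3 * u))
    (hSpan : ∀ R : Subring K, (∀ t : K, t ^ 3 ∈ R) → R = ⊤) (t u : K) :
    g t u = g 1 (t * u) := by
  have hL0 : ∀ u : K, g 0 u = 1 := by
    intro u
    have h := hAL 0 0 u
    rw [add_zero] at h
    exact (mul_eq_left.mp h.symm)
  have hR0 : ∀ t : K, g t 0 = 1 := by
    intro t
    have h := hAR t 0 0
    rw [add_zero] at h
    exact (mul_eq_left.mp h.symm)
  have hLneg : ∀ t u : K, g (-t) u = (g t u)⁻¹ := by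
    intro t u
    have h := hAL t (-t) u
    rw [add_neg_cancel, hL0] at h
    exact (inv_eq_of_mul_eq_one_right h.symm).symm
  have hRneg : ∀ t u : K, g t (-u) = (g t u)⁻¹ := by
    intro t u
    have h := hAR t u (-u)
    rw [add_neg_cancel, hR0] at h
    exact (inv_eq_of_mul_eq_one_right h.symm).symm
  let R : Subring K :=
    { carrier := {r : K | ∀ t u : K, g (r * t) u = g t (r * u)}
      mul_mem' := by
        intro r s hr hs t u
        have h1 : g (r * s * t) u = g (s * t) (r * u) := by
          rw [mul_assoc]
          exact hr (s * t) u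
        rw [h1, hs t (r * u)]
        congr 1
        ring
      one_mem' := by
        intro t u
        rw [one_mul, one_mul]
      add_mem' := by
        intro r s hr hs t u
        rw [add_mul, add_mul, hAL, hAR, hr t u, hs t u]
      zero_mem' := by
        intro t u
        rw [zero_mul, zero_mul, hL0, hR0]
      neg_mem' := by
        intro r hr t u
        rw [neg_mul, neg_mul, hLneg, hRneg, hr t u] }
  have hRtop : R = ⊤ := hSpan R (fun s t₁ u => hCube s t₁ u)
  have ht : t ∈ R := by rw [hRtop]; trivial
  have := ht 1 u
  rw [mul_one] at this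
  exact this

end Cfsg.Agent.Lib.Helper39.Sm
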