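import Cfsg.Agent.Lib.Helper39.SmDefs
import Cfsg.Agent.Lib.Helper80.Stn_BASIC
import Cfsg.Agent.Lib.Helper25.Sm_NR3core
import Cfsg.Agent.Lib.Helper39.Sm_NGADD
import Cfsg.Agent.Lib.Helper43.Sm_NGCUBE
import Cfsg.Agent.Lib.Helper44.Sm_NSPAN

/-! # Sm hive (helper39, S2086), leaf N-R3 (helper25): `g(t,u) = g(1, t u)` -/

set_option autoImplicit false
set_option linter.unusedSimpArgs false
set_option linter.unusedVariables false
set_option linter.unusedSectionVars false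

namespace Cfsg.Agent.Lib.Helper39.Sm

open Cfsg.Agent.Lib.Helper41.Stn
open scoped commutatorElement

variable {K : Type*} [Field K] {n : ℕ} {Y : Type*} [Group Y] (φ : Y →* St K n)
  (hφ : Function.Surjective φ)

/-- N-R3. `R := {r | ∀ t u, g(r t, u) = g(t, r u)}` is a subring (`gcm_add_*`) containing the cubes
(`gcm_cube`), so `R = ⊤` (`subring_eq_top_of_cubes`); apply to `r = t`, `t := 1`. -/
theorem gcm_eq [Finite K] (hn : 3 ≤ n) (h2 : Nat.card K ≠ 2) (h4 : Nat.card K ≠ 4)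
    (hc : φ.ker ≤ Subgroup.center Y) (hLA : LA φ) {a b c : Fin n} (hab : a ≠ b) (hbc : b ≠ c)
    (hac : a ≠ c) (t u : K) :
    cm φ hφ (xx a b t) (xx b c u) = cm φ hφ (xx a b 1) (xx b c (t * u)) :=
  nr3_core (fun t u => cm φ hφ (xx a b t) (xx b c u))
    (gcm_add_left φ hφ hc hLA hab hbc hac) (gcm_add_right φ hφ hc hLA hab hbc hac)
    (gcm_cube φ hφ hn h2 hc hab hbc hac) (subring_eq_top_of_cubes h4) t u

end Cfsg.Agent.Lib.Helper39.Sm
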