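import Mathlib

set_option autoImplicit false

namespace Cfsg.Agent.Lib.Helper25.SmallTwo

/-- an element of odd order lying in a 2-subgroup is trivial -/
theorem eq_one_of_odd_order_of_mem {S : Type*} [Group S] {H : Subgroup S} (hH2 : IsPGroup 2 H)
    {d : S} (hd : d ∈ H) (hodd : Odd (orderOf d)) : d = 1 := by
  obtain ⟨k, hk⟩ := hH2 ⟨d, hd⟩
  have hk' : d ^ (2 ^ k) = 1 := by
    have := congrArg Subtype.val hk
    simpa using this
  have h1 : orderOf d ∣ 2 ^ k := orderOf_dvd_of_pow_eq_one hk'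
  have h2 : (orderOf d).Coprime (2 ^ k) := Nat.Coprime.pow_right k hodd.coprime_two_right
  have h3 : orderOf d = 1 := Nat.Coprime.eq_one_of_dvd h2 h1
  exact orderOf_eq_one_iff.mp h3

/-- a finite group in which every element of odd order is trivial is a 2-group -/
theorem isPGroup_two_of_odd_trivial {S : Type*} [Group S] [Finite S]
    (h : ∀ d : S, Odd (orderOf d) → d = 1) : IsPGroup 2 S := by
  intro g
  obtain ⟨k, m, hm, hkm⟩ := Nat.exists_eq_two_pow_mul_odd (orderOf_pos g).ne'
  refine ⟨k, ?_⟩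
  apply h
  have hdvd : orderOf (g ^ 2 ^ k) ∣ m := by
    apply orderOf_dvd_of_pow_eq_one
    rw [← pow_mul, ← hkm, pow_orderOf_eq_one]
  exact Odd.of_dvd_nat hm hdvd

theorem isPGroup_of_normal_cyclic {S : Type*} [Group S] [Finite S] (H : Subgroup S) [H.Normal]
    (hH2 : IsPGroup 2 H) (hcyc : IsCyclic H)
    (hC : Subgroup.centralizer (H : Set S) ≤ H) : IsPGroup 2 S := by
  apply isPGroup_two_of_odd_trivial
  intro d hd
  -- the conjugation action of `d` on `H`
  let φ : S →* MulAut H := MulAut.conjNormal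
  have h1 : orderOf (φ d) ∣ orderOf d := orderOf_map_dvd φ d
  have hcard : Nat.card (MulAut H) = Nat.totient (Nat.card H) := IsCyclic.card_mulAut H
  obtain ⟨n, hn⟩ := (IsPGroup.iff_card (p := 2) (G := H)).mp hH2
  have h2 : orderOf (φ d) ∣ Nat.card (MulAut H) := orderOf_dvd_natCard _
  have h3 : ∃ j, Nat.card (MulAut H) = 2 ^ j := by
    rw [hcard, hn]
    rcases Nat.eq_zero_or_pos n with h0 | hpos
    · exact ⟨0, by simp [h0]⟩
    · refine ⟨n - 1, ?_⟩
      rw [Nat.totient_prime_pow Nat.prime_two hpos]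
      simp
  obtain ⟨j, hj⟩ := h3
  have h4 : orderOf (φ d) = 1 := by
    have hodd : Odd (orderOf (φ d)) := Odd.of_dvd_nat hd h1
    have hcop : (orderOf (φ d)).Coprime (2 ^ j) := Nat.Coprime.pow_right j hodd.coprime_two_right
    exact Nat.Coprime.eq_one_of_dvd hcop (hj ▸ h2)
  have h5 : φ d = 1 := orderOf_eq_one_iff.mp h4
  have hdC : d ∈ Subgroup.centralizer (H : Set S) := by
    rw [Subgroup.mem_centralizer_iff]
    intro h hh
    have := congrArg (fun f : MulAut H => ((f ⟨h, hh⟩ : H) : S)) h5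
    simp only [MulAut.one_apply] at this
    have h6 : d * h * d⁻¹ = h := by simpa [φ, MulAut.conjNormal_apply] using this
    calc h * d = (d * h * d⁻¹) * d := by rw [h6]
      _ = d * h := by group
  exact eq_one_of_odd_order_of_mem hH2 (hC hdC) hd

end Cfsg.Agent.Lib.Helper25.SmallTwo
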