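import Mathlib
import Cfsg.Agent.Lib.Helper25.SmallTwoCyc

set_option autoImplicit false

namespace Cfsg.Agent.Lib.Helper25.SmallTwo

open Subgroup

theorem centralizer_map_le {S : Type*} [Group S] [Finite S] (R : Subgroup S) [R.Normal]
    (hR : IsPGroup 2 R) (hRmax : ∀ N : Subgroup S, N.Normal → IsPGroup 2 N → N ≤ R)
    (hCR : Subgroup.centralizer (R : Set S) ≤ R) (H₀ : Subgroup R) [H₀.Characteristic]
    (hself : Subgroup.centralizer (H₀ : Set R) ≤ H₀) :
    Subgroup.centralizer ((H₀.map R.subtype : Subgroup S) : Set S) ≤ H₀.map R.subtype := by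
  set C' : Subgroup S := H₀.map R.subtype with hC'
  set D : Subgroup S := Subgroup.centralizer (C' : Set S) with hD
  -- C' is normal in S
  have hC'n : C'.Normal := by
    constructor
    intro c hc g
    obtain ⟨h, hh, rfl⟩ := hc
    have hgR : g * (h : S) * g⁻¹ ∈ R := ‹R.Normal›.conj_mem _ h.2 g
    refine ⟨⟨g * (h : S) * g⁻¹, hgR⟩, ?_, rfl⟩
    -- conjugation by g restricted to R is an automorphism of R
    have hchar := (Subgroup.characteristic_iff_map_eq.mp ‹H₀.Characteristic›) (MulAut.conjNormal g : MulAut R)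
    have hmem : (MulAut.conjNormal g : MulAut R) h ∈ H₀.map (MulAut.conjNormal g : MulAut R).toMonoidHom :=
      ⟨h, hh, rfl⟩
    rw [hchar] at hmem
    have heq : (⟨g * (h : S) * g⁻¹, hgR⟩ : R) = (MulAut.conjNormal g : MulAut R) h := by
      apply Subtype.ext
      simp [MulAut.conjNormal_apply]
    show (⟨g * (h : S) * g⁻¹, hgR⟩ : R) ∈ H₀
    rw [heq]
    exact hmem
  have hDn : D.Normal := by
    constructor
    intro d hd g
    rw [hD, Subgroup.mem_centralizer_iff] at hd ⊢
    intro c hc
    have hc' : g⁻¹ * c * g ∈ C' := by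
      have := hC'n.conj_mem c hc g⁻¹
      simpa using this
    have := hd _ hc'
    calc c * (g * d * g⁻¹) = g * ((g⁻¹ * c * g) * d) * g⁻¹ := by group
      _ = g * (d * (g⁻¹ * c * g)) * g⁻¹ := by rw [this]
      _ = g * d * g⁻¹ * c := by group
  -- elements of R ∩ D lie in C'
  have hRD : ∀ x : S, x ∈ R → x ∈ D → x ∈ C' := by
    intro x hxR hxD
    refine ⟨⟨x, hxR⟩, ?_, rfl⟩
    apply hself
    rw [Subgroup.mem_centralizer_iff]
    intro h hh
    have hhC : (h : S) ∈ C' := ⟨h, hh, rfl⟩
    rw [hD, Subgroup.mem_centralizer_iff] at hxD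
    have := hxD _ hhC
    exact Subtype.ext this
  -- odd-order elements of D are trivial
  have hodd : ∀ d : S, d ∈ D → Odd (orderOf d) → d = 1 := by
    intro d hdD hdo
    have hdR : d ∈ Subgroup.centralizer (R : Set S) := by
      rw [Subgroup.mem_centralizer_iff]
      intro x hx
      set n : S := x⁻¹ * d * x * d⁻¹ with hn
      have hnR : n ∈ R := by
        have h1 : d * x * d⁻¹ ∈ R := ‹R.Normal›.conj_mem _ hx d
        have : n = x⁻¹ * (d * x * d⁻¹) := by rw [hn]; group
        rw [this]
        exact R.mul_mem (R.inv_mem hx) h1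
      have hnD : n ∈ D := by
        have h1 : x⁻¹ * d * x ∈ D := by
          have := hDn.conj_mem d hdD x⁻¹
          simpa using this
        have : n = (x⁻¹ * d * x) * d⁻¹ := by rw [hn]
        rw [this]
        exact D.mul_mem h1 (D.inv_mem hdD)
      have hnC : n ∈ C' := hRD n hnR hnD
      have hdn : n * d = d * n := by
        rw [hD, Subgroup.mem_centralizer_iff] at hdD
        exact hdD n hnC
      have hconj : d * x * d⁻¹ = x * n := by rw [hn]; group
      have hpow : ∀ j : ℕ, d ^ j * x * (d ^ j)⁻¹ = x * n ^ j := by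
        intro j
        induction j with
        | zero => simp
        | succ j ih =>
          have hdnj : d * n ^ j * d⁻¹ = n ^ j := by
            have : Commute d (n ^ j) := (Commute.pow_right (show Commute d n from hdn.symm) j)
            calc d * n ^ j * d⁻¹ = n ^ j * d * d⁻¹ := by rw [this.eq]
              _ = n ^ j := by group
          calc d ^ (j + 1) * x * (d ^ (j + 1))⁻¹
              = d * (d ^ j * x * (d ^ j)⁻¹) * d⁻¹ := by rw [pow_succ']; group
            _ = d * (x * n ^ j) * d⁻¹ := by rw [ih]
            _ = (d * x * d⁻¹) * (d * n ^ j * d⁻¹) := by group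
            _ = x * n * n ^ j := by rw [hconj, hdnj]
            _ = x * n ^ (j + 1) := by rw [pow_succ', mul_assoc]
      have hnm : n ^ orderOf d = 1 := by
        have := hpow (orderOf d)
        rw [pow_orderOf_eq_one] at this
        simp only [one_mul, inv_one, mul_one] at this
        have h2 : x * n ^ orderOf d = x * 1 := by rw [← this, mul_one]
        exact mul_left_cancel h2
      have hn1 : n = 1 := by
        have h1 : orderOf n ∣ orderOf d := orderOf_dvd_of_pow_eq_one hnm
        exact eq_one_of_odd_order_of_mem hR hnR (Odd.of_dvd_nat hdo h1)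
      have : d * x * d⁻¹ = x := by rw [hconj, hn1, mul_one]
      calc x * d = (d * x * d⁻¹) * d := by rw [this]
        _ = d * x := by group
    exact eq_one_of_odd_order_of_mem hR (hCR hdR) hdo
  -- D is a 2-group
  have hD2 : IsPGroup 2 D := by
    apply isPGroup_two_of_odd_trivial
    intro d hd
    have h1 : orderOf (d : S) = orderOf d := Subgroup.orderOf_coe d
    have := hodd (d : S) d.2 (h1 ▸ hd)
    exact Subtype.ext this
  have hDR : D ≤ R := hRmax D hDn hD2
  intro x hx
  exact hRD x (hDR hx) hx

end Cfsg.Agent.Lib.Helper25.SmallTwo
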