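import Cfsg.Agent.Lib.Helper25.SelfNormCyclic
import Cfsg.Agent.Lib.Helper25.DualOrth

set_option autoImplicit false

/-!
The dual group of a finite abelian group `W = K₁ × K₂` (internal direct product): the
annihilators of `K₂` and `K₁` have orders `|K₁|`, `|K₂|` and the dual is their direct product.
-/

namespace Cfsg.Agent.Lib.Helper25

open Cfsg

variable {W : Type*} [CommGroup W] [Finite W]

theorem card_annih_mul_card (K : Subgroup W) :
    Nat.card (annih K) * Nat.card K = Nat.card W := by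
  classical
  have : Fintype W := Fintype.ofFinite W
  have : Fintype (annih K) := Fintype.ofFinite _
  have h1 : ∑ u : W, ∑ φ : annih K, ((φ : W →* ℂˣ) u : ℂ) =
      (Nat.card (annih K) : ℂ) * (Nat.card K : ℂ) := by
    have hu : ∀ u : W, ∑ φ : annih K, ((φ : W →* ℂˣ) u : ℂ) =
        if u ∈ K then (Fintype.card (annih K) : ℂ) else 0 := by
      intro u
      split_ifs with hu
      · exact sum_annih_apply_of_mem K u hu
      · exact sum_annih_apply_of_not_mem K u hu
    simp only [hu]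
    rw [← Finset.sum_filter, Finset.sum_const, nsmul_eq_mul, mul_comm]
    congr 1
    · rw [Nat.card_eq_fintype_card]
    · rw [Nat.card_eq_fintype_card, Fintype.card_subtype]
  have h2 : ∑ u : W, ∑ φ : annih K, ((φ : W →* ℂˣ) u : ℂ) = (Nat.card W : ℂ) := by
    rw [Finset.sum_comm]
    have hφ : ∀ φ : annih K, ∑ u : W, ((φ : W →* ℂˣ) u : ℂ) =
        if φ = 1 then (Fintype.card W : ℂ) else 0 := by
      intro φ
      split_ifs with h
      · subst h; simp
      · apply sum_hom_eq_zero
        intro hc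
        apply h
        exact Subtype.ext hc
    simp only [hφ]
    rw [Finset.sum_ite_eq' Finset.univ (1 : annih K)]
    simp [Nat.card_eq_fintype_card]
  have h3 : ((Nat.card (annih K) * Nat.card K : ℕ) : ℂ) = (Nat.card W : ℂ) := by
    push_cast
    exact h1.symm.trans h2
  exact_mod_cast h3

theorem card_annih_right (K₁ K₂ : Subgroup W) (hcard : Nat.card W = Nat.card K₁ * Nat.card K₂) :
    Nat.card (annih K₂) = Nat.card K₁ := by
  have h := card_annih_mul_card K₂
  rw [hcard] at h
  exact Nat.eq_of_mul_eq_mul_right Nat.card_pos h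

theorem card_annih_left (K₁ K₂ : Subgroup W) (hcard : Nat.card W = Nat.card K₁ * Nat.card K₂) :
    Nat.card (annih K₁) = Nat.card K₂ := by
  have h := card_annih_mul_card K₁
  rw [hcard, mul_comm (Nat.card K₁)] at h
  exact Nat.eq_of_mul_eq_mul_right Nat.card_pos h

theorem eq_of_eqOn_sup (K₁ K₂ : Subgroup W) (hsup : K₁ ⊔ K₂ = ⊤) (φ φ' : W →* ℂˣ)
    (h₁ : ∀ w ∈ K₁, φ w = φ' w) (h₂ : ∀ w ∈ K₂, φ w = φ' w) : φ = φ' := by
  have hle : K₁ ⊔ K₂ ≤ φ.eqLocus φ' := sup_le (fun w hw => h₁ w hw) (fun w hw => h₂ w hw)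
  rw [hsup] at hle
  ext w
  have := hle (Subgroup.mem_top w)
  exact congrArg Units.val this

theorem dual_mul_bijective (K₁ K₂ : Subgroup W) (hsup : K₁ ⊔ K₂ = ⊤)
    (hcard : Nat.card W = Nat.card K₁ * Nat.card K₂) :
    Function.Bijective (fun p : annih K₂ × annih K₁ => ((p.1 : W →* ℂˣ) * (p.2 : W →* ℂˣ))) := by
  apply Function.Injective.bijective_of_nat_card_le
  · rintro ⟨φ, ψ⟩ ⟨φ', ψ'⟩ h
    simp only at h
    have hw : ∀ w, (φ : W →* ℂˣ) w * (ψ : W →* ℂˣ) w =
        (φ' : W →* ℂˣ) w * (ψ' : W →* ℂˣ) w := by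
      intro w
      have := DFunLike.congr_fun h w
      simpa using this
    have e1 : (φ : W →* ℂˣ) = φ' := by
      apply eq_of_eqOn_sup K₁ K₂ hsup
      · intro w hw1
        have := hw w
        rwa [ψ.2 w hw1, ψ'.2 w hw1, mul_one, mul_one] at this
      · intro w hw2
        rw [φ.2 w hw2, φ'.2 w hw2]
    have e2 : (ψ : W →* ℂˣ) = ψ' := by
      apply eq_of_eqOn_sup K₁ K₂ hsup
      · intro w hw1
        rw [ψ.2 w hw1, ψ'.2 w hw1]
      · intro w hw2
        have := hw w
        rwa [φ.2 w hw2, φ'.2 w hw2, one_mul, one_mul] at this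
    exact Prod.ext (Subtype.ext e1) (Subtype.ext e2)
  · rw [Nat.card_prod, card_annih_right K₁ K₂ hcard, card_annih_left K₁ K₂ hcard, ← hcard]
    have := hasEnoughRoots W
    rw [CommGroup.card_monoidHom_of_hasEnoughRootsOfUnity W ℂ]

end Cfsg.Agent.Lib.Helper25
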