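import Mathlib
import Cfsg.Agent.Lib.Helper41.SpBNDefs

/-! # S2545 hive (helper41), leaf RK1L (helper25): the rank one identity for the long simple root -/

set_option autoImplicit false

namespace Cfsg.Agent.Lib.Helper41.SpBN

open Matrix Cfsg Cfsg.Agent.Lib.Helper13

variable {F : Type*} [Field F] {m : ℕ}

/-- rows of `g * M` for a monomial matrix `g` -/
theorem rk1l_mono_mul_apply {g M : Matrix (Idx m) (Idx m) F} {π : Equiv.Perm (Idx m)}
    {d : Idx m → F} (h : IsMono g π d) (p q : Idx m) :
    (g * M) p q = d (π.symm p) * M (π.symm p) q := by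
  rw [Matrix.mul_apply]
  rw [Finset.sum_eq_single (π.symm p)]
  · rw [h p (π.symm p), if_pos (Equiv.apply_symm_apply π p).symm]
  · intro r _ hr
    rw [h p r, if_neg, zero_mul]
    intro hp
    apply hr
    rw [hp, Equiv.symm_apply_apply]
  · intro hp
    exact absurd (Finset.mem_univ _) hp

/-- the negative long root elements are symplectic -/
theorem rk1l_xLm_mem (k : Fin m) (u : F) :
    (1 + u • Matrix.single (Sum.inr k) (Sum.inl k) (1 : F) : Matrix (Idx m) (Idx m) F) ∈
      Matrix.symplecticGroup (Fin m) F := by
  have e : (1 + u • Matrix.single (Sum.inr k) (Sum.inl k) (1 : F) : Matrix (Idx m) (Idx m) F) =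
      Matrix.fromBlocks 1 0 (Matrix.single k k u) 1 := by
    ext p q
    rcases p with i | i <;> rcases q with j | j <;>
      simp [Matrix.single_apply, Matrix.one_apply]
  rw [e, SymplecticGroup.mem_iff]
  unfold Matrix.J
  rw [Matrix.fromBlocks_transpose, Matrix.fromBlocks_multiply, Matrix.fromBlocks_multiply]
  simp only [Matrix.transpose_one, Matrix.transpose_zero, Matrix.transpose_single]
  congr 1 <;> simp

/-- LEAF RK1L: for `t ≠ 0`, `s * x_L(t) = c * x_Lm(1/t)` with `c = s * x_L(t) * x_Lm(-1/t) ∈ B`. -/
theorem rk1L {k : Fin m} (hk : (k : ℕ) + 1 = m) {s : SpG F m}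
    (hs : s.1 = monoMat (simpleLong k) (1 : Fin m → Fˣ)) :
    ∀ x ∈ XL F m k, x = 1 ∨ ∃ c ∈ Bsp F m, ∃ y ∈ XLm F m k, s * x = c * y := by
  rintro x ⟨t, hx⟩
  by_cases ht : t = 0
  · left
    apply Subtype.ext
    rw [hx, ht, zero_smul, add_zero]
    rfl
  right
  set u : F := t⁻¹ with hu
  have htu : t * u = 1 := mul_inv_cancel₀ ht
  let y : SpG F m := ⟨_, rk1l_xLm_mem k u⟩
  let y' : SpG F m := ⟨_, rk1l_xLm_mem k (-u)⟩
  have hy'y : y' * y = 1 := by
    apply Subtype.ext
    change (1 + (-u) • Matrix.single (Sum.inr k) (Sum.inl k) (1 : F)) *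
      (1 + u • Matrix.single (Sum.inr k) (Sum.inl k) (1 : F)) = (1 : Matrix (Idx m) (Idx m) F)
    have hne : (Sum.inl k : Idx m) ≠ Sum.inr k := by simp
    rw [Matrix.add_mul, Matrix.mul_add, Matrix.mul_add, Matrix.one_mul, Matrix.one_mul, Matrix.mul_one,
      Matrix.smul_mul, Matrix.mul_smul, Matrix.single_mul_single_of_ne _ _ _ _ hne _]
    simp
  have hmono := monoMat_isMono (F := F) (simpleLong k) (1 : Fin m → Fˣ)
  rw [← hs] at hmono
  refine ⟨s * x * y', ?_, y, ⟨u, rfl⟩, ?_⟩
  · rw [mem_Bsp_iff]
    have hc : (s * x * y').1 = s.1 * (x.1 * y'.1) := by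
      change s.1 * x.1 * y'.1 = _
      rw [Matrix.mul_assoc]
    have hZ : ∀ r : Idx m, ∀ j : Fin m, (x.1 * y'.1) r (Sum.inl j) =
        (if r = Sum.inl j then 1 else 0) - (if r = Sum.inr k ∧ j = k then u else 0)
          - (if r = Sum.inl k ∧ j = k then 1 else 0) := by
      intro r j
      rw [hx]
      change ((1 + t • Matrix.single (Sum.inl k) (Sum.inr k) (1 : F)) *
        (1 + (-u) • Matrix.single (Sum.inr k) (Sum.inl k) (1 : F)) : Matrix (Idx m) (Idx m) F) r
          (Sum.inl j) = _
      rw [Matrix.add_mul, Matrix.mul_add, Matrix.mul_add, Matrix.one_mul, Matrix.one_mul,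
        Matrix.mul_one, Matrix.smul_mul, Matrix.mul_smul, Matrix.single_mul_single_same]
      simp only [Matrix.add_apply, Matrix.smul_apply, Matrix.one_apply, Matrix.single_apply, smul_eq_mul]
      by_cases h2 : j = k
      · subst h2
        rcases r with i | i
        · by_cases h3 : i = j
          · subst h3
            simp
            linear_combination (-1 : F) * htu
          · simp [h3, Ne.symm h3]
        · by_cases h3 : i = j
          · subst h3
            simp
          · simp [h3, Ne.symm h3]
      · simp [h2, Ne.symm h2]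
    have hsym : ∀ p : Idx m, (simpleLong k).symm p = simpleLong k p := fun p => by
      unfold simpleLong
      rw [Equiv.symm_swap]
    constructor
    · intro i j hji
      rw [hc, rk1l_mono_mul_apply hmono, hZ, hsym]
      by_cases hik : i = k
      · subst hik
        have h1 : simpleLong i (Sum.inl i) = Sum.inr i := by
          unfold simpleLong
          simp
        rw [h1]
        have hj : j ≠ i := by
          intro h
          rw [h] at hji
          omega
        simp [hj]
      · have h1 : simpleLong k (Sum.inl i) = Sum.inl i := by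
          unfold simpleLong
          apply Equiv.swap_apply_of_ne_of_ne <;> simp [hik]
        rw [h1]
        have hj : i ≠ j := by
          intro h
          rw [h] at hji
          omega
        simp [hik, hj]
    · intro i j
      rw [hc, rk1l_mono_mul_apply hmono, hZ, hsym]
      by_cases hik : i = k
      · subst hik
        have h1 : simpleLong i (Sum.inr i) = Sum.inl i := by
          unfold simpleLong
          simp
        rw [h1]
        by_cases hj : j = i
        · subst hj
          simp
        · simp [hj, Ne.symm hj]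
      · have h1 : simpleLong k (Sum.inr i) = Sum.inr i := by
          unfold simpleLong
          apply Equiv.swap_apply_of_ne_of_ne <;> simp [hik]
        rw [h1]
        simp [hik]
  · rw [mul_assoc, mul_assoc, hy'y, mul_one]

end Cfsg.Agent.Lib.Helper41.SpBN
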