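import Mathlib
import Cfsg.Agent.Lib.Helper41.SpBNDefs
import Cfsg.Agent.Lib.Helper25.SpBN_RK1L

/-! # S2545 hive (helper41), leaf RK1S (helper25): the rank one identity for a short simple root -/

set_option autoImplicit false
set_option linter.unusedSimpArgs false

namespace Cfsg.Agent.Lib.Helper41.SpBN

open Matrix Cfsg Cfsg.Agent.Lib.Helper13

variable {F : Type*} [Field F] {m : ℕ}

/-- the negative short root elements are symplectic -/
theorem rk1s_xSm_mem (k k' : Fin m) (hkk : k ≠ k') (u : F) :
    (1 + u • Matrix.single (Sum.inl k') (Sum.inl k) (1 : F)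
      - u • Matrix.single (Sum.inr k) (Sum.inr k') (1 : F) : Matrix (Idx m) (Idx m) F) ∈
      Matrix.symplecticGroup (Fin m) F := by
  have e : (1 + u • Matrix.single (Sum.inl k') (Sum.inl k) (1 : F)
      - u • Matrix.single (Sum.inr k) (Sum.inr k') (1 : F) : Matrix (Idx m) (Idx m) F) =
      Matrix.fromBlocks (1 + Matrix.single k' k u) 0 0 (1 - Matrix.single k k' u) := by
    ext p q
    rcases p with i | i <;> rcases q with j | j <;>
      simp [Matrix.single_apply, Matrix.one_apply]
  rw [e, SymplecticGroup.mem_iff]
  unfold Matrix.J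
  rw [Matrix.fromBlocks_transpose, Matrix.fromBlocks_multiply, Matrix.fromBlocks_multiply]
  have h1 : (1 + Matrix.single k' k u) * (1 - Matrix.single k k' u)ᵀ = (1 : Matrix (Fin m) (Fin m) F) := by
    rw [Matrix.transpose_sub, Matrix.transpose_one, Matrix.transpose_single, Matrix.add_mul,
      Matrix.mul_sub, Matrix.mul_sub, Matrix.one_mul, Matrix.mul_one, Matrix.one_mul,
      Matrix.single_mul_single_of_ne _ _ _ _ hkk _]
    simp
  have h2 : (1 - Matrix.single k k' u) * (1 + Matrix.single k' k u)ᵀ = (1 : Matrix (Fin m) (Fin m) F) := by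
    rw [Matrix.transpose_add, Matrix.transpose_one, Matrix.transpose_single, Matrix.sub_mul,
      Matrix.mul_add, Matrix.mul_add, Matrix.one_mul, Matrix.mul_one, Matrix.one_mul,
      Matrix.single_mul_single_of_ne _ _ _ _ hkk.symm _]
    simp
  simp only [Matrix.mul_zero, Matrix.zero_mul, Matrix.mul_one, Matrix.mul_neg, Matrix.neg_mul, zero_add, add_zero,
    Matrix.transpose_zero, h1, h2, neg_zero]

theorem rk1s_symm_inl (k k' i : Fin m) :
    (simpleShort k k').symm (Sum.inl i) = Sum.inl (Equiv.swap k k' i) := by
  unfold simpleShort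
  rw [Equiv.Perm.mul_def, Equiv.symm_trans_apply, Equiv.symm_swap, Equiv.symm_swap]
  simp only [Equiv.swap_apply_def]
  split_ifs <;> simp_all

theorem rk1s_symm_inr (k k' i : Fin m) :
    (simpleShort k k').symm (Sum.inr i) = Sum.inr (Equiv.swap k k' i) := by
  unfold simpleShort
  rw [Equiv.Perm.mul_def, Equiv.symm_trans_apply, Equiv.symm_swap, Equiv.symm_swap]
  simp only [Equiv.swap_apply_def]
  split_ifs <;> simp_all

/-- LEAF RK1S -/
theorem rk1S {k k' : Fin m} (hkk : (k : ℕ) + 1 = (k' : ℕ)) {s : SpG F m}
    (hs : s.1 = monoMat (simpleShort k k') (1 : Fin m → Fˣ)) :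
    ∀ x ∈ XS F m k k', x = 1 ∨ ∃ c ∈ Bsp F m, ∃ y ∈ XSm F m k k', s * x = c * y := by
  rintro x ⟨t, hx⟩
  by_cases ht : t = 0
  · left
    apply Subtype.ext
    rw [hx, ht, zero_smul, zero_smul, add_zero, sub_zero]
    rfl
  right
  have hne : k ≠ k' := by
    intro h
    rw [h] at hkk
    omega
  set u : F := t⁻¹ with hu
  have htu : t * u = 1 := mul_inv_cancel₀ ht
  let y : SpG F m := ⟨_, rk1s_xSm_mem k k' hne u⟩
  let y' : SpG F m := ⟨_, rk1s_xSm_mem k k' hne (-u)⟩
  have hAB : (Sum.inl k : Idx m) ≠ Sum.inr k := by simp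
  have hAB' : (Sum.inl k : Idx m) ≠ Sum.inr k' := by simp
  have hA'B : (Sum.inl k' : Idx m) ≠ Sum.inr k := by simp
  have hA'B' : (Sum.inl k' : Idx m) ≠ Sum.inr k' := by simp
  have hAA' : (Sum.inl k : Idx m) ≠ Sum.inl k' := by simp [hne]
  have hBB' : (Sum.inr k : Idx m) ≠ Sum.inr k' := by simp [hne]
  have hy'y : y' * y = 1 := by
    apply Subtype.ext
    change (1 + (-u) • Matrix.single (Sum.inl k') (Sum.inl k) (1 : F)
        - (-u) • Matrix.single (Sum.inr k) (Sum.inr k') (1 : F)) *
      (1 + u • Matrix.single (Sum.inl k') (Sum.inl k) (1 : F)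
        - u • Matrix.single (Sum.inr k) (Sum.inr k') (1 : F)) = (1 : Matrix (Idx m) (Idx m) F)
    simp only [Matrix.add_mul, Matrix.sub_mul, Matrix.mul_add, Matrix.mul_sub, Matrix.one_mul, Matrix.mul_one,
      Matrix.smul_mul, Matrix.mul_smul,
      Matrix.single_mul_single_of_ne _ _ _ _ hAA' _,
      Matrix.single_mul_single_of_ne _ _ _ _ hA'B.symm _, Matrix.single_mul_single_of_ne _ _ _ _ hBB'.symm _]
    simp
    abel
  have hmono := monoMat_isMono (F := F) (simpleShort k k') (1 : Fin m → Fˣ)
  rw [← hs] at hmono
  refine ⟨s * x * y', ?_, y, ⟨u, rfl⟩, ?_⟩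
  · rw [mem_Bsp_iff]
    have hc : (s * x * y').1 = s.1 * (x.1 * y'.1) := by
      change s.1 * x.1 * y'.1 = _
      rw [Matrix.mul_assoc]
    have hZ : ∀ r : Idx m, ∀ j : Fin m, (x.1 * y'.1) r (Sum.inl j) =
        (if r = Sum.inl j then 1 else 0) - (if r = Sum.inl k' ∧ j = k then u else 0)
          + (if r = Sum.inl k ∧ j = k' then t else 0) - (if r = Sum.inl k ∧ j = k then 1 else 0) := by
      intro r j
      rw [hx]
      change ((1 + t • Matrix.single (Sum.inl k) (Sum.inl k') (1 : F)
          - t • Matrix.single (Sum.inr k') (Sum.inr k) (1 : F)) *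
        (1 + (-u) • Matrix.single (Sum.inl k') (Sum.inl k) (1 : F)
          - (-u) • Matrix.single (Sum.inr k) (Sum.inr k') (1 : F)) : Matrix (Idx m) (Idx m) F) r
          (Sum.inl j) = _
      simp only [Matrix.add_mul, Matrix.sub_mul, Matrix.mul_add, Matrix.mul_sub, Matrix.one_mul, Matrix.mul_one,
        Matrix.smul_mul, Matrix.mul_smul, Matrix.single_mul_single_same,
        Matrix.single_mul_single_of_ne _ _ _ _ hA'B _, Matrix.single_mul_single_of_ne _ _ _ _ hA'B.symm _]
      simp only [Matrix.add_apply, Matrix.sub_apply, Matrix.smul_apply, Matrix.one_apply, Matrix.single_apply,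
        smul_eq_mul]
      simp only [Matrix.zero_apply, mul_zero, sub_zero, add_zero, mul_one]
      rcases r with i | i
      · simp only [Sum.inl.injEq, reduceCtorEq, false_and, and_false, if_false, mul_zero, sub_zero]
        by_cases h1 : j = k
        · subst h1
          by_cases h2 : i = j
          · subst h2
            simp [hne, hne.symm]
            linear_combination (-1 : F) * htu
          · by_cases h3 : i = k'
            · subst h3
              simp [hne, hne.symm]
            · simp [hne, hne.symm, h2, h3, Ne.symm h2, Ne.symm h3]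
        · by_cases h1' : j = k'
          · subst h1'
            by_cases h2 : i = k
            · subst h2
              simp [hne, hne.symm]
            · by_cases h3 : i = j
              · subst h3
                simp [hne, hne.symm]
              · simp [hne, hne.symm, h2, h3, Ne.symm h2, Ne.symm h3]
          · simp [h1, h1', Ne.symm h1, Ne.symm h1']
      · simp
    constructor
    · intro i j hji
      rw [hc, rk1l_mono_mul_apply hmono, hZ, rk1s_symm_inl]
      by_cases hik : i = k
      · subst hik
        have hj1 : j ≠ i := by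
          intro h
          rw [h] at hji
          omega
        have hj2 : j ≠ k' := by
          intro h
          rw [h] at hji
          omega
        simp [hj1, hj2, Ne.symm hj2, hne.symm]
      · by_cases hik' : i = k'
        · subst hik'
          have hj1 : j ≠ i := by
            intro h
            rw [h] at hji
            omega
          simp [hj1, hne]
          right
          by_cases hjk : j = k
          · subst hjk
            simp
          · simp [hjk, Ne.symm hjk]
        · have hj1 : i ≠ j := by
            intro h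
            rw [h] at hji
            omega
          rw [Equiv.swap_apply_of_ne_of_ne hik hik']
          simp [hik, hik', hj1]
    · intro i j
      rw [hc, rk1l_mono_mul_apply hmono, hZ, rk1s_symm_inr]
      simp
  · rw [mul_assoc, mul_assoc, hy'y, mul_one]

end Cfsg.Agent.Lib.Helper41.SpBN
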