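import Mathlib
import Cfsg.Agent.Lib.Helper3.SzB0
import Cfsg.Agent.Lib.Helper3.Burnside
import Cfsg.Agent.Lib.Helper80.Kernel

set_option autoImplicit false
set_option linter.style.haveILetI false
set_option linter.unusedSectionVars false

/-! # S0347 part B, leaf B3e (`eq_one_of_ker`): an irreducible character of a simple group with a
nontrivial element in its kernel is principal. -/

namespace Cfsg.Agent.Lib.Helper3.Sz

open Cfsg MulAction
open Cfsg.Agent.Lib.Helper97.Zass
open Cfsg.Agent.Lib.Helper3.ZassOdd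
open Cfsg.Agent.Lib.Helper3.ZassFeit
open scoped ComplexConjugate

variable {G Ω : Type*} [Group G] [MulAction G Ω] [Fintype Ω] {a b : Ω} {Q : Subgroup G} {q : ℕ}
variable [Fintype G] [Fintype Q] [Fintype (twoStab G a b)] [IsSimpleGroup G]

/-- B3e. an irreducible character of a simple group with a nontrivial element in its kernel is principal. -/
theorem eq_one_of_ker {ψ : G → ℂ} (hψ : IsIrrCharacter G ψ) {z : G} (hz1 : z ≠ 1)
    (hz : ψ z = ψ 1) : ψ = fun _ => 1 := by
  obtain ⟨n, ρ, hρ, rfl⟩ := hψ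
  have hzker : z ∈ MonoidHom.ker ρ := (Cfsg.Agent.Lib.Helper80.mem_ker_iff_char ρ z).2 hz
  have htop : MonoidHom.ker ρ = ⊤ := by
    rcases (MonoidHom.normal_ker ρ).eq_bot_or_eq_top with h | h
    · rw [h, Subgroup.mem_bot] at hzker
      exact absurd hzker hz1
    · exact h
  apply Cfsg.Agent.Lib.Helper3.character_eq_one_of_forall_eq_id ρ hρ
  intro y
  have hy : y ∈ MonoidHom.ker ρ := by rw [htop]; trivial
  exact MonoidHom.mem_ker.mp hy
end Cfsg.Agent.Lib.Helper3.Sz
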