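import Mathlib
import Cfsg.Agent.Lib.Helper5.TwoSubspaces

/-! # Tq hive (helper59, S5973 + S5987), sub-lemma of TQ-CNT (helper25): the number of singular vectors
orthogonal to a totally singular subspace, for ANY nondegenerate quadratic form over a finite field
(any characteristic, any dimension), without complements:

`q * #{Q = 0} + q ^ (n - j) = q * #{Q = 0, ⟂ U} + q ^ n`.

Idea: for `v ∉ U^⟂` the functional `lam v = B(v, ·)|_U` is non-zero and constant on `v + U`; choose
`g lam ∈ U` with `lam (g lam) = 1`; then `Φ_c v = v + c • g (lam v)` is a bijection of `V ∖ U^⟂` with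
`Q (Φ_c v) = Q v + c`.  So `Q` takes every value equally often on `V ∖ U^⟂`. -/

set_option autoImplicit false
set_option linter.unusedSimpArgs false
set_option linter.unusedVariables false
set_option linter.unusedSectionVars false

namespace Cfsg.Agent.Lib.Helper59.Tq

open Module

universe u v

section cntperp

variable {F : Type u} [Field F] {V : Type v} [AddCommGroup V] [Module F V]

/-- the restriction to `U` of `B(v, ·)` -/
noncomputable def cntperp_lam (Q : QuadraticForm F V) (U : Submodule F V) (v : V) : U →ₗ[F] F :=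
  (QuadraticMap.polarBilin Q v).domRestrict U

theorem cntperp_lam_apply (Q : QuadraticForm F V) (U : Submodule F V) (v : V) (w : U) :
    cntperp_lam Q U v w = QuadraticMap.polar Q v (w : V) := rfl

/-- `lam` does not change when a vector of the totally singular `U` is added -/
theorem cntperp_lam_add (Q : QuadraticForm F V) (U : Submodule F V) (hU : ∀ w ∈ U, Q w = 0)
    (v : V) (c : F) (w : U) : cntperp_lam Q U (v + c • (w : V)) = cntperp_lam Q U v := by
  apply LinearMap.ext
  intro x
  rw [cntperp_lam_apply, cntperp_lam_apply, QuadraticMap.polar_add_left,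
    QuadraticMap.polar_smul_left]
  have h0 : QuadraticMap.polar Q (w : V) (x : V) = 0 := by
    unfold QuadraticMap.polar
    rw [hU _ (U.add_mem w.2 x.2), hU _ w.2, hU _ x.2]
    ring
  rw [h0, smul_zero, add_zero]

/-- `v ∈ U^⟂` iff `lam v = 0` -/
theorem cntperp_lam_eq_zero_iff (Q : QuadraticForm F V) (U : Submodule F V) (v : V) :
    cntperp_lam Q U v = 0 ↔ ∀ u ∈ U, QuadraticMap.polar Q u v = 0 := by
  constructor
  · intro h u hu
    have h1 := LinearMap.congr_fun h ⟨u, hu⟩
    rw [cntperp_lam_apply, LinearMap.zero_apply] at h1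
    rw [QuadraticMap.polar_comm]
    exact h1
  · intro h
    apply LinearMap.ext
    intro x
    rw [cntperp_lam_apply, LinearMap.zero_apply, QuadraticMap.polar_comm]
    exact h _ x.2

/-- a choice of `g lam ∈ U` with `lam (g lam) = 1` -/
theorem cntperp_exists_g (U : Submodule F V) :
    ∃ g : (U →ₗ[F] F) → U, ∀ l : U →ₗ[F] F, l ≠ 0 → l (g l) = 1 := by
  have h : ∀ l : U →ₗ[F] F, ∃ w : U, l ≠ 0 → l w = 1 := by
    intro l
    by_cases hl : l = 0
    · exact ⟨0, fun h' => absurd hl h'⟩
    · obtain ⟨u₀, hu₀⟩ := DFunLike.ne_iff.1 hl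
      rw [LinearMap.zero_apply] at hu₀
      exact ⟨(l u₀)⁻¹ • u₀, fun _ => by rw [map_smul, smul_eq_mul, inv_mul_cancel₀ hu₀]⟩
  choose g hg using h
  exact ⟨g, hg⟩

/-- the shift -/
noncomputable def cntperp_phi (Q : QuadraticForm F V) (U : Submodule F V)
    (g : (U →ₗ[F] F) → U) (c : F) (v : V) : V :=
  v + c • (g (cntperp_lam Q U v) : V)

theorem cntperp_lam_phi (Q : QuadraticForm F V) (U : Submodule F V) (hU : ∀ w ∈ U, Q w = 0)
    (g : (U →ₗ[F] F) → U) (c : F) (v : V) :
    cntperp_lam Q U (cntperp_phi Q U g c v) = cntperp_lam Q U v :=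
  cntperp_lam_add Q U hU v c _

theorem cntperp_phi_phi (Q : QuadraticForm F V) (U : Submodule F V) (hU : ∀ w ∈ U, Q w = 0)
    (g : (U →ₗ[F] F) → U) (c : F) (v : V) :
    cntperp_phi Q U g (-c) (cntperp_phi Q U g c v) = v := by
  have h := cntperp_lam_phi Q U hU g c v
  unfold cntperp_phi at h ⊢
  rw [h, neg_smul]
  abel

theorem cntperp_Q_phi (Q : QuadraticForm F V) (U : Submodule F V) (hU : ∀ w ∈ U, Q w = 0)
    (g : (U →ₗ[F] F) → U) (hg : ∀ l : U →ₗ[F] F, l ≠ 0 → l (g l) = 1) (c : F) (v : V)
    (hv : cntperp_lam Q U v ≠ 0) : Q (cntperp_phi Q U g c v) = Q v + c := by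
  unfold cntperp_phi
  have h1 := hg _ hv
  rw [cntperp_lam_apply] at h1
  rw [QuadraticMap.map_add (⇑Q), QuadraticMap.map_smul, hU _ (g (cntperp_lam Q U v)).2,
    QuadraticMap.polar_smul_right, h1]
  simp

end cntperp

section cntperp_count

variable {F : Type u} [Field F] [Fintype F] {V : Type v} [AddCommGroup V] [Module F V]
  [FiniteDimensional F V]

/-- `Q` takes the value `0` on exactly `1/q` of the vectors outside `U^⟂` -/
theorem cntperp_card_outside (Q : QuadraticForm F V) (U : Submodule F V)
    (hU : ∀ w ∈ U, Q w = 0) :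
    Nat.card {v : V // cntperp_lam Q U v ≠ 0} =
      Nat.card {v : V // Q v = 0 ∧ cntperp_lam Q U v ≠ 0} * Fintype.card F := by
  obtain ⟨g, hg⟩ := cntperp_exists_g (F := F) U
  rw [← Nat.card_eq_fintype_card (α := F), ← Nat.card_prod]
  apply Nat.card_congr
  refine
    { toFun := fun v => (⟨cntperp_phi Q U g (-(Q v.1)) v.1, ?_, ?_⟩, Q v.1)
      invFun := fun w => ⟨cntperp_phi Q U g w.2 w.1.1, ?_⟩
      left_inv := ?_
      right_inv := ?_ }
  · rw [cntperp_Q_phi Q U hU g hg _ _ v.2]
    ring
  · rw [cntperp_lam_phi Q U hU]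
    exact v.2
  · rw [cntperp_lam_phi Q U hU]
    exact w.1.2.2
  · intro v
    apply Subtype.ext
    show cntperp_phi Q U g (Q v.1) (cntperp_phi Q U g (-(Q v.1)) v.1) = v.1
    have h := cntperp_phi_phi Q U hU g (-(Q v.1)) v.1
    rw [neg_neg] at h
    exact h
  · rintro ⟨⟨w, hw0, hw⟩, c⟩
    have hQ : Q (cntperp_phi Q U g c w) = c := by
      rw [cntperp_Q_phi Q U hU g hg _ _ hw, hw0, zero_add]
    apply Prod.ext
    · apply Subtype.ext
      show cntperp_phi Q U g (-(Q (cntperp_phi Q U g c w))) (cntperp_phi Q U g c w) = w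
      rw [hQ]
      exact cntperp_phi_phi Q U hU g c w
    · exact hQ

/-- splitting a count along a predicate -/
theorem cntperp_card_split {α : Type*} [Finite α] (p r : α → Prop) :
    Nat.card {a : α // p a} = Nat.card {a : α // p a ∧ r a} + Nat.card {a : α // p a ∧ ¬ r a} := by
  classical
  have e : {a : α // p a} ≃ {a : α // p a ∧ r a} ⊕ {a : α // p a ∧ ¬ r a} :=
    { toFun := fun w => if h : r w.1 then Sum.inl ⟨w.1, w.2, h⟩ else Sum.inr ⟨w.1, w.2, h⟩
      invFun := fun x => Sum.elim (fun w => ⟨w.1, w.2.1⟩) (fun w => ⟨w.1, w.2.1⟩) x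
      left_inv := by
        intro w
        by_cases h : r w.1
        · simp [h]
        · simp [h]
      right_inv := by
        rintro (w | w)
        · simp [w.2.2]
        · simp [w.2.2] }
  rw [Nat.card_congr e, Nat.card_sum]

/-- **the perp count**: `q * #{Q = 0} + q ^ (n - j) = q * #{Q = 0, ⟂ U} + q ^ n` -/
theorem cntperp_card (Q : QuadraticForm F V) (hQ : (QuadraticMap.polarBilin Q).Nondegenerate)
    (U : Submodule F V) (hU : ∀ w ∈ U, Q w = 0) :
    Fintype.card F * Nat.card {v : V // Q v = 0} + Fintype.card F ^ (finrank F V - finrank F U) =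
      Fintype.card F * Nat.card {v : V // Q v = 0 ∧ ∀ u ∈ U, QuadraticMap.polar Q u v = 0} +
        Fintype.card F ^ finrank F V := by
  classical
  have : Finite V := Module.finite_of_finite F
  set B : LinearMap.BilinForm F V := QuadraticMap.polarBilin Q with hB
  have hrefl : LinearMap.BilinForm.IsRefl B := by
    intro x y h
    show QuadraticMap.polar Q y x = 0
    rw [QuadraticMap.polar_comm]
    exact h
  set P := LinearMap.BilinForm.orthogonal B U with hP
  have hmemP : ∀ v, v ∈ P ↔ cntperp_lam Q U v = 0 := by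
    intro v
    rw [cntperp_lam_eq_zero_iff, hP, LinearMap.BilinForm.mem_orthogonal_iff]
    rfl
  -- cardinalities of `P` and `V`
  have hPcard : Nat.card P = Fintype.card F ^ (finrank F V - finrank F U) := by
    rw [Cfsg.Agent.Lib.Helper5.natCard_submodule]
    congr 1
    exact LinearMap.BilinForm.finrank_orthogonal hQ U
  have hVcard : Nat.card V = Fintype.card F ^ finrank F V := by
    rw [Module.natCard_eq_pow_finrank (K := F), Nat.card_eq_fintype_card]
  -- outside of `P`
  have h1 : Nat.card {v : V // cntperp_lam Q U v ≠ 0} + Nat.card P = Nat.card V := by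
    have h := Cfsg.Agent.Lib.Helper5.card_not_mem_add (F := F) P (fun _ => True) (fun _ _ => trivial)
    have e1 : Nat.card {w : V // w ∉ P ∧ True} = Nat.card {v : V // cntperp_lam Q U v ≠ 0} := by
      apply Nat.card_congr
      apply Equiv.subtypeEquivRight
      intro v
      rw [hmemP]
      simp
    have e2 : Nat.card {w : V // True} = Nat.card V :=
      Nat.card_congr (Equiv.subtypeUnivEquiv (fun _ => trivial))
    rw [e1, e2] at h
    exact h
  have h2 := cntperp_card_outside Q U hU
  have h3 := cntperp_card_split (fun v : V => Q v = 0) (fun v => ∀ u ∈ U, QuadraticMap.polar Q u v = 0)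
  have e3 : Nat.card {v : V // Q v = 0 ∧ ¬ ∀ u ∈ U, QuadraticMap.polar Q u v = 0} =
      Nat.card {v : V // Q v = 0 ∧ cntperp_lam Q U v ≠ 0} := by
    apply Nat.card_congr
    apply Equiv.subtypeEquivRight
    intro v
    rw [Ne, cntperp_lam_eq_zero_iff]
  rw [e3] at h3
  rw [h3, ← hPcard, ← hVcard, ← h1, h2]
  ring

end cntperp_count

end Cfsg.Agent.Lib.Helper59.Tq
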