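import Mathlib
import Cfsg.Agent.Lib.Helper5.TwoSubspaces
import Cfsg.Agent.Lib.Helper25.TqCNTperp
import Cfsg.Agent.Lib.Helper43.ZeroCount
import Cfsg.Agent.Lib.Helper43.WittClass

/-! # Tq hive (helper59, S5973 + S5987), sub-lemmas of TQ-CNT (helper25): the zero counts of a nondegenerate
quadratic form of dimension `2 d` according to its type, and the number of extensions of a totally singular
subspace by one singular vector (any characteristic). -/

set_option autoImplicit false
set_option linter.unusedSimpArgs false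
set_option linter.unusedVariables false
set_option linter.unusedSectionVars false

namespace Cfsg.Agent.Lib.Helper59.Tq

open Module

universe u v

section cntzeros

variable {F : Type u} [Field F] [Fintype F] {V : Type v} [AddCommGroup V] [Module F V]
  [FiniteDimensional F V]

/-- a Lagrangian gives the PLUS zero count -/
theorem cntzeros_of_lagrangian (Q : QuadraticForm F V)
    (hQ : (QuadraticMap.polarBilin Q).Nondegenerate) (d : ℕ) (hd : 1 ≤ d)
    (hdim : finrank F V = 2 * d) (U : Submodule F V) (hU : ∀ w ∈ U, Q w = 0)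
    (hUd : finrank F U = d) :
    Nat.card {v : V // Q v = 0} =
      (Fintype.card F ^ d - 1) * (Fintype.card F ^ (d - 1) + 1) + 1 := by
  classical
  have : Finite V := Module.finite_of_finite F
  have key := cntperp_card Q hQ U hU
  set B : LinearMap.BilinForm F V := QuadraticMap.polarBilin Q with hB
  have hUP : U ≤ LinearMap.BilinForm.orthogonal B U := by
    intro x hx
    rw [LinearMap.BilinForm.mem_orthogonal_iff]
    intro u hu
    show QuadraticMap.polar Q u x = 0
    unfold QuadraticMap.polar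
    rw [hU _ (U.add_mem hu hx), hU _ hu, hU _ hx]
    ring
  have hPU : LinearMap.BilinForm.orthogonal B U = U := by
    symm
    apply Submodule.eq_of_le_of_finrank_eq hUP
    rw [LinearMap.BilinForm.finrank_orthogonal hQ U, hdim, hUd]
    omega
  have hN : Nat.card {v : V // Q v = 0 ∧ ∀ u ∈ U, QuadraticMap.polar Q u v = 0} =
      Fintype.card F ^ d := by
    rw [← hUd, ← Cfsg.Agent.Lib.Helper5.natCard_submodule U]
    apply Nat.card_congr
    apply Equiv.subtypeEquivRight
    intro v
    constructor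
    · rintro ⟨-, h⟩
      rw [← hPU, LinearMap.BilinForm.mem_orthogonal_iff]
      exact h
    · intro hv
      refine ⟨hU v hv, ?_⟩
      have h := hUP hv
      rw [LinearMap.BilinForm.mem_orthogonal_iff] at h
      exact h
  rw [hN, hdim, hUd, show 2 * d - d = d by omega] at key
  obtain ⟨d', rfl⟩ : ∃ d', d = d' + 1 := ⟨d - 1, by omega⟩
  rw [Nat.add_sub_cancel]
  set q := Fintype.card F with hq
  have hq1 : 1 ≤ q := Fintype.card_pos
  set a := q ^ d' with ha
  have ha1 : 1 ≤ a := Nat.one_le_pow _ _ hq1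
  have e1 : q ^ (d' + 1) = q * a := by rw [ha, pow_succ]; ring
  have e2 : q ^ (2 * (d' + 1)) = q * (q * a * a) := by rw [ha]; ring
  rw [e1, e2] at key
  have key2 : Nat.card {v : V // Q v = 0} + a = q * a + q * a * a := by
    apply Nat.eq_of_mul_eq_mul_left hq1
    linarith
  have h1 : 1 ≤ q * a := Nat.mul_pos hq1 ha1
  rw [e1]
  zify [h1] at key2 ⊢
  linear_combination key2

/-- closed form of the MINUS zero count of helper43 -/
theorem cntzeros_ZZ_minus (q : ℕ) (hq : 1 ≤ q) (k : ℕ) :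
    Cfsg.Agent.Lib.Helper43.ZZ q 2 1 k + q ^ (k + 1) = q ^ (2 * k + 1) + q ^ k := by
  induction k with
  | zero =>
    simp [Cfsg.Agent.Lib.Helper43.ZZ]
    omega
  | succ k ih =>
    rw [Cfsg.Agent.Lib.Helper43.ZZ]
    obtain ⟨q', rfl⟩ : ∃ q', q = q' + 1 := ⟨q - 1, by omega⟩
    rw [Nat.add_sub_cancel]
    have h2 : (q' + 1) * Cfsg.Agent.Lib.Helper43.ZZ (q' + 1) 2 1 k + (q' + 1) * (q' + 1) ^ (k + 1)
        = (q' + 1) * ((q' + 1) ^ (2 * k + 1) + (q' + 1) ^ k) := by
      rw [← ih]
      ring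
    have e3 : (q' + 1) ^ (2 * (k + 1) + 1) = (q' + 1) * (q' + 1) * (q' + 1) ^ (2 * k + 1) := by ring
    have e4 : (q' + 1) ^ (2 * k + 2) = (q' + 1) * (q' + 1) ^ (2 * k + 1) := by ring
    have e5 : (q' + 1) ^ (k + 1 + 1) = (q' + 1) * (q' + 1) ^ (k + 1) := by ring
    have e6 : (q' + 1) ^ (k + 1) = (q' + 1) * (q' + 1) ^ k := by ring
    rw [e3, e4, e5]
    rw [e6] at h2 ⊢
    nlinarith [h2]

/-- the PLUS form has a Lagrangian -/
theorem cntzeros_lagrangian_of_plus (Q : QuadraticForm F V) (d : ℕ)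
    (Θ : V ≃ₗ[F] (Fin d ⊕ Fin d → F)) (hΘ : ∀ v, Cfsg.quadFormPlus d F (Θ v) = Q v) :
    ∃ U : Submodule F V, (∀ w ∈ U, Q w = 0) ∧ finrank F U = d := by
  let incl : (Fin d → F) →ₗ[F] (Fin d ⊕ Fin d → F) :=
    { toFun := fun y => Sum.elim y 0
      map_add' := by
        intro x y
        funext t
        rcases t with t | t <;> simp
      map_smul' := by
        intro c x
        funext t
        rcases t with t | t <;> simp }
  have hinj : Function.Injective (Θ.symm.toLinearMap.comp incl) := by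
    intro x y hxy
    have h1 : incl x = incl y := Θ.symm.injective hxy
    funext i
    exact congrFun h1 (Sum.inl i)
  refine ⟨LinearMap.range (Θ.symm.toLinearMap.comp incl), ?_, ?_⟩
  · rintro w ⟨y, rfl⟩
    rw [← hΘ]
    show Cfsg.quadFormPlus d F (Θ (Θ.symm (incl y))) = 0
    rw [LinearEquiv.apply_symm_apply]
    unfold Cfsg.quadFormPlus
    apply Finset.sum_eq_zero
    intro i _
    show y i * 0 = 0
    rw [mul_zero]
  · rw [LinearMap.finrank_range_of_inj hinj, Module.finrank_fintype_fun_eq_card, Fintype.card_fin]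

/-- the number of extensions of a totally singular `k`-space by a singular vector, for both zero counts -/
theorem cntzeros_ext (Q : QuadraticForm F V)
    (hQ : (QuadraticMap.polarBilin Q).Nondegenerate) (d k : ℕ)
    (hdim : finrank F V = 2 * d) (U : Submodule F V) (hU : ∀ w ∈ U, Q w = 0)
    (hUk : finrank F U = k) (hkd : k + 1 ≤ d) :
    (Nat.card {v : V // Q v = 0} = (Fintype.card F ^ d - 1) * (Fintype.card F ^ (d - 1) + 1) + 1 →
      Nat.card {v : V // Q v = 0 ∧ (∀ u ∈ U, QuadraticMap.polar Q u v = 0) ∧ v ∉ U} =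
        Fintype.card F ^ k *
          ((Fintype.card F ^ (d - k) - 1) * (Fintype.card F ^ (d - k - 1) + 1))) ∧
    (Nat.card {v : V // Q v = 0} = (Fintype.card F ^ d + 1) * (Fintype.card F ^ (d - 1) - 1) + 1 →
      Nat.card {v : V // Q v = 0 ∧ (∀ u ∈ U, QuadraticMap.polar Q u v = 0) ∧ v ∉ U} =
        Fintype.card F ^ k *
          ((Fintype.card F ^ (d - k) + 1) * (Fintype.card F ^ (d - k - 1) - 1))) := by
  classical
  have : Finite V := Module.finite_of_finite F
  have key := cntperp_card Q hQ U hU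
  have hT : ∀ w ∈ U, Q w = 0 ∧ ∀ u ∈ U, QuadraticMap.polar Q u w = 0 := by
    intro w hw
    refine ⟨hU w hw, fun u hu => ?_⟩
    unfold QuadraticMap.polar
    rw [hU _ (U.add_mem hu hw), hU _ hu, hU _ hw]
    ring
  have hadd := Cfsg.Agent.Lib.Helper5.card_not_mem_add (F := F) U
    (fun v => Q v = 0 ∧ ∀ u ∈ U, QuadraticMap.polar Q u v = 0) hT
  have hE : Nat.card {w : V // w ∉ U ∧ (Q w = 0 ∧ ∀ u ∈ U, QuadraticMap.polar Q u w = 0)} =
      Nat.card {v : V // Q v = 0 ∧ (∀ u ∈ U, QuadraticMap.polar Q u v = 0) ∧ v ∉ U} := by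
    apply Nat.card_congr
    apply Equiv.subtypeEquivRight
    intro v
    tauto
  rw [hE, Cfsg.Agent.Lib.Helper5.natCard_submodule, hUk] at hadd
  rw [← hadd, hdim, hUk] at key
  obtain ⟨c, rfl⟩ : ∃ c, d = k + 1 + c := ⟨d - k - 1, by omega⟩
  rw [show 2 * (k + 1 + c) - k = k + 2 + 2 * c by omega] at key
  rw [show k + 1 + c - k = c + 1 by omega, show c + 1 - 1 = c by omega,
    show k + 1 + c - 1 = k + c by omega]
  set E := Nat.card {v : V // Q v = 0 ∧ (∀ u ∈ U, QuadraticMap.polar Q u v = 0) ∧ v ∉ U} with hEdef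
  set q := Fintype.card F with hq
  have hq1 : 1 ≤ q := Fintype.card_pos
  set a := q ^ c with ha
  set b := q ^ k with hb
  have ha1 : 1 ≤ a := Nat.one_le_pow _ _ hq1
  have hb1 : 1 ≤ b := Nat.one_le_pow _ _ hq1
  have e1 : q ^ (k + 1 + c) = q * a * b := by rw [ha, hb]; ring
  have e2 : q ^ (k + c) = a * b := by rw [ha, hb]; ring
  have e3 : q ^ (k + 2 + 2 * c) = q * q * a * a * b := by rw [ha, hb]; ring
  have e4 : q ^ (2 * (k + 1 + c)) = q * q * a * a * b * b := by rw [ha, hb]; ring
  have e5 : q ^ (c + 1) = q * a := by rw [ha]; ring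
  rw [e3, e4] at key
  rw [e1, e2, e5]
  have h1 : 1 ≤ q * a * b := Nat.mul_pos (Nat.mul_pos hq1 ha1) hb1
  have h2 : 1 ≤ q * a := Nat.mul_pos hq1 ha1
  constructor
  · intro hZ
    rw [hZ] at key
    apply Nat.eq_of_mul_eq_mul_left hq1
    zify [h1, h2] at key ⊢
    linear_combination (-1 : ℤ) * key
  · intro hZ
    rw [hZ] at key
    apply Nat.eq_of_mul_eq_mul_left hq1
    have h3 : 1 ≤ a * b := Nat.mul_pos ha1 hb1
    zify [ha1, h3] at key ⊢
    linear_combination (-1 : ℤ) * key

end cntzeros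

section cntzeros2

variable {F : Type*} [Field F] [Fintype F] {V : Type u} [AddCommGroup V] [Module F V]
  [FiniteDimensional F V]

/-- no Lagrangian gives the MINUS zero count -/
theorem cntzeros_of_not_plus (Q : QuadraticForm F V)
    (hQ : (QuadraticMap.polarBilin Q).Nondegenerate) (d : ℕ)
    (hdim : finrank F V = 2 * d)
    (hnp : ¬ ∃ U : Submodule F V, (∀ w ∈ U, Q w = 0) ∧ finrank F U = d) :
    1 ≤ d ∧ Nat.card {v : V // Q v = 0} =
      (Fintype.card F ^ d + 1) * (Fintype.card F ^ (d - 1) - 1) + 1 := by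
  rcases Cfsg.Agent.Lib.Helper43.ZeroCount.card_zeros_dichotomy V Q hQ d hdim with h | ⟨hd1, h⟩
  · exfalso
    obtain ⟨Θ, hΘ⟩ := Cfsg.Agent.Lib.Helper43.classify_plus V Q hQ d hdim h
    exact hnp (cntzeros_lagrangian_of_plus Q d Θ hΘ)
  · refine ⟨hd1, ?_⟩
    obtain ⟨d', rfl⟩ : ∃ d', d = d' + 1 := ⟨d - 1, by omega⟩
    rw [Nat.add_sub_cancel] at h ⊢
    have hq1 : 1 ≤ Fintype.card F := Fintype.card_pos
    have h2 := cntzeros_ZZ_minus (Fintype.card F) hq1 d'
    rw [← h] at h2
    set q := Fintype.card F with hq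
    set a := q ^ d' with ha
    have ha1 : 1 ≤ a := Nat.one_le_pow _ _ hq1
    have e1 : q ^ (d' + 1) = q * a := by rw [ha, pow_succ]; ring
    have e2 : q ^ (2 * d' + 1) = q * a * a := by rw [ha]; ring
    rw [e1, e2] at h2
    rw [e1]
    zify [ha1] at h2 ⊢
    linear_combination h2

end cntzeros2

end Cfsg.Agent.Lib.Helper59.Tq
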