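import Cfsg.Agent.Lib.Helper25.NormalAct
import Mathlib.GroupTheory.Complement
import Mathlib.GroupTheory.SpecificGroups.Cyclic

set_option autoImplicit false
set_option linter.unusedSectionVars false
set_option linter.style.haveILetI false

/-!
Characters of a group `L = K ⋊ W₁` with `W₁` a cyclic Hall subgroup such that
`C_K(x) = W₂` (cyclic) for all non-identity `x ∈ W₁`.
-/

namespace Cfsg.Agent.Lib.Helper25

open Cfsg
open scoped Pointwise

section TypeP

variable {L : Type*} [Group L] [Fintype L] (K W₁ W₂ : Subgroup L) [hK : K.Normal]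

theorem typeP_index_eq (hKW₁ : K ⊓ W₁ = ⊥) (hKW₁' : K ⊔ W₁ = ⊤) : W₁.index = Nat.card K := by
  have hmul : (K : Set L) * (W₁ : Set L) = Set.univ := by
    rw [← Subgroup.normal_mul, hKW₁', Subgroup.coe_top]
  have hcompl : Subgroup.IsComplement' K W₁ :=
    Subgroup.isComplement'_of_disjoint_and_mul_eq_univ (disjoint_iff.mpr hKW₁) hmul
  exact hcompl.index_eq_card

theorem typeP_decomp (hKW₁' : K ⊔ W₁ = ⊤) (g : L) : ∃ k ∈ K, ∃ w ∈ W₁, g = k * w := by
  have hmul : (K : Set L) * (W₁ : Set L) = Set.univ := by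
    rw [← Subgroup.normal_mul, hKW₁', Subgroup.coe_top]
  have hg : g ∈ (K : Set L) * (W₁ : Set L) := by rw [hmul]; exact Set.mem_univ g
  obtain ⟨k, hk, w, hw, rfl⟩ := hg
  exact ⟨k, hk, w, hw, rfl⟩

theorem typeP_pow_card_eq_one (x : L) (hx : x ∈ W₁) : x ^ Nat.card W₁ = 1 := by
  have := pow_card_eq_one' (G := W₁) (x := ⟨x, hx⟩)
  have h := congrArg Subtype.val this
  rw [Subgroup.coe_pow, Subgroup.coe_one] at h
  exact h

/-- The number of irreducible characters of `K` fixed by a non-identity element of `W₁`. -/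
theorem typeP_card_fixed (hKW₁ : K ⊓ W₁ = ⊥) (hKW₁' : K ⊔ W₁ = ⊤)
    (hHall : Nat.Coprime (Nat.card W₁) W₁.index) (hW₂c : IsCyclic W₂)
    (hC : ∀ x ∈ W₁, x ≠ 1 → K ⊓ Subgroup.centralizer ({x} : Set L) = W₂)
    (x : L) (hx : x ∈ W₁) (hx1 : x ≠ 1) :
    Nat.card {θ : IrrCharacter K // irrSmul K x θ = θ} = Nat.card W₂ := by
  rw [card_fixed_irr_eq_card_fixed_classes K x,
    card_fixed_classes_of_abelian_centralizer K x (Nat.card W₁) (typeP_pow_card_eq_one W₁ x hx)
      (by rw [← typeP_index_eq K W₁ hKW₁ hKW₁']; exact hHall), hC x hx hx1]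
  rw [hC x hx hx1]
  intro a ha b hb
  have := (IsCyclic.isMulCommutative (α := ↥W₂)).is_comm.comm ⟨a, ha⟩ ⟨b, hb⟩
  exact congrArg Subtype.val this

/-- A character of `K` fixed by one non-identity element of `W₁` is fixed by all of `W₁`. -/
theorem typeP_fixed_all (hKW₁ : K ⊓ W₁ = ⊥) (hKW₁' : K ⊔ W₁ = ⊤) (hW₁ : W₁ ≠ ⊥)
    (hW₁c : IsCyclic W₁)
    (hHall : Nat.Coprime (Nat.card W₁) W₁.index) (hW₂c : IsCyclic W₂)
    (hC : ∀ x ∈ W₁, x ≠ 1 → K ⊓ Subgroup.centralizer ({x} : Set L) = W₂)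
    (θ : IrrCharacter K) (x : L) (hx : x ∈ W₁) (hx1 : x ≠ 1) (hθ : irrSmul K x θ = θ) :
    ∀ y ∈ W₁, irrSmul K y θ = θ := by
  classical
  letI := irrAction K
  obtain ⟨a, ha, hagen⟩ : ∃ a ∈ W₁, ∀ x ∈ W₁, x ∈ Subgroup.zpowers a := by
    obtain ⟨g, hg⟩ := hW₁c.exists_generator
    refine ⟨g, g.2, fun x hx => ?_⟩
    obtain ⟨k, hk⟩ := Subgroup.mem_zpowers_iff.mp (hg ⟨x, hx⟩)
    refine Subgroup.mem_zpowers_iff.mpr ⟨k, ?_⟩
    have := congrArg Subtype.val hk
    simpa using this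
  have ha1 : a ≠ 1 := by
    intro h
    apply hW₁
    rw [eq_bot_iff]
    intro y hy
    have := hagen y hy
    rw [h, Subgroup.zpowers_one_eq_bot] at this
    exact this
  -- fixed by `a` implies fixed by every element of `W₁`
  have hsub : ∀ (ψ : IrrCharacter K), a • ψ = ψ → ∀ y ∈ W₁, y • ψ = ψ := by
    intro ψ hψ y hy
    have h1 : a ∈ MulAction.stabilizer L ψ := hψ
    have h2 : Subgroup.zpowers a ≤ MulAction.stabilizer L ψ := Subgroup.zpowers_le.mpr h1
    exact h2 (hagen y hy)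
  have : Finite (IrrCharacter K) := Cfsg.Agent.Lib.Helper3.irrCharacter_finite
  have : Fintype (IrrCharacter K) := Fintype.ofFinite _
  set Fa : Finset (IrrCharacter K) := Finset.univ.filter (fun ψ => irrSmul K a ψ = ψ) with hFa
  set Fx : Finset (IrrCharacter K) := Finset.univ.filter (fun ψ => irrSmul K x ψ = ψ) with hFx
  have hsubset : Fa ⊆ Fx := by
    intro ψ hψ
    rw [hFa, Finset.mem_filter] at hψ
    rw [hFx, Finset.mem_filter]
    exact ⟨Finset.mem_univ _, hsub ψ hψ.2 x hx⟩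
  have hcarda : Fa.card = Nat.card W₂ := by
    rw [← typeP_card_fixed K W₁ W₂ hKW₁ hKW₁' hHall hW₂c hC a ha ha1, Nat.card_eq_fintype_card,
      Fintype.card_subtype]
  have hcardx : Fx.card = Nat.card W₂ := by
    rw [← typeP_card_fixed K W₁ W₂ hKW₁ hKW₁' hHall hW₂c hC x hx hx1, Nat.card_eq_fintype_card,
      Fintype.card_subtype]
  have heq : Fa = Fx := Finset.eq_of_subset_of_card_le hsubset (by rw [hcarda, hcardx])
  have hθa : θ ∈ Fa := by
    rw [heq, hFx, Finset.mem_filter]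
    exact ⟨Finset.mem_univ _, hθ⟩
  rw [hFa, Finset.mem_filter] at hθa
  exact hsub θ hθa.2

end TypeP

end Cfsg.Agent.Lib.Helper25
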