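import Cfsg.Agent.Lib.Helper25.TypeP
import Cfsg.Agent.Lib.Helper3.Induced
import Cfsg.Agent.Lib.Helper3.CharOps

set_option autoImplicit false
set_option linter.unusedSectionVars false
set_option linter.style.haveILetI false

namespace Cfsg.Agent.Lib.Helper25

open Cfsg
open scoped ComplexConjugate

section TypeP2

variable {L : Type*} [Group L] [Fintype L] (K W₁ W₂ : Subgroup L) [hK : K.Normal]

theorem typeP_exists_gen (hW₁ : W₁ ≠ ⊥) (hW₁c : IsCyclic W₁) :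
    ∃ a ∈ W₁, a ≠ 1 ∧ ∀ x ∈ W₁, x ∈ Subgroup.zpowers a := by
  obtain ⟨a, ha, hagen⟩ : ∃ a ∈ W₁, ∀ x ∈ W₁, x ∈ Subgroup.zpowers a := by
    obtain ⟨g, hg⟩ := hW₁c.exists_generator
    refine ⟨g, g.2, fun x hx => ?_⟩
    obtain ⟨k, hk⟩ := Subgroup.mem_zpowers_iff.mp (hg ⟨x, hx⟩)
    refine Subgroup.mem_zpowers_iff.mpr ⟨k, ?_⟩
    have := congrArg Subtype.val hk
    simpa using this
  refine ⟨a, ha, ?_, hagen⟩
  intro h
  apply hW₁
  rw [eq_bot_iff]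
  intro y hy
  have := hagen y hy
  rw [h, Subgroup.zpowers_one_eq_bot] at this
  exact this

/-- `conjFun` by an element `k w` equals `conjFun` by `w` on class functions. -/
theorem conjFun_mul_of_mem {θ : K → ℂ} (hθ : IsClassFunction K θ) {k : L} (hk : k ∈ K) (w : L) :
    Cfsg.Agent.Lib.Helper75.conjFun K (k * w) θ = Cfsg.Agent.Lib.Helper75.conjFun K w θ := by
  rw [← Cfsg.Agent.Lib.Helper75.conjFun_conjFun, Cfsg.Agent.Lib.Helper75.conjFun_of_mem K hk hθ]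

/-- Fixed by all of `W₁` means fixed by all of `L`. -/
theorem typeP_invariant (hKW₁' : K ⊔ W₁ = ⊤) {θ : K → ℂ} (hθ : IsClassFunction K θ)
    (h : ∀ x ∈ W₁, Cfsg.Agent.Lib.Helper75.conjFun K x θ = θ) (g : L) :
    Cfsg.Agent.Lib.Helper75.conjFun K g θ = θ := by
  obtain ⟨k, hk, w, hw, rfl⟩ := typeP_decomp K W₁ hKW₁' g
  rw [conjFun_mul_of_mem K hθ hk, h w hw]

/-- The number of `W₁`-invariant irreducible characters of `K` is `|W₂|`. -/
theorem typeP_card_invariant (hKW₁ : K ⊓ W₁ = ⊥) (hKW₁' : K ⊔ W₁ = ⊤) (hW₁ : W₁ ≠ ⊥)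
    (hW₁c : IsCyclic W₁)
    (hHall : Nat.Coprime (Nat.card W₁) W₁.index) (hW₂c : IsCyclic W₂)
    (hC : ∀ x ∈ W₁, x ≠ 1 → K ⊓ Subgroup.centralizer ({x} : Set L) = W₂) :
    Nat.card {θ : IrrCharacter K // ∀ x ∈ W₁,
      Cfsg.Agent.Lib.Helper75.conjFun K x (θ : K → ℂ) = θ} = Nat.card W₂ := by
  obtain ⟨a, ha, ha1, hagen⟩ := typeP_exists_gen W₁ hW₁ hW₁c
  rw [← typeP_card_fixed K W₁ W₂ hKW₁ hKW₁' hHall hW₂c hC a ha ha1]
  apply Nat.card_congr
  apply Equiv.subtypeEquivRight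
  intro θ
  constructor
  · intro h
    apply Subtype.ext
    exact h a⁻¹ (W₁.inv_mem ha)
  · intro h x hx
    have := typeP_fixed_all K W₁ W₂ hKW₁ hKW₁' hW₁ hW₁c hHall hW₂c hC θ a ha ha1 h x⁻¹
      (W₁.inv_mem hx)
    have h2 := congrArg Subtype.val this
    rw [irrSmul_val, inv_inv] at h2
    exact h2

/-- If `θ` is moved by some element of `W₁` then no non-identity element of `W₁` fixes it. -/
theorem typeP_not_fixed (hKW₁ : K ⊓ W₁ = ⊥) (hKW₁' : K ⊔ W₁ = ⊤) (hW₁ : W₁ ≠ ⊥)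
    (hW₁c : IsCyclic W₁)
    (hHall : Nat.Coprime (Nat.card W₁) W₁.index) (hW₂c : IsCyclic W₂)
    (hC : ∀ x ∈ W₁, x ≠ 1 → K ⊓ Subgroup.centralizer ({x} : Set L) = W₂)
    {θ : K → ℂ} (hθ : IsIrrCharacter K θ)
    (hmoved : ∃ x ∈ W₁, Cfsg.Agent.Lib.Helper75.conjFun K x θ ≠ θ) :
    ∀ y ∈ W₁, y ≠ 1 → Cfsg.Agent.Lib.Helper75.conjFun K y θ ≠ θ := by
  intro y hy hy1 hfix
  obtain ⟨x, hx, hxθ⟩ := hmoved
  apply hxθ
  have h1 : irrSmul K y⁻¹ ⟨θ, hθ⟩ = ⟨θ, hθ⟩ := by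
    apply Subtype.ext
    rw [irrSmul_val, inv_inv]
    exact hfix
  have h2 := typeP_fixed_all K W₁ W₂ hKW₁ hKW₁' hW₁ hW₁c hHall hW₂c hC ⟨θ, hθ⟩ y⁻¹
    (W₁.inv_mem hy) (by simpa using hy1) h1 x⁻¹ (W₁.inv_mem hx)
  have h3 := congrArg Subtype.val h2
  rw [irrSmul_val, inv_inv] at h3
  exact h3

/-- If no non-identity element of `W₁` fixes `θ`, then `Ind θ` is irreducible. -/
theorem typeP_ind_irreducible (hKW₁ : K ⊓ W₁ = ⊥) (hKW₁' : K ⊔ W₁ = ⊤)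
    {θ : K → ℂ} (hθ : IsIrrCharacter K θ)
    (hfree : ∀ y ∈ W₁, y ≠ 1 → Cfsg.Agent.Lib.Helper75.conjFun K y θ ≠ θ) :
    IsIrrCharacter L (indFun K θ) := by
  classical
  have hθc := Cfsg.Agent.Lib.Helper3.IsIrrCharacter.isCharacter hθ
  have hθcf := Cfsg.Agent.Lib.Helper3.IsCharacter.isClassFunction hθc
  apply Cfsg.Agent.Lib.Helper3.isIrrCharacter_of_classInner_self_eq_one
    (Cfsg.Agent.Lib.Helper3.isCharacter_indFun K hθc)
  rw [frobenius_reciprocity K θ _ (indFun_isClassFunction K θ)]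
  have hres : (fun k : K => indFun K θ k) =
      ((Nat.card K : ℂ)⁻¹) • ∑ g : L, Cfsg.Agent.Lib.Helper75.conjFun K g⁻¹ θ := by
    funext k
    rw [Cfsg.Agent.Lib.Helper75.indFun_restrict_normal]
    simp only [Pi.smul_apply, Finset.sum_apply, smul_eq_mul]
  rw [hres, classInner_smul_right, classInner_sum_right]
  have hterm : ∀ g : L, classInner θ (Cfsg.Agent.Lib.Helper75.conjFun K g⁻¹ θ) =
      if g ∈ K then 1 else 0 := by
    intro g
    rw [Cfsg.Agent.Lib.Helper3.classInner_irr hθ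
      (Cfsg.Agent.Lib.Helper75.conjFun_isIrrCharacter K g⁻¹ hθ)]
    by_cases hg : g ∈ K
    · rw [if_pos hg, if_pos]
      exact (Cfsg.Agent.Lib.Helper75.conjFun_of_mem K (K.inv_mem hg) hθcf).symm
    · rw [if_neg hg, if_neg]
      intro h
      apply hg
      obtain ⟨k, hk, w, hw, hkw⟩ := typeP_decomp K W₁ hKW₁' g⁻¹
      rw [hkw, conjFun_mul_of_mem K hθcf hk] at h
      by_cases hw1 : w = 1
      · rw [hw1, mul_one] at hkw
        have : g = k⁻¹ := by rw [← hkw, inv_inv]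
        rw [this]; exact K.inv_mem hk
      · exact absurd h.symm (hfree w hw hw1)
  rw [Finset.sum_congr rfl (fun g _ => hterm g), ← Finset.sum_filter, Finset.sum_const,
    nsmul_eq_mul, mul_one]
  have hcard : (Finset.univ.filter (fun g : L => g ∈ K)).card = Nat.card K := by
    rw [Nat.card_eq_fintype_card, Fintype.card_subtype]
  have hK0 : (Nat.card K : ℂ) ≠ 0 := by exact_mod_cast Nat.card_pos.ne'
  rw [hcard, map_inv₀, Complex.conj_natCast, inv_mul_cancel₀ hK0]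

end TypeP2

end Cfsg.Agent.Lib.Helper25
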