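import Cfsg.Agent.Lib.Helper25.TypeP2
import Cfsg.Agent.Lib.Helper25.DualW
import Cfsg.Agent.Lib.Helper15.Gallagher
import Cfsg.Agent.Lib.Helper79.Basic
import Cfsg.Agent.S0886

set_option autoImplicit false
set_option linter.unusedSectionVars false
set_option linter.style.haveILetI false

namespace Cfsg.Agent.Lib.Helper25

open Cfsg
open scoped ComplexConjugate

section HomSum

/-- Orthogonality for the dual of a finite abelian group. -/
theorem sum_hom_apply (Q : Type*) [CommGroup Q] [Finite Q] [Fintype (Q →* ℂˣ)] [DecidableEq Q]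
    (q : Q) :
    ∑ β : Q →* ℂˣ, ((β q : ℂˣ) : ℂ) = if q = 1 then (Nat.card Q : ℂ) else 0 := by
  classical
  have := hasEnoughRoots Q
  by_cases hq : q = 1
  · rw [if_pos hq, hq]
    simp only [map_one, Units.val_one, Finset.sum_const, Finset.card_univ, nsmul_eq_mul, mul_one]
    rw [← Nat.card_eq_fintype_card, CommGroup.card_monoidHom_of_hasEnoughRootsOfUnity Q ℂ]
  · rw [if_neg hq]
    have hex : ∃ φ₀ : Q →* ℂˣ, φ₀ q ≠ 1 := by
      by_contra hcon
      push Not at hcon
      apply hq
      have := (CommGroup.forall_monoidHom_apply_eq_one_iff (M := ℂ) (⊥ : Subgroup Q) q).mp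
        (fun φ _ => hcon φ)
      exact this
    obtain ⟨φ₀, hφ₀⟩ := hex
    set S := ∑ β : Q →* ℂˣ, ((β q : ℂˣ) : ℂ) with hS
    have h1 : S = (φ₀ q : ℂ) * S := by
      rw [hS, Finset.mul_sum]
      symm
      apply Fintype.sum_equiv (Equiv.mulLeft φ₀)
      intro φ
      simp
    have h2 : (1 - (φ₀ q : ℂ)) * S = 0 := by linear_combination h1
    rcases mul_eq_zero.mp h2 with h | h
    · exfalso
      apply hφ₀
      have : (φ₀ q : ℂ) = 1 := by linear_combination -h
      exact Units.ext this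
    · exact h

end HomSum

section Gallagher

variable {L : Type*} [Group L] [Fintype L] (K W₁ : Subgroup L) [hK : K.Normal]

theorem typeP_quotient_cyclic (hKW₁' : K ⊔ W₁ = ⊤) (hW₁c : IsCyclic W₁) : IsCyclic (L ⧸ K) := by
  have hf : Function.Surjective ((QuotientGroup.mk' K).comp W₁.subtype) := by
    intro q
    obtain ⟨g, rfl⟩ := QuotientGroup.mk'_surjective K q
    obtain ⟨k, hk, w, hw, rfl⟩ := typeP_decomp K W₁ hKW₁' g
    refine ⟨⟨w, hw⟩, ?_⟩
    show (QuotientGroup.mk w : L ⧸ K) = (QuotientGroup.mk (k * w) : L ⧸ K)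
    rw [QuotientGroup.mk_mul, (QuotientGroup.eq_one_iff k).mpr hk, one_mul]
  exact isCyclic_of_surjective _ hf

theorem typeP_card_quotient (hKW₁ : K ⊓ W₁ = ⊥) (hKW₁' : K ⊔ W₁ = ⊤) :
    Nat.card (L ⧸ K) = Nat.card W₁ := by
  have h1 : Nat.card (L ⧸ K) * Nat.card K = Nat.card L :=
    (Subgroup.card_eq_card_quotient_mul_card_subgroup K).symm
  have h2 : Nat.card W₁ * W₁.index = Nat.card L := Subgroup.card_mul_index W₁
  rw [typeP_index_eq K W₁ hKW₁ hKW₁', ← h1] at h2
  exact (Nat.eq_of_mul_eq_mul_right Nat.card_pos h2).symm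

/-- The function on `L` attached to a linear character of `L ⧸ K`. -/
noncomputable def quotFun (β : (L ⧸ K) →* ℂˣ) : L → ℂ :=
  fun g => ((β (QuotientGroup.mk g) : ℂˣ) : ℂ)

theorem quotFun_irr (β : (L ⧸ K) →* ℂˣ) : IsIrrCharacter L (quotFun K β) :=
  Cfsg.Agent.Lib.Helper79.isIrrCharacter_of_monoidHom (β.comp (QuotientGroup.mk' K))

theorem quotFun_coset (β : (L ⧸ K) →* ℂˣ) (n : K) (g : L) :
    quotFun K β ((n : L) * g) = quotFun K β g := by
  unfold quotFun
  rw [QuotientGroup.mk_mul, (QuotientGroup.eq_one_iff (n : L)).mpr n.2, one_mul]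

theorem quotFun_injective : Function.Injective (quotFun K) := by
  intro β β' h
  apply DFunLike.ext
  intro q
  obtain ⟨g, rfl⟩ := QuotientGroup.mk_surjective q
  exact Units.ext (congrFun h g)

/-- Induction from a normal subgroup of the restriction of a class function. -/
theorem indFun_restrict_eq [DecidablePred (· ∈ K)] (χ : L → ℂ) (hχ : IsClassFunction L χ)
    (g : L) :
    indFun K (fun k : K => χ k) g =
      if g ∈ K then (Nat.card K : ℂ)⁻¹ * (Nat.card L : ℂ) * χ g else 0 := by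
  rw [indFun_apply]
  by_cases hg : g ∈ K
  · rw [if_pos hg]
    have : ∀ x : L, extendByZero K (fun k : K => χ k) (x⁻¹ * g * x) = χ g := by
      intro x
      have hmem : x⁻¹ * g * x ∈ K := by
        have := hK.conj_mem g hg x⁻¹
        simpa using this
      rw [extendByZero_of_mem K _ hmem]
      have := hχ g x⁻¹
      simpa using this
    rw [Finset.sum_congr rfl (fun x _ => this x), Finset.sum_const, Finset.card_univ,
      nsmul_eq_mul, Nat.card_eq_fintype_card (α := L)]
    ring
  · rw [if_neg hg]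
    have : ∀ x : L, extendByZero K (fun k : K => χ k) (x⁻¹ * g * x) = 0 := by
      intro x
      apply extendByZero_of_not_mem
      intro hmem
      apply hg
      have := hK.conj_mem _ hmem x
      have e : x * (x⁻¹ * g * x) * x⁻¹ = g := by group
      rwa [e] at this
    rw [Finset.sum_congr rfl (fun x _ => this x), Finset.sum_const_zero, mul_zero]

/-- Gallagher for `L/K` cyclic: an invariant irreducible character of `K` induces to the sum of
`|L:K|` distinct irreducible characters. -/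
theorem typeP_ind_invariant (hKW₁ : K ⊓ W₁ = ⊥) (hKW₁' : K ⊔ W₁ = ⊤) (hW₁c : IsCyclic W₁)
    {θ : K → ℂ} (hθ : IsIrrCharacter K θ)
    (hinv : ∀ x ∈ W₁, Cfsg.Agent.Lib.Helper75.conjFun K x θ = θ) :
    ∃ C : Finset (L → ℂ), C.card = Nat.card W₁ ∧ (∀ μ ∈ C, IsIrrCharacter L μ) ∧
      indFun K θ = ∑ μ ∈ C, μ := by
  classical
  have hθcf := Cfsg.Agent.Lib.Helper3.IsCharacter.isClassFunction
    (Cfsg.Agent.Lib.Helper3.IsIrrCharacter.isCharacter hθ)
  have hcyc := typeP_quotient_cyclic K W₁ hKW₁' hW₁c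
  obtain ⟨χ, hχ, hext⟩ := Cfsg.Agent.S0886.result K hcyc θ hθ (by
    intro g n
    have := typeP_invariant K W₁ hKW₁' hθcf hinv g
    exact congrFun this n)
  have hχN : IsIrrCharacter K (fun n : K => χ n) := by
    have : (fun n : K => χ n) = θ := funext hext
    rw [this]; exact hθ
  have hχcf := Cfsg.Agent.Lib.Helper3.IsCharacter.isClassFunction
    (Cfsg.Agent.Lib.Helper3.IsIrrCharacter.isCharacter hχ)
  letI : CommGroup (L ⧸ K) := IsCyclic.commGroup
  have : Fintype ((L ⧸ K) →* ℂˣ) := Fintype.ofFinite _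
  have hinj : Function.Injective (fun β : (L ⧸ K) →* ℂˣ => quotFun K β * χ) := by
    intro β β' h
    apply quotFun_injective K
    exact Cfsg.Agent.Lib.Helper15.mul_ext_injective K hχ hχN (quotFun_irr K β)
      (quotFun_coset K β) (quotFun_irr K β') (quotFun_coset K β') h
  refine ⟨Finset.univ.image (fun β : (L ⧸ K) →* ℂˣ => quotFun K β * χ), ?_, ?_, ?_⟩
  · rw [Finset.card_image_of_injective _ hinj, Finset.card_univ, ← Nat.card_eq_fintype_card]
    have := hasEnoughRoots (L ⧸ K)
    rw [CommGroup.card_monoidHom_of_hasEnoughRootsOfUnity (L ⧸ K) ℂ,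
      typeP_card_quotient K W₁ hKW₁ hKW₁']
  · intro μ hμ
    obtain ⟨β, -, rfl⟩ := Finset.mem_image.mp hμ
    exact Cfsg.Agent.Lib.Helper15.isIrrCharacter_mul_ext K hχ hχN (quotFun_irr K β)
      (quotFun_coset K β)
  · rw [Finset.sum_image (fun a _ b _ h => hinj h)]
    have hθχ : θ = fun k : K => χ k := (funext hext).symm
    funext g
    rw [hθχ, indFun_restrict_eq K χ hχcf g, Finset.sum_apply]
    simp only [Pi.mul_apply]
    rw [← Finset.sum_mul]
    have hsum := sum_hom_apply (L ⧸ K) (QuotientGroup.mk g : L ⧸ K)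
    have hsum' : ∑ β : (L ⧸ K) →* ℂˣ, quotFun K β g =
        if (QuotientGroup.mk g : L ⧸ K) = 1 then (Nat.card (L ⧸ K) : ℂ) else 0 := hsum
    rw [hsum']
    have hcardQ : (Nat.card (L ⧸ K) : ℂ) = (Nat.card K : ℂ)⁻¹ * (Nat.card L : ℂ) := by
      have h1 : Nat.card L = Nat.card (L ⧸ K) * Nat.card K :=
        Subgroup.card_eq_card_quotient_mul_card_subgroup K
      have hK0 : (Nat.card K : ℂ) ≠ 0 := by exact_mod_cast Nat.card_pos.ne'
      rw [h1]
      push_cast
      field_simp
    by_cases hg : g ∈ K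
    · rw [if_pos hg, if_pos ((QuotientGroup.eq_one_iff g).mpr hg), hcardQ]
    · rw [if_neg hg, if_neg (fun h => hg ((QuotientGroup.eq_one_iff g).mp h)), zero_mul]

end Gallagher

end Cfsg.Agent.Lib.Helper25
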