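import Mathlib
import Cfsg.Agent.Lib.Helper44.UfDefs

/-!
# S5982 hive, leaf UF-AR3 (`arith_contra`)
-/

set_option autoImplicit false

namespace Cfsg.Agent.Lib.Helper44.Uf

/-- UF-AR3 -/
theorem arith_contra (r : ℕ) [Fact r.Prime] (hr2 : r ≠ 2) (q₀ j : ℕ)
    (hj : (-(q₀ : ZMod r)) ^ j = -1) (d : ℕ) (hd1 : 1 ≤ d) (hd : d ≤ orderOf ((q₀ : ZMod r) ^ 2))
    (hd' : (-(q₀ : ZMod r)) ^ d = 1) : False := by
  set a : ZMod r := -(q₀ : ZMod r) with ha
  have hsq : (q₀ : ZMod r) ^ 2 = a ^ 2 := by rw [ha, neg_sq]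
  rw [hsq] at hd
  -- `orderOf (a ^ 2) = d`
  have h1 : (a ^ 2) ^ d = 1 := by rw [← pow_mul, mul_comm, pow_mul, hd', one_pow]
  have hmd : orderOf (a ^ 2) ∣ d := orderOf_dvd_of_pow_eq_one h1
  have hdm : d = orderOf (a ^ 2) := Nat.le_antisymm hd (Nat.le_of_dvd (by omega) hmd)
  -- `orderOf a = orderOf (a ^ 2)`
  have hod : orderOf a ∣ d := orderOf_dvd_of_pow_eq_one hd'
  have hmo : orderOf (a ^ 2) ∣ orderOf a := by
    apply orderOf_dvd_of_pow_eq_one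
    rw [← pow_mul, mul_comm, pow_mul, pow_orderOf_eq_one, one_pow]
  have hoeq : orderOf a = orderOf (a ^ 2) := Nat.dvd_antisymm (hdm ▸ hod) hmo
  have hopos : 0 < orderOf a := by rw [hoeq, ← hdm]; omega
  -- `orderOf a` is odd
  have hodd : Odd (orderOf a) := by
    rw [← Nat.not_even_iff_odd]
    rintro ⟨k, hk⟩
    have hk1 : (a ^ 2) ^ k = 1 := by
      rw [← pow_mul, two_mul, ← hk, pow_orderOf_eq_one]
    have hdk : orderOf (a ^ 2) ∣ k := orderOf_dvd_of_pow_eq_one hk1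
    have hkpos : 0 < k := by omega
    have := Nat.le_of_dvd hkpos hdk
    omega
  -- `a ^ j = 1`
  have h2j : a ^ (2 * j) = 1 := by
    rw [mul_comm, pow_mul, hj]; simp
  have hdvd2j : orderOf a ∣ 2 * j := orderOf_dvd_of_pow_eq_one h2j
  have hcop : (orderOf a).Coprime 2 := Nat.Coprime.symm (Nat.coprime_two_left.mpr hodd)
  have hdvdj : orderOf a ∣ j := hcop.dvd_of_dvd_mul_left hdvd2j
  have haj : a ^ j = 1 := orderOf_dvd_iff_pow_eq_one.mp hdvdj
  rw [haj] at hj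
  -- `1 = -1` in `ZMod r` forces `r = 2`
  have h20 : ((2 : ℕ) : ZMod r) = 0 := by
    have : (1 : ZMod r) + 1 = 0 := by
      nth_rewrite 2 [hj]; ring
    push_cast
    rw [← this]; norm_num
  rw [ZMod.natCast_eq_zero_iff] at h20
  rcases (Nat.dvd_prime Nat.prime_two).1 h20 with h | h
  · exact (Fact.out : r.Prime).one_lt.ne' h
  · exact hr2 h

end Cfsg.Agent.Lib.Helper44.Uf
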