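import Mathlib
import Cfsg.Prelude.Def_GeometricClasses
import Cfsg.Agent.Lib.Helper44.UfDefs

/-!
# S5982 hive, leaf UF-TRANS (`transfer`)
-/

set_option autoImplicit false
open scoped MatrixGroups
open Matrix

namespace Cfsg.Agent.Lib.Helper44.Uf

universe v

variable {F : Type v} [Field F]

theorem trans_conj_mem_SL {n : ℕ} (B g : GL (Fin n) F)
    (hg : g ∈ Cfsg.Geo.specialLinear (Fin n) F) :
    B * g * B⁻¹ ∈ Cfsg.Geo.specialLinear (Fin n) F := by
  unfold Cfsg.Geo.specialLinear at hg ⊢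
  rw [MonoidHom.mem_ker] at hg ⊢
  rw [map_mul, map_mul, hg, mul_one, ← map_mul, mul_inv_cancel, map_one]

theorem trans_scalar_conj {n : ℕ} (B x : GL (Fin n) F) (z : F)
    (h : (x : Matrix (Fin n) (Fin n) F) = z • (1 : Matrix (Fin n) (Fin n) F)) :
    ((B * x * B⁻¹ : GL (Fin n) F) : Matrix (Fin n) (Fin n) F) =
      z • (1 : Matrix (Fin n) (Fin n) F) := by
  rw [Units.val_mul, Units.val_mul, h, Matrix.mul_smul, Matrix.mul_one, Matrix.smul_mul,
    ← Units.val_mul, mul_inv_cancel]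
  rfl

/-- one direction of the transfer. -/
theorem trans_one_dir {n : ℕ} (H H' : Subgroup (GL (Fin n) F)) (B : GL (Fin n) F)
    (hB : ∀ g : GL (Fin n) F, g ∈ H ↔ B * g * B⁻¹ ∈ H') (r : ℕ)
    (h : ∀ x ∈ Cfsg.Geo.specialLinear (Fin n) F,
        (∃ z : F, ((x ^ r : GL (Fin n) F) : Matrix (Fin n) (Fin n) F) = z • (1 : Matrix (Fin n) (Fin n) F)) →
        (∀ z : F, (x : Matrix (Fin n) (Fin n) F) ≠ z • (1 : Matrix (Fin n) (Fin n) F)) →
        ∃ g ∈ Cfsg.Geo.specialLinear (Fin n) F, g⁻¹ * x * g ∈ H) :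
    ∀ x ∈ Cfsg.Geo.specialLinear (Fin n) F,
        (∃ z : F, ((x ^ r : GL (Fin n) F) : Matrix (Fin n) (Fin n) F) = z • (1 : Matrix (Fin n) (Fin n) F)) →
        (∀ z : F, (x : Matrix (Fin n) (Fin n) F) ≠ z • (1 : Matrix (Fin n) (Fin n) F)) →
        ∃ g ∈ Cfsg.Geo.specialLinear (Fin n) F, g⁻¹ * x * g ∈ H' := by
  intro x hx hxr hxns
  -- `x' = B⁻¹ x B`
  have hx' : B⁻¹ * x * B ∈ Cfsg.Geo.specialLinear (Fin n) F := by
    have := trans_conj_mem_SL B⁻¹ x hx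
    rwa [inv_inv] at this
  obtain ⟨z, hz⟩ := hxr
  have hx'r : ∃ z : F, (((B⁻¹ * x * B) ^ r : GL (Fin n) F) : Matrix (Fin n) (Fin n) F) =
      z • (1 : Matrix (Fin n) (Fin n) F) := by
    refine ⟨z, ?_⟩
    have e : (B⁻¹ * x * B) ^ r = B⁻¹ * x ^ r * (B⁻¹)⁻¹ := by
      have := conj_pow (a := B⁻¹) (i := r) (b := x)
      rw [inv_inv] at this ⊢
      exact this
    rw [e]
    exact trans_scalar_conj B⁻¹ (x ^ r) z hz
  have hx'ns : ∀ z : F, ((B⁻¹ * x * B : GL (Fin n) F) : Matrix (Fin n) (Fin n) F) ≠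
      z • (1 : Matrix (Fin n) (Fin n) F) := by
    intro z' hz'
    apply hxns z'
    have := trans_scalar_conj B (B⁻¹ * x * B) z' hz'
    have e : B * (B⁻¹ * x * B) * B⁻¹ = x := by group
    rwa [e] at this
  obtain ⟨g', hg', hgH⟩ := h _ hx' hx'r hx'ns
  refine ⟨B * g' * B⁻¹, trans_conj_mem_SL B g' hg', ?_⟩
  have := (hB _).1 hgH
  have e : (B * g' * B⁻¹)⁻¹ * x * (B * g' * B⁻¹) = B * (g'⁻¹ * (B⁻¹ * x * B) * g') * B⁻¹ := by
    group
  rw [e]; exact this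

/-- UF-TRANS : conjugate subgroups of `GL` have the same index in `SL` and the same "every element of order `r`
of `PSL` fixes a point" property -/
theorem transfer {n : ℕ} (H H' : Subgroup (GL (Fin n) F)) (B : GL (Fin n) F)
    (hB : ∀ g : GL (Fin n) F, g ∈ H ↔ B * g * B⁻¹ ∈ H') (r : ℕ) :
    H.relIndex (Cfsg.Geo.specialLinear (Fin n) F) = H'.relIndex (Cfsg.Geo.specialLinear (Fin n) F) ∧
    ((∀ x ∈ Cfsg.Geo.specialLinear (Fin n) F,
        (∃ z : F, ((x ^ r : GL (Fin n) F) : Matrix (Fin n) (Fin n) F) = z • (1 : Matrix (Fin n) (Fin n) F)) →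
        (∀ z : F, (x : Matrix (Fin n) (Fin n) F) ≠ z • (1 : Matrix (Fin n) (Fin n) F)) →
        ∃ g ∈ Cfsg.Geo.specialLinear (Fin n) F, g⁻¹ * x * g ∈ H) ↔
     (∀ x ∈ Cfsg.Geo.specialLinear (Fin n) F,
        (∃ z : F, ((x ^ r : GL (Fin n) F) : Matrix (Fin n) (Fin n) F) = z • (1 : Matrix (Fin n) (Fin n) F)) →
        (∀ z : F, (x : Matrix (Fin n) (Fin n) F) ≠ z • (1 : Matrix (Fin n) (Fin n) F)) →
        ∃ g ∈ Cfsg.Geo.specialLinear (Fin n) F, g⁻¹ * x * g ∈ H')) := by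
  have hB' : ∀ g : GL (Fin n) F, g ∈ H' ↔ B⁻¹ * g * (B⁻¹)⁻¹ ∈ H := by
    intro g
    rw [hB (B⁻¹ * g * (B⁻¹)⁻¹)]
    have e : B * (B⁻¹ * g * (B⁻¹)⁻¹) * B⁻¹ = g := by group
    rw [e]
  refine ⟨?_, trans_one_dir H H' B hB r, trans_one_dir H' H B⁻¹ hB' r⟩
  -- the relative indices
  have hmapH : H.map (MulAut.conj B).toMonoidHom = H' := by
    ext x
    constructor
    · rintro ⟨g, hg, rfl⟩
      simpa using (hB g).1 hg
    · intro hx
      refine ⟨B⁻¹ * x * B, ?_, ?_⟩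
      · have := (hB' x).1 hx
        rwa [inv_inv] at this
      · simp only [MulEquiv.coe_toMonoidHom, MulAut.conj_apply]
        group
  have hmapSL : (Cfsg.Geo.specialLinear (Fin n) F).map (MulAut.conj B).toMonoidHom =
      Cfsg.Geo.specialLinear (Fin n) F := by
    ext x
    constructor
    · rintro ⟨g, hg, rfl⟩
      simpa using trans_conj_mem_SL B g hg
    · intro hx
      refine ⟨B⁻¹ * x * B, ?_, ?_⟩
      · have := trans_conj_mem_SL B⁻¹ x hx
        rwa [inv_inv] at this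
      · simp only [MulEquiv.coe_toMonoidHom, MulAut.conj_apply]
        group
  have := Subgroup.relIndex_map_map_of_injective H (Cfsg.Geo.specialLinear (Fin n) F)
    (f := (MulAut.conj B).toMonoidHom) (MulAut.conj B).injective
  rw [hmapH, hmapSL] at this
  exact this.symm

end Cfsg.Agent.Lib.Helper44.Uf
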