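import Mathlib
import Cfsg.Prelude.Def_Classical
import Cfsg.Prelude.Def_LieClassical
import Cfsg.Agent.Lib.Helper65.UndDefs

/-! # Und hive (S5954, helper65): leaves UND-BR5 `ctx_of_isU`, UND-BR6 `fixesNd_iff_fixesIn` (helper25) -/

set_option autoImplicit false
set_option linter.unusedSectionVars false

namespace Cfsg.Agent.Lib.Helper65.Und

open Cfsg.Agent.Lib.Helper40.Herm Cfsg.Agent.Lib.Helper2.BG Cfsg.Agent.Lib.Helper14.Tu Polynomial Module

section br
variable {F : Type*} [Field F] [Fintype F] {q : ℕ}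

theorem br5_toLin'_pow (n : ℕ) (A : Matrix (Fin n) (Fin n) F) (N : ℕ) :
    (Matrix.toLin' A) ^ N = Matrix.toLin' (A ^ N) := by
  induction N with
  | zero => rw [pow_zero, pow_zero, Matrix.toLin'_one]; rfl
  | succ N ih => rw [pow_succ, pow_succ, ih, Matrix.toLin'_mul]; rfl

/-- UND-BR5.  From a unitary matrix of finite order prime to `p` to the abstract context. -/
theorem ctx_of_isU (hq : Fintype.card F = q ^ 2) (n : ℕ) (A : Matrix (Fin n) (Fin n) F)
    (hA : IsU n q A) (N : ℕ) (hN0 : 0 < N) (hNF : (N : F) ≠ 0) (hAN : A ^ N = 1) :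
    Ctx hq (stdHerm hq n) (Matrix.toLin' A) N where
  herm := stdHerm_isHermitian hq n
  inv := fun u v => by
    rw [stdHerm_apply, stdHerm_apply, Matrix.toLin'_apply, Matrix.toLin'_apply]
    exact hA u v
  pos := hN0
  pow := by
    rw [br5_toLin'_pow, hAN, Matrix.toLin'_one]
    rfl
  ne := hNF

/-- UND-BR6. -/
theorem fixesNd_iff_fixesIn (hq : Fintype.card F = q ^ 2) (n m : ℕ) (A : Matrix (Fin n) (Fin n) F) :
    FixesNd n q m A ↔ FixesIn (stdHerm hq n) (Matrix.toLin' A) ⊤ m := by
  constructor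
  · rintro ⟨W, hWm, hWn, hWi⟩
    refine ⟨W, le_top, ?_, ?_, hWm⟩
    · intro v hv
      exact hWi (Submodule.mem_map_of_mem hv)
    · intro x hx hx0
      by_contra hne
      obtain ⟨v, hv, hxv⟩ := hWn x hx hne
      apply hxv
      rw [← stdHerm_apply hq]
      exact hx0 v hv
  · rintro ⟨W, -, hWi, hWn, hWm⟩
    refine ⟨W, hWm, ?_, ?_⟩
    · intro u hu hu0
      by_contra hcon
      push Not at hcon
      apply hu0
      apply hWn u hu
      intro y hy
      rw [stdHerm_apply]
      exact hcon y hy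
    · rw [Submodule.map_le_iff_le_comap]
      intro v hv
      exact hWi v hv

end br

end Cfsg.Agent.Lib.Helper65.Und
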