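import Mathlib

/-! # Und hive (S5954, helper65): arithmetic half of UND-CNT (helper25), Mathlib only -/

set_option autoImplicit false
set_option linter.unusedVariables false

namespace Cfsg.Agent.Lib.Helper65.Und

/-- the `i`-th factor of `|GU_d(q)|`: `q^(i+1) - (-1)^(i+1)` -/
def und_a (q i : ℕ) : ℕ := if Even i then q ^ (i + 1) + 1 else q ^ (i + 1) - 1

/-- `|GU_d(q)|` in the shape of `Cfsg.Agent.Lib.Helper5.card_GU` -/
def und_gu (q d : ℕ) : ℕ := q ^ (d * (d - 1) / 2) * ∏ i ∈ Finset.range d, und_a q i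

/-- the number of vectors of norm one in a nondegenerate hermitian `d`-space -/
def und_nu (q d : ℕ) : ℕ := q ^ (d - 1) * (if Even d then q ^ d - 1 else q ^ d + 1)

theorem cntc_dvd_of_dvd_a {r q i : ℕ} (hq : 1 ≤ q) (h : r ∣ und_a q i) :
    ((r : ℤ) ∣ (q : ℤ) ^ (i + 1) - (-1) ^ (i + 1)) := by
  have hqa : ∀ a : ℕ, 1 ≤ q ^ a := fun a => Nat.one_le_pow _ _ hq
  unfold und_a at h
  split_ifs at h with he
  · have ho : Odd (i + 1) := he.add_one
    rw [ho.neg_one_pow, sub_neg_eq_add]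
    have := Int.natCast_dvd_natCast.mpr h
    rwa [Nat.cast_add, Nat.cast_pow, Nat.cast_one] at this
  · have ho : Odd i := Nat.not_even_iff_odd.mp he
    have he' : Even (i + 1) := ho.add_one
    rw [he'.neg_one_pow]
    have := Int.natCast_dvd_natCast.mpr h
    rwa [Nat.cast_sub (hqa (i + 1)), Nat.cast_pow, Nat.cast_one] at this

theorem cntc_a_pos {q : ℕ} (hq : 2 ≤ q) (i : ℕ) : 0 < und_a q i := by
  unfold und_a
  have h1 : 2 ≤ q ^ (i + 1) := by
    calc 2 ≤ q := hq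
      _ = q ^ 1 := (pow_one q).symm
      _ ≤ q ^ (i + 1) := Nat.pow_le_pow_right (by omega) (by omega)
  split_ifs <;> omega

/-- `und_gu` as a single product -/
theorem cntc_gu_eq (q d : ℕ) : und_gu q d = ∏ i ∈ Finset.range d, (q ^ i * und_a q i) := by
  unfold und_gu
  rw [Finset.prod_mul_distrib, Finset.prod_pow_eq_pow_sum, Finset.sum_range_id]

/-- (R1) the arithmetic of the orbit-stabiliser count -/
theorem cntc_arith_gu (q n m N r : ℕ) (hq : 2 ≤ q) (hmn : m ≤ n)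
    (hN : N * (und_gu q m * und_gu q (n - m)) = und_gu q n) (hr : r.Prime) (hrq : ¬ r ∣ q)
    (hrN : r ∣ N) :
    ∃ j : ℕ, n - m < j ∧ j ≤ n ∧ ((r : ℤ) ∣ (q : ℤ) ^ j - (-1) ^ j) := by
  have hq1 : 1 ≤ q := by omega
  have hsplit : und_gu q n = und_gu q (n - m) *
      ∏ i ∈ Finset.Ico (n - m) n, (q ^ i * und_a q i) := by
    rw [cntc_gu_eq, cntc_gu_eq, Finset.prod_range_mul_prod_Ico _ (Nat.sub_le n m)]
  have hpos : 0 < und_gu q (n - m) := by
    rw [cntc_gu_eq]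
    exact Finset.prod_pos (fun i _ => Nat.mul_pos (Nat.pow_pos (by omega)) (cntc_a_pos hq i))
  have hkey : N * und_gu q m = ∏ i ∈ Finset.Ico (n - m) n, (q ^ i * und_a q i) := by
    apply Nat.eq_of_mul_eq_mul_left hpos
    rw [← hsplit, ← hN]
    ring
  have h1 : r ∣ ∏ i ∈ Finset.Ico (n - m) n, (q ^ i * und_a q i) := by
    rw [← hkey]
    exact Dvd.dvd.mul_right hrN _
  rw [Prime.dvd_finsetProd_iff (Nat.prime_iff.mp hr)] at h1
  obtain ⟨i, hi, hri⟩ := h1
  rw [Finset.mem_Ico] at hi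
  rcases (Nat.Prime.dvd_mul hr).mp hri with h2 | h2
  · exact absurd (hr.dvd_of_dvd_pow h2) hrq
  · exact ⟨i + 1, by omega, by omega, cntc_dvd_of_dvd_a hq1 h2⟩

/-- (R2) the arithmetic of the orthonormal frame count -/
theorem cntc_arith_frames (q n m N r : ℕ) (hq : 2 ≤ q) (hmn : m ≤ n)
    (hN : N * ∏ k ∈ Finset.range m, und_nu q (m - k) = ∏ k ∈ Finset.range m, und_nu q (n - k))
    (hr : r.Prime) (hrq : ¬ r ∣ q) (hrN : r ∣ N) :
    ∃ j : ℕ, n - m < j ∧ j ≤ n ∧ ((r : ℤ) ∣ (q : ℤ) ^ j - (-1) ^ j) := by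
  have hq1 : 1 ≤ q := by omega
  have hqa : ∀ a : ℕ, 1 ≤ q ^ a := fun a => Nat.one_le_pow _ _ hq1
  have h1 : r ∣ ∏ k ∈ Finset.range m, und_nu q (n - k) := by
    rw [← hN]
    exact Dvd.dvd.mul_right hrN _
  rw [Prime.dvd_finsetProd_iff (Nat.prime_iff.mp hr)] at h1
  obtain ⟨k, hk, hrk⟩ := h1
  rw [Finset.mem_range] at hk
  refine ⟨n - k, by omega, by omega, ?_⟩
  unfold und_nu at hrk
  rcases (Nat.Prime.dvd_mul hr).mp hrk with h2 | h2
  · exact absurd (hr.dvd_of_dvd_pow h2) hrq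
  · split_ifs at h2 with he
    · rw [he.neg_one_pow]
      have := Int.natCast_dvd_natCast.mpr h2
      rwa [Nat.cast_sub (hqa (n - k)), Nat.cast_pow, Nat.cast_one] at this
    · have ho : Odd (n - k) := Nat.not_even_iff_odd.mp he
      rw [ho.neg_one_pow, sub_neg_eq_add]
      have := Int.natCast_dvd_natCast.mpr h2
      rwa [Nat.cast_add, Nat.cast_pow, Nat.cast_one] at this

end Cfsg.Agent.Lib.Helper65.Und
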