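import Mathlib
import Cfsg.Prelude.Def_Classical
import Cfsg.Prelude.Def_LieClassical
import Cfsg.Agent.Lib.Helper65.UndDefs
import Cfsg.Agent.Lib.Helper44.HermSplit
import Cfsg.Agent.Lib.Helper44.HermUnipotent
import Cfsg.Agent.Lib.Helper5.UnitaryCard
import Cfsg.Agent.Lib.Helper25.UndCNTc

/-! # Und hive (S5954, helper65): leaf UND-CNT `exists_dvd_of_dvd_card_nd` (helper25)

Route 1: the abstract unitary group acts transitively on the nondegenerate `m`-spaces, with stabiliser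
`U(W) × U(W^⊥)`. -/

set_option autoImplicit false
set_option linter.unusedSectionVars false
set_option linter.unusedVariables false
set_option warn.classDefReducibility false
set_option linter.style.haveILetI false

namespace Cfsg.Agent.Lib.Helper65.Und

open Module Cfsg.Agent.Lib.Helper44

section cnt
variable {F : Type*} [Field F] [Fintype F] {q : ℕ}

/-- adapted coordinates for a nondegenerate subspace `W` of a hermitian space -/
theorem cnt_exists_coords {V : Type*} [AddCommGroup V] [Module F V] [FiniteDimensional F V]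
    (hq : Fintype.card F = q ^ 2) {H : V → V → F} (hH : IsHermSpace q H) (n m : ℕ) (hmn : m ≤ n)
    (hn : finrank F V = n) (W : Submodule F V) (hWm : finrank F W = m)
    (hW : ∀ w ∈ W, (∀ u ∈ W, H u w = 0) → w = 0) :
    ∃ Φ : V ≃ₗ[F] ((Fin m → F) × (Fin (n - m) → F)),
      (∀ u v, H u v = Cfsg.hermForm m F q (Φ u).1 (Φ v).1 +
        Cfsg.hermForm (n - m) F q (Φ u).2 (Φ v).2) ∧ ∀ v, v ∈ W ↔ (Φ v).2 = 0 := by
  obtain ⟨hHW, hHZ, hcompl⟩ := HU.isCompl_hermOrth hq hH W hW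
  have hq0 : q ≠ 0 := by
    have := two_le_q_of_card hq
    omega
  have hsymm : ∀ a b, H a b = 0 → H b a = 0 := by
    intro a b h
    rw [← hH.conj, h, zero_pow hq0]
  have hZm : finrank F (hermOrth hH W) = n - m := by
    have := Submodule.finrank_add_eq_of_isCompl hcompl
    omega
  obtain ⟨Θ₁, hΘ₁⟩ := exists_herm_coords hq W (restrForm H W) hHW m hWm
  obtain ⟨Θ₂, hΘ₂⟩ := exists_herm_coords hq (hermOrth hH W) (restrForm H (hermOrth hH W)) hHZ
    (n - m) hZm
  set P := Submodule.prodEquivOfIsCompl W (hermOrth hH W) hcompl with hP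
  refine ⟨P.symm ≪≫ₗ LinearEquiv.prodCongr Θ₁ Θ₂, ?_, ?_⟩
  · intro u v
    have hdec : ∀ x : V, x = ((P.symm x).1 : V) + ((P.symm x).2 : V) := by
      intro x
      have := Submodule.coe_prodEquivOfIsCompl' W (hermOrth hH W) hcompl (P.symm x)
      rw [← hP, LinearEquiv.apply_symm_apply] at this
      exact this
    have hu := hdec u
    have hv := hdec v
    have e1 : (P.symm ≪≫ₗ LinearEquiv.prodCongr Θ₁ Θ₂) u = (Θ₁ (P.symm u).1, Θ₂ (P.symm u).2) := rfl
    have e2 : (P.symm ≪≫ₗ LinearEquiv.prodCongr Θ₁ Θ₂) v = (Θ₁ (P.symm v).1, Θ₂ (P.symm v).2) := rfl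
    rw [e1, e2]
    simp only
    rw [hΘ₁, hΘ₂, restrForm_apply, restrForm_apply]
    nth_rewrite 1 [hu, hv]
    rw [hH.add_left, hH.add_right hq, hH.add_right hq]
    have c1 : H ((P.symm u).2 : V) ((P.symm v).1 : V) = 0 :=
      (P.symm u).2.2 _ (P.symm v).1.2
    have c2 : H ((P.symm u).1 : V) ((P.symm v).2 : V) = 0 :=
      hsymm _ _ ((P.symm v).2.2 _ (P.symm u).1.2)
    rw [c1, c2]
    ring
  · intro v
    have e1 : (P.symm ≪≫ₗ LinearEquiv.prodCongr Θ₁ Θ₂) v = (Θ₁ (P.symm v).1, Θ₂ (P.symm v).2) := rfl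
    rw [e1]
    simp only
    rw [LinearEquiv.map_eq_zero_iff, hP, Submodule.prodEquivOfIsCompl_symm_apply_snd_eq_zero]

/-- the set of nondegenerate `m`-spaces, as in the statement -/
abbrev cnt_Om (F : Type*) [Field F] (n q m : ℕ) : Type _ :=
  {W : Submodule F (Fin n → F) // Module.finrank F ↥W = m ∧
    (∀ u ∈ W, u ≠ 0 → ∃ v ∈ W, Cfsg.hermForm n F q u v ≠ 0)}

theorem cnt_symm (hq : Fintype.card F = q ^ 2) (n : ℕ) (a b : Fin n → F)
    (h : Cfsg.hermForm n F q a b = 0) : Cfsg.hermForm n F q b a = 0 := by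
  have hq0 : q ≠ 0 := by
    have := two_le_q_of_card hq
    omega
  rw [← (isHermSpace_std hq n).conj, h, zero_pow hq0]

theorem cnt_nd_iff (hq : Fintype.card F = q ^ 2) (n : ℕ) (W : Submodule F (Fin n → F)) :
    (∀ u ∈ W, u ≠ 0 → ∃ v ∈ W, Cfsg.hermForm n F q u v ≠ 0) ↔
      (∀ w ∈ W, (∀ u ∈ W, Cfsg.hermForm n F q u w = 0) → w = 0) := by
  constructor
  · intro h w hw hw0
    by_contra hne
    obtain ⟨v, hv, hwv⟩ := h w hw hne
    exact hwv (cnt_symm hq n _ _ (hw0 v hv))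
  · intro h u hu hu0
    by_contra hcon
    push Not at hcon
    exact hu0 (h u hu (fun v hv => cnt_symm hq n _ _ (hcon v hv)))

/-- the action of the abstract unitary group on the nondegenerate `m`-spaces -/
noncomputable def cnt_act (n q m : ℕ) :
    MulAction ↥(absPreserving F (Cfsg.hermForm n F q)) (cnt_Om F n q m) where
  smul g W := ⟨W.1.map ((g : (Fin n → F) ≃ₗ[F] (Fin n → F)) : (Fin n → F) →ₗ[F] (Fin n → F)), by
    refine ⟨?_, ?_⟩
    · rw [LinearEquiv.finrank_map_eq]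
      exact W.2.1
    · intro u hu hu0
      obtain ⟨u₀, hu₀, rfl⟩ := hu
      have hu₀0 : u₀ ≠ 0 := by
        intro h
        apply hu0
        rw [h, map_zero]
      obtain ⟨v₀, hv₀, huv⟩ := W.2.2 u₀ hu₀ hu₀0
      refine ⟨(g : (Fin n → F) ≃ₗ[F] (Fin n → F)) v₀, Submodule.mem_map_of_mem hv₀, ?_⟩
      have := g.2 u₀ v₀
      rw [LinearEquiv.coe_coe, this]
      exact huv⟩
  one_smul W := by
    apply Subtype.ext
    show W.1.map _ = W.1
    ext x
    simp
  mul_smul g h W := by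
    apply Subtype.ext
    show W.1.map _ = (W.1.map _).map _
    ext x
    simp only [Submodule.mem_map, LinearEquiv.coe_coe, Subgroup.coe_mul, LinearEquiv.mul_apply]
    constructor
    · rintro ⟨y, hy, rfl⟩
      exact ⟨_, ⟨y, hy, rfl⟩, rfl⟩
    · rintro ⟨z, ⟨y, hy, rfl⟩, rfl⟩
      exact ⟨y, hy, rfl⟩

theorem cnt_smul_coe (n q m : ℕ) (g : ↥(absPreserving F (Cfsg.hermForm n F q)))
    (W : cnt_Om F n q m) :
    (letI := cnt_act (F := F) n q m; (g • W : cnt_Om F n q m)).1 =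
      W.1.map ((g : (Fin n → F) ≃ₗ[F] (Fin n → F)) : (Fin n → F) →ₗ[F] (Fin n → F)) := rfl

/-- transitivity -/
theorem cnt_trans (hq : Fintype.card F = q ^ 2) (n m : ℕ) (hmn : m ≤ n) (W W' : cnt_Om F n q m) :
    ∃ g : ↥(absPreserving F (Cfsg.hermForm n F q)),
      (letI := cnt_act (F := F) n q m; (g • W : cnt_Om F n q m)) = W' := by
  have hH := isHermSpace_std (K := F) hq n
  have hn : finrank F (Fin n → F) = n := by simp
  obtain ⟨Φ, hΦ, hΦW⟩ := cnt_exists_coords hq hH n m hmn hn W.1 W.2.1 ((cnt_nd_iff hq n W.1).mp W.2.2)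
  obtain ⟨Φ', hΦ', hΦW'⟩ := cnt_exists_coords hq hH n m hmn hn W'.1 W'.2.1
    ((cnt_nd_iff hq n W'.1).mp W'.2.2)
  set g₀ : (Fin n → F) ≃ₗ[F] (Fin n → F) := Φ ≪≫ₗ Φ'.symm with hg₀
  have hg₀a : ∀ v, Φ' (g₀ v) = Φ v := by
    intro v
    rw [hg₀, LinearEquiv.trans_apply, LinearEquiv.apply_symm_apply]
  have hmem : g₀ ∈ absPreserving F (Cfsg.hermForm n F q) := by
    intro u v
    rw [hΦ', hg₀a, hg₀a, ← hΦ]
  refine ⟨⟨g₀, hmem⟩, ?_⟩
  apply Subtype.ext
  rw [cnt_smul_coe]
  ext x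
  rw [Submodule.mem_map]
  constructor
  · rintro ⟨w, hw, rfl⟩
    rw [hΦW']
    show (Φ' (g₀ w)).2 = 0
    rw [hg₀a]
    exact (hΦW w).mp hw
  · intro hx
    refine ⟨g₀.symm x, ?_, ?_⟩
    · rw [hΦW, ← hg₀a, LinearEquiv.apply_symm_apply]
      exact (hΦW' x).mp hx
    · show g₀ (g₀.symm x) = x
      rw [LinearEquiv.apply_symm_apply]

/-- the stabiliser is helper44's `stabSub` -/
theorem cnt_stab_eq (n q m : ℕ) (W : cnt_Om F n q m) :
    (letI := cnt_act (F := F) n q m;
      MulAction.stabilizer ↥(absPreserving F (Cfsg.hermForm n F q)) W) =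
      stabSub (Cfsg.hermForm n F q) W.1 := by
  letI := cnt_act (F := F) n q m
  ext g
  rw [MulAction.mem_stabilizer_iff, mem_stabSub]
  constructor
  · intro h v
    have h1 : W.1.map ((g : (Fin n → F) ≃ₗ[F] (Fin n → F)) : (Fin n → F) →ₗ[F] (Fin n → F)) = W.1 := by
      rw [← cnt_smul_coe, h]
    constructor
    · intro hv
      rw [← h1]
      exact Submodule.mem_map_of_mem hv
    · intro hv
      rw [← h1] at hv
      obtain ⟨w, hw, hwv⟩ := hv
      have : w = v := (g : (Fin n → F) ≃ₗ[F] (Fin n → F)).injective hwv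
      rw [← this]
      exact hw
  · intro h
    apply Subtype.ext
    rw [cnt_smul_coe]
    ext x
    rw [Submodule.mem_map]
    constructor
    · rintro ⟨w, hw, rfl⟩
      exact (h w).mp hw
    · intro hx
      refine ⟨(g : (Fin n → F) ≃ₗ[F] (Fin n → F)).symm x, ?_, ?_⟩
      · rw [h]
        show (g : (Fin n → F) ≃ₗ[F] (Fin n → F)) ((g : (Fin n → F) ≃ₗ[F] (Fin n → F)).symm x) ∈ W.1
        rw [LinearEquiv.apply_symm_apply]
        exact hx
      · show (g : (Fin n → F) ≃ₗ[F] (Fin n → F)) ((g : (Fin n → F) ≃ₗ[F] (Fin n → F)).symm x) = x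
        rw [LinearEquiv.apply_symm_apply]

/-- the coordinate subspace on the first `m` coordinates -/
def cnt_W0 (F : Type*) [Field F] (n m : ℕ) : Submodule F (Fin n → F) where
  carrier := {v | ∀ i : Fin n, m ≤ i.val → v i = 0}
  add_mem' := by
    intro a b ha hb i hi
    rw [Pi.add_apply, ha i hi, hb i hi, add_zero]
  zero_mem' := by
    intro i _
    rfl
  smul_mem' := by
    intro c a ha i hi
    rw [Pi.smul_apply, ha i hi, smul_zero]

theorem cnt_W0_finrank (n m : ℕ) (hmn : m ≤ n) : finrank F (cnt_W0 F n m) = m := by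
  have e : (cnt_W0 F n m) ≃ₗ[F] (Fin m → F) :=
    { toFun := fun v i => v.1 (Fin.castLE hmn i)
      invFun := fun w => ⟨fun i => if h : i.val < m then w ⟨i.val, h⟩ else 0, by
        intro i hi
        simp [not_lt.mpr hi]⟩
      map_add' := by
        intro a b
        rfl
      map_smul' := by
        intro c a
        rfl
      left_inv := by
        intro v
        apply Subtype.ext
        funext i
        by_cases h : i.val < m
        · simp only [h, dif_pos]
          congr 1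
        · simp only [h, dif_neg, not_false_eq_true]
          exact (v.2 i (not_lt.mp h)).symm
      right_inv := by
        intro w
        funext i
        simp }
  rw [LinearEquiv.finrank_eq e]
  simp

theorem cnt_W0_nd (hq : Fintype.card F = q ^ 2) (n m : ℕ) :
    ∀ u ∈ cnt_W0 F n m, u ≠ 0 → ∃ v ∈ cnt_W0 F n m, Cfsg.hermForm n F q u v ≠ 0 := by
  classical
  intro u hu hu0
  obtain ⟨j, hj⟩ := Function.ne_iff.mp hu0
  have hjm : j.val < m := by
    by_contra h
    exact hj (hu j (not_lt.mp h))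
  refine ⟨Pi.single j 1, ?_, ?_⟩
  · intro i hi
    have : i ≠ j := by
      intro h
      rw [h] at hi
      omega
    rw [Pi.single_apply, if_neg this]
  · have hq0 : q ≠ 0 := by
      have := two_le_q_of_card hq
      omega
    unfold Cfsg.hermForm
    rw [Finset.sum_eq_single j]
    · rw [Pi.single_eq_same, one_pow, mul_one]
      exact hj
    · intro i _ hij
      rw [Pi.single_apply, if_neg hij, zero_pow hq0, mul_zero]
    · intro h
      exact absurd (Finset.mem_univ j) h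

/-- the orbit-stabiliser count -/
theorem cnt_card_mul (hq : Fintype.card F = q ^ 2) (n m : ℕ) (hmn : m ≤ n) :
    Nat.card (cnt_Om F n q m) * (Nat.card (Cfsg.GU m F q) * Nat.card (Cfsg.GU (n - m) F q)) =
      Nat.card (Cfsg.GU n F q) := by
  letI := cnt_act (F := F) n q m
  have hH := isHermSpace_std (K := F) hq n
  have hn : finrank F (Fin n → F) = n := by simp
  let W₀ : cnt_Om F n q m := ⟨cnt_W0 F n m, cnt_W0_finrank n m hmn, cnt_W0_nd hq n m⟩
  haveI : MulAction.IsPretransitive ↥(absPreserving F (Cfsg.hermForm n F q)) (cnt_Om F n q m) :=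
    ⟨fun W W' => cnt_trans hq n m hmn W W'⟩
  have h1 := MulAction.index_stabilizer ↥(absPreserving F (Cfsg.hermForm n F q)) W₀
  rw [MulAction.orbit_eq_univ, Set.ncard_univ] at h1
  have h2 := Subgroup.index_mul_card
    (MulAction.stabilizer ↥(absPreserving F (Cfsg.hermForm n F q)) W₀)
  rw [h1, cnt_stab_eq] at h2
  obtain ⟨hHW, hHZ, hfr, ⟨φ⟩⟩ := split_stabilizer hq hH W₀.1 ((cnt_nd_iff hq n W₀.1).mp W₀.2.2)
  have hZm : finrank F (hermOrth hH W₀.1) = n - m := by
    have h3 := W₀.2.1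
    omega
  obtain ⟨φ₁⟩ := exists_mulEquiv_GU hq W₀.1 (restrForm (Cfsg.hermForm n F q) W₀.1) hHW m W₀.2.1
  obtain ⟨φ₂⟩ := exists_mulEquiv_GU hq (hermOrth hH W₀.1)
    (restrForm (Cfsg.hermForm n F q) (hermOrth hH W₀.1)) hHZ (n - m) hZm
  obtain ⟨φ₃⟩ := exists_mulEquiv_GU hq (Fin n → F) (Cfsg.hermForm n F q) hH n hn
  rw [Nat.card_congr φ.toEquiv, Nat.card_prod, Nat.card_congr φ₁.toEquiv, Nat.card_congr φ₂.toEquiv,
    Nat.card_congr φ₃.toEquiv] at h2
  exact h2

end cnt

section cnt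
variable {F : Type*} [Field F] [Fintype F] {p : ℕ} [Fact p.Prime] [CharP F p] {q : ℕ}

/-- UND-CNT -/
theorem exists_dvd_of_dvd_card_nd (hq : Fintype.card F = q ^ 2) (n m : ℕ) (hmn : m ≤ n) (r : ℕ)
    (hr : r.Prime) (hrp : r ≠ p)
    (h : r ∣ Nat.card {W : Submodule F (Fin n → F) // Module.finrank F ↥W = m ∧
      (∀ u ∈ W, u ≠ 0 → ∃ v ∈ W, Cfsg.hermForm n F q u v ≠ 0)}) :
    ∃ j : ℕ, n - m < j ∧ j ≤ n ∧ ((r : ℤ) ∣ (q : ℤ) ^ j - (-1) ^ j) := by
  have hq2 := two_le_q_of_card hq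
  have hrq : ¬ r ∣ q := by
    intro hrq
    obtain ⟨k, hp, hk⟩ := FiniteField.card F p
    have h1 : r ∣ p ^ (k : ℕ) := by
      rw [← hk, hq]
      exact Dvd.dvd.pow hrq (by norm_num)
    have h2 := hr.dvd_of_dvd_pow h1
    exact hrp ((Nat.prime_dvd_prime_iff_eq hr hp).mp h2)
  have hcard := cnt_card_mul hq n m hmn
  rw [Cfsg.Agent.Lib.Helper5.card_GU hq, Cfsg.Agent.Lib.Helper5.card_GU hq,
    Cfsg.Agent.Lib.Helper5.card_GU hq] at hcard
  exact cntc_arith_gu q n m _ r hq2 hmn hcard hr hrq h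

end cnt

end Cfsg.Agent.Lib.Helper65.Und
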