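import Cfsg.Agent.Lib.Helper25.CohAbelian
import Cfsg.Agent.Lib.Helper79.Ito
import Cfsg.Agent.S1492

set_option autoImplicit false
set_option linter.unusedSectionVars false

namespace Cfsg.Agent.Lib.Helper25

open Cfsg
open scoped ComplexConjugate

section ZKer

variable {L : Type*} [Group L] [Fintype L] (K : Subgroup L) [hK : K.Normal]

/-- An induced character is trivial on the normal subgroup `Z ≤ K` iff the inducing character is. -/
theorem indFun_trivial_on_iff (Z : Subgroup L) [hZ : Z.Normal] (hZK : Z ≤ K) {θ : K → ℂ}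
    (hθ : IsCharacter K θ) :
    (∀ z ∈ Z, indFun K θ z = indFun K θ 1) ↔ (∀ z : K, (z : L) ∈ Z → θ z = θ 1) := by
  have hcard : (Nat.card K : ℂ) ≠ 0 := by exact_mod_cast Nat.card_pos.ne'
  have hterm1 : ∀ x : L, extendByZero K θ (x⁻¹ * 1 * x) = θ 1 := by
    intro x
    have e : x⁻¹ * 1 * x = ((1 : K) : L) := by simp
    rw [e, extendByZero_coe]
  have hterm : ∀ (z : L) (hz : z ∈ Z) (x : L), extendByZero K θ (x⁻¹ * z * x) =
      θ ⟨x⁻¹ * z * x, hZK (by simpa using hZ.conj_mem z hz x⁻¹)⟩ := by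
    intro z hz x
    exact extendByZero_of_mem K θ _
  constructor
  · intro h z hz
    have h1 := h z hz
    rw [indFun_apply, indFun_apply] at h1
    have h2 := mul_left_cancel₀ (inv_ne_zero hcard) h1
    rw [Finset.sum_congr rfl (fun x _ => hterm z hz x),
      Finset.sum_congr rfl (fun x _ => hterm1 x)] at h2
    have h3 := congrArg Complex.re h2
    rw [Complex.re_sum, Complex.re_sum] at h3
    have hle : ∀ x ∈ (Finset.univ : Finset L),
        (θ ⟨x⁻¹ * z * x, hZK (by simpa using hZ.conj_mem z hz x⁻¹)⟩).re ≤ (θ 1).re :=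
      fun x _ => (char_re_le hθ _).1
    have hall := (Finset.sum_eq_sum_iff_of_le hle).mp h3 1 (Finset.mem_univ _)
    have h4 := (char_re_le hθ _).2 hall
    have e : (⟨(1 : L)⁻¹ * z * 1, hZK (by simpa using hZ.conj_mem z hz (1 : L)⁻¹)⟩ : K) = z := by
      apply Subtype.ext
      simp
    rw [e] at h4
    exact h4
  · intro h z hz
    rw [indFun_apply, indFun_apply]
    congr 1
    apply Finset.sum_congr rfl
    intro x _
    rw [hterm z hz x, hterm1 x]
    exact h _ (by simpa using hZ.conj_mem z hz x⁻¹)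

/-- Membership in `S ∖ S(Z)`. -/
theorem mem_diff_inducedIrrAbove_iff (Z : Subgroup L) [hZ : Z.Normal] (hZK : Z ≤ K) (φ : L → ℂ) :
    φ ∈ inducedIrrAbove K ⊥ \ inducedIrrAbove K Z ↔
      ∃ θ : K → ℂ, IsIrrCharacter K θ ∧ (¬ ∀ z : K, (z : L) ∈ Z → θ z = θ 1) ∧ φ = indFun K θ := by
  classical
  have : Fintype K := Fintype.ofFinite _
  constructor
  · rintro ⟨⟨θ, hθ, hne, -, rfl⟩, hnot⟩
    refine ⟨θ, hθ, ?_, rfl⟩
    intro hker
    exact hnot ⟨θ, hθ, hne, hker, rfl⟩
  · rintro ⟨θ, hθ, hnk, rfl⟩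
    have hθc := Cfsg.Agent.Lib.Helper3.IsIrrCharacter.isCharacter hθ
    refine ⟨⟨θ, hθ, ?_, ?_, rfl⟩, ?_⟩
    · intro h1
      apply hnk
      intro z _
      rw [h1]
    · intro a ha
      rw [Subgroup.mem_bot] at ha
      have : a = 1 := Subtype.ext ha
      rw [this]
    · rintro ⟨θ', hθ', -, hker', heq⟩
      apply hnk
      rw [← indFun_trivial_on_iff K Z hZK hθc, heq]
      exact (indFun_trivial_on_iff K Z hZK
        (Cfsg.Agent.Lib.Helper3.IsIrrCharacter.isCharacter hθ')).mpr hker'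

/-- Part 1 of PF 6.6. -/
theorem diff_inducedIrrAbove_eq (Z : Subgroup L) [hZ : Z.Normal] (hZK : Z ≤ K)
    (hirr : ∀ χ ∈ inducedIrrAbove K ⊥ \ inducedIrrAbove K Z, IsIrrCharacter L χ) :
    inducedIrrAbove K ⊥ \ inducedIrrAbove K Z =
      {χ | IsIrrCharacter L χ ∧ ∃ z ∈ Z, χ z ≠ χ 1} := by
  classical
  have : Fintype K := Fintype.ofFinite _
  ext φ
  constructor
  · intro hφ
    refine ⟨hirr φ hφ, ?_⟩
    obtain ⟨θ, hθ, hnk, rfl⟩ := (mem_diff_inducedIrrAbove_iff K Z hZK φ).mp hφ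
    by_contra hcon
    push Not at hcon
    exact hnk ((indFun_trivial_on_iff K Z hZK
      (Cfsg.Agent.Lib.Helper3.IsIrrCharacter.isCharacter hθ)).mp hcon)
  · rintro ⟨hχ, z₀, hz₀, hne⟩
    obtain ⟨θ, hθ, hθne⟩ := Cfsg.Agent.Lib.Helper79.exists_irr_constituent_restrict K hχ
    have hθc := Cfsg.Agent.Lib.Helper3.IsIrrCharacter.isCharacter hθ
    have hfr : classInner (indFun K θ) φ ≠ 0 := by
      rw [frobenius_reciprocity K θ φ
        (Cfsg.Agent.Lib.Helper3.IsCharacter.isClassFunction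
          (Cfsg.Agent.Lib.Helper3.IsIrrCharacter.isCharacter hχ))]
      intro h0
      apply hθne
      rw [← classInner_conj_symm, h0, map_zero]
    have hnk : ¬ ∀ z : K, (z : L) ∈ Z → θ z = θ 1 := by
      intro hker
      apply hne
      have h1 := (indFun_trivial_on_iff K Z hZK hθc).mpr hker z₀ hz₀
      exact Cfsg.Agent.S1492.constituent_eq_degree
        (Cfsg.Agent.Lib.Helper3.isCharacter_indFun K hθc) hχ hfr z₀ h1
    have hmem : indFun K θ ∈ inducedIrrAbove K ⊥ \ inducedIrrAbove K Z :=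
      (mem_diff_inducedIrrAbove_iff K Z hZK _).mpr ⟨θ, hθ, hnk, rfl⟩
    have hirrθ := hirr _ hmem
    have := Cfsg.Agent.Lib.Helper3.classInner_irr hirrθ hχ
    by_cases heq : indFun K θ = φ
    · rw [← heq]; exact hmem
    · rw [if_neg heq] at this
      exact absurd this hfr

end ZKer

end Cfsg.Agent.Lib.Helper25
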